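import Mathlib

set_option autoImplicit false

namespace Cfsg.Agent.Lib.Helper43

open Module QuadraticMap

section basic

variable {F V : Type*} [Field F] [AddCommGroup V] [Module F V]

theorem polarBilin_isSymm (Q : QuadraticForm F V) : (polarBilin Q).IsSymm :=
  ⟨fun x y => polar_comm Q x y⟩

theorem qmap_add (Q : QuadraticForm F V) (x y : V) : Q (x + y) = Q x + Q y + polar Q x y :=
  QuadraticMap.map_add Q x y

/-- `Q` of an orthogonal linear combination. -/
theorem map_sum_smul_of_ortho {ι : Type*} [Fintype ι] [DecidableEq ι] (Q : QuadraticForm F V) (b : ι → V)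
    (hb : ∀ i j, i ≠ j → polar Q (b i) (b j) = 0) (x : ι → F) :
    Q (∑ i, x i • b i) = ∑ i, x i * x i * Q (b i) := by
  suffices h : ∀ s : Finset ι, Q (∑ i ∈ s, x i • b i) = ∑ i ∈ s, x i * x i * Q (b i) ∧
      ∀ j ∉ s, polar Q (b j) (∑ i ∈ s, x i • b i) = 0 from (h Finset.univ).1
  intro s
  induction s using Finset.induction_on with
  | empty => simp
  | insert a s ha ih =>
    obtain ⟨ih1, ih2⟩ := ih
    constructor
    · rw [Finset.sum_insert ha, Finset.sum_insert ha, qmap_add, ih1, QuadraticMap.map_smul,
        polar_smul_left, ih2 a ha]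
      simp
    · intro j hj
      have hja : j ≠ a := by
        rintro rfl
        exact hj (Finset.mem_insert_self _ _)
      have hjs : j ∉ s := fun h => hj (Finset.mem_insert_of_mem h)
      rw [Finset.sum_insert ha, polar_add_right, polar_smul_right, ih2 j hjs, hb j a hja]
      simp

theorem two_ne_zero_iff_odd_card [Fintype F] : (2 : F) ≠ 0 ↔ Fintype.card F % 2 = 1 := by
  constructor
  · intro h2
    apply FiniteField.odd_card_of_char_ne_two
    intro h
    apply h2
    have := CharP.cast_eq_zero F (ringChar F)
    rw [h] at this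
    exact_mod_cast this
  · intro h h2
    have hchar : ringChar F = 2 := by
      have h2' : ((2 : ℕ) : F) = 0 := by exact_mod_cast h2
      exact CharP.ringChar_of_prime_eq_zero Nat.prime_two h2'
    have := FiniteField.even_card_of_char_two hchar
    omega

end basic

section odd

variable {F V : Type*} [Field F] [Fintype F] [AddCommGroup V] [Module F V] [FiniteDimensional F V]

/-- In odd characteristic, an orthogonal basis for a nondegenerate form has nonsingular members. -/
theorem exists_ortho_basis_odd (h2 : (2 : F) ≠ 0) (Q : QuadraticForm F V)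
    (hQ : (polarBilin Q).Nondegenerate) :
    ∃ v : Basis (Fin (finrank F V)) F V, (∀ i j, i ≠ j → polar Q (v i) (v j) = 0) ∧ ∀ i, Q (v i) ≠ 0 := by
  letI : Invertible (2 : F) := invertibleOfNonzero h2
  obtain ⟨v, hv⟩ := LinearMap.BilinForm.exists_orthogonal_basis (polarBilin_isSymm Q)
  refine ⟨v, fun i j hij => hv hij, ?_⟩
  intro i hi
  have := LinearMap.IsOrthoᵢ.not_isOrtho_basis_self_of_separatingLeft hv hQ.1 i
  apply this
  show polar Q (v i) (v i) = 0
  rw [polar_self, hi, smul_zero]

/-- A nondegenerate form of dimension at least two in odd characteristic represents one. -/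
theorem exists_eq_one_odd (h2 : (2 : F) ≠ 0) (Q : QuadraticForm F V)
    (hQ : (polarBilin Q).Nondegenerate) (hdim : 2 ≤ finrank F V) : ∃ w : V, Q w = 1 := by
  classical
  obtain ⟨v, hortho, hne⟩ := exists_ortho_basis_odd h2 Q hQ
  let i₀ : Fin (finrank F V) := ⟨0, by omega⟩
  let i₁ : Fin (finrank F V) := ⟨1, by omega⟩
  have h01 : i₀ ≠ i₁ := by
    intro h
    have := congrArg Fin.val h
    simp [i₀, i₁] at this
  have hodd := two_ne_zero_iff_odd_card.mp h2
  obtain ⟨x, y, hxy⟩ := FiniteField.exists_root_sum_quadratic
    (f := Polynomial.C (Q (v i₀)) * Polynomial.X ^ 2 + Polynomial.C 0 * Polynomial.X + Polynomial.C (-1))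
    (g := Polynomial.C (Q (v i₁)) * Polynomial.X ^ 2 + Polynomial.C 0 * Polynomial.X + Polynomial.C 0)
    (Polynomial.degree_quadratic (hne i₀)) (Polynomial.degree_quadratic (hne i₁)) hodd
  simp only [Polynomial.eval_add, Polynomial.eval_mul, Polynomial.eval_C, Polynomial.eval_pow,
    Polynomial.eval_X, zero_mul, add_zero] at hxy
  refine ⟨x • v i₀ + y • v i₁, ?_⟩
  rw [qmap_add, QuadraticMap.map_smul, QuadraticMap.map_smul, polar_smul_left, polar_smul_right,
    hortho i₀ i₁ h01]
  simp only [smul_eq_mul, mul_zero, add_zero]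
  linear_combination hxy

/-- A nondegenerate form of dimension at least three in odd characteristic has a singular vector. -/
theorem exists_singular_odd (h2 : (2 : F) ≠ 0) (Q : QuadraticForm F V)
    (hQ : (polarBilin Q).Nondegenerate) (hdim : 3 ≤ finrank F V) : ∃ w : V, w ≠ 0 ∧ Q w = 0 := by
  classical
  obtain ⟨v, hortho, hne⟩ := exists_ortho_basis_odd h2 Q hQ
  let i₀ : Fin (finrank F V) := ⟨0, by omega⟩
  let i₁ : Fin (finrank F V) := ⟨1, by omega⟩
  let i₂ : Fin (finrank F V) := ⟨2, by omega⟩
  have h01 : i₀ ≠ i₁ := by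
    intro h
    have := congrArg Fin.val h
    simp [i₀, i₁] at this
  have h02 : i₀ ≠ i₂ := by
    intro h
    have := congrArg Fin.val h
    simp [i₀, i₂] at this
  have h12 : i₁ ≠ i₂ := by
    intro h
    have := congrArg Fin.val h
    simp [i₁, i₂] at this
  have hodd := two_ne_zero_iff_odd_card.mp h2
  obtain ⟨x, y, hxy⟩ := FiniteField.exists_root_sum_quadratic
    (f := Polynomial.C (Q (v i₀)) * Polynomial.X ^ 2 + Polynomial.C 0 * Polynomial.X + Polynomial.C (Q (v i₂)))
    (g := Polynomial.C (Q (v i₁)) * Polynomial.X ^ 2 + Polynomial.C 0 * Polynomial.X + Polynomial.C 0)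
    (Polynomial.degree_quadratic (hne i₀)) (Polynomial.degree_quadratic (hne i₁)) hodd
  simp only [Polynomial.eval_add, Polynomial.eval_mul, Polynomial.eval_C, Polynomial.eval_pow,
    Polynomial.eval_X, zero_mul, add_zero] at hxy
  refine ⟨x • v i₀ + y • v i₁ + v i₂, ?_, ?_⟩
  · intro h0
    have := congrArg (fun w => v.repr w i₂) h0
    simp only [map_add, map_smul, Basis.repr_self, Finsupp.coe_add, Finsupp.coe_smul, Pi.add_apply,
      Pi.smul_apply, smul_eq_mul, map_zero, Finsupp.coe_zero, Pi.zero_apply] at this
    rw [Finsupp.single_eq_of_ne h02.symm, Finsupp.single_eq_of_ne h12.symm, Finsupp.single_eq_same] at this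
    simp at this
  · rw [qmap_add, qmap_add, QuadraticMap.map_smul, QuadraticMap.map_smul,
      polar_smul_left, polar_smul_right, polar_add_left, polar_smul_left, polar_smul_left,
      hortho i₀ i₁ h01, hortho i₀ i₂ h02, hortho i₁ i₂ h12]
    simp only [smul_eq_mul, mul_zero, add_zero]
    linear_combination hxy

end odd

section restrict

variable {F V : Type*} [Field F] [AddCommGroup V] [Module F V]

theorem polarBilin_comp_subtype (Q : QuadraticForm F V) (W : Submodule F V) :
    polarBilin (Q.comp W.subtype) = LinearMap.BilinForm.restrict (polarBilin Q) W := by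
  ext x y
  rfl

theorem polar_comp_subtype (Q : QuadraticForm F V) (W : Submodule F V) (x y : W) :
    polar (Q.comp W.subtype) x y = polar Q (x : V) (y : V) := rfl

theorem mem_orthogonal_span_singleton (B : LinearMap.BilinForm F V) (x w : V) :
    w ∈ B.orthogonal (F ∙ x) ↔ B x w = 0 := by
  rw [LinearMap.BilinForm.mem_orthogonal_iff]
  constructor
  · intro h
    exact h x (Submodule.mem_span_singleton_self x)
  · intro h n hn
    obtain ⟨c, rfl⟩ := Submodule.mem_span_singleton.mp hn
    rw [map_smul, LinearMap.smul_apply, h, smul_zero]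

end restrict

/-- Gram determinants in two bases differ by a nonzero square. -/
theorem det_toMatrix_basis_change {F V ι : Type*} [Field F] [AddCommGroup V] [Module F V]
    [Fintype ι] [DecidableEq ι] (b c : Basis ι F V) (Bf : LinearMap.BilinForm F V) :
    ∃ d : F, d ≠ 0 ∧ (LinearMap.BilinForm.toMatrix b Bf).det =
      d * d * (LinearMap.BilinForm.toMatrix c Bf).det := by
  have h2 := LinearMap.BilinForm.toMatrix_mul_basis_toMatrix c b Bf
  have h3 : (c.toMatrix b).det * (b.toMatrix c).det = 1 := by
    rw [← Matrix.det_mul, Basis.toMatrix_mul_toMatrix_flip, Matrix.det_one]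
  refine ⟨(c.toMatrix b).det, left_ne_zero_of_mul_eq_one h3, ?_⟩
  rw [← h2, Matrix.det_mul, Matrix.det_mul, Matrix.det_transpose]
  ring

/-- Gram determinant of an orthogonal basis. -/
theorem det_toMatrix_of_ortho {F V ι : Type*} [Field F] [AddCommGroup V] [Module F V]
    [Fintype ι] [DecidableEq ι] (Q : QuadraticForm F V) (b : Basis ι F V)
    (hb : ∀ i j, i ≠ j → polar Q (b i) (b j) = 0) :
    (LinearMap.BilinForm.toMatrix b (polarBilin Q)).det = ∏ i, (2 * Q (b i)) := by
  have : LinearMap.BilinForm.toMatrix b (polarBilin Q) = Matrix.diagonal (fun i => 2 * Q (b i)) := by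
    ext i j
    rw [LinearMap.BilinForm.toMatrix_apply]
    by_cases hij : i = j
    · subst hij
      rw [Matrix.diagonal_apply_eq]
      show polar Q (b i) (b i) = _
      rw [polar_self]
      simp
    · rw [Matrix.diagonal_apply_ne _ hij]
      exact hb i j hij
  rw [this, Matrix.det_diagonal]

universe u

/-- Normal form in odd characteristic: an orthogonal basis all of whose members but one have
`Q = 1`. -/
theorem exists_normal_basis_odd {F : Type*} [Field F] [Fintype F] (h2 : (2 : F) ≠ 0) (n : ℕ) :
    ∀ (V : Type u) [AddCommGroup V] [Module F V] [FiniteDimensional F V] (Q : QuadraticForm F V),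
      finrank F V = n + 1 → (polarBilin Q).Nondegenerate →
      ∃ (b : Basis (Fin (n + 1)) F V) (i₀ : Fin (n + 1)),
        (∀ i j, i ≠ j → polar Q (b i) (b j) = 0) ∧ ∀ i, i ≠ i₀ → Q (b i) = 1 := by
  induction n with
  | zero =>
    intro V _ _ _ Q hd hQ
    refine ⟨finBasisOfFinrankEq F V hd, 0, ?_, ?_⟩
    · intro i j hij
      exact absurd (Fin.ext (by omega)) hij
    · intro i hi
      exact absurd (Fin.ext (by simp)) hi
  | succ n ih =>
    intro V _ _ _ Q hd hQ
    obtain ⟨x, hx1⟩ := exists_eq_one_odd h2 Q hQ (by omega)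
    set B : LinearMap.BilinForm F V := polarBilin Q with hB
    have hBx : B x x ≠ 0 := by
      show polar Q x x ≠ 0
      rw [polar_self, hx1]
      simpa using h2
    have hx0 : x ≠ 0 := by
      intro h
      rw [h] at hBx
      simp at hBx
    have hcompl := LinearMap.BilinForm.isCompl_span_singleton_orthogonal hBx
    have hdW : finrank F (B.orthogonal (F ∙ x)) = n + 1 := by
      have := Submodule.finrank_add_eq_of_isCompl hcompl.symm
      rw [finrank_span_singleton hx0] at this
      omega
    have hnd := LinearMap.BilinForm.restrict_nondegenerate_orthogonal_spanSingleton B hQ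
      (polarBilin_isSymm Q).isRefl hBx
    rw [← polarBilin_comp_subtype] at hnd
    obtain ⟨v', i₀', hv'o, hv'1⟩ := ih (B.orthogonal (F ∙ x)) (Q.comp (B.orthogonal (F ∙ x)).subtype) hdW hnd
    let b :=
      Basis.mkFinCons x v'
        (by
          rintro c y hy hc
          rw [add_eq_zero_iff_neg_eq] at hc
          rw [← hc, Submodule.neg_mem_iff] at hy
          have := hcompl.disjoint
          rw [Submodule.disjoint_def] at this
          have := this (c • x) (Submodule.smul_mem _ _ <| Submodule.mem_span_singleton_self _) hy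
          exact (smul_eq_zero.1 this).resolve_right hx0)
        (by
          intro y
          refine ⟨-B x y / B x x, fun z hz => ?_⟩
          obtain ⟨c, rfl⟩ := Submodule.mem_span_singleton.1 hz
          rw [map_smul, LinearMap.smul_apply, map_add, map_smul, smul_eq_mul, smul_eq_mul,
            div_mul_cancel₀ _ hBx, add_neg_cancel, mul_zero])
    have hxv : ∀ j, polar Q x (v' j) = 0 := fun j =>
      (mem_orthogonal_span_singleton B x _).mp (v' j).2
    have hvx : ∀ j, polar Q (v' j) x = 0 := fun j => by rw [polar_comm]; exact hxv j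
    have hbcoe : (b : Fin (n + 1 + 1) → V) = Fin.cons x ((↑) ∘ v') := Basis.coe_mkFinCons _ _ _ _
    refine ⟨b, Fin.succ i₀', ?_, ?_⟩
    · intro i j
      rw [hbcoe]
      refine Fin.cases ?_ (fun i => ?_) i <;> refine Fin.cases ?_ (fun j => ?_) j
      · intro h; exact absurd rfl h
      · intro _
        simp only [Fin.cons_zero, Fin.cons_succ, Function.comp_apply]
        exact hxv j
      · intro _
        simp only [Fin.cons_zero, Fin.cons_succ, Function.comp_apply]
        exact hvx i
      · intro hij
        simp only [Fin.cons_succ, Function.comp_apply]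
        exact hv'o i j (fun h => hij (by rw [h]))
    · intro i
      rw [hbcoe]
      refine Fin.cases ?_ (fun i => ?_) i
      · intro _
        simp only [Fin.cons_zero]
        exact hx1
      · intro hi
        simp only [Fin.cons_succ, Function.comp_apply]
        exact hv'1 i (fun h => hi (by rw [h]))

end Cfsg.Agent.Lib.Helper43
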