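import Mathlib
import Cfsg.Agent.Lib.Helper43.QForm

set_option autoImplicit false

namespace Cfsg.Agent.Lib.Helper43

open Module QuadraticMap

section witt

variable {F V : Type*} [Field F] [AddCommGroup V] [Module F V]

/-- linear independence from a dual family -/
theorem linearIndependent_of_dual {ι : Type*} [Fintype ι] [DecidableEq ι] (Q : QuadraticForm F V)
    (v u : ι → V) (h : ∀ j k, polar Q (u j) (v k) = if j = k then 1 else 0) :
    LinearIndependent F v := by
  rw [Fintype.linearIndependent_iff]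
  intro c hc j
  have h1 : polarBilin Q (u j) (∑ k, c k • v k) = 0 := by rw [hc, map_zero]
  rw [map_sum] at h1
  have h2 : ∀ k, polarBilin Q (u j) (c k • v k) = if j = k then c k else 0 := by
    intro k
    rw [map_smul]
    show c k • polar Q (u j) (v k) = _
    rw [h j k]
    split_ifs <;> simp
  rw [Finset.sum_congr rfl (fun k _ => h2 k)] at h1
  simpa using h1

/-- hyperbolic partner of a singular vector -/
theorem exists_hyperbolic_partner (Q : QuadraticForm F V) (hQ : (polarBilin Q).Nondegenerate)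
    (e : V) (he0 : e ≠ 0) (he : Q e = 0) : ∃ f : V, Q f = 0 ∧ polar Q e f = 1 := by
  have : ∃ g, polar Q e g ≠ 0 := by
    by_contra h
    push Not at h
    exact he0 (hQ.1 e h)
  obtain ⟨g, hg⟩ := this
  obtain ⟨g', hg'1⟩ : ∃ g', polar Q e g' = 1 :=
    ⟨(polar Q e g)⁻¹ • g, by rw [polar_smul_right, smul_eq_mul, inv_mul_cancel₀ hg]⟩
  refine ⟨g' - Q g' • e, ?_, ?_⟩
  · rw [sub_eq_add_neg, qmap_add, QuadraticMap.map_neg, QuadraticMap.map_smul, he, polar_neg_right,
      polar_smul_right, polar_comm, hg'1]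
    simp
  · rw [polar_sub_right, polar_smul_right, hg'1, polar_self, he]
    simp

/-- the orthogonal complement of a pair of vectors -/
def perp2 (Q : QuadraticForm F V) (e f : V) : Submodule F V :=
  LinearMap.ker (polarBilin Q e) ⊓ LinearMap.ker (polarBilin Q f)

theorem mem_perp2 (Q : QuadraticForm F V) (e f w : V) :
    w ∈ perp2 Q e f ↔ polar Q e w = 0 ∧ polar Q f w = 0 := Iff.rfl

/-- elementary nondegeneracy on a submodule implies Mathlib nondegeneracy of the restriction -/
theorem nondegenerate_comp_subtype (Q : QuadraticForm F V) (W : Submodule F V)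
    (h : ∀ w ∈ W, (∀ w' ∈ W, polar Q w w' = 0) → w = 0) :
    (polarBilin (Q.comp W.subtype)).Nondegenerate := by
  constructor
  · intro x hx
    apply Subtype.ext
    apply h x.1 x.2
    intro w' hw'
    exact hx ⟨w', hw'⟩
  · intro x hx
    apply Subtype.ext
    apply h x.1 x.2
    intro w' hw'
    rw [polar_comm]
    exact hx ⟨w', hw'⟩

theorem separating_of_nondegenerate_comp_subtype (Q : QuadraticForm F V) (W : Submodule F V)
    (h : (polarBilin (Q.comp W.subtype)).Nondegenerate) :
    ∀ w ∈ W, (∀ w' ∈ W, polar Q w w' = 0) → w = 0 := by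
  intro w hw hw'
  have := h.1 ⟨w, hw⟩ (fun y => hw' y.1 y.2)
  exact congrArg Subtype.val this

theorem perp2_separating (Q : QuadraticForm F V) (hQ : (polarBilin Q).Nondegenerate)
    (e f : V) (he : Q e = 0) (hf : Q f = 0) (hef : polar Q e f = 1) :
    ∀ w ∈ perp2 Q e f, (∀ w' ∈ perp2 Q e f, polar Q w w' = 0) → w = 0 := by
  intro w hw hw'
  apply hQ.1 w
  intro v
  show polar Q w v = 0
  have hfe : polar Q f e = 1 := by rw [polar_comm]; exact hef
  have hee : polar Q e e = 0 := by rw [polar_self, he]; simp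
  have hff : polar Q f f = 0 := by rw [polar_self, hf]; simp
  set v' := v - polar Q f v • e - polar Q e v • f with hv'
  have hv'mem : v' ∈ perp2 Q e f := by
    rw [mem_perp2]
    constructor
    · rw [hv', polar_sub_right, polar_sub_right, polar_smul_right, polar_smul_right, hee, hef]
      simp
    · rw [hv', polar_sub_right, polar_sub_right, polar_smul_right, polar_smul_right, hfe, hff]
      simp
  have h0 := hw' v' hv'mem
  have hwe : polar Q w e = 0 := by rw [polar_comm]; exact hw.1
  have hwf : polar Q w f = 0 := by rw [polar_comm]; exact hw.2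
  rw [hv', polar_sub_right, polar_sub_right, polar_smul_right, polar_smul_right, hwe, hwf] at h0
  simpa using h0

theorem finrank_perp2 [FiniteDimensional F V] (Q : QuadraticForm F V)
    (e f : V) (he : Q e = 0) (hf : Q f = 0) (hef : polar Q e f = 1) :
    finrank F (perp2 Q e f) + 2 = finrank F V := by
  have hfe : polar Q f e = 1 := by rw [polar_comm]; exact hef
  have hee : polar Q e e = 0 := by rw [polar_self, he]; simp
  have hff : polar Q f f = 0 := by rw [polar_self, hf]; simp
  let φ : V →ₗ[F] F × F := (polarBilin Q e).prod (polarBilin Q f)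
  have hker : LinearMap.ker φ = perp2 Q e f := LinearMap.ker_prod _ _
  have hrange : LinearMap.range φ = ⊤ := by
    rw [LinearMap.range_eq_top]
    rintro ⟨a, b⟩
    refine ⟨a • f + b • e, ?_⟩
    show (polar Q e (a • f + b • e), polar Q f (a • f + b • e)) = (a, b)
    rw [polar_add_right, polar_add_right, polar_smul_right, polar_smul_right, polar_smul_right,
      polar_smul_right, hef, hee, hfe, hff]
    simp
  have := LinearMap.finrank_range_add_finrank_ker φ
  rw [hrange, hker, finrank_top, finrank_prod, finrank_self] at this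
  omega

theorem exists_singular_even [Finite F] [FiniteDimensional F V] (h2 : (2 : F) = 0)
    (Q : QuadraticForm F V) (hdim : 3 ≤ finrank F V) : ∃ w : V, w ≠ 0 ∧ Q w = 0 := by
  have hnt : Nontrivial V := Module.nontrivial_of_finrank_pos (R := F) (by omega)
  obtain ⟨e₁, he₁⟩ := exists_ne (0 : V)
  by_cases hQe : Q e₁ = 0
  · exact ⟨e₁, he₁, hQe⟩
  have hWdim : 2 ≤ finrank F (LinearMap.ker (polarBilin Q e₁)) := by
    have h1 := LinearMap.finrank_range_add_finrank_ker (polarBilin Q e₁)
    have h3 : finrank F (LinearMap.range (polarBilin Q e₁)) ≤ 1 := by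
      have := Submodule.finrank_le (LinearMap.range (polarBilin Q e₁))
      rwa [finrank_self] at this
    omega
  set W := LinearMap.ker (polarBilin Q e₁) with hW
  have he₁W : e₁ ∈ W := by
    rw [hW, LinearMap.mem_ker]
    show polar Q e₁ e₁ = 0
    rw [polar_self]
    rw [two_smul, ← two_mul, h2, zero_mul]
  have hlt : (F ∙ e₁) < W := by
    apply Submodule.lt_of_le_of_finrank_lt_finrank
    · rw [Submodule.span_singleton_le_iff_mem]; exact he₁W
    · rw [finrank_span_singleton he₁]; omega
  obtain ⟨e₂, he₂W, he₂⟩ := SetLike.exists_of_lt hlt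
  have hring : ringChar F = 2 := by
    have h2' : ((2 : ℕ) : F) = 0 := by exact_mod_cast h2
    exact CharP.ringChar_of_prime_eq_zero Nat.prime_two h2'
  have := Fintype.ofFinite F
  obtain ⟨x, hx⟩ := FiniteField.isSquare_of_char_two hring (Q e₂ / Q e₁)
  have hpol : polar Q e₁ e₂ = 0 := LinearMap.mem_ker.mp he₂W
  refine ⟨x • e₁ + e₂, ?_, ?_⟩
  · intro h0
    apply he₂
    have : e₂ = (-x) • e₁ := by
      rw [neg_smul]
      exact eq_neg_of_add_eq_zero_right h0
    rw [this]
    exact Submodule.smul_mem _ _ (Submodule.mem_span_singleton_self e₁)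
  · rw [qmap_add, QuadraticMap.map_smul, polar_smul_left, hpol, smul_eq_mul, ← hx,
      div_mul_cancel₀ _ hQe]
    simp only [smul_eq_mul, mul_zero, add_zero]
    rw [← two_mul, h2, zero_mul]

theorem exists_singular [Finite F] [FiniteDimensional F V]
    (Q : QuadraticForm F V) (hQ : (polarBilin Q).Nondegenerate) (hdim : 3 ≤ finrank F V) :
    ∃ w : V, w ≠ 0 ∧ Q w = 0 := by
  have := Fintype.ofFinite F
  by_cases h2 : (2 : F) = 0
  · exact exists_singular_even h2 Q hdim
  · exact exists_singular_odd h2 Q hQ hdim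

end witt

universe u

/-- Witt decomposition over a finite field: hyperbolic pairs plus an anisotropic part of
dimension at most two. -/
theorem witt_decomp {F : Type*} [Field F] [Finite F] (n : ℕ) :
    ∀ (V : Type u) [AddCommGroup V] [Module F V] [FiniteDimensional F V] (Q : QuadraticForm F V),
      finrank F V = n → (polarBilin Q).Nondegenerate →
      ∃ (k : ℕ) (e f : Fin k → V) (W : Submodule F V),
        (∀ i, Q (e i) = 0 ∧ Q (f i) = 0) ∧
        (∀ i j, polar Q (e i) (f j) = if i = j then 1 else 0) ∧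
        (∀ i j, polar Q (e i) (e j) = 0 ∧ polar Q (f i) (f j) = 0) ∧
        (∀ w ∈ W, ∀ i, polar Q (e i) w = 0 ∧ polar Q (f i) w = 0) ∧
        finrank F W + 2 * k = n ∧ finrank F W ≤ 2 ∧
        (∀ w ∈ W, Q w = 0 → w = 0) ∧
        (∀ w ∈ W, (∀ w' ∈ W, polar Q w w' = 0) → w = 0) := by
  induction n using Nat.strong_induction_on with
  | _ n ih =>
  intro V _ _ _ Q hd hQ
  by_cases hs : ∃ v : V, v ≠ 0 ∧ Q v = 0
  · obtain ⟨e₀, he₀0, he₀⟩ := hs
    obtain ⟨f₀, hf₀, hef₀⟩ := exists_hyperbolic_partner Q hQ e₀ he₀0 he₀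
    have hfe₀ : polar Q f₀ e₀ = 1 := by rw [polar_comm]; exact hef₀
    have hee₀ : polar Q e₀ e₀ = 0 := by rw [polar_self, he₀]; simp
    have hff₀ : polar Q f₀ f₀ = 0 := by rw [polar_self, hf₀]; simp
    have hdW₀ := finrank_perp2 Q e₀ f₀ he₀ hf₀ hef₀
    have hsep := perp2_separating Q hQ e₀ f₀ he₀ hf₀ hef₀
    have hnd₀ := nondegenerate_comp_subtype Q (perp2 Q e₀ f₀) hsep
    obtain ⟨k', e', f', W', h1, h2, h3, h4, h5, h6, h7, h8⟩ :=
      ih (n - 2) (by omega) (perp2 Q e₀ f₀) (Q.comp (perp2 Q e₀ f₀).subtype) (by omega) hnd₀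
    have hmem_e : ∀ i, polar Q e₀ (e' i : V) = 0 ∧ polar Q f₀ (e' i : V) = 0 := fun i => (e' i).2
    have hmem_f : ∀ i, polar Q e₀ (f' i : V) = 0 ∧ polar Q f₀ (f' i : V) = 0 := fun i => (f' i).2
    refine ⟨k' + 1, Fin.cons e₀ (fun i => (e' i : V)), Fin.cons f₀ (fun i => (f' i : V)),
      W'.map (perp2 Q e₀ f₀).subtype, ?_, ?_, ?_, ?_, ?_, ?_, ?_, ?_⟩
    · intro i
      refine Fin.cases ?_ (fun i => ?_) i
      · exact ⟨he₀, hf₀⟩
      · simp only [Fin.cons_succ]
        exact h1 i
    · intro i j
      refine Fin.cases ?_ (fun i => ?_) i <;> refine Fin.cases ?_ (fun j => ?_) j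
      · simp [hef₀]
      · simp only [Fin.cons_zero, Fin.cons_succ]
        rw [(hmem_f j).1, if_neg (Fin.succ_ne_zero j).symm]
      · simp only [Fin.cons_zero, Fin.cons_succ]
        rw [polar_comm, (hmem_e i).2, if_neg (Fin.succ_ne_zero i)]
      · simp only [Fin.cons_succ, Fin.succ_inj]
        exact h2 i j
    · intro i j
      refine Fin.cases ?_ (fun i => ?_) i <;> refine Fin.cases ?_ (fun j => ?_) j
      · simp [hee₀, hff₀]
      · simp only [Fin.cons_zero, Fin.cons_succ]
        exact ⟨(hmem_e j).1, (hmem_f j).2⟩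
      · simp only [Fin.cons_zero, Fin.cons_succ]
        exact ⟨by rw [polar_comm]; exact (hmem_e i).1, by rw [polar_comm]; exact (hmem_f i).2⟩
      · simp only [Fin.cons_succ]
        exact h3 i j
    · rintro w hw i
      obtain ⟨w', hw'W, rfl⟩ := Submodule.mem_map.mp hw
      refine Fin.cases ?_ (fun i => ?_) i
      · simp only [Fin.cons_zero]
        exact w'.2
      · simp only [Fin.cons_succ]
        exact h4 w' hw'W i
    · rw [Submodule.finrank_map_subtype_eq]
      omega
    · rw [Submodule.finrank_map_subtype_eq]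
      exact h6
    · rintro w hw hQw
      obtain ⟨w', hw'W, rfl⟩ := Submodule.mem_map.mp hw
      have := h7 w' hw'W hQw
      rw [this]; rfl
    · rintro w hw hall
      obtain ⟨w', hw'W, rfl⟩ := Submodule.mem_map.mp hw
      have := h8 w' hw'W (fun w'' hw''W => hall _ (Submodule.mem_map.mpr ⟨w'', hw''W, rfl⟩))
      rw [this]; rfl
  · push Not at hs
    refine ⟨0, Fin.elim0, Fin.elim0, ⊤, fun i => i.elim0, fun i => i.elim0, fun i => i.elim0,
      fun _ _ i => i.elim0, ?_, ?_, ?_, ?_⟩
    · rw [finrank_top, hd]; omega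
    · rw [finrank_top]
      by_contra hlt
      obtain ⟨w, hw0, hw⟩ := exists_singular Q hQ (by omega)
      exact hs w hw0 hw
    · intro w _ hw
      by_contra hw0
      exact hs w hw0 hw
    · intro w _ hall
      exact hQ.1 w (fun v => hall v trivial)

end Cfsg.Agent.Lib.Helper43
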