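import Mathlib
import Cfsg.Agent.Lib.Helper43.Witt
import Cfsg.Agent.Lib.Helper8.WittQuad
import Cfsg.Agent.Lib.Helper5.DotCount

set_option autoImplicit false

namespace Cfsg.Agent.Lib.Helper43

open Module QuadraticMap

section gadget

variable {F V : Type*} [Field F] [AddCommGroup V] [Module F V]

/-- the isometry group of a quadratic form, as a subgroup of the linear automorphisms -/
def OG (Q : QuadraticForm F V) : Subgroup (V ≃ₗ[F] V) where
  carrier := {g | ∀ v, Q (g v) = Q v}
  mul_mem' := by
    intro a b ha hb v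
    show Q (a (b v)) = Q v
    rw [ha, hb]
  one_mem' := fun v => rfl
  inv_mem' := by
    intro a ha v
    have h := ha (a⁻¹ v)
    have h2 : a (a⁻¹ v) = v := by
      show a (a.symm v) = v
      exact a.apply_symm_apply v
    rw [h2] at h
    exact h.symm

theorem mem_OG (Q : QuadraticForm F V) (g : V ≃ₗ[F] V) : g ∈ OG Q ↔ ∀ v, Q (g v) = Q v := Iff.rfl

theorem OG_polar (Q : QuadraticForm F V) (g : OG Q) (u v : V) :
    polar Q (g.1 u) (g.1 v) = polar Q u v := by
  simp only [polar, ← map_add, g.2 _]

/-- data of a hyperbolic pair -/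
structure IsHypPair (Q : QuadraticForm F V) (e f : V) : Prop where
  qe : Q e = 0
  qf : Q f = 0
  ef : polar Q e f = 1

namespace IsHypPair

variable {Q : QuadraticForm F V} {e f : V} (h : IsHypPair Q e f)
include h

theorem fe : polar Q f e = 1 := by rw [polar_comm]; exact h.ef

theorem ee : polar Q e e = 0 := by rw [polar_self, h.qe]; simp

theorem ff : polar Q f f = 0 := by rw [polar_self, h.qf]; simp

/-- projection onto the orthogonal complement of the pair -/
def proj : V →ₗ[F] perp2 Q e f where
  toFun v := ⟨v - polar Q f v • e - polar Q e v • f, by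
    rw [mem_perp2]
    constructor
    · rw [polar_sub_right, polar_sub_right, polar_smul_right, polar_smul_right, h.ee, h.ef]
      simp
    · rw [polar_sub_right, polar_sub_right, polar_smul_right, polar_smul_right, h.fe, h.ff]
      simp⟩
  map_add' := by
    intro u v
    apply Subtype.ext
    simp only [polar_add_right, add_smul, Submodule.coe_add]
    abel
  map_smul' := by
    intro c v
    apply Subtype.ext
    simp only [polar_smul_right, RingHom.id_apply, Submodule.coe_smul, smul_sub, smul_smul,
      smul_eq_mul]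

theorem proj_coe (v : V) : (h.proj v : V) = v - polar Q f v • e - polar Q e v • f := rfl

theorem decomp (v : V) : v = polar Q f v • e + polar Q e v • f + (h.proj v : V) := by
  rw [h.proj_coe]; abel

theorem proj_of_mem (w : perp2 Q e f) : h.proj (w : V) = w := by
  apply Subtype.ext
  rw [h.proj_coe]
  have := w.2
  rw [mem_perp2] at this
  rw [this.1, this.2]
  simp

theorem polar_e_mem (w : perp2 Q e f) : polar Q e (w : V) = 0 := ((mem_perp2 Q e f w).mp w.2).1

theorem polar_f_mem (w : perp2 Q e f) : polar Q f (w : V) = 0 := ((mem_perp2 Q e f w).mp w.2).2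

theorem q_comb (a b : F) (w : perp2 Q e f) : Q (a • e + b • f + (w : V)) = a * b + Q (w : V) := by
  rw [qmap_add, qmap_add, QuadraticMap.map_smul, QuadraticMap.map_smul, h.qe, h.qf,
    polar_smul_left, polar_smul_right, h.ef, polar_add_left, polar_smul_left, polar_smul_left,
    h.polar_e_mem, h.polar_f_mem]
  simp only [smul_eq_mul, mul_zero, mul_one, add_zero, zero_add]

theorem proj_comb (a b : F) (w : perp2 Q e f) : h.proj (a • e + b • f + (w : V)) = w := by
  apply Subtype.ext
  rw [h.proj_coe]
  simp only [polar_add_right, polar_smul_right, h.ee, h.ef, h.fe, h.ff, h.polar_e_mem,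
    h.polar_f_mem, smul_eq_mul, mul_zero, mul_one, add_zero, zero_add]
  abel

theorem polar_f_comb (a b : F) (w : perp2 Q e f) : polar Q f (a • e + b • f + (w : V)) = a := by
  simp only [polar_add_right, polar_smul_right, h.fe, h.ff, h.polar_f_mem, smul_eq_mul, mul_zero,
    mul_one, add_zero]

theorem polar_e_comb (a b : F) (w : perp2 Q e f) : polar Q e (a • e + b • f + (w : V)) = b := by
  simp only [polar_add_right, polar_smul_right, h.ee, h.ef, h.polar_e_mem, smul_eq_mul, mul_zero,
    mul_one, add_zero, zero_add]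

/-- the coordinate equivalence attached to a hyperbolic pair -/
def coordEquiv : V ≃ (perp2 Q e f) × (F × F) where
  toFun v := (h.proj v, (polar Q f v, polar Q e v))
  invFun p := p.2.1 • e + p.2.2 • f + (p.1 : V)
  left_inv v := (h.decomp v).symm
  right_inv p := by
    rcases p with ⟨w, a, b⟩
    simp only [h.proj_comb, h.polar_f_comb, h.polar_e_comb]

theorem q_eq (v : V) : Q v = polar Q f v * polar Q e v + Q (h.proj v : V) := by
  conv_lhs => rw [h.decomp v]
  exact h.q_comb _ _ _

theorem q_coordEquiv_symm (p : (perp2 Q e f) × (F × F)) :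
    Q (h.coordEquiv.symm p) = p.2.1 * p.2.2 + Q (p.1 : V) := h.q_comb _ _ _

end IsHypPair

end gadget

section counting

variable {F V : Type*} [Field F] [Fintype F] [AddCommGroup V] [Module F V] [FiniteDimensional F V]

/-- the zero count of a quadratic space in terms of that of the complement of a hyperbolic pair -/
theorem card_zeros_step (Q : QuadraticForm F V) (e f : V) (h : IsHypPair Q e f) :
    Nat.card {v : V // Q v = 0} =
      Fintype.card F * Nat.card {w : perp2 Q e f // Q (w : V) = 0} +
        (Fintype.card F - 1) * Fintype.card F ^ finrank F (perp2 Q e f) := by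
  classical
  haveI : Finite V := Module.finite_of_finite F
  haveI : Fintype (perp2 Q e f) := Fintype.ofFinite _
  let ψ : V ≃ (perp2 Q e f) × ((Unit → F) × (Unit → F)) :=
    h.coordEquiv.trans (Equiv.prodCongr (Equiv.refl _)
      (Equiv.prodCongr (Equiv.funUnique Unit F).symm (Equiv.funUnique Unit F).symm))
  let φ : {v : V // Q v = 0} ≃
      {p : (perp2 Q e f) × ((Unit → F) × (Unit → F)) // Q (p.1 : V) + p.2.1 ⬝ᵥ p.2.2 = 0} :=
    ψ.subtypeEquiv (by
      intro v
      show Q v = 0 ↔ Q (h.proj v : V) + (fun _ : Unit => polar Q f v) ⬝ᵥ (fun _ : Unit => polar Q e v) = 0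
      rw [h.q_eq v]
      simp [dotProduct, add_comm])
  rw [Nat.card_congr φ, Cfsg.Agent.Lib.Helper5.card_extra_add_dotProduct_eq_zero (n := Unit)
    (fun w : perp2 Q e f => Q (w : V))]
  rw [Module.card_eq_pow_finrank (K := F) (V := perp2 Q e f)]
  simp only [Fintype.card_unique, pow_one, Nat.sub_self, pow_zero, mul_one]
  ring

/-- the number of hyperbolic partners of a singular vector -/
theorem card_partners (Q : QuadraticForm F V) (hQ : (polarBilin Q).Nondegenerate) (e : V)
    (he0 : e ≠ 0) (he : Q e = 0) :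
    Nat.card {f : V // Q f = 0 ∧ polar Q e f = 1} = Fintype.card F ^ (finrank F V - 2) := by
  classical
  obtain ⟨f₀, hf₀, hef₀⟩ := exists_hyperbolic_partner Q hQ e he0 he
  have h : IsHypPair Q e f₀ := ⟨he, hf₀, hef₀⟩
  have hdim := finrank_perp2 Q e f₀ he hf₀ hef₀
  haveI : Finite V := Module.finite_of_finite F
  haveI : Fintype (perp2 Q e f₀) := Fintype.ofFinite _
  let φ : perp2 Q e f₀ ≃ {f : V // Q f = 0 ∧ polar Q e f = 1} :=
    { toFun := fun w => ⟨(-Q (w : V)) • e + (1 : F) • f₀ + (w : V), by
        rw [h.q_comb, h.polar_e_comb]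
        simp⟩
      invFun := fun f => h.proj f.1
      left_inv := fun w => h.proj_comb _ _ w
      right_inv := by
        rintro ⟨f, hf1, hf2⟩
        apply Subtype.ext
        show (-Q (h.proj f : V)) • e + (1 : F) • f₀ + (h.proj f : V) = f
        have h1 := h.q_eq f
        rw [hf1, hf2, mul_one] at h1
        have h2 : polar Q f₀ f = -Q (h.proj f : V) := by
          linear_combination -h1
        conv_rhs => rw [h.decomp f, hf2, h2] }
  rw [← Nat.card_congr φ, Nat.card_eq_fintype_card,
    Module.card_eq_pow_finrank (K := F) (V := perp2 Q e f₀)]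
  congr 1
  omega

/-- the number of hyperbolic pairs -/
theorem card_hypPairs (Q : QuadraticForm F V) (hQ : (polarBilin Q).Nondegenerate) :
    Nat.card {p : V × V // IsHypPair Q p.1 p.2} =
      (Nat.card {v : V // Q v = 0} - 1) * Fintype.card F ^ (finrank F V - 2) := by
  classical
  haveI : Finite V := Module.finite_of_finite F
  haveI : Fintype V := Fintype.ofFinite _
  let φ : {p : V × V // IsHypPair Q p.1 p.2} ≃
      Σ e : {e : V // e ≠ 0 ∧ Q e = 0}, {f : V // Q f = 0 ∧ polar Q e.1 f = 1} :=
    { toFun := fun p => ⟨⟨p.1.1, by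
          rintro h0
          have := p.2.ef
          rw [h0] at this
          simp at this, p.2.qe⟩, ⟨p.1.2, p.2.qf, p.2.ef⟩⟩
      invFun := fun s => ⟨(s.1.1, s.2.1), ⟨s.1.2.2, s.2.2.1, s.2.2.2⟩⟩
      left_inv := fun p => rfl
      right_inv := fun s => rfl }
  rw [Nat.card_congr φ, Nat.card_sigma]
  have hfib : ∀ e : {e : V // e ≠ 0 ∧ Q e = 0},
      Nat.card {f : V // Q f = 0 ∧ polar Q e.1 f = 1} = Fintype.card F ^ (finrank F V - 2) :=
    fun e => card_partners Q hQ e.1 e.2.1 e.2.2
  rw [Finset.sum_congr rfl (fun e _ => hfib e), Finset.sum_const, smul_eq_mul, Finset.card_univ]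
  congr 1
  -- card of nonzero singular vectors
  rw [← Nat.card_eq_fintype_card]
  have hsplit : Nat.card {v : V // Q v = 0} = Nat.card {e : V // e ≠ 0 ∧ Q e = 0} + 1 := by
    rw [Nat.card_eq_fintype_card, Nat.card_eq_fintype_card]
    have h1 : Fintype.card {v : V // Q v = 0} =
        Fintype.card {v : {v : V // Q v = 0} // v.1 ≠ 0} +
          Fintype.card {v : {v : V // Q v = 0} // ¬ v.1 ≠ 0} := by
      rw [← Fintype.card_sum]
      exact Fintype.card_congr (Equiv.sumCompl (fun v : {v : V // Q v = 0} => v.1 ≠ 0)).symm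
    rw [h1]
    congr 1
    · apply Fintype.card_congr
      exact
        { toFun := fun v => ⟨v.1.1, v.2, v.1.2⟩
          invFun := fun e => ⟨⟨e.1, e.2.2⟩, e.2.1⟩
          left_inv := fun v => rfl
          right_inv := fun e => rfl }
    · rw [Fintype.card_eq_one_iff]
      refine ⟨⟨⟨0, by simp⟩, by simp⟩, ?_⟩
      rintro ⟨⟨v, hv⟩, hv0⟩
      apply Subtype.ext
      apply Subtype.ext
      simpa using hv0
  omega

end counting

section orbit

variable {F V : Type*} [Field F] [AddCommGroup V] [Module F V] [FiniteDimensional F V]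

theorem OG_smul_def (Q : QuadraticForm F V) (g : OG Q) (v : V) : g • v = g.1 v := rfl

theorem OG_smul_pair (Q : QuadraticForm F V) (g : OG Q) (u v : V) :
    g • ((u, v) : V × V) = (g.1 u, g.1 v) := rfl

theorem IsHypPair.linearIndependent {Q : QuadraticForm F V} {e f : V} (h : IsHypPair Q e f) :
    LinearIndependent F ![e, f] := by
  apply linearIndependent_of_dual Q ![e, f] ![f, e]
  intro j k
  fin_cases j <;> fin_cases k
  · simpa using h.fe
  · simpa using h.ff
  · simpa using h.ee
  · simpa using h.ef

/-- the isometry group is transitive on hyperbolic pairs -/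
theorem orbit_hypPair (Q : QuadraticForm F V) (hQ : (polarBilin Q).Nondegenerate) (e f : V)
    (h : IsHypPair Q e f) :
    MulAction.orbit (OG Q) ((e, f) : V × V) = {p | IsHypPair Q p.1 p.2} := by
  ext ⟨u, v⟩
  constructor
  · rintro ⟨g, hg⟩
    have hg' : (g.1 e, g.1 f) = (u, v) := hg
    rw [Prod.mk.injEq] at hg'
    show IsHypPair Q u v
    rw [← hg'.1, ← hg'.2]
    exact ⟨by rw [g.2, h.qe], by rw [g.2, h.qf], by rw [OG_polar, h.ef]⟩
  · intro h'
    have h' : IsHypPair Q u v := h'
    obtain ⟨g, hg1, hg2⟩ := Cfsg.Agent.Lib.Helper8.witt_family_quad Q hQ 2 ![e, f] ![u, v]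
      h.linearIndependent h'.linearIndependent
      (by
        intro i
        fin_cases i
        · simp [h.qe, h'.qe]
        · simp [h.qf, h'.qf])
      (by
        intro i j
        fin_cases i <;> fin_cases j
        · simp [h.ee, h'.ee]
        · simp [h.ef, h'.ef]
        · simp [h.fe, h'.fe]
        · simp [h.ff, h'.ff])
    refine ⟨⟨g, hg1⟩, ?_⟩
    show (g e, g f) = (u, v)
    have h0 := hg2 0
    have h1 := hg2 1
    simp only [Matrix.cons_val_zero, Matrix.cons_val_one] at h0 h1
    rw [h0, h1]

/-- the stabiliser of a hyperbolic pair is the isometry group of its orthogonal complement -/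
noncomputable def stabEquiv (Q : QuadraticForm F V) (hQ : (polarBilin Q).Nondegenerate) (e f : V)
    (h : IsHypPair Q e f) :
    MulAction.stabilizer (OG Q) ((e, f) : V × V) ≃ OG (Q.comp (perp2 Q e f).subtype) := by
  have hndW : (polarBilin (Q.comp (perp2 Q e f).subtype)).Nondegenerate :=
    nondegenerate_comp_subtype Q _ (perp2_separating Q hQ e f h.qe h.qf h.ef)
  have hfix : ∀ g : MulAction.stabilizer (OG Q) ((e, f) : V × V), g.1.1 e = e ∧ g.1.1 f = f := by
    intro g
    have := MulAction.mem_stabilizer_iff.mp g.2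
    have h2 : (g.1.1 e, g.1.1 f) = (e, f) := this
    rw [Prod.mk.injEq] at h2
    exact h2
  have hmem : ∀ g : MulAction.stabilizer (OG Q) ((e, f) : V × V), ∀ w ∈ perp2 Q e f,
      (g.1.1 : V →ₗ[F] V) w ∈ perp2 Q e f := by
    intro g w hw
    rw [mem_perp2] at hw ⊢
    constructor
    · have := OG_polar Q g.1 e w
      rw [(hfix g).1] at this
      rw [LinearEquiv.coe_coe, this]
      exact hw.1
    · have := OG_polar Q g.1 f w
      rw [(hfix g).2] at this
      rw [LinearEquiv.coe_coe, this]
      exact hw.2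
  -- the lifted linear map
  let up : OG (Q.comp (perp2 Q e f).subtype) → (V →ₗ[F] V) := fun k =>
    (polarBilin Q f).smulRight e + (polarBilin Q e).smulRight f +
      (perp2 Q e f).subtype ∘ₗ (k.1 : perp2 Q e f →ₗ[F] perp2 Q e f) ∘ₗ h.proj
  have up_apply : ∀ k v, up k v = polar Q f v • e + polar Q e v • f + ((k.1 (h.proj v) : perp2 Q e f) : V) :=
    fun k v => rfl
  have up_pres : ∀ k v, Q (up k v) = Q v := by
    intro k v
    rw [up_apply, h.q_comb, h.q_eq v]
    congr 1
    exact k.2 (h.proj v)
  let res : MulAction.stabilizer (OG Q) ((e, f) : V × V) → (perp2 Q e f →ₗ[F] perp2 Q e f) :=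
    fun g => (g.1.1 : V →ₗ[F] V).restrict (hmem g)
  have res_coe : ∀ g (w : perp2 Q e f), ((res g w : perp2 Q e f) : V) = g.1.1 (w : V) :=
    fun g w => rfl
  have res_pres : ∀ g (w : perp2 Q e f),
      (Q.comp (perp2 Q e f).subtype) (res g w) = (Q.comp (perp2 Q e f).subtype) w := by
    intro g w
    show Q ((res g w : perp2 Q e f) : V) = Q (w : V)
    rw [res_coe]
    exact g.1.2 w
  let down : MulAction.stabilizer (OG Q) ((e, f) : V × V) → OG (Q.comp (perp2 Q e f).subtype) :=
    fun g =>
      ⟨Cfsg.Agent.Lib.Helper8.quadEquiv _ hndW (res g) (res_pres g), by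
        intro w
        rw [Cfsg.Agent.Lib.Helper8.quadEquiv_apply]
        exact res_pres g w⟩
  have down_apply : ∀ g (w : perp2 Q e f), (((down g).1 w : perp2 Q e f) : V) = g.1.1 (w : V) := by
    intro g w
    show ((Cfsg.Agent.Lib.Helper8.quadEquiv _ hndW (res g) (res_pres g) w : perp2 Q e f) : V) = _
    rw [Cfsg.Agent.Lib.Helper8.quadEquiv_apply]
    exact res_coe g w
  let upE : OG (Q.comp (perp2 Q e f).subtype) → MulAction.stabilizer (OG Q) ((e, f) : V × V) :=
    fun k =>
      ⟨⟨Cfsg.Agent.Lib.Helper8.quadEquiv Q hQ (up k) (up_pres k), by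
        intro v
        rw [Cfsg.Agent.Lib.Helper8.quadEquiv_apply]
        exact up_pres k v⟩, by
        rw [MulAction.mem_stabilizer_iff]
        show (Cfsg.Agent.Lib.Helper8.quadEquiv Q hQ (up k) (up_pres k) e,
          Cfsg.Agent.Lib.Helper8.quadEquiv Q hQ (up k) (up_pres k) f) = (e, f)
        rw [Cfsg.Agent.Lib.Helper8.quadEquiv_apply, Cfsg.Agent.Lib.Helper8.quadEquiv_apply,
          up_apply, up_apply, h.fe, h.ee, h.ff, h.ef]
        have he0 : h.proj e = 0 := by
          apply Subtype.ext
          rw [h.proj_coe, h.fe, h.ee]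
          simp
        have hf0 : h.proj f = 0 := by
          apply Subtype.ext
          rw [h.proj_coe, h.ff, h.ef]
          simp
        rw [he0, hf0, map_zero]
        simp⟩
  have upE_apply : ∀ k v, (upE k).1.1 v = up k v := by
    intro k v
    show Cfsg.Agent.Lib.Helper8.quadEquiv Q hQ (up k) (up_pres k) v = _
    rw [Cfsg.Agent.Lib.Helper8.quadEquiv_apply]
  exact
    { toFun := down
      invFun := upE
      left_inv := by
        intro g
        apply Subtype.ext
        apply Subtype.ext
        apply LinearEquiv.ext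
        intro v
        rw [upE_apply, up_apply, down_apply]
        conv_rhs => rw [h.decomp v, map_add, map_add, map_smul, map_smul, (hfix g).1, (hfix g).2]
      right_inv := by
        intro k
        apply Subtype.ext
        apply LinearEquiv.ext
        intro w
        apply Subtype.ext
        rw [down_apply, upE_apply, up_apply, h.polar_e_mem, h.polar_f_mem, h.proj_of_mem]
        simp }

end orbit

section recursion

variable {F V : Type*} [Field F] [Fintype F] [AddCommGroup V] [Module F V] [FiniteDimensional F V]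

/-- the order of the isometry group in terms of that of the complement of a hyperbolic pair -/
theorem card_OG_step (Q : QuadraticForm F V) (hQ : (polarBilin Q).Nondegenerate) (e f : V)
    (h : IsHypPair Q e f) :
    Nat.card (OG Q) = (Nat.card {v : V // Q v = 0} - 1) * Fintype.card F ^ (finrank F V - 2) *
      Nat.card (OG (Q.comp (perp2 Q e f).subtype)) := by
  have h1 := Nat.card_congr (MulAction.orbitProdStabilizerEquivGroup (OG Q) ((e, f) : V × V))
  rw [Nat.card_prod] at h1
  rw [← h1, orbit_hypPair Q hQ e f h, Nat.card_congr (stabEquiv Q hQ e f h),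
    ← card_hypPairs Q hQ]
  rfl

end recursion

section transport

variable {F V V₁ : Type*} [Field F] [AddCommGroup V] [Module F V] [AddCommGroup V₁] [Module F V₁]

/-- isometric spaces have isometry groups of the same order -/
theorem card_OG_congr (Q₁ : QuadraticForm F V₁) (Q : QuadraticForm F V) (J : V₁ ≃ₗ[F] V)
    (hJ : ∀ x, Q (J x) = Q₁ x) : Nat.card (OG Q₁) = Nat.card (OG Q) := by
  have hJ' : ∀ v, Q₁ (J.symm v) = Q v := by
    intro v
    rw [← hJ, J.apply_symm_apply]
  apply Nat.card_congr
  exact
    { toFun := fun g => ⟨J.symm.trans (g.1.trans J), by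
        intro v
        show Q (J (g.1 (J.symm v))) = Q v
        rw [hJ, g.2, hJ']⟩
      invFun := fun g => ⟨J.trans (g.1.trans J.symm), by
        intro x
        show Q₁ (J.symm (g.1 (J x))) = Q₁ x
        rw [hJ', g.2, hJ]⟩
      left_inv := by
        intro g
        apply Subtype.ext
        apply LinearEquiv.ext
        intro x
        show J.symm (J (g.1 (J.symm (J x)))) = g.1 x
        rw [J.symm_apply_apply, J.symm_apply_apply]
      right_inv := by
        intro g
        apply Subtype.ext
        apply LinearEquiv.ext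
        intro v
        show J (J.symm (g.1 (J (J.symm v)))) = g.1 v
        rw [J.apply_symm_apply, J.apply_symm_apply] }

end transport

section family

universe u v w

/-- a hyperbolic family in `V` whose orthogonal complement is parametrised by `j` -/
structure IsHypFamily {F : Type v} {V : Type u} {V₁ : Type w} [Field F] [AddCommGroup V]
    [Module F V] [AddCommGroup V₁] [Module F V₁] (Q : QuadraticForm F V)
    (Q₁ : QuadraticForm F V₁) (j : V₁ →ₗ[F] V) (k : ℕ) (e f : Fin k → V) : Prop where
  qe : ∀ i, Q (e i) = 0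
  qf : ∀ i, Q (f i) = 0
  ee : ∀ i i', polar Q (e i) (e i') = 0
  ff : ∀ i i', polar Q (f i) (f i') = 0
  ef : ∀ i i', polar Q (e i) (f i') = if i = i' then 1 else 0
  qj : ∀ x, Q (j x) = Q₁ x
  ej : ∀ i x, polar Q (e i) (j x) = 0
  fj : ∀ i x, polar Q (f i) (j x) = 0
  surj : ∀ v, (∀ i, polar Q (e i) v = 0) → (∀ i, polar Q (f i) v = 0) → ∃ x, j x = v

/-- the zero counts along a tower of hyperbolic planes -/
def ZZ (q n₁ z₁ : ℕ) : ℕ → ℕ
  | 0 => z₁
  | k + 1 => q * ZZ q n₁ z₁ k + (q - 1) * q ^ (2 * k + n₁)

/-- the group orders along a tower of hyperbolic planes -/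
def OO (q n₁ z₁ o₁ : ℕ) : ℕ → ℕ
  | 0 => o₁
  | k + 1 => (ZZ q n₁ z₁ (k + 1) - 1) * q ^ (2 * k + n₁) * OO q n₁ z₁ o₁ k

variable {F : Type v} {V₁ : Type w} [Field F] [AddCommGroup V₁] [Module F V₁]

theorem IsHypFamily.polar_j {V : Type u} [AddCommGroup V] [Module F V] {Q : QuadraticForm F V}
    {Q₁ : QuadraticForm F V₁} {j : V₁ →ₗ[F] V} {k : ℕ} {e f : Fin k → V}
    (H : IsHypFamily Q Q₁ j k e f) (x y : V₁) : polar Q (j x) (j y) = polar Q₁ x y := by
  simp only [polar, ← map_add, H.qj]

theorem IsHypFamily.injective {V : Type u} [AddCommGroup V] [Module F V] {Q : QuadraticForm F V}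
    {Q₁ : QuadraticForm F V₁} (hQ₁ : (polarBilin Q₁).Nondegenerate) {j : V₁ →ₗ[F] V} {k : ℕ}
    {e f : Fin k → V} (H : IsHypFamily Q Q₁ j k e f) : Function.Injective j := by
  rw [← LinearMap.ker_eq_bot, LinearMap.ker_eq_bot']
  intro x hx
  apply hQ₁.1 x
  intro y
  show polar Q₁ x y = 0
  rw [← H.polar_j, hx]
  simp

theorem IsHypFamily.nondegenerate {V : Type u} [AddCommGroup V] [Module F V]
    {Q : QuadraticForm F V}
    {Q₁ : QuadraticForm F V₁} (hQ₁ : (polarBilin Q₁).Nondegenerate) {j : V₁ →ₗ[F] V} {k : ℕ}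
    {e f : Fin k → V} (H : IsHypFamily Q Q₁ j k e f) : (polarBilin Q).Nondegenerate := by
  have key : ∀ v : V, (∀ u, polar Q v u = 0) → v = 0 := by
    intro v hv
    obtain ⟨x, hx⟩ := H.surj v (fun i => by rw [polar_comm]; exact hv _)
      (fun i => by rw [polar_comm]; exact hv _)
    have hx0 : x = 0 := by
      apply hQ₁.1 x
      intro y
      show polar Q₁ x y = 0
      rw [← H.polar_j, hx]
      exact hv _
    rw [← hx, hx0, map_zero]
  constructor
  · intro v hv
    exact key v hv
  · intro v hv
    apply key v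
    intro u
    rw [polar_comm]
    exact hv u

theorem IsHypFamily.hypPair {V : Type u} [AddCommGroup V] [Module F V]
    {Q : QuadraticForm F V} {Q₁ : QuadraticForm F V₁} {j : V₁ →ₗ[F] V} {k : ℕ}
    {e f : Fin k → V} (H : IsHypFamily Q Q₁ j k e f) (i : Fin k) : IsHypPair Q (e i) (f i) :=
  ⟨H.qe i, H.qf i, by rw [H.ef, if_pos rfl]⟩

variable [Fintype F] [FiniteDimensional F V₁]

/-- the order of the isometry group of a space with a hyperbolic family -/
theorem card_OG_family (Q₁ : QuadraticForm F V₁) (hQ₁ : (polarBilin Q₁).Nondegenerate) :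
    ∀ (k : ℕ) (V : Type u) [AddCommGroup V] [Module F V] [FiniteDimensional F V]
      (Q : QuadraticForm F V) (j : V₁ →ₗ[F] V) (e f : Fin k → V), IsHypFamily Q Q₁ j k e f →
      finrank F V = 2 * k + finrank F V₁ ∧
      Nat.card {v : V // Q v = 0} =
        ZZ (Fintype.card F) (finrank F V₁) (Nat.card {x : V₁ // Q₁ x = 0}) k ∧
      Nat.card (OG Q) =
        OO (Fintype.card F) (finrank F V₁) (Nat.card {x : V₁ // Q₁ x = 0}) (Nat.card (OG Q₁)) k := by
  intro k
  induction k with
  | zero =>
    intro V _ _ _ Q j e f H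
    have hbij : Function.Bijective j := by
      refine ⟨H.injective hQ₁, ?_⟩
      intro v
      exact H.surj v (fun i => i.elim0) (fun i => i.elim0)
    let J : V₁ ≃ₗ[F] V := LinearEquiv.ofBijective j hbij
    have hJ : ∀ x, Q (J x) = Q₁ x := fun x => H.qj x
    refine ⟨?_, ?_, ?_⟩
    · rw [← J.finrank_eq]
      simp
    · show _ = Nat.card {x : V₁ // Q₁ x = 0}
      symm
      apply Nat.card_congr
      exact J.toEquiv.subtypeEquiv (fun x => by
        show Q₁ x = 0 ↔ Q (J x) = 0
        rw [hJ])
    · show _ = Nat.card (OG Q₁)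
      exact (card_OG_congr Q₁ Q J hJ).symm
  | succ k ih =>
    intro V _ _ _ Q j e f H
    have hQ := H.nondegenerate hQ₁
    have h₀ := H.hypPair (Fin.last k)
    set e₀ := e (Fin.last k) with he₀
    set f₀ := f (Fin.last k) with hf₀
    have hne : ∀ i : Fin k, i.castSucc ≠ Fin.last k := fun i => (Fin.castSucc_lt_last i).ne
    have hmemE : ∀ i : Fin k, e i.castSucc ∈ perp2 Q e₀ f₀ := by
      intro i
      rw [mem_perp2]
      constructor
      · exact H.ee _ _
      · rw [polar_comm, H.ef, if_neg (hne i)]
    have hmemF : ∀ i : Fin k, f i.castSucc ∈ perp2 Q e₀ f₀ := by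
      intro i
      rw [mem_perp2]
      constructor
      · rw [H.ef, if_neg (hne i).symm]
      · exact H.ff _ _
    have hmemJ : ∀ x, j x ∈ perp2 Q e₀ f₀ := by
      intro x
      rw [mem_perp2]
      exact ⟨H.ej _ _, H.fj _ _⟩
    let e' : Fin k → perp2 Q e₀ f₀ := fun i => ⟨e i.castSucc, hmemE i⟩
    let f' : Fin k → perp2 Q e₀ f₀ := fun i => ⟨f i.castSucc, hmemF i⟩
    let j' : V₁ →ₗ[F] perp2 Q e₀ f₀ := j.codRestrict _ hmemJ
    have H' : IsHypFamily (Q.comp (perp2 Q e₀ f₀).subtype) Q₁ j' k e' f' := by
      refine ⟨fun i => H.qe _, fun i => H.qf _, fun i i' => ?_, fun i i' => ?_, fun i i' => ?_,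
        fun x => H.qj x, fun i x => ?_, fun i x => ?_, ?_⟩
      · rw [polar_comp_subtype]; exact H.ee _ _
      · rw [polar_comp_subtype]; exact H.ff _ _
      · rw [polar_comp_subtype]
        show polar Q (e i.castSucc) (f i'.castSucc) = _
        rw [H.ef]
        simp only [Fin.castSucc_inj]
      · rw [polar_comp_subtype]; exact H.ej _ _
      · rw [polar_comp_subtype]; exact H.fj _ _
      · intro v hve hvf
        obtain ⟨x, hx⟩ := H.surj (v : V)
          (by
            intro i
            refine Fin.lastCases ?_ (fun i => ?_) i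
            · exact ((mem_perp2 Q e₀ f₀ v).mp v.2).1
            · have := hve i
              rw [polar_comp_subtype] at this
              exact this)
          (by
            intro i
            refine Fin.lastCases ?_ (fun i => ?_) i
            · exact ((mem_perp2 Q e₀ f₀ v).mp v.2).2
            · have := hvf i
              rw [polar_comp_subtype] at this
              exact this)
        exact ⟨x, Subtype.ext hx⟩
    obtain ⟨ih1, ih2, ih3⟩ := ih (perp2 Q e₀ f₀) (Q.comp (perp2 Q e₀ f₀).subtype) j' e' f' H'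
    have hdim := finrank_perp2 Q e₀ f₀ h₀.qe h₀.qf h₀.ef
    have hz := card_zeros_step Q e₀ f₀ h₀
    have ho := card_OG_step Q hQ e₀ f₀ h₀
    have hz' : Nat.card {w : perp2 Q e₀ f₀ // Q (w : V) = 0} =
        Nat.card {w : perp2 Q e₀ f₀ // (Q.comp (perp2 Q e₀ f₀).subtype) w = 0} := rfl
    rw [hz', ih2, ih1] at hz
    refine ⟨by omega, hz, ?_⟩
    rw [ho, hz, ih3]
    have : finrank F V - 2 = 2 * k + finrank F V₁ := by omega
    rw [this]
    rfl

end family

end Cfsg.Agent.Lib.Helper43
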