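import Mathlib
import Cfsg.Agent.Lib.Helper43.OrthCard

set_option autoImplicit false

namespace Cfsg.Agent.Lib.Helper43

theorem ZZ_zero (q n₁ z₁ : ℕ) : ZZ q n₁ z₁ 0 = z₁ := rfl

theorem ZZ_succ (q n₁ z₁ k : ℕ) :
    ZZ q n₁ z₁ (k + 1) = q * ZZ q n₁ z₁ k + (q - 1) * q ^ (2 * k + n₁) := rfl

theorem OO_zero (q n₁ z₁ o₁ : ℕ) : OO q n₁ z₁ o₁ 0 = o₁ := rfl

theorem OO_succ (q n₁ z₁ o₁ k : ℕ) :
    OO q n₁ z₁ o₁ (k + 1) = (ZZ q n₁ z₁ (k + 1) - 1) * q ^ (2 * k + n₁) * OO q n₁ z₁ o₁ k := rfl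

/-- zero count, plus type -/
theorem ZZ_plus (q : ℕ) (hq : 1 ≤ q) (k : ℕ) :
    ZZ q 0 1 (k + 1) = (q ^ (k + 1) - 1) * (q ^ k + 1) + 1 := by
  induction k with
  | zero =>
    rw [ZZ_succ, ZZ_zero]
    obtain ⟨t, rfl⟩ : ∃ t, q = t + 1 := ⟨q - 1, by omega⟩
    simp
    ring
  | succ k ih =>
    rw [ZZ_succ, ih]
    have h1 : 1 ≤ q ^ k := Nat.one_le_pow _ _ hq
    have h2 : 1 ≤ q ^ (k + 1) := Nat.one_le_pow _ _ hq
    have h3 : 1 ≤ q ^ (k + 1 + 1) := Nat.one_le_pow _ _ hq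
    zify [hq, h1, h2, h3]
    ring

/-- zero count, odd dimension -/
theorem ZZ_odd (q : ℕ) (hq : 1 ≤ q) (k : ℕ) : ZZ q 1 1 k = q ^ (2 * k) := by
  induction k with
  | zero => rw [ZZ_zero]; simp
  | succ k ih =>
    rw [ZZ_succ, ih]
    zify [hq]
    ring

/-- zero count, minus type -/
theorem ZZ_minus (q : ℕ) (hq : 1 ≤ q) (k : ℕ) :
    ZZ q 2 1 k = (q ^ (k + 1) + 1) * (q ^ k - 1) + 1 := by
  induction k with
  | zero => rw [ZZ_zero]; simp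
  | succ k ih =>
    rw [ZZ_succ, ih]
    have h1 : 1 ≤ q ^ k := Nat.one_le_pow _ _ hq
    have h2 : 1 ≤ q ^ (k + 1) := Nat.one_le_pow _ _ hq
    zify [hq, h1, h2]
    ring

theorem sq_sub_one_nat (x : ℕ) (hx : 1 ≤ x) : x ^ 2 - 1 = (x - 1) * (x + 1) := by
  obtain ⟨t, rfl⟩ : ∃ t, x = t + 1 := ⟨x - 1, by omega⟩
  have : (t + 1) ^ 2 = t * (t + 1 + 1) + 1 := by ring
  rw [this]
  simp

/-- group order, plus type -/
theorem OO_plus (q : ℕ) (hq : 1 ≤ q) (k : ℕ) :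
    OO q 0 1 1 (k + 1) = 2 * q ^ ((k + 1) * k) * (q ^ (k + 1) - 1) *
      ∏ i ∈ Finset.range k, (q ^ (2 * (i + 1)) - 1) := by
  induction k with
  | zero =>
    rw [OO_succ, OO_zero, ZZ_plus q hq]
    simp
    ring
  | succ k ih =>
    rw [OO_succ, ih, ZZ_plus q hq, Finset.prod_range_succ]
    have h : q ^ (2 * (k + 1)) - 1 = (q ^ (k + 1) - 1) * (q ^ (k + 1) + 1) := by
      rw [mul_comm 2, pow_mul]
      exact sq_sub_one_nat _ (Nat.one_le_pow _ _ hq)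
    rw [h, Nat.add_sub_cancel]
    have h2 : (k + 1 + 1) * (k + 1) = (k + 1) * k + (2 * (k + 1) + 0) := by ring
    rw [h2, pow_add]
    ring

/-- group order, odd dimension -/
theorem OO_odd (q : ℕ) (hq : 1 ≤ q) (k : ℕ) :
    OO q 1 1 2 k = 2 * q ^ (k ^ 2) * ∏ i ∈ Finset.range k, (q ^ (2 * (i + 1)) - 1) := by
  induction k with
  | zero => rw [OO_zero]; simp
  | succ k ih =>
    rw [OO_succ, ih, ZZ_odd q hq, Finset.prod_range_succ]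
    have h2 : (k + 1) ^ 2 = k ^ 2 + (2 * k + 1) := by ring
    rw [h2, pow_add]
    ring

/-- group order, minus type -/
theorem OO_minus (q : ℕ) (hq : 1 ≤ q) (k : ℕ) :
    OO q 2 1 (2 * (q + 1)) k = 2 * q ^ ((k + 1) * k) * (q ^ (k + 1) + 1) *
      ∏ i ∈ Finset.range k, (q ^ (2 * (i + 1)) - 1) := by
  induction k with
  | zero => rw [OO_zero]; simp
  | succ k ih =>
    rw [OO_succ, ih, ZZ_minus q hq, Finset.prod_range_succ]
    have h : q ^ (2 * (k + 1)) - 1 = (q ^ (k + 1) - 1) * (q ^ (k + 1) + 1) := by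
      rw [mul_comm 2, pow_mul]
      exact sq_sub_one_nat _ (Nat.one_le_pow _ _ hq)
    rw [h, Nat.add_sub_cancel]
    have h2 : (k + 1 + 1) * (k + 1) = (k + 1) * k + (2 * k + 2) := by ring
    rw [h2, pow_add]
    ring

end Cfsg.Agent.Lib.Helper43
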