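import Mathlib
import Cfsg.Agent.Lib.Helper43.OrthCardNum
import Cfsg.Agent.Lib.Helper8.OrthForms
import Cfsg.Agent.Lib.Helper8.OrthFormsMinus
import Cfsg.Agent.Lib.Helper44.Transport

set_option autoImplicit false

namespace Cfsg.Agent.Lib.Helper43

open Module QuadraticMap Cfsg.Agent.Lib.Helper8

/-- the abstract isometry group of a coordinate form has the order of the matrix isometry group -/
theorem card_OG_eq_isometryGroup {ι : Type} [Fintype ι] [DecidableEq ι] {F : Type*} [Field F]
    (Q : QuadraticForm F (ι → F)) :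
    Nat.card (OG Q) = Nat.card (Cfsg.isometryGroup F ⇑Q) := by
  obtain ⟨φ, -⟩ := Cfsg.Agent.Lib.Helper44.exists_mulEquiv_isometryGroup (⇑Q) (⇑Q)
    (LinearEquiv.refl F _) (fun v => rfl)
  have : OG Q = Cfsg.Agent.Lib.Helper44.absIsometryGroup F ⇑Q := Subgroup.ext (fun g => Iff.rfl)
  rw [this]
  exact Nat.card_congr φ.toEquiv

section plus

variable (m : ℕ) (F : Type*) [Field F]

theorem plusForm_single_inl (i : Fin m) : plusForm m F (Pi.single (Sum.inl i) 1) = 0 := by
  rw [← plusForm_coe]
  simp [Cfsg.quadFormPlus]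

theorem plusForm_single_inr (i : Fin m) : plusForm m F (Pi.single (Sum.inr i) 1) = 0 := by
  rw [← plusForm_coe]
  simp [Cfsg.quadFormPlus]

theorem polar_plusForm_inl (i : Fin m) (y : Fin m ⊕ Fin m → F) :
    polar (⇑(plusForm m F)) (Pi.single (Sum.inl i) 1) y = y (Sum.inr i) := by
  rw [polar_plusForm]
  simp [Pi.single_apply, Finset.sum_add_distrib]

theorem polar_plusForm_inr (i : Fin m) (y : Fin m ⊕ Fin m → F) :
    polar (⇑(plusForm m F)) (Pi.single (Sum.inr i) 1) y = y (Sum.inl i) := by
  rw [polar_plusForm]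
  simp [Pi.single_apply, Finset.sum_add_distrib]

theorem plus_family :
    IsHypFamily (plusForm m F) (0 : QuadraticForm F (Fin 0 → F)) (0 : (Fin 0 → F) →ₗ[F] _) m
      (fun i => Pi.single (Sum.inl i) 1) (fun i => Pi.single (Sum.inr i) 1) := by
  refine ⟨fun i => plusForm_single_inl m F i, fun i => plusForm_single_inr m F i,
    fun i i' => ?_, fun i i' => ?_, fun i i' => ?_, fun x => ?_, fun i x => ?_, fun i x => ?_, ?_⟩
  · rw [polar_plusForm_inl]; simp
  · rw [polar_plusForm_inr]; simp
  · rw [polar_plusForm_inl]; simp [Pi.single_apply]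
  · simp
  · simp
  · simp
  · intro v hve hvf
    refine ⟨0, ?_⟩
    rw [map_zero]
    funext t
    rcases t with i | i
    · have := hvf i
      rw [polar_plusForm_inr] at this
      rw [this]; rfl
    · have := hve i
      rw [polar_plusForm_inl] at this
      rw [this]; rfl

/-- the order of the orthogonal group of plus type -/
theorem card_isometryGroup_plus [Fintype F] (k : ℕ) :
    Nat.card (Cfsg.isometryGroup F (Cfsg.quadFormPlus (k + 1) F)) =
      2 * Fintype.card F ^ ((k + 1) * k) * (Fintype.card F ^ (k + 1) - 1) *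
        ∏ i ∈ Finset.range k, (Fintype.card F ^ (2 * (i + 1)) - 1) := by
  rw [plusForm_coe, ← card_OG_eq_isometryGroup]
  have hQ₁ : (polarBilin (0 : QuadraticForm F (Fin 0 → F))).Nondegenerate :=
    ⟨fun x _ => Subsingleton.elim _ _, fun x _ => Subsingleton.elim _ _⟩
  obtain ⟨-, -, h3⟩ := card_OG_family (0 : QuadraticForm F (Fin 0 → F)) hQ₁ (k + 1) _
    (plusForm (k + 1) F) _ _ _ (plus_family (k + 1) F)
  rw [h3]
  have hn : finrank F (Fin 0 → F) = 0 := by simp
  have hz : Nat.card {x : Fin 0 → F // (0 : QuadraticForm F (Fin 0 → F)) x = 0} = 1 := by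
    rw [Nat.card_eq_one_iff_unique]
    exact ⟨⟨fun x y => Subtype.ext (Subsingleton.elim _ _)⟩, ⟨⟨0, by simp⟩⟩⟩
  have ho : Nat.card (OG (0 : QuadraticForm F (Fin 0 → F))) = 1 := by
    rw [Nat.card_eq_one_iff_unique]
    refine ⟨⟨fun x y => ?_⟩, ⟨1⟩⟩
    apply Subtype.ext
    apply LinearEquiv.ext
    intro v
    exact Subsingleton.elim _ _
  rw [hn, hz, ho, OO_plus _ Fintype.card_pos]

end plus

section odd

variable (m : ℕ) (F : Type*) [Field F]

/-- a bilinear map whose diagonal is `quadFormOdd` -/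
def oddBil : LinearMap.BilinMap F (Unit ⊕ (Fin m ⊕ Fin m) → F) F :=
  LinearMap.mk₂ F (fun x y => x (Sum.inl ()) * y (Sum.inl ()) +
      ∑ i : Fin m, x (Sum.inr (Sum.inl i)) * y (Sum.inr (Sum.inr i)))
    (fun x x' y => by
      simp only [Pi.add_apply, add_mul, Finset.sum_add_distrib]; ring)
    (fun c x y => by
      simp only [Pi.smul_apply, smul_eq_mul, Finset.mul_sum, mul_add]
      congr 1
      · ring
      · apply Finset.sum_congr rfl; intro i _; ring)
    (fun x y y' => by
      simp only [Pi.add_apply, mul_add, Finset.sum_add_distrib]; ring)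
    (fun c x y => by
      simp only [Pi.smul_apply, smul_eq_mul, Finset.mul_sum, mul_add]
      congr 1
      · ring
      · apply Finset.sum_congr rfl; intro i _; ring)

/-- `quadFormOdd` as a quadratic form -/
def oddForm : QuadraticForm F (Unit ⊕ (Fin m ⊕ Fin m) → F) := (oddBil m F).toQuadraticMap

theorem oddForm_coe : Cfsg.quadFormOdd m F = ⇑(oddForm m F) := by
  funext v
  simp only [oddForm, oddBil, Cfsg.quadFormOdd, LinearMap.BilinMap.toQuadraticMap_apply,
    LinearMap.mk₂_apply]
  ring

theorem polar_oddForm (x y : Unit ⊕ (Fin m ⊕ Fin m) → F) :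
    polar (⇑(oddForm m F)) x y = 2 * x (Sum.inl ()) * y (Sum.inl ()) +
      ∑ i : Fin m, (x (Sum.inr (Sum.inl i)) * y (Sum.inr (Sum.inr i)) +
        y (Sum.inr (Sum.inl i)) * x (Sum.inr (Sum.inr i))) := by
  rw [oddForm, LinearMap.BilinMap.polar_toQuadraticMap]
  simp only [oddBil, LinearMap.mk₂_apply, Finset.sum_add_distrib]
  ring

theorem oddForm_single_inl (i : Fin m) :
    oddForm m F (Pi.single (Sum.inr (Sum.inl i)) 1) = 0 := by
  rw [← oddForm_coe]
  simp [Cfsg.quadFormOdd]

theorem oddForm_single_inr (i : Fin m) :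
    oddForm m F (Pi.single (Sum.inr (Sum.inr i)) 1) = 0 := by
  rw [← oddForm_coe]
  simp [Cfsg.quadFormOdd]

theorem polar_oddForm_inl (i : Fin m) (y : Unit ⊕ (Fin m ⊕ Fin m) → F) :
    polar (⇑(oddForm m F)) (Pi.single (Sum.inr (Sum.inl i)) 1) y = y (Sum.inr (Sum.inr i)) := by
  rw [polar_oddForm]
  simp [Pi.single_apply, Finset.sum_add_distrib]

theorem polar_oddForm_inr (i : Fin m) (y : Unit ⊕ (Fin m ⊕ Fin m) → F) :
    polar (⇑(oddForm m F)) (Pi.single (Sum.inr (Sum.inr i)) 1) y = y (Sum.inr (Sum.inl i)) := by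
  rw [polar_oddForm]
  simp [Pi.single_apply, Finset.sum_add_distrib]

theorem odd_family :
    IsHypFamily (oddForm m F) (QuadraticMap.sq (R := F) (A := F))
      (LinearMap.single F (fun _ : Unit ⊕ (Fin m ⊕ Fin m) => F) (Sum.inl ())) m
      (fun i => Pi.single (Sum.inr (Sum.inl i)) 1) (fun i => Pi.single (Sum.inr (Sum.inr i)) 1) := by
  refine ⟨fun i => oddForm_single_inl m F i, fun i => oddForm_single_inr m F i,
    fun i i' => ?_, fun i i' => ?_, fun i i' => ?_, fun x => ?_, fun i x => ?_, fun i x => ?_, ?_⟩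
  · rw [polar_oddForm_inl]; simp
  · rw [polar_oddForm_inr]; simp
  · rw [polar_oddForm_inl]; simp [Pi.single_apply]
  · rw [← oddForm_coe]
    simp [Cfsg.quadFormOdd, _root_.sq]
  · rw [polar_oddForm_inl]; simp
  · rw [polar_oddForm_inr]; simp
  · intro v hve hvf
    refine ⟨v (Sum.inl ()), ?_⟩
    funext t
    rcases t with u | i | i
    · simp
    · have := hvf i
      rw [polar_oddForm_inr] at this
      rw [this]; simp
    · have := hve i
      rw [polar_oddForm_inl] at this
      rw [this]; simp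

theorem polar_sq (x y : F) : polar (⇑(QuadraticMap.sq (R := F) (A := F))) x y = 2 * x * y := by
  simp only [polar, sq_apply]
  ring

theorem sq_nondegenerate (h2 : (2 : F) ≠ 0) :
    (polarBilin (QuadraticMap.sq (R := F) (A := F))).Nondegenerate := by
  have key : ∀ x : F, (∀ y, polar (⇑(QuadraticMap.sq (R := F) (A := F))) x y = 0) → x = 0 := by
    intro x hx
    have := hx 1
    rw [polar_sq, mul_one] at this
    exact (mul_eq_zero.mp this).resolve_left h2
  constructor
  · intro x hx
    exact key x hx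
  · intro x hx
    apply key x
    intro y
    rw [polar_comm]
    exact hx y

theorem card_OG_sq (h2 : (2 : F) ≠ 0) :
    Nat.card (OG (QuadraticMap.sq (R := F) (A := F))) = 2 := by
  rw [Nat.card_eq_two_iff]
  refine ⟨1, ⟨LinearEquiv.neg F, fun v => by
    show (-v) * (-v) = v * v
    ring⟩, ?_, ?_⟩
  · intro h
    have h1 := congrArg (fun g : OG (QuadraticMap.sq (R := F) (A := F)) => g.1 (1 : F)) h
    have h3 : (1 : F) = -1 := h1
    have : (2 : F) = 0 := by linear_combination h3
    exact h2 this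
  · rw [Set.eq_univ_iff_forall]
    intro g
    have hg := g.2 1
    rw [sq_apply, sq_apply, mul_one, mul_self_eq_one_iff] at hg
    have hgx : ∀ x : F, g.1 x = x * g.1 1 := by
      intro x
      have := g.1.map_smul x 1
      rw [smul_eq_mul, mul_one, smul_eq_mul] at this
      exact this
    rcases hg with hg | hg
    · left
      apply Subtype.ext
      apply LinearEquiv.ext
      intro x
      rw [hgx, hg, mul_one]
      rfl
    · right
      show g = _
      apply Subtype.ext
      apply LinearEquiv.ext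
      intro x
      rw [hgx, hg]
      show x * -1 = -x
      ring

/-- the order of the orthogonal group in odd dimension, odd characteristic -/
theorem card_isometryGroup_odd [Fintype F] (h2 : (2 : F) ≠ 0) :
    Nat.card (Cfsg.isometryGroup F (Cfsg.quadFormOdd m F)) =
      2 * Fintype.card F ^ (m ^ 2) *
        ∏ i ∈ Finset.range m, (Fintype.card F ^ (2 * (i + 1)) - 1) := by
  rw [oddForm_coe, ← card_OG_eq_isometryGroup]
  obtain ⟨-, -, h3⟩ := card_OG_family (QuadraticMap.sq (R := F) (A := F)) (sq_nondegenerate F h2) m _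
    (oddForm m F) _ _ _ (odd_family m F)
  rw [h3]
  have hn : finrank F F = 1 := Module.finrank_self F
  have hz : Nat.card {x : F // (QuadraticMap.sq (R := F) (A := F)) x = 0} = 1 := by
    rw [Nat.card_eq_one_iff_unique]
    refine ⟨⟨fun x y => Subtype.ext ?_⟩, ⟨⟨0, by simp⟩⟩⟩
    have hx := x.2
    have hy := y.2
    rw [sq_apply, mul_self_eq_zero] at hx hy
    rw [hx, hy]
  rw [hn, hz, card_OG_sq F h2, OO_odd _ Fintype.card_pos]

end odd

end Cfsg.Agent.Lib.Helper43
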