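import Mathlib
import Cfsg.Agent.Lib.Helper43.OrthCardForms
import Cfsg.Agent.S0306

set_option autoImplicit false

namespace Cfsg.Agent.Lib.Helper43

open Module QuadraticMap Cfsg.Agent.Lib.Helper8

section minus

variable (m : ℕ) (F : Type*) [Field F] (a b : F)

theorem minusForm_single_inl (i : Fin m) :
    minusForm m F a b (Pi.single (Sum.inl (Sum.inl i)) 1) = 0 := by
  rw [← minusForm_coe]
  simp [Cfsg.quadFormMinus]

theorem minusForm_single_inr (i : Fin m) :
    minusForm m F a b (Pi.single (Sum.inl (Sum.inr i)) 1) = 0 := by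
  rw [← minusForm_coe]
  simp [Cfsg.quadFormMinus]

theorem polar_minusForm_inl (i : Fin m) (y : (Fin m ⊕ Fin m) ⊕ Fin 2 → F) :
    polar (⇑(minusForm m F a b)) (Pi.single (Sum.inl (Sum.inl i)) 1) y =
      y (Sum.inl (Sum.inr i)) := by
  rw [polar_minusForm]
  simp [Pi.single_apply, Finset.sum_add_distrib]

theorem polar_minusForm_inr (i : Fin m) (y : (Fin m ⊕ Fin m) ⊕ Fin 2 → F) :
    polar (⇑(minusForm m F a b)) (Pi.single (Sum.inl (Sum.inr i)) 1) y =
      y (Sum.inl (Sum.inl i)) := by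
  rw [polar_minusForm]
  simp [Pi.single_apply, Finset.sum_add_distrib]

/-- extension by zero from the anisotropic plane -/
def minusIncl : ((Fin 0 ⊕ Fin 0) ⊕ Fin 2 → F) →ₗ[F] ((Fin m ⊕ Fin m) ⊕ Fin 2 → F) where
  toFun y := Sum.elim 0 (fun t => y (Sum.inr t))
  map_add' := by
    intro x y
    funext t
    rcases t with t | t <;> simp
  map_smul' := by
    intro c x
    funext t
    rcases t with t | t <;> simp

theorem minusIncl_inl (y : (Fin 0 ⊕ Fin 0) ⊕ Fin 2 → F) (t : Fin m ⊕ Fin m) :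
    minusIncl m F y (Sum.inl t) = 0 := rfl

theorem minusIncl_inr (y : (Fin 0 ⊕ Fin 0) ⊕ Fin 2 → F) (t : Fin 2) :
    minusIncl m F y (Sum.inr t) = y (Sum.inr t) := rfl

theorem minus_family :
    IsHypFamily (minusForm m F a b) (minusForm 0 F a b) (minusIncl m F) m
      (fun i => Pi.single (Sum.inl (Sum.inl i)) 1) (fun i => Pi.single (Sum.inl (Sum.inr i)) 1) := by
  refine ⟨fun i => minusForm_single_inl m F a b i, fun i => minusForm_single_inr m F a b i,
    fun i i' => ?_, fun i i' => ?_, fun i i' => ?_, fun x => ?_, fun i x => ?_, fun i x => ?_, ?_⟩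
  · rw [polar_minusForm_inl]; simp
  · rw [polar_minusForm_inr]; simp
  · rw [polar_minusForm_inl]; simp [Pi.single_apply]
  · rw [← minusForm_coe, ← minusForm_coe]
    simp [Cfsg.quadFormMinus, minusIncl_inl, minusIncl_inr]
  · rw [polar_minusForm_inl]; rfl
  · rw [polar_minusForm_inr]; rfl
  · intro v hve hvf
    refine ⟨Sum.elim 0 (fun t => v (Sum.inr t)), ?_⟩
    funext t
    rcases t with (i | i) | t
    · have := hvf i
      rw [polar_minusForm_inr] at this
      rw [this]; rfl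
    · have := hve i
      rw [polar_minusForm_inl] at this
      rw [this]; rfl
    · rfl

theorem minusForm_zero_apply (x : (Fin 0 ⊕ Fin 0) ⊕ Fin 2 → F) :
    minusForm 0 F a b x =
      x (Sum.inr 0) ^ 2 + a * x (Sum.inr 0) * x (Sum.inr 1) + b * x (Sum.inr 1) ^ 2 := by
  rw [← minusForm_coe]
  simp [Cfsg.quadFormMinus]

theorem eq_zero_of_inr (x : (Fin 0 ⊕ Fin 0) ⊕ Fin 2 → F) (h0 : x (Sum.inr 0) = 0)
    (h1 : x (Sum.inr 1) = 0) : x = 0 := by
  funext t
  rcases t with (i | i) | t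
  · exact i.elim0
  · exact i.elim0
  · fin_cases t
    · exact h0
    · exact h1

theorem minusForm_zero_anisotropic
    (hab : ∀ z₁ z₂ : F, z₁ ^ 2 + a * z₁ * z₂ + b * z₂ ^ 2 = 0 → z₁ = 0 ∧ z₂ = 0)
    (x : (Fin 0 ⊕ Fin 0) ⊕ Fin 2 → F) (hx : minusForm 0 F a b x = 0) : x = 0 := by
  rw [minusForm_zero_apply] at hx
  obtain ⟨h0, h1⟩ := hab _ _ hx
  exact eq_zero_of_inr F x h0 h1

theorem minusForm_zero_nondegenerate [Fintype F]
    (hab : ∀ z₁ z₂ : F, z₁ ^ 2 + a * z₁ * z₂ + b * z₂ ^ 2 = 0 → z₁ = 0 ∧ z₂ = 0) :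
    (polarBilin (minusForm 0 F a b)).Nondegenerate := by
  by_cases h2 : (2 : F) = 0
  · have ha : a ≠ 0 := by
      intro ha
      have hchar : ringChar F = 2 :=
        CharP.ringChar_of_prime_eq_zero Nat.prime_two (by exact_mod_cast h2)
      obtain ⟨c, hc⟩ := FiniteField.isSquare_of_char_two hchar b
      have := hab c 1 (by rw [ha, hc]; linear_combination (c * c) * h2)
      exact one_ne_zero this.2
    exact minusForm_nondegenerate 0 F a b h2 ha
  · have key : ∀ x : (Fin 0 ⊕ Fin 0) ⊕ Fin 2 → F,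
        (∀ y, polar (⇑(minusForm 0 F a b)) x y = 0) → x = 0 := by
      intro x hx
      have h := hx x
      rw [polar_self, two_smul, ← two_mul] at h
      exact minusForm_zero_anisotropic F a b hab x ((mul_eq_zero.mp h).resolve_left h2)
    constructor
    · intro x hx
      exact key x hx
    · intro x hx
      apply key x
      intro y
      rw [polar_comm]
      exact hx y

/-- the order of the orthogonal group of minus type -/
theorem card_isometryGroup_minus [Fintype F]
    (hab : ∀ z₁ z₂ : F, z₁ ^ 2 + a * z₁ * z₂ + b * z₂ ^ 2 = 0 → z₁ = 0 ∧ z₂ = 0) :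
    Nat.card (Cfsg.isometryGroup F (Cfsg.quadFormMinus m F a b)) =
      2 * Fintype.card F ^ ((m + 1) * m) * (Fintype.card F ^ (m + 1) + 1) *
        ∏ i ∈ Finset.range m, (Fintype.card F ^ (2 * (i + 1)) - 1) := by
  rw [minusForm_coe, ← card_OG_eq_isometryGroup]
  obtain ⟨-, -, h3⟩ := card_OG_family (minusForm 0 F a b)
    (minusForm_zero_nondegenerate F a b hab) m _
    (minusForm m F a b) _ _ _ (minus_family m F a b)
  rw [h3]
  have hn : finrank F ((Fin 0 ⊕ Fin 0) ⊕ Fin 2 → F) = 2 := by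
    rw [Module.finrank_fintype_fun_eq_card]
    simp
  have hz : Nat.card {x : (Fin 0 ⊕ Fin 0) ⊕ Fin 2 → F // minusForm 0 F a b x = 0} = 1 := by
    rw [Nat.card_eq_one_iff_unique]
    refine ⟨⟨fun x y => Subtype.ext ?_⟩, ⟨⟨0, by simp⟩⟩⟩
    rw [minusForm_zero_anisotropic F a b hab x.1 x.2, minusForm_zero_anisotropic F a b hab y.1 y.2]
  have ho : Nat.card (OG (minusForm 0 F a b)) = 2 * (Fintype.card F + 1) := by
    rw [card_OG_eq_isometryGroup, ← minusForm_coe]
    obtain ⟨φ⟩ := Cfsg.Agent.S0306.result (F := F) rfl a b hab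
    rw [Nat.card_congr φ.toEquiv, DihedralGroup.nat_card]
  rw [hn, hz, ho, OO_minus _ Fintype.card_pos]

end minus

end Cfsg.Agent.Lib.Helper43
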