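import Mathlib
import Cfsg.Agent.Lib.Helper43.OrthCardNum
import Cfsg.Agent.Lib.Helper44.Hyperbolic

set_option autoImplicit false

namespace Cfsg.Agent.Lib.Helper43

open Module QuadraticMap

section famComb

variable {F V : Type*} [Field F] [AddCommGroup V] [Module F V] {k : ℕ}

/-- the hyperbolic relations for a family of vectors -/
structure IsHypFam (Q : QuadraticForm F V) (k : ℕ) (e f : Fin k → V) : Prop where
  qe : ∀ i, Q (e i) = 0
  qf : ∀ i, Q (f i) = 0
  ee : ∀ i i', polar Q (e i) (e i') = 0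
  ff : ∀ i i', polar Q (f i) (f i') = 0
  ef : ∀ i i', polar Q (e i) (f i') = if i = i' then 1 else 0

theorem IsHypFam.fe {Q : QuadraticForm F V} {e f : Fin k → V} (H : IsHypFam Q k e f)
    (i i' : Fin k) : polar Q (f i) (e i') = if i = i' then 1 else 0 := by
  rw [polar_comm, H.ef]
  by_cases h : i = i'
  · rw [if_pos h, if_pos h.symm]
  · rw [if_neg h, if_neg (Ne.symm h)]

/-- linear combination of a hyperbolic family -/
def famComb (e f : Fin k → V) : (Fin k ⊕ Fin k → F) →ₗ[F] V where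
  toFun c := ∑ i, c (Sum.inl i) • e i + ∑ i, c (Sum.inr i) • f i
  map_add' := by
    intro c d
    simp only [Pi.add_apply, add_smul, Finset.sum_add_distrib]
    abel
  map_smul' := by
    intro a c
    simp only [Pi.smul_apply, smul_eq_mul, mul_smul, Finset.smul_sum, smul_add, RingHom.id_apply]

theorem famComb_apply (e f : Fin k → V) (c : Fin k ⊕ Fin k → F) :
    famComb e f c = ∑ i, c (Sum.inl i) • e i + ∑ i, c (Sum.inr i) • f i := rfl

theorem polar_sum_smul (Q : QuadraticForm F V) (x : V) (a : Fin k → F) (g : Fin k → V) :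
    polar Q x (∑ i, a i • g i) = ∑ i, a i * polar Q x (g i) := by
  rw [← polarBilin_apply_apply, map_sum]
  apply Finset.sum_congr rfl
  intro i _
  rw [map_smul, smul_eq_mul, polarBilin_apply_apply]

theorem IsHypFam.polar_e_famComb {Q : QuadraticForm F V} {e f : Fin k → V}
    (H : IsHypFam Q k e f) (i : Fin k) (c : Fin k ⊕ Fin k → F) :
    polar Q (e i) (famComb e f c) = c (Sum.inr i) := by
  rw [famComb_apply, polar_add_right, polar_sum_smul, polar_sum_smul]
  simp only [H.ee, H.ef, mul_zero, Finset.sum_const_zero, zero_add, mul_ite, mul_one,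
    Finset.sum_ite_eq, Finset.mem_univ, if_true]

theorem IsHypFam.polar_f_famComb {Q : QuadraticForm F V} {e f : Fin k → V}
    (H : IsHypFam Q k e f) (i : Fin k) (c : Fin k ⊕ Fin k → F) :
    polar Q (f i) (famComb e f c) = c (Sum.inl i) := by
  rw [famComb_apply, polar_add_right, polar_sum_smul, polar_sum_smul]
  simp only [H.ff, H.fe, mul_zero, Finset.sum_const_zero, add_zero, mul_ite, mul_one,
    Finset.sum_ite_eq, Finset.mem_univ, if_true]

theorem IsHypFam.q_famComb {Q : QuadraticForm F V} {e f : Fin k → V}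
    (H : IsHypFam Q k e f) (c : Fin k ⊕ Fin k → F) :
    Q (famComb e f c) = ∑ i, c (Sum.inl i) * c (Sum.inr i) := by
  rw [famComb_apply, QuadraticMap.map_add Q,
    Cfsg.Agent.Lib.Helper44.singular_sum Q e H.qe H.ee,
    Cfsg.Agent.Lib.Helper44.singular_sum Q f H.qf H.ff, zero_add, zero_add, polar_comm,
    polar_sum_smul]
  apply Finset.sum_congr rfl
  intro i _
  have h := H.polar_e_famComb i (fun x => Sum.elim (fun _ => 0) (fun i => c (Sum.inr i)) x)
  rw [famComb_apply] at h
  simp only [Sum.elim_inl, Sum.elim_inr, zero_smul, Finset.sum_const_zero, zero_add] at h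
  rw [polar_comm, h]

end famComb

section coords

variable {F V U : Type*} [Field F] [AddCommGroup V] [Module F V] [AddCommGroup U] [Module F U]
  {k : ℕ}

theorem IsHypFam.polar_famComb_right {Q : QuadraticForm F V} {e f : Fin k → V}
    (c : Fin k ⊕ Fin k → F) (y : V) (hye : ∀ i, polar Q (e i) y = 0)
    (hyf : ∀ i, polar Q (f i) y = 0) : polar Q (famComb e f c) y = 0 := by
  rw [polar_comm, famComb_apply, polar_add_right, polar_sum_smul, polar_sum_smul]
  simp only [polar_comm Q y, hye, hyf, mul_zero, Finset.sum_const_zero, add_zero]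

theorem IsHypFam.coprod_injective {Q : QuadraticForm F V} {e f : Fin k → V}
    (H : IsHypFam Q k e f) (g : U →ₗ[F] V) (hg : Function.Injective g)
    (hge : ∀ i x, polar Q (e i) (g x) = 0) (hgf : ∀ i x, polar Q (f i) (g x) = 0) :
    Function.Injective ((famComb e f).coprod g) := by
  rw [← LinearMap.ker_eq_bot, LinearMap.ker_eq_bot']
  rintro ⟨c, x⟩ h
  rw [LinearMap.coprod_apply] at h
  have hc : c = 0 := by
    funext t
    rcases t with i | i
    · have := congrArg (fun v => polar Q (f i) v) h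
      simp only [polar_add_right, H.polar_f_famComb, hgf, add_zero, polar_zero_right] at this
      exact this
    · have := congrArg (fun v => polar Q (e i) v) h
      simp only [polar_add_right, H.polar_e_famComb, hge, add_zero, polar_zero_right] at this
      exact this
  rw [hc, map_zero, zero_add] at h
  have hx : x = 0 := hg (by rw [h, map_zero])
  rw [hc, hx]
  rfl

theorem IsHypFam.q_coprod {Q : QuadraticForm F V} {e f : Fin k → V}
    (H : IsHypFam Q k e f) (g : U →ₗ[F] V)
    (hge : ∀ i x, polar Q (e i) (g x) = 0) (hgf : ∀ i x, polar Q (f i) (g x) = 0)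
    (c : Fin k ⊕ Fin k → F) (x : U) :
    Q ((famComb e f).coprod g (c, x)) = ∑ i, c (Sum.inl i) * c (Sum.inr i) + Q (g x) := by
  rw [LinearMap.coprod_apply, QuadraticMap.map_add Q, H.q_famComb,
    IsHypFam.polar_famComb_right c (g x) (fun i => hge i x) (fun i => hgf i x), add_zero]

end coords

section wittFamily

universe u

theorem IsHypFamily.toFam {F V V₁ : Type*} [Field F] [AddCommGroup V] [Module F V]
    [AddCommGroup V₁] [Module F V₁] {Q : QuadraticForm F V} {Q₁ : QuadraticForm F V₁}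
    {j : V₁ →ₗ[F] V} {k : ℕ} {e f : Fin k → V} (H : IsHypFamily Q Q₁ j k e f) :
    IsHypFam Q k e f :=
  ⟨H.qe, H.qf, H.ee, H.ff, H.ef⟩

/-- Witt decomposition, packaged as a hyperbolic family with anisotropic complement -/
theorem witt_family {F : Type*} [Field F] [Finite F] (V : Type u) [AddCommGroup V] [Module F V]
    [FiniteDimensional F V] (Q : QuadraticForm F V) (hQ : (polarBilin Q).Nondegenerate) :
    ∃ (k : ℕ) (e f : Fin k → V) (W : Submodule F V),
      IsHypFamily Q (Q.comp W.subtype) W.subtype k e f ∧ finrank F W ≤ 2 ∧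
      (∀ w : W, (Q.comp W.subtype) w = 0 → w = 0) ∧
      (polarBilin (Q.comp W.subtype)).Nondegenerate := by
  obtain ⟨k, e, f, W, h1, h2, h3, h4, h5, h6, h7, h8⟩ := witt_decomp (finrank F V) V Q rfl hQ
  have Hfam : IsHypFam Q k e f :=
    ⟨fun i => (h1 i).1, fun i => (h1 i).2, fun i i' => (h3 i i').1, fun i i' => (h3 i i').2, h2⟩
  have hge : ∀ i (x : W), polar Q (e i) (W.subtype x) = 0 := fun i x => (h4 x.1 x.2 i).1
  have hgf : ∀ i (x : W), polar Q (f i) (W.subtype x) = 0 := fun i x => (h4 x.1 x.2 i).2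
  have hinj := Hfam.coprod_injective W.subtype W.injective_subtype hge hgf
  have hdim : finrank F ((Fin k ⊕ Fin k → F) × W) = finrank F V := by
    rw [Module.finrank_prod, Module.finrank_fintype_fun_eq_card, Fintype.card_sum,
      Fintype.card_fin]
    omega
  have hsurj : Function.Surjective ((famComb e f).coprod W.subtype) :=
    (LinearMap.injective_iff_surjective_of_finrank_eq_finrank hdim).mp hinj
  refine ⟨k, e, f, W, ⟨Hfam.qe, Hfam.qf, Hfam.ee, Hfam.ff, Hfam.ef, fun x => rfl, hge, hgf, ?_⟩,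
    h6, ?_, nondegenerate_comp_subtype Q W h8⟩
  · intro v hve hvf
    obtain ⟨⟨c, w⟩, hcw⟩ := hsurj v
    rw [LinearMap.coprod_apply] at hcw
    have hc : c = 0 := by
      funext t
      rcases t with i | i
      · have := hvf i
        rw [← hcw, polar_add_right, Hfam.polar_f_famComb, hgf, add_zero] at this
        exact this
      · have := hve i
        rw [← hcw, polar_add_right, Hfam.polar_e_famComb, hge, add_zero] at this
        exact this
    rw [hc, map_zero, zero_add] at hcw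
    exact ⟨w, hcw⟩
  · intro w hw
    apply Subtype.ext
    exact h7 w.1 w.2 hw

/-- coordinates adapted to a hyperbolic family -/
theorem IsHypFamily.exists_coords {F V V₁ κ : Type*} [Field F] [AddCommGroup V] [Module F V]
    [AddCommGroup V₁] [Module F V₁] [Fintype κ] {Q : QuadraticForm F V}
    {Q₁ : QuadraticForm F V₁} (hQ₁ : (polarBilin Q₁).Nondegenerate)
    {j : V₁ →ₗ[F] V} {k : ℕ} {e f : Fin k → V} (H : IsHypFamily Q Q₁ j k e f)
    (Θ₁ : V₁ ≃ₗ[F] (κ → F)) :
    ∃ Θ : V ≃ₗ[F] ((Fin k ⊕ Fin k) ⊕ κ → F), ∀ v,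
      Q v = ∑ i, Θ v (Sum.inl (Sum.inl i)) * Θ v (Sum.inl (Sum.inr i)) +
        Q₁ (Θ₁.symm (fun t => Θ v (Sum.inr t))) := by
  have Hfam := H.toFam
  have hinj := Hfam.coprod_injective j (H.injective hQ₁) H.ej H.fj
  have hsurj : Function.Surjective ((famComb e f).coprod j) := by
    intro v
    let c : Fin k ⊕ Fin k → F := Sum.elim (fun i => polar Q (f i) v) (fun i => polar Q (e i) v)
    obtain ⟨x, hx⟩ := H.surj (v - famComb e f c)
      (fun i => by rw [polar_sub_right, Hfam.polar_e_famComb]; simp [c])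
      (fun i => by rw [polar_sub_right, Hfam.polar_f_famComb]; simp [c])
    refine ⟨(c, x), ?_⟩
    rw [LinearMap.coprod_apply, hx]
    abel
  let Ψ : ((Fin k ⊕ Fin k → F) × V₁) ≃ₗ[F] V :=
    LinearEquiv.ofBijective ((famComb e f).coprod j) ⟨hinj, hsurj⟩
  let S : ((Fin k ⊕ Fin k) ⊕ κ → F) ≃ₗ[F] ((Fin k ⊕ Fin k → F) × V₁) :=
    (LinearEquiv.sumArrowLequivProdArrow (Fin k ⊕ Fin k) κ F F).trans
      (LinearEquiv.prodCongr (LinearEquiv.refl F _) Θ₁.symm)
  refine ⟨(S.trans Ψ).symm, fun v => ?_⟩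
  obtain ⟨c, rfl⟩ := (S.trans Ψ).surjective v
  rw [LinearEquiv.symm_apply_apply]
  show Q ((famComb e f).coprod j (S c)) = _
  have hS : S c = (fun t => c (Sum.inl t), Θ₁.symm (fun t => c (Sum.inr t))) := rfl
  rw [hS, Hfam.q_coprod j H.ej H.fj, H.qj]

end wittFamily

section classify

universe u

theorem ZZ_plus_ne_minus (q : ℕ) (hq : 2 ≤ q) (j : ℕ) : ZZ q 0 1 (j + 1) ≠ ZZ q 2 1 j := by
  have hq1 : 1 ≤ q := by omega
  rw [ZZ_plus q hq1, ZZ_minus q hq1]
  have h1 : 1 ≤ q ^ j := Nat.one_le_pow _ _ hq1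
  have h2 : 1 ≤ q ^ (j + 1) := Nat.one_le_pow _ _ hq1
  have hlt : q ^ j < q ^ (j + 1) := Nat.pow_lt_pow_right (by omega) (by omega)
  intro h
  zify [h1, h2] at h hlt
  nlinarith

theorem card_zeros_aniso {F W : Type*} [Field F] [AddCommGroup W] [Module F W]
    (Q₁ : QuadraticForm F W) (haniso : ∀ w : W, Q₁ w = 0 → w = 0) :
    Nat.card {x : W // Q₁ x = 0} = 1 := by
  rw [Nat.card_eq_one_iff_unique]
  refine ⟨⟨fun x y => Subtype.ext ?_⟩, ⟨⟨0, by simp⟩⟩⟩
  rw [haniso x.1 x.2, haniso y.1 y.2]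

/-- a nondegenerate space with the zero count of the plus type is of plus type -/
theorem classify_plus {F : Type*} [Field F] [Fintype F] (V : Type u) [AddCommGroup V] [Module F V]
    [FiniteDimensional F V] (Q : QuadraticForm F V) (hQ : (polarBilin Q).Nondegenerate) (M : ℕ)
    (hdim : finrank F V = 2 * M)
    (hZ : Nat.card {v : V // Q v = 0} = ZZ (Fintype.card F) 0 1 M) :
    ∃ Θ : V ≃ₗ[F] (Fin M ⊕ Fin M → F), ∀ v, Cfsg.quadFormPlus M F (Θ v) = Q v := by
  obtain ⟨k, e, f, W, H, hW2, haniso, hnd⟩ := witt_family V Q hQ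
  obtain ⟨hd, hz, -⟩ := card_OG_family (Q.comp W.subtype) hnd k V Q W.subtype e f H
  rw [card_zeros_aniso _ haniso] at hz
  have hcases : finrank F W = 0 ∨ finrank F W = 1 ∨ finrank F W = 2 := by omega
  rcases hcases with h0 | h1 | h2
  · have hk : k = M := by omega
    subst hk
    exact Cfsg.Agent.Lib.Helper44.hyperbolic_coords k V Q hdim e f H.qe H.qf H.ee H.ff H.ef
  · omega
  · exfalso
    have hk : M = k + 1 := by omega
    rw [h2] at hz
    rw [hk, hz] at hZ
    exact ZZ_plus_ne_minus _ Fintype.one_lt_card k hZ.symm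

theorem aniso_plane_coords (W : Type*) [AddCommGroup W] [Module (ZMod 2) W]
    [FiniteDimensional (ZMod 2) W] (Q₁ : QuadraticForm (ZMod 2) W)
    (hd : finrank (ZMod 2) W = 2) (haniso : ∀ w : W, Q₁ w = 0 → w = 0) :
    ∃ Θ₁ : W ≃ₗ[ZMod 2] (Fin 2 → ZMod 2), ∀ z : Fin 2 → ZMod 2,
      Q₁ (Θ₁.symm z) = z 0 ^ 2 + 1 * z 0 * z 1 + 1 * z 1 ^ 2 := by
  let b : Basis (Fin 2) (ZMod 2) W := Module.finBasisOfFinrankEq (ZMod 2) W hd
  have one_of_ne : ∀ x : ZMod 2, x ≠ 0 → x = 1 := by decide
  have hb0 : Q₁ (b 0) = 1 := one_of_ne _ (fun h => b.ne_zero 0 (haniso _ h))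
  have hb1 : Q₁ (b 1) = 1 := one_of_ne _ (fun h => b.ne_zero 1 (haniso _ h))
  have hb01 : Q₁ (b 0 + b 1) = 1 := by
    apply one_of_ne
    intro h
    have h0 := haniso _ h
    have hli := b.linearIndependent
    rw [Fintype.linearIndependent_iff] at hli
    have := hli (fun _ => 1) (by rw [Fin.sum_univ_two]; simpa using h0) 0
    exact one_ne_zero this
  have hpol : polar Q₁ (b 0) (b 1) = 1 := by
    rw [polar, hb01, hb0, hb1]
    decide
  refine ⟨b.equivFun, fun z => ?_⟩
  rw [Basis.equivFun_symm_apply, Fin.sum_univ_two, QuadraticMap.map_add Q₁,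
    QuadraticMap.map_smul, QuadraticMap.map_smul, polar_smul_left, polar_smul_right, hb0, hb1,
    hpol]
  simp only [smul_eq_mul, mul_one]
  ring

/-- a nondegenerate space over the field of two elements with the zero count of the minus type
is of minus type -/
theorem classify_minus (V : Type u) [AddCommGroup V] [Module (ZMod 2) V]
    [FiniteDimensional (ZMod 2) V] (Q : QuadraticForm (ZMod 2) V)
    (hQ : (polarBilin Q).Nondegenerate) (M : ℕ)
    (hdim : finrank (ZMod 2) V = 2 * M + 2)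
    (hZ : Nat.card {v : V // Q v = 0} = ZZ 2 2 1 M) :
    ∃ Θ : V ≃ₗ[ZMod 2] ((Fin M ⊕ Fin M) ⊕ Fin 2 → ZMod 2),
      ∀ v, Cfsg.quadFormMinus M (ZMod 2) 1 1 (Θ v) = Q v := by
  obtain ⟨k, e, f, W, H, hW2, haniso, hnd⟩ := witt_family V Q hQ
  obtain ⟨hd, hz, -⟩ := card_OG_family (Q.comp W.subtype) hnd k V Q W.subtype e f H
  rw [card_zeros_aniso _ haniso, ZMod.card] at hz
  have hcases : finrank (ZMod 2) W = 0 ∨ finrank (ZMod 2) W = 1 ∨ finrank (ZMod 2) W = 2 := by
    omega
  rcases hcases with h0 | h1 | h2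
  · exfalso
    have hk : k = M + 1 := by omega
    rw [h0, hk] at hz
    rw [hz] at hZ
    exact ZZ_plus_ne_minus 2 le_rfl M hZ
  · omega
  · have hk : k = M := by omega
    subst hk
    obtain ⟨Θ₁, hΘ₁⟩ := aniso_plane_coords W (Q.comp W.subtype) h2 haniso
    obtain ⟨Θ, hΘ⟩ := H.exists_coords hnd Θ₁
    refine ⟨Θ, fun v => ?_⟩
    rw [hΘ v, hΘ₁]
    rfl

end classify

end Cfsg.Agent.Lib.Helper43
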