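import Mathlib
import Cfsg.Agent.Lib.Helper41.SpBNDefs

/-! # S2545 hive (helper41), leaf WEYL: the centraliser of `Sum.swap` in `Perm (Fin m ⊕ Fin m)` is generated
by the simple generators (helper43) -/

set_option autoImplicit false

namespace Cfsg.Agent.Lib.Helper41.SpBN

open Equiv

variable {m : ℕ}

theorem weyl_apply_inv {α : Type*} (f : Equiv.Perm α) (x : α) : f (f⁻¹ x) = x := f.apply_symm_apply x

theorem weyl_inv_apply {α : Type*} (f : Equiv.Perm α) (x : α) : f⁻¹ (f x) = x := f.symm_apply_apply x

/-- the subgroup generated by the simple generators -/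
def weyl_H (m : ℕ) : Subgroup (Equiv.Perm (Idx m)) :=
  Subgroup.closure {σ : Equiv.Perm (Idx m) | IsSimpleGen σ}

/-- the projection `Fin m ⊕ Fin m → Fin m` -/
def weyl_proj : Idx m → Fin m := Sum.elim id id

@[simp] theorem weyl_proj_inl (i : Fin m) : weyl_proj (Sum.inl i : Idx m) = i := rfl
@[simp] theorem weyl_proj_inr (i : Fin m) : weyl_proj (Sum.inr i : Idx m) = i := rfl
@[simp] theorem weyl_proj_swap (a : Idx m) : weyl_proj a.swap = weyl_proj a := by
  cases a <;> rfl

theorem weyl_eq_of_proj {a : Idx m} {i : Fin m} (h : weyl_proj a = i) :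
    a = Sum.inl i ∨ a = Sum.inr i := by
  cases a with
  | inl j => left; simp only [weyl_proj_inl] at h; rw [h]
  | inr j => right; simp only [weyl_proj_inr] at h; rw [h]

theorem weyl_sumCongr_swap (a b : Fin m) :
    Equiv.Perm.sumCongr (Equiv.swap a b) (Equiv.swap a b) = simpleShort a b := by
  unfold simpleShort
  rw [← Equiv.Perm.sumCongr_swap_refl, ← Equiv.Perm.sumCongr_refl_swap, Equiv.Perm.sumCongr_mul]
  rfl

/-- the diagonal copy of `Perm (Fin m)` lies in the generated subgroup -/
theorem weyl_short_mem (τ : Equiv.Perm (Fin m)) : Equiv.Perm.sumCongr τ τ ∈ weyl_H m := by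
  cases m with
  | zero =>
    have : Equiv.Perm.sumCongr τ τ = 1 := Subsingleton.elim _ _
    rw [this]
    exact Subgroup.one_mem _
  | succ n =>
    have hτ : τ ∈ Submonoid.closure
        (Set.range fun i : Fin n => Equiv.swap i.castSucc i.succ) := by
      rw [Equiv.Perm.mclosure_swap_castSucc_succ]
      trivial
    induction hτ using Submonoid.closure_induction with
    | mem x hx =>
      obtain ⟨i, rfl⟩ := hx
      rw [weyl_sumCongr_swap]
      refine Subgroup.subset_closure (Or.inl ⟨i.castSucc, i.succ, ?_, rfl⟩)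
      simp
    | one =>
      rw [Equiv.Perm.sumCongr_one]
      exact Subgroup.one_mem _
    | mul x y _ _ hx hy =>
      rw [← Equiv.Perm.sumCongr_mul]
      exact Subgroup.mul_mem _ hx hy

/-- every flip `(e_i f_i)` lies in the generated subgroup -/
theorem weyl_flip_mem (i : Fin m) :
    Equiv.swap (Sum.inl i : Idx m) (Sum.inr i) ∈ weyl_H m := by
  have hm : 0 < m := Fin.pos i
  set k : Fin m := ⟨m - 1, by omega⟩ with hk
  have hk1 : (k : ℕ) + 1 = m := by simp only [hk]; omega
  have h1 : simpleLong k ∈ weyl_H m := Subgroup.subset_closure (Or.inr ⟨k, hk1, rfl⟩)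
  set g : Equiv.Perm (Idx m) := Equiv.Perm.sumCongr (Equiv.swap i k) (Equiv.swap i k) with hg
  have h2 : g ∈ weyl_H m := weyl_short_mem _
  have h3 : g * simpleLong k * g⁻¹ = Equiv.swap (Sum.inl i : Idx m) (Sum.inr i) := by
    unfold simpleLong
    rw [← Equiv.swap_apply_apply]
    have e1 : g (Sum.inl k) = Sum.inl i := by
      simp [hg]
    have e2 : g (Sum.inr k) = Sum.inr i := by
      simp [hg]
    rw [e1, e2]
  rw [← h3]
  exact Subgroup.mul_mem _ (Subgroup.mul_mem _ h2 h1) (Subgroup.inv_mem _ h2)

theorem weyl_flip_comm (i : Fin m) (a : Idx m) :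
    Equiv.swap (Sum.inl i : Idx m) (Sum.inr i) a.swap =
      (Equiv.swap (Sum.inl i : Idx m) (Sum.inr i) a).swap := by
  rcases a with j | j
  · by_cases h : j = i
    · subst h
      simp
    · have h1 : (Sum.inl j : Idx m) ≠ Sum.inl i := fun e => h (Sum.inl.inj e)
      have h2 : (Sum.inr j : Idx m) ≠ Sum.inr i := fun e => h (Sum.inr.inj e)
      rw [Sum.swap_inl, Equiv.swap_apply_of_ne_of_ne (by simp) h2,
        Equiv.swap_apply_of_ne_of_ne h1 (by simp), Sum.swap_inl]
  · by_cases h : j = i
    · subst h
      simp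
    · have h1 : (Sum.inl j : Idx m) ≠ Sum.inl i := fun e => h (Sum.inl.inj e)
      have h2 : (Sum.inr j : Idx m) ≠ Sum.inr i := fun e => h (Sum.inr.inj e)
      rw [Sum.swap_inr, Equiv.swap_apply_of_ne_of_ne h1 (by simp),
        Equiv.swap_apply_of_ne_of_ne (by simp) h2, Sum.swap_inr]

theorem weyl_flip_proj (i : Fin m) (a : Idx m) :
    weyl_proj (Equiv.swap (Sum.inl i : Idx m) (Sum.inr i) a) = weyl_proj a := by
  rw [Equiv.swap_apply_def]
  split_ifs with h1 h2
  · rw [h1]; rfl
  · rw [h2]; rfl
  · rfl

/-- a permutation commuting with `Sum.swap` and preserving the projection is a product of flips -/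
theorem weyl_flips (A : Finset (Fin m)) :
    ∀ π : Equiv.Perm (Idx m), (∀ a, π a.swap = (π a).swap) → (∀ a, weyl_proj (π a) = weyl_proj a) →
      (∀ i : Fin m, π (Sum.inl i) ≠ Sum.inl i → i ∈ A) → π ∈ weyl_H m := by
  classical
  induction A using Finset.induction_on with
  | empty =>
    intro π hπ _ hA
    have h1 : ∀ i : Fin m, π (Sum.inl i) = Sum.inl i := by
      intro i
      by_contra h
      exact absurd (hA i h) (Finset.notMem_empty i)
    have : π = 1 := by
      ext a
      rcases a with i | i
      · rw [h1 i]; rfl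
      · have := hπ (Sum.inl i)
        rw [Sum.swap_inl, h1 i, Sum.swap_inl] at this
        rw [this]; rfl
    rw [this]
    exact Subgroup.one_mem _
  | insert i A hi IH =>
    intro π hπ hp hA
    by_cases h : π (Sum.inl i) = Sum.inl i
    · apply IH π hπ hp
      intro j hj
      rcases Finset.mem_insert.mp (hA j hj) with rfl | h'
      · exact absurd h hj
      · exact h'
    · have hi' : π (Sum.inl i) = Sum.inr i := by
        rcases weyl_eq_of_proj (hp (Sum.inl i)) with h' | h'
        · exact absurd h' h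
        · exact h'
      set f : Equiv.Perm (Idx m) := Equiv.swap (Sum.inl i : Idx m) (Sum.inr i) with hf
      have hmem : f * π ∈ weyl_H m := by
        apply IH (f * π)
        · intro a
          rw [Equiv.Perm.mul_apply, Equiv.Perm.mul_apply, hπ a, hf, weyl_flip_comm]
        · intro a
          rw [Equiv.Perm.mul_apply, hf, weyl_flip_proj, hp a]
        · intro j hj
          by_cases hji : j = i
          · subst hji
            exfalso
            apply hj
            rw [Equiv.Perm.mul_apply, hi', hf, Equiv.swap_apply_right]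
          · have h2 : π (Sum.inl j) ≠ Sum.inl j := by
              intro e
              apply hj
              rw [Equiv.Perm.mul_apply, e, hf]
              exact Equiv.swap_apply_of_ne_of_ne (fun e' => hji (Sum.inl.inj e')) (by simp)
            rcases Finset.mem_insert.mp (hA j h2) with h' | h'
            · exact absurd h' hji
            · exact h'
      have : π = f * (f * π) := by
        rw [← mul_assoc, hf, Equiv.swap_mul_self, one_mul]
      rw [this]
      exact Subgroup.mul_mem _ (weyl_flip_mem i) hmem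

theorem weyl_comm_inv {π : Equiv.Perm (Idx m)} (hπ : ∀ a, π a.swap = (π a).swap) :
    ∀ a, π⁻¹ a.swap = (π⁻¹ a).swap := by
  intro a
  apply π.injective
  rw [hπ, weyl_apply_inv, weyl_apply_inv]

theorem weyl_proj_apply {ρ : Equiv.Perm (Idx m)} (hρ : ∀ a, ρ a.swap = (ρ a).swap) (a : Idx m) :
    weyl_proj (ρ a) = weyl_proj (ρ (Sum.inl (weyl_proj a))) := by
  rcases a with i | i
  · rfl
  · have := hρ (Sum.inl i)
    rw [Sum.swap_inl] at this
    rw [this, weyl_proj_swap]
    rfl

/-- the permutation of `Fin m` induced by a permutation commuting with `Sum.swap` -/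
def weyl_tau (π : Equiv.Perm (Idx m)) (hπ : ∀ a, π a.swap = (π a).swap) : Equiv.Perm (Fin m) where
  toFun i := weyl_proj (π (Sum.inl i))
  invFun i := weyl_proj (π⁻¹ (Sum.inl i))
  left_inv i := by
    change weyl_proj (π⁻¹ (Sum.inl (weyl_proj (π (Sum.inl i))))) = i
    rw [← weyl_proj_apply (weyl_comm_inv hπ), weyl_inv_apply]
    rfl
  right_inv i := by
    change weyl_proj (π (Sum.inl (weyl_proj (π⁻¹ (Sum.inl i))))) = i
    rw [← weyl_proj_apply hπ, weyl_apply_inv]
    rfl

/-- LEAF WEYL (pure permutations): the centraliser of `Sum.swap` in `Perm (Fin m ⊕ Fin m)` is generated by the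
simple generators. -/
theorem weyl_gen (π : Equiv.Perm (Idx m)) (hπ : ∀ a, π a.swap = (π a).swap) :
    π ∈ Subgroup.closure {σ : Equiv.Perm (Idx m) | IsSimpleGen σ} := by
  change π ∈ weyl_H m
  set τ := weyl_tau π hπ with hτ
  set g : Equiv.Perm (Idx m) := Equiv.Perm.sumCongr τ τ with hg
  have hgm : g ∈ weyl_H m := weyl_short_mem τ
  have hgc : ∀ a, g a.swap = (g a).swap := by
    intro a
    rcases a with i | i <;> rfl
  have hgp : ∀ a, weyl_proj (g⁻¹ a) = τ⁻¹ (weyl_proj a) := by
    intro a
    rcases a with i | i <;> rfl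
  have hπp : ∀ a, weyl_proj (π a) = τ (weyl_proj a) := by
    intro a
    rw [weyl_proj_apply hπ]
    rfl
  have hmem : g⁻¹ * π ∈ weyl_H m := by
    apply weyl_flips Finset.univ (g⁻¹ * π)
    · intro a
      rw [Equiv.Perm.mul_apply, Equiv.Perm.mul_apply, hπ a, weyl_comm_inv hgc]
    · intro a
      rw [Equiv.Perm.mul_apply, hgp, hπp, weyl_inv_apply]
    · intro i _
      exact Finset.mem_univ i
  have : π = g * (g⁻¹ * π) := by
    rw [mul_inv_cancel_left]
  rw [this]
  exact Subgroup.mul_mem _ hgm hmem

end Cfsg.Agent.Lib.Helper41.SpBN
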