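import Mathlib
import Cfsg.Prelude.Def_Transfer
import Cfsg.Agent.Lib.Helper15.CycSylDefs

set_option autoImplicit false
set_option linter.unusedSectionVars false
set_option linter.unusedVariables false

/-!
# S4016 hive, leaf W6: `⟨u⟩` acts semiregularly on `L`
-/

namespace Cfsg.Agent.Lib.Helper15.CycSyl

open Subgroup

variable {G : Type*} [Group G] [Finite G] {p : ℕ} [Fact p.Prime]

/-- a `p`-element whose order is coprime to `p` is trivial -/
theorem w6_eq_one_of_pow_of_coprime {x : G} (hx : ∃ k : ℕ, x ^ p ^ k = 1)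
    (hxo : (orderOf x).Coprime p) : x = 1 := by
  obtain ⟨k, hk⟩ := hx
  have h1 : orderOf x ∣ p ^ k := orderOf_dvd_of_pow_eq_one hk
  have h2 : (orderOf x).Coprime (p ^ k) := hxo.pow_right k
  have : orderOf x = 1 := Nat.Coprime.eq_one_of_dvd h2 h1
  exact orderOf_eq_one_iff.mp this

theorem w6_pow_of_mem_sylow (P' : Sylow p G) {x : G} (hx : x ∈ (P' : Subgroup G)) :
    ∃ k : ℕ, x ^ p ^ k = 1 := by
  obtain ⟨k, hk⟩ := P'.isPGroup' ⟨x, hx⟩
  exact ⟨k, by simpa using congrArg Subtype.val hk⟩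

theorem w6_coprime_of_mem {L : Subgroup G} (hL : (Nat.card L).Coprime p) {y : G} (hy : y ∈ L) :
    (orderOf y).Coprime p :=
  Nat.Coprime.coprime_dvd_left (L.orderOf_dvd_natCard hy) hL

/-- a `p`-element lies in a Sylow `p`-subgroup -/
theorem w6_exists_sylow {v : G} (hv : ∃ k : ℕ, v ^ p ^ k = 1) :
    ∃ P' : Sylow p G, v ∈ (P' : Subgroup G) := by
  obtain ⟨k, hk⟩ := hv
  have hzp : IsPGroup p (zpowers v) := by
    rintro ⟨g, hg⟩
    obtain ⟨i, rfl⟩ := Subgroup.mem_zpowers_iff.mp hg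
    refine ⟨k, Subtype.ext ?_⟩
    show (v ^ i) ^ p ^ k = 1
    rw [← zpow_natCast, ← zpow_mul, mul_comm, zpow_mul, zpow_natCast, hk, one_zpow]
  obtain ⟨P', hP'⟩ := hzp.exists_le_sylow
  exact ⟨P', hP' (mem_zpowers v)⟩

/-- [W6] -/
theorem Local.semireg (h : Local p G) (P : Sylow p G) (L : Subgroup G) (u : G)
    (hc : TConf p P L u) :
    ∀ v ∈ zpowers u, v ≠ 1 → ∀ y ∈ L, v * y = y * v → y = 1 := by
  intro v hv hv1 y hy hvy
  by_contra hy1
  obtain ⟨k, hk⟩ := hc.upow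
  have hvp : v ^ p ^ k = 1 := by
    obtain ⟨i, rfl⟩ := Subgroup.mem_zpowers_iff.mp hv
    rw [← zpow_natCast, ← zpow_mul, mul_comm, zpow_mul, zpow_natCast, hk, one_zpow]
  obtain ⟨P', hvP'⟩ := w6_exists_sylow (p := p) ⟨k, hvp⟩
  have hLab := h.ab L hc.cop
  have hyo : (orderOf y).Coprime p := w6_coprime_of_mem hc.cop hy
  have hyC : y ∈ centralizer ((P' : Subgroup G) : Set G) :=
    h.f1 P' v hvP' hv1 y (show Commute y v from hvy.symm) hyo
  have hCy : centralizer ({y} : Set G) = normalizer ((P' : Subgroup G) : Set G) :=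
    h.f2 P' y hyC hy1 hyo
  have hLN : L ≤ normalizer ((P' : Subgroup G) : Set G) := by
    rw [← hCy]
    intro l hl
    rw [Subgroup.mem_centralizer_iff]
    intro z hz
    rw [Set.mem_singleton_iff] at hz
    subst hz
    exact hLab z hy l hl
  have hvL : v ∈ normalizer (L : Set G) := by
    have : zpowers u ≤ normalizer (L : Set G) := (zpowers_le).mpr hc.un
    exact this hv
  have hvC : v ∈ centralizer (L : Set G) := by
    rw [Subgroup.mem_centralizer_iff]
    intro l hl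
    have h1 : v * l * v⁻¹ ∈ L := (mem_set_normalizer_iff.mp hvL l).mp hl
    have h2 : l * v⁻¹ * l⁻¹ ∈ (P' : Subgroup G) :=
      (mem_set_normalizer_iff.mp (hLN hl) v⁻¹).mp (inv_mem hvP')
    have h3 : v * l * v⁻¹ * l⁻¹ ∈ L := L.mul_mem h1 (L.inv_mem hl)
    have h4 : v * l * v⁻¹ * l⁻¹ ∈ (P' : Subgroup G) := by
      have : v * l * v⁻¹ * l⁻¹ = v * (l * v⁻¹ * l⁻¹) := by group
      rw [this]
      exact mul_mem hvP' h2
    have h5 : v * l * v⁻¹ * l⁻¹ = 1 :=
      w6_eq_one_of_pow_of_coprime (p := p) (w6_pow_of_mem_sylow P' h4)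
        (w6_coprime_of_mem hc.cop h3)
    calc l * v = (v * l * v⁻¹ * l⁻¹)⁻¹ * (v * l) := by group
      _ = v * l := by rw [h5, inv_one, one_mul]
  have hvL' : v ∈ L := hc.self hvC
  exact hv1 (w6_eq_one_of_pow_of_coprime (p := p) ⟨k, hvp⟩ (w6_coprime_of_mem hc.cop hvL'))

end Cfsg.Agent.Lib.Helper15.CycSyl
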