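import Cfsg.Agent.Lib.Helper43.WittClass
import Cfsg.Agent.Lib.Helper43.OrthCardMinus
import Cfsg.Agent.Lib.Helper44.Minus

/-!
# Zero counts of quadratic forms: congruences, standard forms, classification
-/

set_option autoImplicit false

namespace Cfsg.Agent.Lib.Helper43.ZeroCount

open Module QuadraticMap Cfsg.Agent.Lib.Helper43 Cfsg.Agent.Lib.Helper8

universe u

section congruence

/-- a map of prime order `r` preserving a function: the zero count is congruent mod `r` to the
number of fixed zeros -/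
theorem card_zeros_modEq {V R : Type*} [Finite V] [Zero R] (Qf : V → R) (g : V → V) (r : ℕ)
    [Fact r.Prime] (hg : ∀ v, g^[r] v = v) (hQ : ∀ v, Qf (g v) = Qf v) :
    Nat.card {v : V // Qf v = 0} ≡ Nat.card {v : V // Qf v = 0 ∧ g v = v} [MOD r] := by
  classical
  have := Fintype.ofFinite V
  let f : Function.End {v : V // Qf v = 0} := fun v => ⟨g v.1, by rw [hQ]; exact v.2⟩
  have hfpow : ∀ n : ℕ, ∀ v : {v : V // Qf v = 0}, ((f ^ n) v : V) = g^[n] v.1 := by
    intro n
    induction n with
    | zero => intro v; rfl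
    | succ n ih =>
      intro v
      rw [pow_succ', Function.iterate_succ_apply']
      show g ((f ^ n) v : V) = _
      rw [ih]
  have hf : f ^ r ^ 1 = 1 := by
    rw [pow_one]
    funext v
    apply Subtype.ext
    rw [hfpow, hg]
    rfl
  have h := Equiv.Perm.card_fixedPoints_modEq (p := r) (n := 1) hf
  rw [Nat.card_eq_fintype_card]
  refine h.trans ?_
  rw [← Nat.card_eq_fintype_card]
  have he : Nat.card ↥(Function.fixedPoints f) =
      Nat.card {v : V // Qf v = 0 ∧ g v = v} := by
    apply Nat.card_congr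
    exact ⟨fun v => ⟨v.1.1, v.1.2, congrArg Subtype.val v.2⟩,
      fun v => ⟨⟨v.1, v.2.1⟩, Subtype.ext v.2.2⟩, fun v => rfl, fun v => rfl⟩
  rw [he]

end congruence

section standard
variable (F : Type*) [Field F] [Fintype F]

theorem card_zeros_zero_form :
    Nat.card {x : Fin 0 → F // (0 : QuadraticForm F (Fin 0 → F)) x = 0} = 1 := by
  rw [Nat.card_eq_one_iff_unique]
  exact ⟨⟨fun x y => Subtype.ext (Subsingleton.elim _ _)⟩, ⟨⟨0, by simp⟩⟩⟩

theorem zero_form_nondegenerate :
    (polarBilin (0 : QuadraticForm F (Fin 0 → F))).Nondegenerate :=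
  ⟨fun x _ => Subsingleton.elim _ _, fun x _ => Subsingleton.elim _ _⟩

/-- the zero count of the standard plus form -/
theorem card_zeros_plus (m : ℕ) :
    Nat.card {v : Fin m ⊕ Fin m → F // plusForm m F v = 0} = ZZ (Fintype.card F) 0 1 m := by
  obtain ⟨-, h2, -⟩ := card_OG_family (0 : QuadraticForm F (Fin 0 → F))
    (zero_form_nondegenerate F) m _ (plusForm m F) _ _ _ (plus_family m F)
  rw [h2, card_zeros_zero_form]
  congr 1
  simp

variable (a c : F) (hac : ∀ z₁ z₂ : F, z₁ ^ 2 + a * z₁ * z₂ + c * z₂ ^ 2 = 0 → z₁ = 0 ∧ z₂ = 0)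
include hac

theorem minusForm_nondeg (m : ℕ) : (polarBilin (minusForm m F a c)).Nondegenerate :=
  (minus_family m F a c).nondegenerate (minusForm_zero_nondegenerate F a c hac)

/-- the zero count of the standard minus form -/
theorem card_zeros_minus (m : ℕ) :
    Nat.card {v : (Fin m ⊕ Fin m) ⊕ Fin 2 → F // minusForm m F a c v = 0} =
      ZZ (Fintype.card F) 2 1 m := by
  obtain ⟨-, h2, -⟩ := card_OG_family (minusForm 0 F a c)
    (minusForm_zero_nondegenerate F a c hac) m _ (minusForm m F a c) _ _ _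
    (minus_family m F a c)
  rw [h2]
  have hn : finrank F ((Fin 0 ⊕ Fin 0) ⊕ Fin 2 → F) = 2 := by
    rw [Module.finrank_fintype_fun_eq_card]
    simp
  have hz : Nat.card {x : (Fin 0 ⊕ Fin 0) ⊕ Fin 2 → F // minusForm 0 F a c x = 0} = 1 := by
    rw [Nat.card_eq_one_iff_unique]
    refine ⟨⟨fun x y => Subtype.ext ?_⟩, ⟨⟨0, by simp⟩⟩⟩
    rw [minusForm_zero_anisotropic F a c hac x.1 x.2, minusForm_zero_anisotropic F a c hac y.1 y.2]
  rw [hn, hz]

end standard

section dichotomy
variable {F : Type*} [Field F] [Fintype F]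

/-- the zero count of a nondegenerate even-dimensional space is of plus or of minus type -/
theorem card_zeros_dichotomy (V : Type u) [AddCommGroup V] [Module F V] [FiniteDimensional F V]
    (Q : QuadraticForm F V) (hQ : (polarBilin Q).Nondegenerate) (M : ℕ)
    (hdim : finrank F V = 2 * M) :
    Nat.card {v : V // Q v = 0} = ZZ (Fintype.card F) 0 1 M ∨
      (1 ≤ M ∧ Nat.card {v : V // Q v = 0} = ZZ (Fintype.card F) 2 1 (M - 1)) := by
  obtain ⟨k, e, f, W, H, hW2, haniso, hnd⟩ := witt_family V Q hQ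
  obtain ⟨hd, hz, -⟩ := card_OG_family (Q.comp W.subtype) hnd k V Q W.subtype e f H
  rw [card_zeros_aniso _ haniso] at hz
  have hcases : finrank F W = 0 ∨ finrank F W = 1 ∨ finrank F W = 2 := by omega
  rcases hcases with h0 | h1 | h2
  · left
    have hk : k = M := by omega
    rw [hz, h0, hk]
  · omega
  · right
    have hk : k = M - 1 := by omega
    refine ⟨by omega, ?_⟩
    rw [hz, h2, hk]

end dichotomy

section tower

/-- composing towers of hyperbolic planes -/
theorem ZZ_add (q n₀ z₀ j : ℕ) : ∀ k : ℕ, ZZ q (n₀ + 2 * j) (ZZ q n₀ z₀ j) k = ZZ q n₀ z₀ (j + k)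
  | 0 => rfl
  | k + 1 => by
    rw [ZZ_succ, ZZ_add q n₀ z₀ j k, show j + (k + 1) = (j + k) + 1 from rfl, ZZ_succ]
    congr 3
    ring

end tower

end Cfsg.Agent.Lib.Helper43.ZeroCount
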