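import Cfsg.Agent.Lib.Helper43.ZeroCount

/-!
# Classification of minus type spaces over an arbitrary finite field
-/

set_option autoImplicit false

namespace Cfsg.Agent.Lib.Helper43.ZeroCount

open Module QuadraticMap Polynomial Cfsg.Agent.Lib.Helper43 Cfsg.Agent.Lib.Helper8

universe u

/-- a quadratic extension in the same universe -/
theorem exists_quad_ext {F : Type u} [Field F] (a b : F)
    (hab : ∀ z₁ z₂ : F, z₁ ^ 2 + a * z₁ * z₂ + b * z₂ ^ 2 = 0 → z₁ = 0 ∧ z₂ = 0) :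
    ∃ (K : Type u) (_ : Field K) (_ : Algebra F K), finrank F K = 2 := by
  have hdeg : degree (C a * X + C b : F[X]) < ((2 : ℕ) : WithBot ℕ) :=
    lt_of_le_of_lt degree_linear_le (by norm_num)
  have hmonic : (X ^ 2 + (C a * X + C b) : F[X]).Monic := monic_X_pow_add hdeg
  have hnat : (X ^ 2 + (C a * X + C b) : F[X]).natDegree = 2 := by
    rw [natDegree_add_eq_left_of_degree_lt (by rw [degree_X_pow]; exact hdeg), natDegree_X_pow]
  have hirr : Irreducible (X ^ 2 + (C a * X + C b) : F[X]) := by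
    rw [hmonic.irreducible_iff_roots_eq_zero_of_degree_le_three (by rw [hnat])
      (by rw [hnat]; norm_num)]
    apply Multiset.eq_zero_of_forall_notMem
    intro x hx
    rw [mem_roots hmonic.ne_zero, IsRoot.def] at hx
    simp only [eval_add, eval_pow, eval_X, eval_mul, eval_C] at hx
    have := (hab x 1 (by rw [← hx]; ring)).2
    exact one_ne_zero this
  haveI : Fact (Irreducible (X ^ 2 + (C a * X + C b) : F[X])) := ⟨hirr⟩
  refine ⟨AdjoinRoot (X ^ 2 + (C a * X + C b) : F[X]), inferInstance, inferInstance, ?_⟩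
  rw [(AdjoinRoot.powerBasis hmonic.ne_zero).finrank, AdjoinRoot.powerBasis_dim, hnat]

variable {F : Type u} [Field F] [Fintype F]

/-- all anisotropic planes over a finite field are isometric to a given one -/
theorem aniso_plane_coords_gen (a c : F)
    (hac : ∀ z₁ z₂ : F, z₁ ^ 2 + a * z₁ * z₂ + c * z₂ ^ 2 = 0 → z₁ = 0 ∧ z₂ = 0)
    (W : Type*) [AddCommGroup W] [Module F W] [FiniteDimensional F W] (Q₁ : QuadraticForm F W)
    (hd : finrank F W = 2) (haniso : ∀ w : W, Q₁ w = 0 → w = 0) :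
    ∃ Θ₁ : W ≃ₗ[F] (Fin 2 → F), ∀ z : Fin 2 → F,
      Q₁ (Θ₁.symm z) = z 0 ^ 2 + a * z 0 * z 1 + c * z 1 ^ 2 := by
  classical
  let b : Basis (Fin 2) F W := Module.finBasisOfFinrankEq F W hd
  set α := Q₁ (b 0) with hα
  set β := polar Q₁ (b 0) (b 1) with hβ
  set γ := Q₁ (b 1) with hγ
  have hα0 : α ≠ 0 := fun h => b.ne_zero 0 (haniso _ h)
  have hcomb : ∀ y : Fin 2 → F, Q₁ (b.equivFun.symm y) =
      α * y 0 ^ 2 + β * y 0 * y 1 + γ * y 1 ^ 2 := by
    intro y
    rw [Basis.equivFun_symm_apply, Fin.sum_univ_two, QuadraticMap.map_add Q₁,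
      QuadraticMap.map_smul, QuadraticMap.map_smul, polar_smul_left, polar_smul_right]
    simp only [smul_eq_mul]
    ring
  have hac' : ∀ z₁ z₂ : F, z₁ ^ 2 + (β / α) * z₁ * z₂ + (γ / α) * z₂ ^ 2 = 0 →
      z₁ = 0 ∧ z₂ = 0 := by
    intro z₁ z₂ h
    have h1 : Q₁ (b.equivFun.symm ![z₁, z₂]) = 0 := by
      rw [hcomb]
      simp only [Matrix.cons_val_zero, Matrix.cons_val_one]
      have : α * z₁ ^ 2 + β * z₁ * z₂ + γ * z₂ ^ 2 =
          α * (z₁ ^ 2 + (β / α) * z₁ * z₂ + (γ / α) * z₂ ^ 2) := by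
        field_simp
      rw [this, h, mul_zero]
    have h2 := haniso _ h1
    have h3 : (![z₁, z₂] : Fin 2 → F) = 0 := by
      have := congrArg b.equivFun h2
      rwa [LinearEquiv.apply_symm_apply, map_zero] at this
    have h4 := congrFun h3 0
    have h5 := congrFun h3 1
    simp only [Matrix.cons_val_zero, Matrix.cons_val_one, Pi.zero_apply] at h4 h5
    exact ⟨h4, h5⟩
  obtain ⟨K, hKf, hKa, hfr⟩ := exists_quad_ext a c hac
  have hfd : FiniteDimensional F K := Module.finite_of_finrank_pos (by rw [hfr]; norm_num)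
  have hfin : Finite K := Module.finite_of_finite F
  have := Fintype.ofFinite K
  have hK : Fintype.card K = Fintype.card F ^ 2 := by
    rw [← hfr]
    exact Module.card_eq_pow_finrank
  obtain ⟨ψ, hψ⟩ := Cfsg.Agent.Lib.Helper44.exists_binary_coords rfl hK a c hac
  obtain ⟨ψ', hψ'⟩ := Cfsg.Agent.Lib.Helper44.exists_binary_coords rfl hK (β / α) (γ / α) hac'
  obtain ⟨u, hu⟩ := FiniteField.norm_surjective F K α
  have hu0 : u ≠ 0 := by
    intro h
    rw [h, Algebra.norm_zero] at hu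
    exact hα0 hu.symm
  let mu : K ≃ₗ[F] K := LinearEquiv.ofLinear (LinearMap.mulLeft F u⁻¹) (LinearMap.mulLeft F u)
    (by ext x; simp [hu0]) (by ext x; simp [hu0])
  let Φ : (Fin 2 → F) ≃ₗ[F] W := ((ψ.trans mu).trans ψ'.symm).trans b.equivFun.symm
  refine ⟨Φ.symm, fun z => ?_⟩
  rw [LinearEquiv.symm_symm]
  set y := ψ'.symm (u⁻¹ * ψ z) with hy
  have hΦ : Φ z = b.equivFun.symm y := rfl
  rw [hΦ, hcomb]
  have h1 : α * y 0 ^ 2 + β * y 0 * y 1 + γ * y 1 ^ 2 =
      α * (y 0 ^ 2 + (β / α) * y 0 * y 1 + (γ / α) * y 1 ^ 2) := by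
    field_simp
  have hinv : Algebra.norm F u⁻¹ = α⁻¹ := by
    apply eq_inv_of_mul_eq_one_left
    rw [← hu, ← map_mul, inv_mul_cancel₀ hu0, map_one]
  rw [h1, ← hψ', hy, LinearEquiv.apply_symm_apply, map_mul, hinv, ← mul_assoc,
    mul_inv_cancel₀ hα0, one_mul, hψ]

/-- a nondegenerate space with the zero count of the minus type is of minus type -/
theorem classify_minus_gen (a c : F)
    (hac : ∀ z₁ z₂ : F, z₁ ^ 2 + a * z₁ * z₂ + c * z₂ ^ 2 = 0 → z₁ = 0 ∧ z₂ = 0)
    (V : Type u) [AddCommGroup V] [Module F V]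
    [FiniteDimensional F V] (Q : QuadraticForm F V)
    (hQ : (polarBilin Q).Nondegenerate) (M : ℕ)
    (hdim : finrank F V = 2 * M + 2)
    (hZ : Nat.card {v : V // Q v = 0} = ZZ (Fintype.card F) 2 1 M) :
    ∃ Θ : V ≃ₗ[F] ((Fin M ⊕ Fin M) ⊕ Fin 2 → F),
      ∀ v, Cfsg.quadFormMinus M F a c (Θ v) = Q v := by
  obtain ⟨k, e, f, W, H, hW2, haniso, hnd⟩ := witt_family V Q hQ
  obtain ⟨hd, hz, -⟩ := card_OG_family (Q.comp W.subtype) hnd k V Q W.subtype e f H
  rw [card_zeros_aniso _ haniso] at hz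
  have hcases : finrank F W = 0 ∨ finrank F W = 1 ∨ finrank F W = 2 := by
    omega
  rcases hcases with h0 | h1 | h2
  · exfalso
    have hk : k = M + 1 := by omega
    rw [h0, hk] at hz
    rw [hz] at hZ
    exact ZZ_plus_ne_minus _ Fintype.one_lt_card M hZ
  · omega
  · have hk : k = M := by omega
    subst hk
    obtain ⟨Θ₁, hΘ₁⟩ := aniso_plane_coords_gen a c hac W (Q.comp W.subtype) h2 haniso
    obtain ⟨Θ, hΘ⟩ := H.exists_coords hnd Θ₁
    refine ⟨Θ, fun v => ?_⟩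
    rw [hΘ v, hΘ₁]
    rfl

end Cfsg.Agent.Lib.Helper43.ZeroCount
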