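import Mathlib

/-!
# Facts on the residue of `q` modulo `r`, and anisotropic binary forms
-/

set_option autoImplicit false

namespace Cfsg.Agent.Lib.Helper43.OrthGen

section qbar
variable {F : Type*} [Field F] [Fintype F]

theorem qbar_ne_zero (p : ℕ) [Fact p.Prime] [CharP F p] (r : ℕ) [Fact r.Prime] (hrp : r ≠ p) :
    ((Fintype.card F : ℕ) : ZMod r) ≠ 0 := by
  have hp : p.Prime := Fact.out
  have hr : r.Prime := Fact.out
  obtain ⟨n, -, hn⟩ := FiniteField.card F p
  rw [hn]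
  intro h0
  rw [ZMod.natCast_eq_zero_iff] at h0
  have h1 := hr.dvd_of_dvd_pow h0
  exact hrp ((Nat.prime_dvd_prime_iff_eq hr hp).1 h1)

theorem pow_half_eq_neg_one (r : ℕ) [Fact r.Prime] (x : ZMod r) (j : ℕ) (hj : 1 ≤ j)
    (hi : orderOf x = 2 * j) : x ^ j = -1 := by
  have h1 : (x ^ j) * (x ^ j) = 1 := by
    rw [← pow_add, ← two_mul, ← hi, pow_orderOf_eq_one]
  rcases mul_self_eq_one_iff.1 h1 with h | h
  · exfalso
    have h2 := orderOf_dvd_of_pow_eq_one h
    rw [hi] at h2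
    have := Nat.le_of_dvd (by omega) h2
    omega
  · exact h

theorem ne_one_of_orderOf_even (r : ℕ) (x : ZMod r) (i : ℕ) (hi : i = orderOf x)
    (heven : Even i) : x ≠ 1 := by
  intro h
  rw [h, orderOf_one] at hi
  rw [hi] at heven
  exact absurd heven (by decide)

theorem neg_one_pow_cases (r : ℕ) (n : ℕ) :
    ((-1 : ZMod r) ^ n = 1 ∧ Even n) ∨ ((-1 : ZMod r) ^ n = -1 ∧ Odd n) := by
  rcases Nat.even_or_odd n with h | h
  · exact Or.inl ⟨h.neg_one_pow, h⟩
  · exact Or.inr ⟨h.neg_one_pow, h⟩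

theorem one_ne_neg_one (r : ℕ) [Fact r.Prime] (hr2 : r ≠ 2) : (1 : ZMod r) ≠ -1 := by
  intro h
  have h2 : (2 : ZMod r) = 0 := by linear_combination h
  have h3 : ((2 : ℕ) : ZMod r) = 0 := by exact_mod_cast h2
  rw [ZMod.natCast_eq_zero_iff] at h3
  have hr : r.Prime := Fact.out
  exact hr2 ((Nat.prime_dvd_prime_iff_eq hr Nat.prime_two).1 h3)

end qbar

section aniso

/-- over a finite field there is an anisotropic binary quadratic form -/
theorem exists_aniso (F : Type*) [Field F] [Finite F] :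
    ∃ a c : F, ∀ z₁ z₂ : F, z₁ ^ 2 + a * z₁ * z₂ + c * z₂ ^ 2 = 0 → z₁ = 0 ∧ z₂ = 0 := by
  have hninj : ¬ Function.Injective (fun x : F => x ^ 2 + x) := by
    intro hinj
    have h1 : (fun x : F => x ^ 2 + x) 0 = (fun x : F => x ^ 2 + x) (-1) := by
      simp
    have h2 := hinj h1
    have : (1 : F) = 0 := by linear_combination h2
    exact one_ne_zero this
  have hnsurj : ¬ Function.Surjective (fun x : F => x ^ 2 + x) := fun h =>
    hninj (Finite.injective_iff_surjective.2 h)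
  rw [Function.Surjective] at hnsurj
  obtain ⟨d, hd⟩ := not_forall.1 hnsurj
  have hd : ∀ x : F, (fun x : F => x ^ 2 + x) x ≠ d := fun x hx => hd ⟨x, hx⟩
  refine ⟨1, -d, fun z₁ z₂ h => ?_⟩
  by_cases hz : z₂ = 0
  · subst hz
    refine ⟨?_, rfl⟩
    have : z₁ ^ 2 = 0 := by linear_combination h
    exact pow_eq_zero_iff (two_ne_zero) |>.1 this
  · exfalso
    apply hd (z₁ / z₂)
    show (z₁ / z₂) ^ 2 + z₁ / z₂ = d
    field_simp
    linear_combination h

end aniso

end Cfsg.Agent.Lib.Helper43.OrthGen
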