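import Mathlib

set_option autoImplicit false

namespace Cfsg.Agent.Lib.Helper43

open Module

/-- The square class of the Gram determinant of a bilinear form does not depend on the basis. -/
theorem isSquare_det_toMatrix_iff {F V ι κ : Type*} [Field F] [AddCommGroup V] [Module F V]
    [Fintype ι] [DecidableEq ι] [Fintype κ] [DecidableEq κ]
    (b : Basis ι F V) (c : Basis κ F V) (Bf : LinearMap.BilinForm F V) :
    IsSquare (LinearMap.BilinForm.toMatrix b Bf).det ↔ IsSquare (LinearMap.BilinForm.toMatrix c Bf).det := by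
  let e : ι ≃ κ := b.indexEquiv c
  let b' : Basis κ F V := b.reindex e
  have h1 : LinearMap.BilinForm.toMatrix b Bf = (LinearMap.BilinForm.toMatrix b' Bf).submatrix e e := by
    ext i j
    simp [LinearMap.BilinForm.toMatrix_apply, b']
  have h2 := LinearMap.BilinForm.toMatrix_mul_basis_toMatrix c b' Bf
  have h3 : (c.toMatrix b').det * (b'.toMatrix c).det = 1 := by
    rw [← Matrix.det_mul, Basis.toMatrix_mul_toMatrix_flip, Matrix.det_one]
  set d := (c.toMatrix b').det with hd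
  have hd0 : d ≠ 0 := left_ne_zero_of_mul_eq_one h3
  rw [h1, Matrix.det_submatrix_equiv_self, ← h2, Matrix.det_mul, Matrix.det_mul, Matrix.det_transpose, ← hd]
  constructor
  · rintro ⟨s, hs⟩
    refine ⟨s / d, ?_⟩
    field_simp
    linear_combination hs
  · rintro ⟨s, hs⟩
    refine ⟨d * s, ?_⟩
    rw [hs]; ring

/-- `det [[0,1],[1,0]] = (-1)^m`. -/
theorem det_fromBlocks_zero_one_one_zero {R : Type*} [CommRing R] (m : ℕ) :
    (Matrix.fromBlocks (0 : Matrix (Fin m) (Fin m) R) (1 : Matrix (Fin m) (Fin m) R)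
      (1 : Matrix (Fin m) (Fin m) R) (0 : Matrix (Fin m) (Fin m) R)).det = (-1) ^ m := by
  have hE : (Matrix.fromBlocks (1 : Matrix (Fin m) (Fin m) R) (1 : Matrix (Fin m) (Fin m) R)
      (0 : Matrix (Fin m) (Fin m) R) (1 : Matrix (Fin m) (Fin m) R)).det = 1 := by
    rw [Matrix.det_fromBlocks_zero₂₁]; simp
  have hmul : Matrix.fromBlocks (1 : Matrix (Fin m) (Fin m) R) (1 : Matrix (Fin m) (Fin m) R)
      (0 : Matrix (Fin m) (Fin m) R) (1 : Matrix (Fin m) (Fin m) R) *
      Matrix.fromBlocks (0 : Matrix (Fin m) (Fin m) R) (1 : Matrix (Fin m) (Fin m) R)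
      (1 : Matrix (Fin m) (Fin m) R) (0 : Matrix (Fin m) (Fin m) R) =
      Matrix.fromBlocks (1 : Matrix (Fin m) (Fin m) R) (1 : Matrix (Fin m) (Fin m) R)
      (1 : Matrix (Fin m) (Fin m) R) (0 : Matrix (Fin m) (Fin m) R) := by
    rw [Matrix.fromBlocks_multiply]; simp
  have h1 : (Matrix.fromBlocks (1 : Matrix (Fin m) (Fin m) R) (1 : Matrix (Fin m) (Fin m) R)
      (1 : Matrix (Fin m) (Fin m) R) (0 : Matrix (Fin m) (Fin m) R)).det = (-1) ^ m := by
    rw [Matrix.det_fromBlocks_one₁₁]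
    simp [Matrix.det_neg]
  rw [← h1, ← hmul, Matrix.det_mul, hE, one_mul]

end Cfsg.Agent.Lib.Helper43
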