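import Cfsg.Agent.Lib.Helper43.OrthSemiConj

/-!
# Odd order semisimple isometries: arbitrary index type

The conjugacy theorem of `OrthSemiConj` transported along a reindexing `ι ≃ Fin n`.
-/

set_option autoImplicit false

namespace Cfsg.Agent.Lib.Helper43.OrthConj

open Matrix QuadraticMap

variable {F : Type*} [Field F] [Fintype F] {ι : Type*} [Fintype ι] [DecidableEq ι]

theorem exists_isometry_conj_gen (Q : QuadraticForm F (ι → F))
    (hQ : (polarBilin Q).Nondegenerate)
    (a a' b P P' : Matrix ι ι F) (haa' : a * a' = 1) (hPP' : P * P' = 1)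
    (ha : ∀ v, Q (a *ᵥ v) = Q v) (hb : ∀ v, Q (b *ᵥ v) = Q v) (hP : P * a = b * P) (k : ℕ)
    (hN : ((2 * k + 1 : ℕ) : F) ≠ 0) (haN : a ^ (2 * k + 1) = 1) :
    ∃ g g' : Matrix ι ι F, g * g' = 1 ∧ (∀ v, Q (g *ᵥ v) = Q v) ∧ g * a = b * g := by
  classical
  let e : ι ≃ Fin (Fintype.card ι) := Fintype.equivFin ι
  let L : (Fin (Fintype.card ι) → F) ≃ₗ[F] (ι → F) := LinearEquiv.funCongrLeft F F e
  have hL : ∀ v : Fin (Fintype.card ι) → F, L v = v ∘ e := fun v => rfl
  let Q' : QuadraticForm F (Fin (Fintype.card ι) → F) := Q.comp L.toLinearMap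
  have hQ'v : ∀ v, Q' v = Q (v ∘ e) := fun v => rfl
  let R : Matrix ι ι F → Matrix (Fin (Fintype.card ι)) (Fin (Fintype.card ι)) F :=
    fun M => M.submatrix e.symm e.symm
  have hRmul : ∀ M N : Matrix ι ι F, R (M * N) = R M * R N := by
    intro M N
    exact (Matrix.submatrix_mul_equiv M N e.symm e.symm e.symm).symm
  have hRone : R 1 = 1 := Matrix.submatrix_one_equiv e.symm
  have hRpow : ∀ (M : Matrix ι ι F) (j : ℕ), R (M ^ j) = R M ^ j := by
    intro M j
    induction j with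
    | zero => rw [pow_zero, pow_zero, hRone]
    | succ j ih => rw [pow_succ, pow_succ, hRmul, ih]
  have hRvec : ∀ (M : Matrix ι ι F) (v : Fin (Fintype.card ι) → F),
      (R M *ᵥ v) ∘ e = M *ᵥ (v ∘ e) := by
    intro M v
    funext i
    simp only [Function.comp_apply, R, Matrix.mulVec, dotProduct, Matrix.submatrix_apply,
      Equiv.symm_apply_apply]
    exact (Fintype.sum_equiv e _ _ (fun j => by simp)).symm
  have hQ' : (polarBilin Q').Nondegenerate := by
    have h1 : ∀ u v, polarBilin Q' u v = polarBilin Q (L u) (L v) := by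
      intro u v
      show polar Q' u v = polar Q (L u) (L v)
      unfold polar
      rw [hQ'v, hQ'v, hQ'v, hL, hL]
      rfl
    refine ⟨?_, ?_⟩
    · intro u hu
      have h2 : L u = 0 := by
        apply hQ.1
        intro w
        have := hu (L.symm w)
        rw [h1, LinearEquiv.apply_symm_apply] at this
        exact this
      exact L.map_eq_zero_iff.1 h2
    · intro u hu
      have h2 : L u = 0 := by
        apply hQ.2
        intro w
        have := hu (L.symm w)
        rw [h1, LinearEquiv.apply_symm_apply] at this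
        exact this
      exact L.map_eq_zero_iff.1 h2
  have hpres : ∀ M : Matrix ι ι F, (∀ v, Q (M *ᵥ v) = Q v) → ∀ v, Q' (R M *ᵥ v) = Q' v := by
    intro M hM v
    rw [hQ'v, hQ'v, hRvec, hM]
  obtain ⟨g, g', hgg', hgQ, hga⟩ := exists_isometry_conj Q' hQ' (R a) (R a') (R b) (R P) (R P')
    (by rw [← hRmul, haa', hRone]) (by rw [← hRmul, hPP', hRone]) (hpres a ha) (hpres b hb)
    (by rw [← hRmul, ← hRmul, hP]) k hN (by rw [← hRpow, haN, hRone])
  let R' : Matrix (Fin (Fintype.card ι)) (Fin (Fintype.card ι)) F → Matrix ι ι F :=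
    fun M => M.submatrix e e
  have hR'R : ∀ M : Matrix ι ι F, R' (R M) = M := by
    intro M
    ext i j
    simp [R, R']
  have hRR' : ∀ M, R (R' M) = M := by
    intro M
    ext i j
    simp [R, R']
  have hR'mul : ∀ M N, R' (M * N) = R' M * R' N := by
    intro M N
    exact (Matrix.submatrix_mul_equiv M N e e e).symm
  have hR'one : R' 1 = 1 := Matrix.submatrix_one_equiv e
  refine ⟨R' g, R' g', by rw [← hR'mul, hgg', hR'one], ?_, ?_⟩
  · intro v
    have h1 := hgQ (v ∘ e.symm)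
    rw [hQ'v, hQ'v] at h1
    have h2 : (v ∘ e.symm) ∘ e = v := by
      funext i
      simp
    have h3 : (g *ᵥ (v ∘ e.symm)) ∘ e = R' g *ᵥ ((v ∘ e.symm) ∘ e) := by
      have := hRvec (R' g) (v ∘ e.symm)
      rwa [hRR'] at this
    rw [h3, h2] at h1
    exact h1
  · have := congrArg R' hga
    rw [hR'mul, hR'mul, hR'R, hR'R] at this
    exact this

/-- Group level statement, any index type. -/
theorem isConj_isometryGroup_of_isConj {p : ℕ} [Fact p.Prime] [CharP F p] {κ : Type}
    [Fintype κ] [DecidableEq κ] (Q : QuadraticForm F (κ → F))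
    (hQ : (polarBilin Q).Nondegenerate) (A B : ↥(Cfsg.isometryGroup F ⇑Q))
    (hodd : Odd (orderOf A)) (hA : (orderOf A).Coprime p)
    (c : Matrix.GeneralLinearGroup κ F)
    (hc : (c : Matrix κ κ F) * ((A : Matrix.GeneralLinearGroup κ F) : Matrix κ κ F) =
      ((B : Matrix.GeneralLinearGroup κ F) : Matrix κ κ F) * (c : Matrix κ κ F)) :
    IsConj A B := by
  have ha : ∀ v, Q (((A : Matrix.GeneralLinearGroup κ F) : Matrix κ κ F) *ᵥ v) =
      Q v := fun v => A.2 v v
  have hb : ∀ v, Q (((B : Matrix.GeneralLinearGroup κ F) : Matrix κ κ F) *ᵥ v) =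
      Q v := fun v => B.2 v v
  obtain ⟨k, hk⟩ := hodd
  have hN : ((2 * k + 1 : ℕ) : F) ≠ 0 := by
    rw [← hk]
    intro h0
    rw [CharP.cast_eq_zero_iff F p] at h0
    have hp : p.Prime := Fact.out
    have h1 : p ∣ Nat.gcd (orderOf A) p := Nat.dvd_gcd h0 dvd_rfl
    rw [Nat.Coprime] at hA
    rw [hA] at h1
    exact hp.one_lt.ne' (Nat.dvd_one.1 h1)
  have haN : ((A : Matrix.GeneralLinearGroup κ F) : Matrix κ κ F) ^ (2 * k + 1) = 1 := by
    have h1 : A ^ (2 * k + 1) = 1 := by
      rw [← hk]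
      exact pow_orderOf_eq_one A
    have h2 := congrArg (fun g : ↥(Cfsg.isometryGroup F ⇑Q) =>
      ((g : Matrix.GeneralLinearGroup κ F) : Matrix κ κ F)) h1
    simpa using h2
  obtain ⟨g, g', hgg', hgQ, hga⟩ := exists_isometry_conj_gen Q hQ
    ((A : Matrix.GeneralLinearGroup κ F) : Matrix κ κ F)
    (((A : Matrix.GeneralLinearGroup κ F)⁻¹ : Matrix.GeneralLinearGroup κ F) : Matrix κ κ F)
    ((B : Matrix.GeneralLinearGroup κ F) : Matrix κ κ F)
    (c : Matrix κ κ F) ((c⁻¹ : (Matrix κ κ F)ˣ) : Matrix κ κ F)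
    (A : Matrix.GeneralLinearGroup κ F).mul_inv c.mul_inv ha hb hc k hN haN
  have hg'g : g' * g = 1 := mul_eq_one_comm.1 hgg'
  have hmem : (⟨g, g', hgg', hg'g⟩ : Matrix.GeneralLinearGroup κ F) ∈
      Cfsg.isometryGroup F ⇑Q := fun u _ => hgQ u
  rw [isConj_iff]
  refine ⟨⟨⟨g, g', hgg', hg'g⟩, hmem⟩, ?_⟩
  apply Subtype.ext
  apply Units.ext
  show g * ((A : Matrix.GeneralLinearGroup κ F) : Matrix κ κ F) * g' =
    ((B : Matrix.GeneralLinearGroup κ F) : Matrix κ κ F)
  rw [hga, mul_assoc, hgg', mul_one]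

end Cfsg.Agent.Lib.Helper43.OrthConj
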