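import Cfsg.Agent.Lib.Helper43.OrthCardForms
import Cfsg.Agent.Lib.Helper43.Gram
import Cfsg.Agent.Lib.Helper43.OrthReindex

/-!
# The Gram matrix of `quadFormOdd` and the matrix description of its isometries
-/

set_option autoImplicit false

namespace Cfsg.Agent.Lib.Helper43.OddOrth

open Matrix QuadraticMap

variable (m : ℕ) (F : Type*) [Field F]

/-- the Gram matrix of the polar form of `quadFormOdd` -/
def gramO : Matrix (Unit ⊕ (Fin m ⊕ Fin m)) (Unit ⊕ (Fin m ⊕ Fin m)) F :=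
  Matrix.fromBlocks ((2 : F) • (1 : Matrix Unit Unit F)) 0 0
    (Matrix.fromBlocks (0 : Matrix (Fin m) (Fin m) F) 1 1 0)

theorem gramO_transpose : (gramO m F)ᵀ = gramO m F := by
  unfold gramO
  rw [Matrix.fromBlocks_transpose, Matrix.fromBlocks_transpose]
  simp

theorem gramO_det : (gramO m F).det = 2 * (-1) ^ m := by
  unfold gramO
  rw [Matrix.det_fromBlocks_zero₂₁, Cfsg.Agent.Lib.Helper43.det_fromBlocks_zero_one_one_zero]
  simp

theorem dot_gramO (u v : Unit ⊕ (Fin m ⊕ Fin m) → F) :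
    u ⬝ᵥ (gramO m F *ᵥ v) = polar (⇑(Cfsg.Agent.Lib.Helper43.oddForm m F)) u v := by
  have e : ∑ i : Fin m, (u (Sum.inr (Sum.inl i)) * v (Sum.inr (Sum.inr i)) +
      v (Sum.inr (Sum.inl i)) * u (Sum.inr (Sum.inr i))) =
      ∑ i : Fin m, u (Sum.inr (Sum.inl i)) * v (Sum.inr (Sum.inr i)) +
      ∑ i : Fin m, u (Sum.inr (Sum.inr i)) * v (Sum.inr (Sum.inl i)) := by
    rw [← Finset.sum_add_distrib]
    apply Finset.sum_congr rfl
    intro i _
    ring
  rw [Cfsg.Agent.Lib.Helper43.polar_oddForm, e]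
  unfold gramO
  simp only [dotProduct, Matrix.mulVec, Fintype.sum_sum_type, Matrix.fromBlocks_apply₁₁,
    Matrix.fromBlocks_apply₁₂, Matrix.fromBlocks_apply₂₁, Matrix.fromBlocks_apply₂₂,
    Matrix.zero_apply, zero_mul, Finset.sum_const_zero, zero_add, add_zero, Matrix.one_apply,
    ite_mul, one_mul, Finset.sum_ite_eq, Finset.mem_univ, if_true, Matrix.smul_apply,
    Finset.univ_unique, Finset.sum_singleton, smul_eq_mul, mul_one, Finset.sum_add_distrib]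
  ring

theorem dot_gramO_self (u : Unit ⊕ (Fin m ⊕ Fin m) → F) :
    u ⬝ᵥ (gramO m F *ᵥ u) = 2 * Cfsg.quadFormOdd m F u := by
  rw [dot_gramO, Cfsg.Agent.Lib.Helper43.oddForm_coe, QuadraticMap.polar_self]
  simp

variable {m F}

theorem dot_form_gen {ι : Type*} [Fintype ι] (M G : Matrix ι ι F) (u v : ι → F) :
    (M *ᵥ u) ⬝ᵥ (G *ᵥ (M *ᵥ v)) = u ⬝ᵥ ((Mᵀ * G * M) *ᵥ v) := by
  rw [← Matrix.mulVec_mulVec, ← Matrix.mulVec_mulVec, Matrix.dotProduct_mulVec u Mᵀ,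
    Matrix.vecMul_transpose]

theorem gram_of_preserves (g : Matrix (Unit ⊕ (Fin m ⊕ Fin m)) (Unit ⊕ (Fin m ⊕ Fin m)) F)
    (hg : ∀ u, Cfsg.quadFormOdd m F (g *ᵥ u) = Cfsg.quadFormOdd m F u) :
    gᵀ * gramO m F * g = gramO m F := by
  have hpol : ∀ u v, polar (⇑(Cfsg.Agent.Lib.Helper43.oddForm m F)) (g *ᵥ u) (g *ᵥ v) =
      polar (⇑(Cfsg.Agent.Lib.Helper43.oddForm m F)) u v := by
    intro u v
    unfold polar
    rw [← Matrix.mulVec_add, ← Cfsg.Agent.Lib.Helper43.oddForm_coe, hg, hg, hg]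
  ext i j
  have h := hpol (Pi.single i 1) (Pi.single j 1)
  rw [← dot_gramO, ← dot_gramO, dot_form_gen] at h
  simpa using h

theorem preserves_of_gram (h2 : (2 : F) ≠ 0)
    (g : Matrix (Unit ⊕ (Fin m ⊕ Fin m)) (Unit ⊕ (Fin m ⊕ Fin m)) F)
    (hg : gᵀ * gramO m F * g = gramO m F) (u : Unit ⊕ (Fin m ⊕ Fin m) → F) :
    Cfsg.quadFormOdd m F (g *ᵥ u) = Cfsg.quadFormOdd m F u := by
  have h1 : (g *ᵥ u) ⬝ᵥ (gramO m F *ᵥ (g *ᵥ u)) = u ⬝ᵥ (gramO m F *ᵥ u) := by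
    rw [dot_form_gen, hg]
  rw [dot_gramO_self, dot_gramO_self] at h1
  exact mul_left_cancel₀ h2 h1

theorem oddForm_nondegenerate (h2 : (2 : F) ≠ 0) :
    (polarBilin (Cfsg.Agent.Lib.Helper43.oddForm m F)).Nondegenerate := by
  have h1 : polarBilin (Cfsg.Agent.Lib.Helper43.oddForm m F) = Matrix.toBilin' (gramO m F) := by
    refine LinearMap.ext fun u => LinearMap.ext fun v => ?_
    rw [Matrix.toBilin'_apply']
    exact (dot_gramO m F u v).symm
  rw [h1]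
  apply Matrix.Nondegenerate.toBilin'
  apply Matrix.nondegenerate_of_det_ne_zero
  rw [gramO_det]
  exact mul_ne_zero h2 (pow_ne_zero _ (neg_ne_zero.2 one_ne_zero))

end Cfsg.Agent.Lib.Helper43.OddOrth
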