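import Mathlib
import Cfsg.Agent.S2574

set_option autoImplicit false

namespace Cfsg.Agent.Lib.Helper43

open Module

section

variable {K V : Type*} [Field K] [AddCommGroup V] [Module K V] [FiniteDimensional K V]

/-- kernels of powers are monotone -/
theorem ker_pow_mono (f : V →ₗ[K] V) {a b : ℕ} (h : a ≤ b) :
    LinearMap.ker (f ^ a) ≤ LinearMap.ker (f ^ b) := by
  intro x hx
  rw [LinearMap.mem_ker] at hx ⊢
  obtain ⟨c, rfl⟩ := Nat.exists_eq_add_of_le h
  rw [add_comm, pow_add]
  show (f ^ c) ((f ^ a) x) = 0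
  rw [hx, map_zero]

/-- An invariant subspace of a regular nilpotent endomorphism is a kernel of a power. -/
theorem invariant_eq_ker (f : V →ₗ[K] V) (n : ℕ) (hn : finrank K V = n) (hfn : f ^ n = 0)
    (hker1 : finrank K (LinearMap.ker f) ≤ 1)
    (W : Submodule K V) (hWf : ∀ v ∈ W, f v ∈ W) :
    W = LinearMap.ker (f ^ finrank K W) := by
  have hle := Cfsg.Agent.S2574.invariant_le_ker f n hn hfn W hWf
  apply Submodule.eq_of_le_of_finrank_le hle
  calc _ ≤ finrank K W * finrank K (LinearMap.ker f) := Cfsg.Agent.S2573.finrank_ker_pow_le f _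
    _ ≤ finrank K W * 1 := Nat.mul_le_mul_left _ hker1
    _ = finrank K W := Nat.mul_one _

/-- existence of a cyclic vector -/
theorem exists_cyclic (f : V →ₗ[K] V) (n : ℕ) (hn1 : 1 ≤ n) (hn : finrank K V = n)
    (hker1 : finrank K (LinearMap.ker f) ≤ 1) : ∃ v : V, (f ^ (n - 1)) v ≠ 0 := by
  by_contra h
  push Not at h
  have htop : LinearMap.ker (f ^ (n - 1)) = ⊤ := by
    rw [eq_top_iff]
    intro x _
    exact LinearMap.mem_ker.mpr (h x)
  have h1 := Cfsg.Agent.S2573.finrank_ker_pow_le f (n - 1)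
  rw [htop, finrank_top, hn] at h1
  have : (n - 1) * finrank K (LinearMap.ker f) ≤ (n - 1) * 1 := Nat.mul_le_mul_left _ hker1
  omega

/-- An invariant subspace containing a cyclic vector is everything. -/
theorem invariant_eq_top (f : V →ₗ[K] V) (n : ℕ) (hn : finrank K V = n) (hfn : f ^ n = 0)
    (v : V) (hv : (f ^ (n - 1)) v ≠ 0)
    (W : Submodule K V) (hWf : ∀ x ∈ W, f x ∈ W) (hvW : v ∈ W) : W = ⊤ := by
  have hle := Cfsg.Agent.S2574.invariant_le_ker f n hn hfn W hWf
  apply Submodule.eq_top_of_finrank_eq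
  rw [hn]
  by_contra hne
  have hlt : finrank K W ≤ n - 1 := by
    have := Submodule.finrank_le W
    omega
  have := ker_pow_mono f hlt (hle hvW)
  exact hv (LinearMap.mem_ker.mp this)

/-- A map commuting with `f` which kills a cyclic vector is zero. -/
theorem eq_zero_of_commute_of_apply_cyclic (f : V →ₗ[K] V) (n : ℕ) (hn : finrank K V = n) (hfn : f ^ n = 0)
    (v : V) (hv : (f ^ (n - 1)) v ≠ 0) (A : V →ₗ[K] V) (hA : A ∘ₗ f = f ∘ₗ A) (hAv : A v = 0) :
    A = 0 := by
  have htop := invariant_eq_top f n hn hfn v hv (LinearMap.ker A) (by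
    intro x hx
    rw [LinearMap.mem_ker] at hx ⊢
    have : A (f x) = f (A x) := LinearMap.congr_fun hA x
    rw [this, hx, map_zero]) (LinearMap.mem_ker.mpr hAv)
  exact LinearMap.ker_eq_top.mp htop

theorem commute_pow_apply (f A : V →ₗ[K] V) (hA : A ∘ₗ f = f ∘ₗ A) (k : ℕ) (x : V) :
    A ((f ^ k) x) = (f ^ k) (A x) := by
  induction k generalizing x with
  | zero => simp
  | succ k ih =>
    rw [pow_succ]
    show A ((f ^ k) (f x)) = (f ^ k) (f (A x))
    rw [ih (f x)]
    congr 1
    exact LinearMap.congr_fun hA x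

/-- A map commuting with `f` which sends a cyclic vector to a cyclic vector is injective. -/
theorem injective_of_commute_of_apply_cyclic (f : V →ₗ[K] V) (n : ℕ) (hn1 : 1 ≤ n) (hn : finrank K V = n)
    (hfn : f ^ n = 0) (hker1 : finrank K (LinearMap.ker f) ≤ 1)
    (v : V) (A : V →ₗ[K] V) (hA : A ∘ₗ f = f ∘ₗ A)
    (hAv : (f ^ (n - 1)) (A v) ≠ 0) : Function.Injective A := by
  rw [← LinearMap.ker_eq_bot]
  by_contra hne
  have hinv : ∀ x ∈ LinearMap.ker A, f x ∈ LinearMap.ker A := by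
    intro x hx
    rw [LinearMap.mem_ker] at hx ⊢
    have : A (f x) = f (A x) := LinearMap.congr_fun hA x
    rw [this, hx, map_zero]
  have hW := invariant_eq_ker f n hn hfn hker1 (LinearMap.ker A) hinv
  have hpos : 1 ≤ finrank K (LinearMap.ker A) := by
    by_contra h
    apply hne
    have : finrank K (LinearMap.ker A) = 0 := by omega
    exact Submodule.finrank_eq_zero.mp this
  -- z = f^(n-1) v is in ker f hence in ker A
  have hz : (f ^ (n - 1)) v ∈ LinearMap.ker f := by
    rw [LinearMap.mem_ker]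
    have : f ((f ^ (n - 1)) v) = (f ^ n) v := by
      have e : n = (n - 1) + 1 := by omega
      nth_rewrite 2 [e]
      rw [pow_succ']
      rfl
    rw [this, hfn]; rfl
  have hz' : (f ^ (n - 1)) v ∈ LinearMap.ker A := by
    rw [hW]
    have := ker_pow_mono f hpos (by simpa using hz)
    exact this
  apply hAv
  rw [← commute_pow_apply f A hA]
  exact LinearMap.mem_ker.mp hz'

/-- Every vector is the image of a cyclic vector under a map commuting with `f`. -/
theorem exists_commute_apply_eq (f : V →ₗ[K] V) (n : ℕ) (hn : finrank K V = n) (hfn : f ^ n = 0)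
    (v : V) (hv : (f ^ (n - 1)) v ≠ 0) (w : V) :
    ∃ A : V →ₗ[K] V, A ∘ₗ f = f ∘ₗ A ∧ A v = w := by
  let S : Submodule K V :=
    { carrier := {x | ∃ A : V →ₗ[K] V, A ∘ₗ f = f ∘ₗ A ∧ A v = x}
      add_mem' := by
        rintro a b ⟨A, hA, rfl⟩ ⟨B, hB, rfl⟩
        refine ⟨A + B, ?_, rfl⟩
        rw [LinearMap.add_comp, LinearMap.comp_add, hA, hB]
      zero_mem' := ⟨0, by simp, rfl⟩
      smul_mem' := by
        rintro c a ⟨A, hA, rfl⟩
        refine ⟨c • A, ?_, rfl⟩
        rw [LinearMap.smul_comp, LinearMap.comp_smul, hA] }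
  have hS : S = ⊤ := by
    apply invariant_eq_top f n hn hfn v hv S
    · rintro x ⟨A, hA, rfl⟩
      refine ⟨f ∘ₗ A, ?_, rfl⟩
      rw [LinearMap.comp_assoc, hA]
    · exact ⟨LinearMap.id, by simp, rfl⟩
  have : w ∈ S := by rw [hS]; trivial
  exact this

/-- exact dimension of the kernels of powers -/
theorem finrank_ker_pow_eq (f : V →ₗ[K] V) (n : ℕ) (hn : finrank K V = n) (hfn : f ^ n = 0)
    (hker1 : finrank K (LinearMap.ker f) ≤ 1) (k : ℕ) (hk : k ≤ n) :
    finrank K (LinearMap.ker (f ^ k)) = k := by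
  have h1 : ∀ j, finrank K (LinearMap.ker (f ^ j)) ≤ j := by
    intro j
    calc _ ≤ j * finrank K (LinearMap.ker f) := Cfsg.Agent.S2573.finrank_ker_pow_le f _
      _ ≤ j * 1 := Nat.mul_le_mul_left _ hker1
      _ = j := Nat.mul_one _
  have h2 := Cfsg.Agent.S2573.finrank_ker_comp_le (f ^ k) (f ^ (n - k))
  have h3 : (f ^ k) ∘ₗ (f ^ (n - k)) = f ^ n := by
    have : f ^ n = f ^ k * f ^ (n - k) := by rw [← pow_add]; congr 1; omega
    rw [this]; rfl
  rw [h3, hfn] at h2
  have h4 : finrank K (LinearMap.ker (0 : V →ₗ[K] V)) = n := by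
    rw [LinearMap.ker_zero, finrank_top, hn]
  have := h1 k
  have := h1 (n - k)
  omega

end

end Cfsg.Agent.Lib.Helper43
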