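import Mathlib
import Cfsg.Agent.Lib.Helper43.RegNilp

set_option autoImplicit false

namespace Cfsg.Agent.Lib.Helper43

open Module

section

variable {K V : Type*} [Field K] [AddCommGroup V] [Module K V] [FiniteDimensional K V]

/-- the iterates of a cyclic vector of a nilpotent map are linearly independent -/
theorem linearIndependent_pow_apply (f : V →ₗ[K] V) (n : ℕ) (hfn : f ^ n = 0) (v : V)
    (hv : (f ^ (n - 1)) v ≠ 0) : LinearIndependent K (fun i : Fin n => (f ^ (i : ℕ)) v) := by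
  rw [Fintype.linearIndependent_iff]
  intro g hg
  suffices h : ∀ k : ℕ, ∀ i : Fin n, (i : ℕ) = k → g i = 0 from fun i => h i i rfl
  intro k
  induction k using Nat.strong_induction_on with
  | _ k ih =>
    intro i hik
    have h1 : (f ^ (n - 1 - k)) (∑ j, g j • (f ^ (j : ℕ)) v) = 0 := by rw [hg, map_zero]
    rw [map_sum] at h1
    rw [Finset.sum_eq_single i] at h1
    · rw [map_smul, ← Module.End.mul_apply, ← pow_add, hik] at h1
      have : n - 1 - k + k = n - 1 := by have := i.2; omega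
      rw [this] at h1
      exact (smul_eq_zero.mp h1).resolve_right hv
    · intro j _ hji
      rw [map_smul]
      rcases lt_or_gt_of_ne (Fin.val_ne_of_ne hji) with hlt | hgt
      · rw [ih j (by omega) j rfl, zero_smul]
      · rw [← Module.End.mul_apply, ← pow_add, pow_eq_zero_of_le (by omega) hfn]
        simp
    · intro h
      exact absurd (Finset.mem_univ i) h

/-- the basis of iterates of a cyclic vector -/
noncomputable def cyclicBasis (f : V →ₗ[K] V) (n : ℕ) (hn1 : 1 ≤ n) (hn : finrank K V = n)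
    (hfn : f ^ n = 0) (v : V) (hv : (f ^ (n - 1)) v ≠ 0) : Basis (Fin n) K V :=
  haveI : Nonempty (Fin n) := ⟨⟨0, hn1⟩⟩
  basisOfLinearIndependentOfCardEqFinrank (linearIndependent_pow_apply f n hfn v hv)
    (by rw [Fintype.card_fin, hn])

theorem cyclicBasis_apply (f : V →ₗ[K] V) (n : ℕ) (hn1 : 1 ≤ n) (hn : finrank K V = n)
    (hfn : f ^ n = 0) (v : V) (hv : (f ^ (n - 1)) v ≠ 0) (i : Fin n) :
    cyclicBasis f n hn1 hn hfn v hv i = (f ^ (i : ℕ)) v := by
  haveI : Nonempty (Fin n) := ⟨⟨0, hn1⟩⟩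
  unfold cyclicBasis
  exact congrFun (coe_basisOfLinearIndependentOfCardEqFinrank _ _) i

/-- two regular nilpotent maps are conjugate -/
theorem exists_equiv_conj (f f' : V →ₗ[K] V) (n : ℕ) (hn1 : 1 ≤ n) (hn : finrank K V = n)
    (hfn : f ^ n = 0) (hfn' : f' ^ n = 0) (v v' : V) (hv : (f ^ (n - 1)) v ≠ 0)
    (hv' : (f' ^ (n - 1)) v' ≠ 0) :
    ∃ A : V ≃ₗ[K] V, A.toLinearMap ∘ₗ f = f' ∘ₗ A.toLinearMap ∧ A v = v' := by
  set b := cyclicBasis f n hn1 hn hfn v hv with hb
  set b' := cyclicBasis f' n hn1 hn hfn' v' hv' with hb'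
  have hbi : ∀ i, b i = (f ^ (i : ℕ)) v := cyclicBasis_apply f n hn1 hn hfn v hv
  have hbi' : ∀ i, b' i = (f' ^ (i : ℕ)) v' := cyclicBasis_apply f' n hn1 hn hfn' v' hv'
  refine ⟨b.equiv b' (Equiv.refl _), ?_, ?_⟩
  · apply b.ext
    intro i
    rw [LinearMap.comp_apply, LinearMap.comp_apply, LinearEquiv.coe_coe,
      Basis.equiv_apply, Equiv.refl_apply]
    by_cases hi : (i : ℕ) + 1 < n
    · have h1 : f (b i) = b ⟨(i : ℕ) + 1, hi⟩ := by
        rw [hbi, hbi]
        show f ((f ^ (i : ℕ)) v) = (f ^ ((i : ℕ) + 1)) v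
        rw [pow_succ', Module.End.mul_apply]
      have h1' : f' (b' i) = b' ⟨(i : ℕ) + 1, hi⟩ := by
        rw [hbi', hbi']
        show f' ((f' ^ (i : ℕ)) v') = (f' ^ ((i : ℕ) + 1)) v'
        rw [pow_succ', Module.End.mul_apply]
      rw [h1, h1', Basis.equiv_apply, Equiv.refl_apply]
    · have h1 : f (b i) = 0 := by
        rw [hbi, ← Module.End.mul_apply, ← pow_succ', pow_eq_zero_of_le (by omega) hfn]
        simp
      have h1' : f' (b' i) = 0 := by
        rw [hbi', ← Module.End.mul_apply, ← pow_succ', pow_eq_zero_of_le (by omega) hfn']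
        simp
      rw [h1, h1', map_zero]
  · have h0 : b ⟨0, hn1⟩ = v := by rw [hbi]; simp
    have h0' : b' ⟨0, hn1⟩ = v' := by rw [hbi']; simp
    rw [← h0, Basis.equiv_apply, Equiv.refl_apply, h0']

/-- determinant of a scalar plus a nilpotent map -/
theorem det_smul_one_add_nilpotent (n : ℕ) (hn : finrank K V = n) (c : K) (B : V →ₗ[K] V)
    (hB : IsNilpotent B) : LinearMap.det (c • (1 : V →ₗ[K] V) + B) = c ^ n := by
  have hB' : IsNilpotent (-B) := hB.neg
  have h1 := IsNilpotent.charpoly_eq_X_pow_finrank hB'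
  have h2 := LinearMap.eval_charpoly (-B) c
  rw [h1, hn] at h2
  simp only [Polynomial.eval_pow, Polynomial.eval_X] at h2
  rw [h2]
  congr 1
  rw [sub_neg_eq_add]
  congr 1

/-- a map commuting with a regular nilpotent map has determinant an `n`-th power -/
theorem exists_det_eq_pow_of_commute (f : V →ₗ[K] V) (n : ℕ) (hn1 : 1 ≤ n)
    (hn : finrank K V = n) (hfn : f ^ n = 0) (hker1 : finrank K (LinearMap.ker f) ≤ 1)
    (A : V →ₗ[K] V) (hA : A ∘ₗ f = f ∘ₗ A) : ∃ c : K, LinearMap.det A = c ^ n := by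
  obtain ⟨v, hv⟩ := exists_cyclic f n hn1 hn hker1
  set z := (f ^ (n - 1)) v with hz
  have hfz : f z = 0 := by
    rw [hz, ← Module.End.mul_apply, ← pow_succ', pow_eq_zero_of_le (by omega) hfn]
    simp
  have hzker : z ∈ LinearMap.ker f := LinearMap.mem_ker.mpr hfz
  have hAzker : A z ∈ LinearMap.ker f := by
    rw [LinearMap.mem_ker]
    have : f (A z) = A (f z) := (LinearMap.congr_fun hA z).symm
    rw [this, hfz, map_zero]
  -- the kernel is spanned by z
  have hspan : ∀ w ∈ LinearMap.ker f, ∃ c : K, w = c • z := by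
    intro w hw
    obtain ⟨v₀, hv₀⟩ := finrank_le_one_iff.mp hker1
    obtain ⟨a, ha⟩ := hv₀ ⟨z, hzker⟩
    obtain ⟨b, hb⟩ := hv₀ ⟨w, hw⟩
    have ha' : a • (v₀ : V) = z := congrArg Subtype.val ha
    have hb' : b • (v₀ : V) = w := congrArg Subtype.val hb
    have ha0 : a ≠ 0 := by
      rintro rfl
      rw [zero_smul] at ha'
      exact hv ha'.symm
    refine ⟨b * a⁻¹, ?_⟩
    rw [← ha', ← hb', smul_smul, mul_assoc, inv_mul_cancel₀ ha0, mul_one]
  obtain ⟨c, hc⟩ := hspan (A z) hAzker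
  refine ⟨c, ?_⟩
  set B := A - c • (1 : V →ₗ[K] V) with hBdef
  have hBcomm : B ∘ₗ f = f ∘ₗ B := by
    rw [hBdef, LinearMap.sub_comp, LinearMap.comp_sub, hA]
    congr 1
    ext x
    simp
  have hBker : ∀ w ∈ LinearMap.ker f, B w = 0 := by
    intro w hw
    obtain ⟨a, rfl⟩ := hspan w hw
    rw [map_smul, hBdef, LinearMap.sub_apply, hc]
    simp
  have hBstep : ∀ k : ℕ, ∀ x ∈ LinearMap.ker (f ^ (k + 1)), B x ∈ LinearMap.ker (f ^ k) := by
    intro k x hx
    rw [LinearMap.mem_ker] at hx ⊢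
    rw [← commute_pow_apply f B hBcomm]
    apply hBker
    rw [LinearMap.mem_ker, ← Module.End.mul_apply, ← pow_succ']
    exact hx
  have hBpow : ∀ k : ℕ, ∀ x ∈ LinearMap.ker (f ^ k), (B ^ k) x = 0 := by
    intro k
    induction k with
    | zero =>
      intro x hx
      rw [pow_zero, LinearMap.mem_ker] at hx
      rw [pow_zero]
      exact hx
    | succ k ih =>
      intro x hx
      rw [pow_succ, Module.End.mul_apply]
      exact ih _ (hBstep k x hx)
  have hBnil : IsNilpotent B := by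
    refine ⟨n, ?_⟩
    ext x
    rw [LinearMap.zero_apply]
    apply hBpow
    rw [hfn, LinearMap.mem_ker, LinearMap.zero_apply]
  have hAB : A = c • (1 : V →ₗ[K] V) + B := by
    rw [hBdef]; abel
  rw [hAB]
  exact det_smul_one_add_nilpotent n hn c B hBnil

end

end Cfsg.Agent.Lib.Helper43
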