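import Mathlib
import Cfsg.Agent.Lib.Helper43.RegConj
import Cfsg.Agent.Lib.Helper99.JordanInv

set_option autoImplicit false

/-!
Nilpotent endomorphisms with the same kernel dimensions `dker` are conjugate; every nilpotent
endomorphism has a Jordan type (a multiset of block sizes) computing its kernel dimensions.
-/

namespace Cfsg.Agent.Lib.Helper43

open Module Cfsg.Agent.Lib.Helper99

section two

variable {K : Type*} [Field K]
variable {V : Type*} [AddCommGroup V] [Module K V] [FiniteDimensional K V]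
variable {V' : Type*} [AddCommGroup V'] [Module K V'] [FiniteDimensional K V']

/-- two cyclic nilpotent maps of the same index on spaces of the same dimension are conjugate -/
theorem exists_equiv_conj₂ (f : V →ₗ[K] V) (f' : V' →ₗ[K] V') (n : ℕ) (hn1 : 1 ≤ n)
    (hn : finrank K V = n) (hn' : finrank K V' = n)
    (hfn : f ^ n = 0) (hfn' : f' ^ n = 0) (v : V) (v' : V') (hv : (f ^ (n - 1)) v ≠ 0)
    (hv' : (f' ^ (n - 1)) v' ≠ 0) :
    ∃ A : V ≃ₗ[K] V', ∀ x, A (f x) = f' (A x) := by
  set b := cyclicBasis f n hn1 hn hfn v hv with hb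
  set b' := cyclicBasis f' n hn1 hn' hfn' v' hv' with hb'
  have hbi : ∀ i, b i = (f ^ (i : ℕ)) v := cyclicBasis_apply f n hn1 hn hfn v hv
  have hbi' : ∀ i, b' i = (f' ^ (i : ℕ)) v' := cyclicBasis_apply f' n hn1 hn' hfn' v' hv'
  refine ⟨b.equiv b' (Equiv.refl _), ?_⟩
  have hcomp : (b.equiv b' (Equiv.refl _)).toLinearMap ∘ₗ f =
      f' ∘ₗ (b.equiv b' (Equiv.refl _)).toLinearMap := by
    apply b.ext
    intro i
    rw [LinearMap.comp_apply, LinearMap.comp_apply, LinearEquiv.coe_coe,
      Basis.equiv_apply, Equiv.refl_apply]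
    by_cases hi : (i : ℕ) + 1 < n
    · have h1 : f (b i) = b ⟨(i : ℕ) + 1, hi⟩ := by
        rw [hbi, hbi]
        show f ((f ^ (i : ℕ)) v) = (f ^ ((i : ℕ) + 1)) v
        rw [pow_succ', Module.End.mul_apply]
      have h1' : f' (b' i) = b' ⟨(i : ℕ) + 1, hi⟩ := by
        rw [hbi', hbi']
        show f' ((f' ^ (i : ℕ)) v') = (f' ^ ((i : ℕ) + 1)) v'
        rw [pow_succ', Module.End.mul_apply]
      rw [h1, h1', Basis.equiv_apply, Equiv.refl_apply]
    · have h1 : f (b i) = 0 := by
        rw [hbi, ← Module.End.mul_apply, ← pow_succ', pow_eq_zero_of_le (by omega) hfn]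
        simp
      have h1' : f' (b' i) = 0 := by
        rw [hbi', ← Module.End.mul_apply, ← pow_succ', pow_eq_zero_of_le (by omega) hfn']
        simp
      rw [h1, h1', map_zero]
  intro x
  exact LinearMap.congr_fun hcomp x

end two

section compl

variable {K : Type*} [Field K] {V : Type*} [AddCommGroup V] [Module K V]

/-- the cyclic subspace spanned by the first `e` iterates of `v` -/
def cyc (T : V →ₗ[K] V) (e : ℕ) (v : V) : Submodule K V :=
  Submodule.span K (Set.range fun j : Fin e => (T ^ (j : ℕ)) v)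

theorem cyc_invariant (T : V →ₗ[K] V) (e : ℕ) (hTe : T ^ e = 0) (v : V) :
    ∀ x ∈ cyc T e v, T x ∈ cyc T e v := by
  intro x hx
  have hmap : (cyc T e v).map T ≤ cyc T e v := by
    unfold cyc
    rw [Submodule.map_span, Submodule.span_le]
    rintro _ ⟨_, ⟨j, rfl⟩, rfl⟩
    by_cases hj : (j : ℕ) + 1 < e
    · apply Submodule.subset_span
      refine ⟨⟨(j : ℕ) + 1, hj⟩, ?_⟩
      show (T ^ ((j : ℕ) + 1)) v = T ((T ^ (j : ℕ)) v)
      rw [pow_succ', Module.End.mul_apply]
    · have : T ((T ^ (j : ℕ)) v) = 0 := by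
        rw [← Module.End.mul_apply, ← pow_succ', pow_eq_zero_of_le (by have := j.2; omega) hTe]
        simp
      rw [this]
      exact Submodule.zero_mem _
  exact hmap ⟨x, hx, rfl⟩

theorem mem_cyc_self (T : V →ₗ[K] V) (e : ℕ) (he : 1 ≤ e) (v : V) : v ∈ cyc T e v := by
  apply Submodule.subset_span
  exact ⟨⟨0, he⟩, by simp⟩

variable [FiniteDimensional K V]

theorem finrank_cyc (T : V →ₗ[K] V) (e : ℕ) (hTe : T ^ e = 0) (v : V)
    (hv : (T ^ (e - 1)) v ≠ 0) : finrank K (cyc T e v) = e := by
  unfold cyc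
  rw [finrank_span_eq_card (linearIndependent_pow_apply T e hTe v hv), Fintype.card_fin]

/-- a maximal cyclic subspace of a nilpotent map has an invariant complement -/
theorem exists_invariant_compl (T : V →ₗ[K] V) (e : ℕ) (he : 1 ≤ e) (hTe : T ^ e = 0) (v : V)
    (hv : (T ^ (e - 1)) v ≠ 0) :
    ∃ W : Submodule K V, (∀ x ∈ W, T x ∈ W) ∧ IsCompl (cyc T e v) W := by
  classical
  obtain ⟨φ, hφ⟩ : ∃ φ : Module.Dual K V, φ ((T ^ (e - 1)) v) ≠ 0 := by
    by_contra h
    push Not at h
    exact hv ((Module.forall_dual_apply_eq_zero_iff K _).mp h)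
  let Ψ : V →ₗ[K] (Fin e → K) := LinearMap.pi fun j => φ ∘ₗ (T ^ (j : ℕ))
  have hΨ : ∀ w, w ∈ LinearMap.ker Ψ ↔ ∀ j : Fin e, φ ((T ^ (j : ℕ)) w) = 0 := by
    intro w
    rw [LinearMap.mem_ker]
    constructor
    · intro h j
      exact congrFun h j
    · intro h
      funext j
      exact h j
  refine ⟨LinearMap.ker Ψ, ?_, ?_⟩
  · intro w hw
    rw [hΨ] at hw ⊢
    intro j
    by_cases hj : (j : ℕ) + 1 < e
    · have := hw ⟨(j : ℕ) + 1, hj⟩
      rw [← Module.End.mul_apply, ← pow_succ]
      exact this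
    · rw [← Module.End.mul_apply, ← pow_succ, pow_eq_zero_of_le (by have := j.2; omega) hTe]
      simp
  · have hdisj : Disjoint (cyc T e v) (LinearMap.ker Ψ) := by
      rw [Submodule.disjoint_def]
      intro z hz hzW
      unfold cyc at hz
      rw [Submodule.mem_span_range_iff_exists_fun] at hz
      obtain ⟨a, rfl⟩ := hz
      rw [hΨ] at hzW
      suffices h : ∀ k : ℕ, ∀ i : Fin e, (i : ℕ) = k → a i = 0 by
        apply Finset.sum_eq_zero
        intro i _
        rw [h i i rfl, zero_smul]
      intro k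
      induction k using Nat.strong_induction_on with
      | _ k ih =>
        intro i hik
        have h1 := hzW ⟨e - 1 - k, by omega⟩
        simp only at h1
        rw [map_sum, Finset.sum_eq_single i] at h1
        · rw [map_smul, ← Module.End.mul_apply, ← pow_add, hik] at h1
          have : e - 1 - k + k = e - 1 := by have := i.2; omega
          rw [this, map_smul, smul_eq_mul] at h1
          exact (mul_eq_zero.mp h1).resolve_right hφ
        · intro j _ hji
          rw [map_smul]
          rcases lt_or_gt_of_ne (Fin.val_ne_of_ne hji) with hlt | hgt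
          · rw [ih j (by omega) j rfl, zero_smul]
          · rw [← Module.End.mul_apply, ← pow_add, pow_eq_zero_of_le (by omega) hTe]
            simp
        · intro h
          exact absurd (Finset.mem_univ i) h
    refine ⟨hdisj, ?_⟩
    rw [codisjoint_iff]
    apply Submodule.eq_top_of_finrank_eq
    have h1 := Submodule.finrank_sup_add_finrank_inf_eq (cyc T e v) (LinearMap.ker Ψ)
    rw [disjoint_iff.mp hdisj, finrank_bot, add_zero, finrank_cyc T e hTe v hv] at h1
    have h2 := LinearMap.finrank_range_add_finrank_ker Ψ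
    have h3 : finrank K (LinearMap.range Ψ) ≤ e := by
      have := Submodule.finrank_le (LinearMap.range Ψ)
      rwa [Module.finrank_fintype_fun_eq_card, Fintype.card_fin] at this
    have h4 := Submodule.finrank_le (cyc T e v ⊔ LinearMap.ker Ψ)
    omega

end compl

section dkersum

variable {K : Type*} [Field K] {V : Type*} [AddCommGroup V] [Module K V]

theorem restrict_pow_apply (T : V →ₗ[K] V) (U : Submodule K V) (hU : ∀ x ∈ U, T x ∈ U) (k : ℕ)
    (u : U) : (((T.restrict hU) ^ k) u : V) = (T ^ k) u := by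
  induction k generalizing u with
  | zero => simp
  | succ k ih =>
    rw [pow_succ, pow_succ, Module.End.mul_apply, Module.End.mul_apply, ih]
    rfl

theorem isNilpotent_restrict (T : V →ₗ[K] V) (U : Submodule K V) (hU : ∀ x ∈ U, T x ∈ U)
    (hT : IsNilpotent T) : IsNilpotent (T.restrict hU) := by
  obtain ⟨k, hk⟩ := hT
  refine ⟨k, ?_⟩
  ext u
  rw [restrict_pow_apply, hk]
  rfl

variable [FiniteDimensional K V]

/-- `dker` is additive over an invariant direct sum decomposition -/
theorem dker_of_isCompl (T : V →ₗ[K] V) (Z W : Submodule K V) (hZ : ∀ x ∈ Z, T x ∈ Z)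
    (hW : ∀ x ∈ W, T x ∈ W) (h : IsCompl Z W) (k : ℕ) :
    dker T k = dker (T.restrict hZ) k + dker (T.restrict hW) k := by
  rw [← dker_prodMap]
  apply dker_conj (Submodule.prodEquivOfIsCompl Z W h)
  rintro ⟨z, w⟩
  rw [Submodule.coe_prodEquivOfIsCompl', Submodule.coe_prodEquivOfIsCompl', map_add]
  rfl

/-- kernel dimensions of a cyclic nilpotent map -/
theorem dker_cyc (T : V →ₗ[K] V) (e : ℕ) (he : 1 ≤ e) (hTe : T ^ e = 0) (v : V)
    (hv : (T ^ (e - 1)) v ≠ 0) (k : ℕ) :
    dker (T.restrict (cyc_invariant T e hTe v)) k = min e k := by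
  classical
  rw [← dker_shiftEnd K e k]
  have hZe : (T.restrict (cyc_invariant T e hTe v)) ^ e = 0 := by
    ext u
    rw [restrict_pow_apply, hTe]
    rfl
  have hSe : (shiftEnd K e) ^ e = 0 := by
    apply LinearMap.ext
    intro w
    funext i
    rw [shiftEnd_pow_apply, dif_neg (by omega)]
    rfl
  have hvZ : ((T.restrict (cyc_invariant T e hTe v)) ^ (e - 1))
      (⟨v, mem_cyc_self T e he v⟩ : cyc T e v) ≠ 0 := by
    intro h
    apply hv
    have := congrArg Subtype.val h
    rwa [restrict_pow_apply] at this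
  have hvS : ((shiftEnd K e) ^ (e - 1)) (Pi.single (⟨e - 1, by omega⟩ : Fin e) (1 : K)) ≠ 0 := by
    intro h
    have := congrFun h ⟨0, by omega⟩
    rw [shiftEnd_pow_apply, dif_pos (by simp; omega)] at this
    simp at this
  obtain ⟨A, hA⟩ := exists_equiv_conj₂ (T.restrict (cyc_invariant T e hTe v)) (shiftEnd K e) e he
    (finrank_cyc T e hTe v hv) (by rw [Module.finrank_fintype_fun_eq_card, Fintype.card_fin])
    hZe hSe _ _ hvZ hvS
  exact (dker_conj A _ _ (fun w => (hA w).symm) k).symm

/-- conjugacy from conjugacy on the pieces of invariant decompositions -/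
theorem conj_of_isCompl {V' : Type*} [AddCommGroup V'] [Module K V'] [FiniteDimensional K V']
    (T : V →ₗ[K] V) (T' : V' →ₗ[K] V') (Z W : Submodule K V) (Z' W' : Submodule K V')
    (hZ : ∀ x ∈ Z, T x ∈ Z) (hW : ∀ x ∈ W, T x ∈ W) (h : IsCompl Z W)
    (hZ' : ∀ x ∈ Z', T' x ∈ Z') (hW' : ∀ x ∈ W', T' x ∈ W') (h' : IsCompl Z' W')
    (AZ : Z ≃ₗ[K] Z') (hAZ : ∀ z, AZ (T.restrict hZ z) = T'.restrict hZ' (AZ z))
    (AW : W ≃ₗ[K] W') (hAW : ∀ w, AW (T.restrict hW w) = T'.restrict hW' (AW w)) :
    ∃ A : V ≃ₗ[K] V', ∀ x, A (T x) = T' (A x) := by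
  refine ⟨(Submodule.prodEquivOfIsCompl Z W h).symm ≪≫ₗ (AZ.prodCongr AW) ≪≫ₗ
    (Submodule.prodEquivOfIsCompl Z' W' h'), ?_⟩
  intro x
  obtain ⟨⟨z, w⟩, rfl⟩ := (Submodule.prodEquivOfIsCompl Z W h).surjective x
  have hT : T (Submodule.prodEquivOfIsCompl Z W h (z, w)) =
      Submodule.prodEquivOfIsCompl Z W h (T.restrict hZ z, T.restrict hW w) := by
    rw [Submodule.coe_prodEquivOfIsCompl', Submodule.coe_prodEquivOfIsCompl', map_add]
    rfl
  have hT' : ∀ z' w', T' (Submodule.prodEquivOfIsCompl Z' W' h' (z', w')) =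
      Submodule.prodEquivOfIsCompl Z' W' h' (T'.restrict hZ' z', T'.restrict hW' w') := by
    intro z' w'
    rw [Submodule.coe_prodEquivOfIsCompl', Submodule.coe_prodEquivOfIsCompl', map_add]
    rfl
  have hA : ∀ y : Z × W, ((Submodule.prodEquivOfIsCompl Z W h).symm ≪≫ₗ (AZ.prodCongr AW) ≪≫ₗ
      (Submodule.prodEquivOfIsCompl Z' W' h')) (Submodule.prodEquivOfIsCompl Z W h y) =
      Submodule.prodEquivOfIsCompl Z' W' h' (AZ y.1, AW y.2) := by
    intro y
    rw [LinearEquiv.trans_apply, LinearEquiv.trans_apply, LinearEquiv.symm_apply_apply]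
    rfl
  rw [hT, hA, hA, hT', hAZ, hAW]

end dkersum

section main

universe u

variable {K : Type*} [Field K]

/-- for a nilpotent map on a nonzero space: the nilpotency index and a vector of maximal height -/
theorem exists_index {V : Type*} [AddCommGroup V] [Module K V] [Nontrivial V]
    (T : V →ₗ[K] V) (hT : IsNilpotent T) :
    ∃ e : ℕ, 1 ≤ e ∧ T ^ e = 0 ∧ ∃ v : V, (T ^ (e - 1)) v ≠ 0 := by
  classical
  have hex : ∃ k, T ^ k = 0 := hT
  refine ⟨Nat.find hex, ?_, Nat.find_spec hex, ?_⟩
  · rw [Nat.one_le_iff_ne_zero]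
    intro h0
    have := Nat.find_spec hex
    rw [h0, pow_zero] at this
    obtain ⟨x, hx⟩ := exists_ne (0 : V)
    apply hx
    have := LinearMap.congr_fun this x
    simpa using this
  · by_contra h
    push Not at h
    have h0 : T ^ (Nat.find hex - 1) = 0 := LinearMap.ext h
    have hpos : Nat.find hex ≠ 0 := by
      intro h0'
      have := Nat.find_spec hex
      rw [h0', pow_zero] at this
      obtain ⟨x, hx⟩ := exists_ne (0 : V)
      apply hx
      have := LinearMap.congr_fun this x
      simpa using this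
    exact Nat.find_min hex (by omega) h0

theorem pow_eq_zero_iff_dker {V : Type*} [AddCommGroup V] [Module K V] [FiniteDimensional K V]
    (T : V →ₗ[K] V) (k : ℕ) : T ^ k = 0 ↔ dker T k = finrank K V := by
  unfold dker
  constructor
  · intro h
    rw [h, LinearMap.ker_zero, finrank_top]
  · intro h
    exact LinearMap.ker_eq_top.mp (Submodule.eq_top_of_finrank_eq h)

theorem finrank_eq_of_dker_eq {V V' : Type*} [AddCommGroup V] [Module K V]
    [FiniteDimensional K V] [AddCommGroup V'] [Module K V'] [FiniteDimensional K V']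
    (T : V →ₗ[K] V) (T' : V' →ₗ[K] V') (hT : IsNilpotent T) (hT' : IsNilpotent T')
    (hd : ∀ k, dker T k = dker T' k) : finrank K V = finrank K V' := by
  obtain ⟨a, ha⟩ := hT
  obtain ⟨b, hb⟩ := hT'
  have h1 := dker_eq_of_pow_eq_zero T ha (a + b) (by omega)
  have h2 := dker_eq_of_pow_eq_zero T' hb (a + b) (by omega)
  rw [← h1, ← h2, hd]

/-- nilpotent maps with the same kernel dimensions are conjugate -/
theorem exists_conj_of_dker_eq : ∀ (n : ℕ) (V V' : Type u) [AddCommGroup V] [Module K V]
    [FiniteDimensional K V] [AddCommGroup V'] [Module K V'] [FiniteDimensional K V']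
    (T : V →ₗ[K] V) (T' : V' →ₗ[K] V'), finrank K V = n → IsNilpotent T → IsNilpotent T' →
    (∀ k, dker T k = dker T' k) → ∃ A : V ≃ₗ[K] V', ∀ x, A (T x) = T' (A x) := by
  intro n
  induction n using Nat.strong_induction_on with
  | _ n ih =>
    intro V V' _ _ _ _ _ _ T T' hn hT hT' hd
    have hn' : finrank K V' = n := by rw [← finrank_eq_of_dker_eq T T' hT hT' hd, hn]
    rcases Nat.eq_zero_or_pos n with h0 | hpos
    · subst h0
      haveI : Subsingleton V' := Module.finrank_zero_iff.mp hn'
      exact ⟨LinearEquiv.ofFinrankEq V V' (by rw [hn, hn']), fun x => Subsingleton.elim _ _⟩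
    · haveI : Nontrivial V := Module.nontrivial_of_finrank_pos (R := K) (by omega)
      obtain ⟨e, he1, hTe, v, hv⟩ := exists_index T hT
      have hTe' : T' ^ e = 0 := by
        rw [pow_eq_zero_iff_dker, ← hd, hn', ← hn, ← pow_eq_zero_iff_dker]
        exact hTe
      have hv' : ∃ v' : V', (T' ^ (e - 1)) v' ≠ 0 := by
        by_contra h
        push Not at h
        have h0 : T' ^ (e - 1) = 0 := LinearMap.ext h
        rw [pow_eq_zero_iff_dker, ← hd, hn', ← hn, ← pow_eq_zero_iff_dker] at h0
        apply hv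
        rw [h0]
        rfl
      obtain ⟨v', hv'⟩ := hv'
      obtain ⟨W, hW, hc⟩ := exists_invariant_compl T e he1 hTe v hv
      obtain ⟨W', hW', hc'⟩ := exists_invariant_compl T' e he1 hTe' v' hv'
      have hZ := cyc_invariant T e hTe v
      have hZ' := cyc_invariant T' e hTe' v'
      have hdW : ∀ k, dker (T.restrict hW) k = dker (T'.restrict hW') k := by
        intro k
        have h1 := dker_of_isCompl T _ W hZ hW hc k
        have h2 := dker_of_isCompl T' _ W' hZ' hW' hc' k
        rw [dker_cyc T e he1 hTe v hv] at h1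
        rw [dker_cyc T' e he1 hTe' v' hv'] at h2
        have := hd k
        omega
      have hfW : finrank K W = n - e := by
        have := Submodule.finrank_add_eq_of_isCompl hc
        rw [finrank_cyc T e hTe v hv, hn] at this
        omega
      obtain ⟨AW, hAW⟩ := ih (n - e) (by omega) W W' (T.restrict hW) (T'.restrict hW') hfW
        (isNilpotent_restrict T W hW hT) (isNilpotent_restrict T' W' hW' hT') hdW
      have hZe : (T.restrict hZ) ^ e = 0 := by
        ext u
        rw [restrict_pow_apply, hTe]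
        rfl
      have hZe' : (T'.restrict hZ') ^ e = 0 := by
        ext u
        rw [restrict_pow_apply, hTe']
        rfl
      have hvZ : ((T.restrict hZ) ^ (e - 1)) (⟨v, mem_cyc_self T e he1 v⟩ : cyc T e v) ≠ 0 := by
        intro h
        apply hv
        have := congrArg Subtype.val h
        rwa [restrict_pow_apply] at this
      have hvZ' : ((T'.restrict hZ') ^ (e - 1))
          (⟨v', mem_cyc_self T' e he1 v'⟩ : cyc T' e v') ≠ 0 := by
        intro h
        apply hv'
        have := congrArg Subtype.val h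
        rwa [restrict_pow_apply] at this
      obtain ⟨AZ, hAZ⟩ := exists_equiv_conj₂ (T.restrict hZ) (T'.restrict hZ') e he1
        (finrank_cyc T e hTe v hv) (finrank_cyc T' e hTe' v' hv') hZe hZe' _ _ hvZ hvZ'
      exact conj_of_isCompl T T' _ W _ W' hZ hW hc hZ' hW' hc' AZ hAZ AW hAW

/-- every nilpotent map has a Jordan type computing its kernel dimensions -/
theorem exists_jordan_type : ∀ (n : ℕ) (V : Type u) [AddCommGroup V] [Module K V]
    [FiniteDimensional K V] (T : V →ₗ[K] V), finrank K V = n → IsNilpotent T →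
    ∃ μ : Multiset ℕ, (∀ b ∈ μ, 1 ≤ b) ∧ ∀ k, dker T k = (μ.map (fun b => min b k)).sum := by
  intro n
  induction n using Nat.strong_induction_on with
  | _ n ih =>
    intro V _ _ _ T hn hT
    rcases Nat.eq_zero_or_pos n with h0 | hpos
    · subst h0
      refine ⟨0, by simp, fun k => ?_⟩
      have := dker_le T k
      rw [hn] at this
      simp only [Multiset.map_zero, Multiset.sum_zero]
      omega
    · haveI : Nontrivial V := Module.nontrivial_of_finrank_pos (R := K) (by omega)
      obtain ⟨e, he1, hTe, v, hv⟩ := exists_index T hT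
      obtain ⟨W, hW, hc⟩ := exists_invariant_compl T e he1 hTe v hv
      have hZ := cyc_invariant T e hTe v
      have hfW : finrank K W = n - e := by
        have := Submodule.finrank_add_eq_of_isCompl hc
        rw [finrank_cyc T e hTe v hv, hn] at this
        omega
      obtain ⟨μ, hμ1, hμ⟩ := ih (n - e) (by omega) W (T.restrict hW) hfW
        (isNilpotent_restrict T W hW hT)
      refine ⟨e ::ₘ μ, ?_, fun k => ?_⟩
      · intro b hb
        rcases Multiset.mem_cons.mp hb with rfl | hb
        · exact he1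
        · exact hμ1 b hb
      · rw [dker_of_isCompl T _ W hZ hW hc k, dker_cyc T e he1 hTe v hv, hμ, Multiset.map_cons,
          Multiset.sum_cons]

end main

end Cfsg.Agent.Lib.Helper43
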