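import Mathlib
import Cfsg.Agent.Lib.Helper43.NilpConj

set_option autoImplicit false

/-!
Endomorphisms with scalar square in characteristic not two: invariant complements, conjugacy.
-/

namespace Cfsg.Agent.Lib.Helper43

open Module

section maschke

variable {K : Type*} [Field K] {V : Type*} [AddCommGroup V] [Module K V]

/-- an invariant subspace of an endomorphism with nonzero scalar square has an invariant
complement (characteristic not two) -/
theorem exists_invariant_compl_of_sq (h2 : (2 : K) ≠ 0) (T : V →ₗ[K] V) {c : K} (hc : c ≠ 0)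
    (hT : ∀ x, T (T x) = c • x) (Z : Submodule K V) (hZ : ∀ x ∈ Z, T x ∈ Z) :
    ∃ W : Submodule K V, (∀ x ∈ W, T x ∈ W) ∧ IsCompl Z W := by
  obtain ⟨π₀, hπ₀⟩ := Z.subtype.exists_leftInverse_of_injective Z.ker_subtype
  have hπ₀' : ∀ z : Z, π₀ (z : V) = z := fun z => LinearMap.congr_fun hπ₀ z
  let TZ : Z →ₗ[K] Z := T.restrict hZ
  have hTZ : ∀ z : Z, ((TZ z : Z) : V) = T z := fun z => rfl
  let π' : V →ₗ[K] Z := (2 : K)⁻¹ • (π₀ + c⁻¹ • (TZ ∘ₗ π₀ ∘ₗ T))
  have hπ'apply : ∀ x, π' x = (2 : K)⁻¹ • (π₀ x + c⁻¹ • TZ (π₀ (T x))) := fun x => rfl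
  have hTZ2 : ∀ z : Z, TZ (TZ z) = c • z := by
    intro z
    apply Subtype.ext
    rw [hTZ, hTZ, hT]
    rfl
  have hfix : ∀ z : Z, π' (z : V) = z := by
    intro z
    rw [hπ'apply, hπ₀']
    have h1 : π₀ (T (z : V)) = TZ z := by
      have : T (z : V) = ((TZ z : Z) : V) := rfl
      rw [this, hπ₀']
    rw [h1, hTZ2, smul_smul, inv_mul_cancel₀ hc, one_smul, ← two_smul K z, smul_smul,
      inv_mul_cancel₀ h2, one_smul]
  have hequiv : ∀ x, π' (T x) = TZ (π' x) := by
    intro x
    rw [hπ'apply, hπ'apply, hT]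
    simp only [map_smul, map_add, hTZ2, smul_smul, inv_mul_cancel₀ hc, one_smul]
    rw [add_comm]
  refine ⟨LinearMap.ker π', ?_, LinearMap.isCompl_of_proj hfix⟩
  intro w hw
  rw [LinearMap.mem_ker] at hw ⊢
  rw [hequiv, hw, map_zero]

end maschke

section nonsplit

universe u

variable {K : Type*} [Field K]

theorem linearIndependent_pair_of_nonsquare {V : Type*} [AddCommGroup V] [Module K V]
    (T : V →ₗ[K] V) {c : K} (hc : ¬ IsSquare c) (hT : ∀ x, T (T x) = c • x) (v : V)
    (hv : v ≠ 0) : LinearIndependent K ![v, T v] := by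
  rw [LinearIndependent.pair_iff]
  intro s t hst
  by_cases ht : t = 0
  · subst ht
    rw [zero_smul, add_zero] at hst
    exact ⟨(smul_eq_zero.mp hst).resolve_right hv, rfl⟩
  · exfalso
    apply hc
    have h1 : T v = (-(s / t)) • v := by
      have h3 : t • T v = -(s • v) := eq_neg_of_add_eq_zero_right hst
      have h4 : T v = t⁻¹ • (t • T v) := by rw [smul_smul, inv_mul_cancel₀ ht, one_smul]
      rw [h4, h3, smul_neg, smul_smul, neg_smul]
      congr 2
      field_simp
    have h2 : c • v = ((-(s / t)) * (-(s / t))) • v := by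
      rw [← hT, h1, map_smul, h1, smul_smul]
    refine ⟨-(s / t), ?_⟩
    have h3 : (c - (-(s / t)) * (-(s / t))) • v = 0 := by rw [sub_smul, h2, sub_self]
    exact sub_eq_zero.mp ((smul_eq_zero.mp h3).resolve_right hv)

/-- the invariant plane spanned by `v` and `T v` -/
def plane {V : Type*} [AddCommGroup V] [Module K V] (T : V →ₗ[K] V) (v : V) : Submodule K V :=
  Submodule.span K (Set.range ![v, T v])

theorem plane_invariant {V : Type*} [AddCommGroup V] [Module K V] (T : V →ₗ[K] V) {c : K}
    (hT : ∀ x, T (T x) = c • x) (v : V) : ∀ x ∈ plane T v, T x ∈ plane T v := by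
  intro x hx
  have hmap : (plane T v).map T ≤ plane T v := by
    unfold plane
    rw [Submodule.map_span, Submodule.span_le]
    rintro _ ⟨_, ⟨i, rfl⟩, rfl⟩
    fin_cases i
    · apply Submodule.subset_span
      exact ⟨1, rfl⟩
    · show T (T v) ∈ _
      rw [hT]
      apply Submodule.smul_mem
      apply Submodule.subset_span
      exact ⟨0, rfl⟩
  exact hmap ⟨x, hx, rfl⟩

theorem exists_plane_conj {V V' : Type*} [AddCommGroup V] [Module K V] [AddCommGroup V']
    [Module K V'] (T : V →ₗ[K] V) (T' : V' →ₗ[K] V') {c : K} (hc : ¬ IsSquare c)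
    (hT : ∀ x, T (T x) = c • x) (hT' : ∀ x, T' (T' x) = c • x) (v : V) (hv : v ≠ 0) (v' : V')
    (hv' : v' ≠ 0) :
    ∃ A : plane T v ≃ₗ[K] plane T' v', ∀ z, A (T.restrict (plane_invariant T hT v) z) =
      T'.restrict (plane_invariant T' hT' v') (A z) := by
  have hli := linearIndependent_pair_of_nonsquare T hc hT v hv
  have hli' := linearIndependent_pair_of_nonsquare T' hc hT' v' hv'
  let b : Basis (Fin 2) K (plane T v) := Basis.span hli
  let b' : Basis (Fin 2) K (plane T' v') := Basis.span hli'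
  have hb : ∀ i, ((b i : plane T v) : V) = ![v, T v] i :=
    fun i => congrArg Subtype.val (Basis.span_apply hli i)
  have hb' : ∀ i, ((b' i : plane T' v') : V') = ![v', T' v'] i :=
    fun i => congrArg Subtype.val (Basis.span_apply hli' i)
  have hT0 : T.restrict (plane_invariant T hT v) (b 0) = b 1 := by
    apply Subtype.ext
    rw [LinearMap.coe_restrict_apply, hb, hb]
    rfl
  have hT1 : T.restrict (plane_invariant T hT v) (b 1) = c • b 0 := by
    apply Subtype.ext
    rw [LinearMap.coe_restrict_apply, Submodule.coe_smul, hb, hb]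
    exact hT v
  have hT0' : T'.restrict (plane_invariant T' hT' v') (b' 0) = b' 1 := by
    apply Subtype.ext
    rw [LinearMap.coe_restrict_apply, hb', hb']
    rfl
  have hT1' : T'.restrict (plane_invariant T' hT' v') (b' 1) = c • b' 0 := by
    apply Subtype.ext
    rw [LinearMap.coe_restrict_apply, Submodule.coe_smul, hb', hb']
    exact hT' v'
  refine ⟨b.equiv b' (Equiv.refl _), ?_⟩
  have hcomp : (b.equiv b' (Equiv.refl _)).toLinearMap ∘ₗ T.restrict (plane_invariant T hT v) =
      T'.restrict (plane_invariant T' hT' v') ∘ₗ (b.equiv b' (Equiv.refl _)).toLinearMap := by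
    apply b.ext
    intro i
    rw [LinearMap.comp_apply, LinearMap.comp_apply, LinearEquiv.coe_coe,
      Basis.equiv_apply, Equiv.refl_apply]
    fin_cases i
    · show (b.equiv b' (Equiv.refl _)) (T.restrict _ (b 0)) = T'.restrict _ (b' 0)
      rw [hT0, hT0', Basis.equiv_apply, Equiv.refl_apply]
    · show (b.equiv b' (Equiv.refl _)) (T.restrict _ (b 1)) = T'.restrict _ (b' 1)
      rw [hT1, hT1', map_smul, Basis.equiv_apply, Equiv.refl_apply]
  intro z
  exact LinearMap.congr_fun hcomp z

theorem finrank_plane {V : Type*} [AddCommGroup V] [Module K V] [FiniteDimensional K V]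
    (T : V →ₗ[K] V) {c : K} (hc : ¬ IsSquare c) (hT : ∀ x, T (T x) = c • x) (v : V)
    (hv : v ≠ 0) : finrank K (plane T v) = 2 := by
  unfold plane
  rw [finrank_span_eq_card (linearIndependent_pair_of_nonsquare T hc hT v hv), Fintype.card_fin]

/-- endomorphisms with the same non-square scalar square on spaces of the same dimension are
conjugate -/
theorem exists_conj_of_sq_nonsquare (h2 : (2 : K) ≠ 0) {c : K} (hc : ¬ IsSquare c) :
    ∀ (n : ℕ) (V V' : Type u) [AddCommGroup V] [Module K V] [FiniteDimensional K V]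
    [AddCommGroup V'] [Module K V'] [FiniteDimensional K V'] (T : V →ₗ[K] V)
    (T' : V' →ₗ[K] V'), finrank K V = n → finrank K V' = n → (∀ x, T (T x) = c • x) →
    (∀ x, T' (T' x) = c • x) → ∃ A : V ≃ₗ[K] V', ∀ x, A (T x) = T' (A x) := by
  have hc0 : c ≠ 0 := by
    rintro rfl
    exact hc ⟨0, by simp⟩
  intro n
  induction n using Nat.strong_induction_on with
  | _ n ih =>
    intro V V' _ _ _ _ _ _ T T' hn hn' hT hT'
    rcases Nat.eq_zero_or_pos n with h0 | hpos
    · subst h0
      haveI : Subsingleton V' := Module.finrank_zero_iff.mp hn'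
      exact ⟨LinearEquiv.ofFinrankEq V V' (by rw [hn, hn']), fun x => Subsingleton.elim _ _⟩
    · haveI : Nontrivial V := Module.nontrivial_of_finrank_pos (R := K) (by omega)
      haveI : Nontrivial V' := Module.nontrivial_of_finrank_pos (R := K) (by omega)
      obtain ⟨v, hv⟩ := exists_ne (0 : V)
      obtain ⟨v', hv'⟩ := exists_ne (0 : V')
      have hZ := plane_invariant T hT v
      have hZ' := plane_invariant T' hT' v'
      obtain ⟨W, hW, hcW⟩ := exists_invariant_compl_of_sq h2 T hc0 hT (plane T v) hZ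
      obtain ⟨W', hW', hcW'⟩ := exists_invariant_compl_of_sq h2 T' hc0 hT' (plane T' v') hZ'
      have hfW : finrank K W = n - 2 := by
        have := Submodule.finrank_add_eq_of_isCompl hcW
        rw [finrank_plane T hc hT v hv, hn] at this
        omega
      have hfW' : finrank K W' = n - 2 := by
        have := Submodule.finrank_add_eq_of_isCompl hcW'
        rw [finrank_plane T' hc hT' v' hv', hn'] at this
        omega
      have hn2 : 2 ≤ n := by
        have := Submodule.finrank_le (plane T v)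
        rw [finrank_plane T hc hT v hv, hn] at this
        exact this
      obtain ⟨AW, hAW⟩ := ih (n - 2) (by omega) W W' (T.restrict hW) (T'.restrict hW') hfW hfW'
        (fun x => Subtype.ext (hT x)) (fun x => Subtype.ext (hT' x))
      obtain ⟨AZ, hAZ⟩ := exists_plane_conj T T' hc hT hT' v hv v' hv'
      exact conj_of_isCompl T T' _ W _ W' hZ hW hcW hZ' hW' hcW' AZ hAZ AW hAW

/-- the dimension is even when the scalar square is a non-square -/
theorem even_finrank_of_sq_nonsquare (h2 : (2 : K) ≠ 0) {c : K} (hc : ¬ IsSquare c) :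
    ∀ (n : ℕ) (V : Type u) [AddCommGroup V] [Module K V] [FiniteDimensional K V]
    (T : V →ₗ[K] V), finrank K V = n → (∀ x, T (T x) = c • x) → Even n := by
  have hc0 : c ≠ 0 := by
    rintro rfl
    exact hc ⟨0, by simp⟩
  intro n
  induction n using Nat.strong_induction_on with
  | _ n ih =>
    intro V _ _ _ T hn hT
    rcases Nat.eq_zero_or_pos n with h0 | hpos
    · subst h0; exact ⟨0, rfl⟩
    · haveI : Nontrivial V := Module.nontrivial_of_finrank_pos (R := K) (by omega)
      obtain ⟨v, hv⟩ := exists_ne (0 : V)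
      have hZ := plane_invariant T hT v
      obtain ⟨W, hW, hcW⟩ := exists_invariant_compl_of_sq h2 T hc0 hT (plane T v) hZ
      have hsum := Submodule.finrank_add_eq_of_isCompl hcW
      rw [finrank_plane T hc hT v hv, hn] at hsum
      have hfW : finrank K W = n - 2 := by omega
      have := ih (n - 2) (by omega) W (T.restrict hW) hfW (fun x => Subtype.ext (hT x))
      obtain ⟨k, hk⟩ := this
      exact ⟨k + 1, by omega⟩

end nonsplit

section split

variable {K : Type*} [Field K]

/-- the eigenspace -/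
def eig {V : Type*} [AddCommGroup V] [Module K V] (T : V →ₗ[K] V) (ν : K) : Submodule K V :=
  LinearMap.ker (T - ν • (1 : V →ₗ[K] V))

theorem mem_eig {V : Type*} [AddCommGroup V] [Module K V] (T : V →ₗ[K] V) (ν : K) (x : V) :
    x ∈ eig T ν ↔ T x = ν • x := by
  unfold eig
  rw [LinearMap.mem_ker, LinearMap.sub_apply, LinearMap.smul_apply, Module.End.one_apply,
    sub_eq_zero]

theorem eig_invariant {V : Type*} [AddCommGroup V] [Module K V] (T : V →ₗ[K] V) (ν : K) :
    ∀ x ∈ eig T ν, T x ∈ eig T ν := by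
  intro x hx
  rw [mem_eig] at hx ⊢
  rw [hx, map_smul, hx]

theorem isCompl_eig_of_sq {V : Type*} [AddCommGroup V] [Module K V] (h2 : (2 : K) ≠ 0)
    (T : V →ₗ[K] V) {μ : K} (hμ : μ ≠ 0) (hT : ∀ x, T (T x) = (μ * μ) • x) :
    IsCompl (eig T μ) (eig T (-μ)) := by
  have h2μ : (2 : K) * μ ≠ 0 := mul_ne_zero h2 hμ
  constructor
  · rw [Submodule.disjoint_def]
    intro x hx1 hx2
    rw [mem_eig] at hx1 hx2
    have h : ((2 : K) * μ) • x = 0 := by
      rw [mul_smul, two_smul]
      nth_rewrite 1 [← hx1]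
      rw [hx2, neg_smul, neg_add_cancel]
    exact (smul_eq_zero.mp h).resolve_left h2μ
  · rw [codisjoint_iff, eq_top_iff]
    intro x _
    have hx : x = ((2 : K) * μ)⁻¹ • (T x + μ • x) + ((2 : K) * μ)⁻¹ • (μ • x - T x) := by
      rw [← smul_add]
      have : T x + μ • x + (μ • x - T x) = ((2 : K) * μ) • x := by
        rw [mul_smul, two_smul]; abel
      rw [this, smul_smul, inv_mul_cancel₀ h2μ, one_smul]
    rw [hx]
    apply Submodule.add_mem_sup
    · apply Submodule.smul_mem
      rw [mem_eig, map_add, map_smul, hT, smul_add, mul_smul, add_comm]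
    · apply Submodule.smul_mem
      rw [mem_eig, map_sub, map_smul, hT, smul_sub, neg_smul, neg_smul, mul_smul]
      abel

theorem exists_conj_of_sq_split {V V' : Type*} [AddCommGroup V] [Module K V]
    [FiniteDimensional K V] [AddCommGroup V'] [Module K V'] [FiniteDimensional K V']
    (h2 : (2 : K) ≠ 0) (T : V →ₗ[K] V) (T' : V' →ₗ[K] V') {μ : K} (hμ : μ ≠ 0)
    (hT : ∀ x, T (T x) = (μ * μ) • x) (hT' : ∀ x, T' (T' x) = (μ * μ) • x)
    (ha : finrank K (eig T μ) = finrank K (eig T' μ))
    (hb : finrank K (eig T (-μ)) = finrank K (eig T' (-μ))) :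
    ∃ A : V ≃ₗ[K] V', ∀ x, A (T x) = T' (A x) := by
  apply conj_of_isCompl T T' (eig T μ) (eig T (-μ)) (eig T' μ) (eig T' (-μ))
    (eig_invariant T μ) (eig_invariant T (-μ)) (isCompl_eig_of_sq h2 T hμ hT)
    (eig_invariant T' μ) (eig_invariant T' (-μ)) (isCompl_eig_of_sq h2 T' hμ hT')
    (LinearEquiv.ofFinrankEq _ _ ha) _ (LinearEquiv.ofFinrankEq _ _ hb)
  · intro w
    have h1 : T.restrict (eig_invariant T (-μ)) w = (-μ) • w :=
      Subtype.ext ((mem_eig T (-μ) w).mp w.2)
    have h2' : ∀ w' : eig T' (-μ), T'.restrict (eig_invariant T' (-μ)) w' = (-μ) • w' :=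
      fun w' => Subtype.ext ((mem_eig T' (-μ) w').mp w'.2)
    rw [h1, h2', map_smul]
  · intro z
    have h1 : T.restrict (eig_invariant T μ) z = μ • z :=
      Subtype.ext ((mem_eig T μ z).mp z.2)
    have h2' : ∀ z' : eig T' μ, T'.restrict (eig_invariant T' μ) z' = μ • z' :=
      fun z' => Subtype.ext ((mem_eig T' μ z').mp z'.2)
    rw [h1, h2', map_smul]

end split

end Cfsg.Agent.Lib.Helper43
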