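import Mathlib
import Cfsg.Agent.Lib.Helper43.InvolConj

set_option autoImplicit false

/-!
Matrices with scalar square over a finite field of odd characteristic: the invariant
`rmin M = min over ν of rank (M - ν)`, and classification up to conjugacy and scaling.
-/

namespace Cfsg.Agent.Lib.Helper43

open Module Matrix

section

variable {F : Type*} [Field F] {n : ℕ}

/-- the dimension of the eigenspace -/
noncomputable def edim (M : Matrix (Fin n) (Fin n) F) (ν : F) : ℕ :=
  finrank F (eig (Matrix.toLin' M) ν)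

theorem rank_sub_add_edim (M : Matrix (Fin n) (Fin n) F) (ν : F) :
    (M - ν • (1 : Matrix (Fin n) (Fin n) F)).rank + edim M ν = n := by
  have h := LinearMap.finrank_range_add_finrank_ker
    (Matrix.toLin' (M - ν • (1 : Matrix (Fin n) (Fin n) F)))
  rw [Module.finrank_fintype_fun_eq_card, Fintype.card_fin] at h
  have e1 : (M - ν • (1 : Matrix (Fin n) (Fin n) F)).rank =
      finrank F (LinearMap.range (Matrix.toLin' (M - ν • (1 : Matrix (Fin n) (Fin n) F)))) := by
    rw [Matrix.rank, Matrix.toLin'_apply']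
  have e2 : edim M ν =
      finrank F (LinearMap.ker (Matrix.toLin' (M - ν • (1 : Matrix (Fin n) (Fin n) F)))) := by
    unfold edim eig
    rw [map_sub, map_smul, Matrix.toLin'_one]
    rfl
  omega

theorem toLin_sq {M : Matrix (Fin n) (Fin n) F} {c : F}
    (hM : M * M = c • (1 : Matrix (Fin n) (Fin n) F)) (x : Fin n → F) :
    Matrix.toLin' M (Matrix.toLin' M x) = c • x := by
  rw [← Matrix.toLin'_mul_apply, hM, map_smul, Matrix.toLin'_one]
  rfl

theorem rank_eq_of_sq_ne {M : Matrix (Fin n) (Fin n) F} {c : F}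
    (hM : M * M = c • (1 : Matrix (Fin n) (Fin n) F)) (ν : F) (hν : ν * ν ≠ c) :
    (M - ν • (1 : Matrix (Fin n) (Fin n) F)).rank = n := by
  have h1 : (M - ν • (1 : Matrix (Fin n) (Fin n) F)) * (M + ν • (1 : Matrix (Fin n) (Fin n) F)) =
      (c - ν * ν) • (1 : Matrix (Fin n) (Fin n) F) := by
    rw [sub_mul, mul_add, mul_add, hM, Matrix.mul_smul, Matrix.smul_mul, Matrix.smul_mul,
      Matrix.mul_smul, mul_one, one_mul, mul_one, smul_smul, sub_smul]
    abel
  have hne : c - ν * ν ≠ 0 := fun h => hν (sub_eq_zero.mp h).symm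
  have h3 : (M - ν • (1 : Matrix (Fin n) (Fin n) F)) *
      ((c - ν * ν)⁻¹ • (M + ν • (1 : Matrix (Fin n) (Fin n) F))) = 1 := by
    rw [Matrix.mul_smul, h1, smul_smul, inv_mul_cancel₀ hne, one_smul]
  have hu : IsUnit (M - ν • (1 : Matrix (Fin n) (Fin n) F)) :=
    ⟨⟨_, _, h3, mul_eq_one_comm.mp h3⟩, rfl⟩
  rw [Matrix.rank_of_isUnit _ hu, Fintype.card_fin]

variable [Fintype F]

/-- the minimum over `ν` of the rank of `M - ν` -/
noncomputable def rmin (M : Matrix (Fin n) (Fin n) F) : ℕ :=
  Finset.univ.inf' Finset.univ_nonempty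
    (fun ν : F => (M - ν • (1 : Matrix (Fin n) (Fin n) F)).rank)

theorem rmin_le (M : Matrix (Fin n) (Fin n) F) (ν : F) :
    rmin M ≤ (M - ν • (1 : Matrix (Fin n) (Fin n) F)).rank :=
  Finset.inf'_le _ (Finset.mem_univ ν)

theorem le_rmin_iff (M : Matrix (Fin n) (Fin n) F) (k : ℕ) :
    k ≤ rmin M ↔ ∀ ν : F, k ≤ (M - ν • (1 : Matrix (Fin n) (Fin n) F)).rank := by
  unfold rmin
  rw [Finset.le_inf'_iff]
  simp

theorem rmin_conj (P P' M : Matrix (Fin n) (Fin n) F) (hPP' : P * P' = 1) :
    rmin (P * M * P') = rmin M := by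
  have hP'P : P' * P = 1 := mul_eq_one_comm.mp hPP'
  have hPdet : IsUnit P.det := (Matrix.isUnit_iff_isUnit_det _).mp ⟨⟨P, P', hPP', hP'P⟩, rfl⟩
  have hP'det : IsUnit P'.det := (Matrix.isUnit_iff_isUnit_det _).mp ⟨⟨P', P, hP'P, hPP'⟩, rfl⟩
  have h : ∀ ν : F, (P * M * P' - ν • (1 : Matrix (Fin n) (Fin n) F)).rank =
      (M - ν • (1 : Matrix (Fin n) (Fin n) F)).rank := by
    intro ν
    have h1 : P * M * P' - ν • (1 : Matrix (Fin n) (Fin n) F) =
        P * (M - ν • (1 : Matrix (Fin n) (Fin n) F)) * P' := by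
      rw [mul_sub, sub_mul, Matrix.mul_smul, Matrix.smul_mul, mul_one, hPP']
    rw [h1, Matrix.rank_mul_eq_left_of_isUnit_det _ _ hP'det,
      Matrix.rank_mul_eq_right_of_isUnit_det _ _ hPdet]
  unfold rmin
  congr 1
  funext ν
  exact h ν

theorem rmin_smul (M : Matrix (Fin n) (Fin n) F) {s : F} (hs : s ≠ 0) :
    rmin (s • M) = rmin M := by
  have h : ∀ (t : F) (ht : t ≠ 0) (N : Matrix (Fin n) (Fin n) F), rmin N ≤ rmin (t • N) := by
    intro t ht N
    rw [le_rmin_iff]
    intro ν
    have h1 : t • N - ν • (1 : Matrix (Fin n) (Fin n) F) =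
        t • (N - (t⁻¹ * ν) • (1 : Matrix (Fin n) (Fin n) F)) := by
      rw [smul_sub, smul_smul, ← mul_assoc, mul_inv_cancel₀ ht, one_mul]
    rw [h1, Matrix.rank_smul_of_mem_nonZeroDivisors _ (mem_nonZeroDivisors_of_ne_zero ht)]
    exact rmin_le N _
  apply le_antisymm
  · have := h s⁻¹ (inv_ne_zero hs) (s • M)
    rwa [smul_smul, inv_mul_cancel₀ hs, one_smul] at this
  · exact h s hs M

theorem rmin_nonsplit {M : Matrix (Fin n) (Fin n) F} {c : F}
    (hM : M * M = c • (1 : Matrix (Fin n) (Fin n) F)) (hc : ¬ IsSquare c) : rmin M = n := by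
  apply le_antisymm
  · have := rmin_le M 0
    have h2 := Matrix.rank_le_card_width (M - (0 : F) • (1 : Matrix (Fin n) (Fin n) F))
    rw [Fintype.card_fin] at h2
    omega
  · rw [le_rmin_iff]
    intro ν
    rw [rank_eq_of_sq_ne hM ν (fun h => hc ⟨ν, h.symm⟩)]

theorem edim_add_edim (h2 : (2 : F) ≠ 0) {M : Matrix (Fin n) (Fin n) F} {μ : F} (hμ : μ ≠ 0)
    (hM : M * M = (μ * μ) • (1 : Matrix (Fin n) (Fin n) F)) : edim M μ + edim M (-μ) = n := by
  have := Submodule.finrank_add_eq_of_isCompl
    (isCompl_eig_of_sq h2 (Matrix.toLin' M) hμ (toLin_sq hM))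
  rw [Module.finrank_fintype_fun_eq_card, Fintype.card_fin] at this
  exact this

theorem rmin_split (h2 : (2 : F) ≠ 0) {M : Matrix (Fin n) (Fin n) F} {μ : F} (hμ : μ ≠ 0)
    (hM : M * M = (μ * μ) • (1 : Matrix (Fin n) (Fin n) F)) :
    rmin M = min (edim M μ) (edim M (-μ)) := by
  have hsum := edim_add_edim h2 hμ hM
  have h1 := rank_sub_add_edim M μ
  have h2' := rank_sub_add_edim M (-μ)
  apply le_antisymm
  · rw [le_min_iff]
    constructor
    · have := rmin_le M (-μ); omega
    · have := rmin_le M μ; omega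
  · rw [le_rmin_iff]
    intro ν
    by_cases hν1 : ν = μ
    · subst hν1
      have := min_le_right (edim M ν) (edim M (-ν)); omega
    · by_cases hν2 : ν = -μ
      · subst hν2
        have := min_le_left (edim M μ) (edim M (-μ)); omega
      · have hne : ν * ν ≠ μ * μ := by
          intro h
          have h3 : (ν - μ) * (ν + μ) = 0 := by ring_nf; linear_combination h
          rcases mul_eq_zero.mp h3 with h4 | h4
          · exact hν1 (sub_eq_zero.mp h4)
          · exact hν2 (eq_neg_of_add_eq_zero_left h4)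
        rw [rank_eq_of_sq_ne hM ν hne]
        have := min_le_left (edim M μ) (edim M (-μ)); omega

theorem eq_smul_one_of_edim_eq {M : Matrix (Fin n) (Fin n) F} {ν : F} (h : edim M ν = n) :
    M = ν • (1 : Matrix (Fin n) (Fin n) F) := by
  have htop : eig (Matrix.toLin' M) ν = ⊤ := by
    apply Submodule.eq_top_of_finrank_eq
    rw [Module.finrank_fintype_fun_eq_card, Fintype.card_fin]
    exact h
  apply Matrix.toLin'.injective
  apply LinearMap.ext
  intro x
  have hx : x ∈ eig (Matrix.toLin' M) ν := by rw [htop]; exact Submodule.mem_top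
  rw [mem_eig] at hx
  rw [hx, map_smul, Matrix.toLin'_one]
  rfl

theorem edim_smul (M : Matrix (Fin n) (Fin n) F) {t : F} (ht : t ≠ 0) (ν : F) :
    edim (t • M) (t * ν) = edim M ν := by
  unfold edim
  have : eig (Matrix.toLin' (t • M)) (t * ν) = eig (Matrix.toLin' M) ν := by
    ext x
    rw [mem_eig, mem_eig, map_smul, LinearMap.smul_apply, mul_smul]
    constructor
    · intro h
      exact smul_right_injective _ ht h
    · intro h
      rw [h]
  rw [this]

theorem exists_matrix_conj_of_equiv {M N : Matrix (Fin n) (Fin n) F}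
    (A : (Fin n → F) ≃ₗ[F] (Fin n → F))
    (hA : ∀ x, A (Matrix.toLin' M x) = Matrix.toLin' N (A x)) :
    ∃ P P' : Matrix (Fin n) (Fin n) F, P * P' = 1 ∧ P * M * P' = N := by
  refine ⟨LinearMap.toMatrix' A.toLinearMap, LinearMap.toMatrix' A.symm.toLinearMap, ?_, ?_⟩
  · rw [← LinearMap.toMatrix'_comp, LinearEquiv.comp_symm, LinearMap.toMatrix'_id]
  · have h1 : LinearMap.toMatrix' A.toLinearMap * M = N * LinearMap.toMatrix' A.toLinearMap := by
      apply Matrix.toLin'.injective
      rw [Matrix.toLin'_mul, Matrix.toLin'_mul, Matrix.toLin'_toMatrix']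
      apply LinearMap.ext
      intro x
      exact hA x
    rw [h1, Matrix.mul_assoc, ← LinearMap.toMatrix'_comp, LinearEquiv.comp_symm,
      LinearMap.toMatrix'_id, mul_one]

/-- non-scalar matrices with scalar squares and the same invariant `rmin` are conjugate up to
a scalar -/
theorem exists_conj_smul [DecidableEq F] (h2 : (2 : F) ≠ 0) (hn : 1 ≤ n)
    {M M' : Matrix (Fin n) (Fin n) F} {c c' : F} (hc : c ≠ 0) (hc' : c' ≠ 0)
    (hM : M * M = c • (1 : Matrix (Fin n) (Fin n) F))
    (hM' : M' * M' = c' • (1 : Matrix (Fin n) (Fin n) F))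
    (hns : ∀ a : F, M ≠ a • (1 : Matrix (Fin n) (Fin n) F))
    (hns' : ∀ a : F, M' ≠ a • (1 : Matrix (Fin n) (Fin n) F)) (hr : rmin M = rmin M') :
    ∃ P P' : Matrix (Fin n) (Fin n) F, P * P' = 1 ∧ ∃ s : F, s ≠ 0 ∧ P * M * P' = s • M' := by
  -- the split case has small rmin
  have hsplit : ∀ (N : Matrix (Fin n) (Fin n) F) (μ : F), μ ≠ 0 →
      N * N = (μ * μ) • (1 : Matrix (Fin n) (Fin n) F) →
      (∀ a : F, N ≠ a • (1 : Matrix (Fin n) (Fin n) F)) →
      1 ≤ edim N μ ∧ 1 ≤ edim N (-μ) ∧ rmin N < n := by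
    intro N μ hμ hN hNs
    have hsum := edim_add_edim h2 hμ hN
    have h1 : edim N μ ≠ n := fun h => hNs μ (eq_smul_one_of_edim_eq h)
    have h2' : edim N (-μ) ≠ n := fun h => hNs (-μ) (eq_smul_one_of_edim_eq h)
    have hmin := rmin_split h2 hμ hN
    have := min_le_left (edim N μ) (edim N (-μ))
    refine ⟨by omega, by omega, by omega⟩
  by_cases hsq : IsSquare c
  · obtain ⟨μ, rfl⟩ := hsq
    have hμ : μ ≠ 0 := fun h => hc (by rw [h, mul_zero])
    obtain ⟨ha1, hb1, hlt⟩ := hsplit M μ hμ hM hns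
    by_cases hsq' : IsSquare c'
    · obtain ⟨μ', rfl⟩ := hsq'
      have hμ' : μ' ≠ 0 := fun h => hc' (by rw [h, mul_zero])
      have ht : μ / μ' ≠ 0 := div_ne_zero hμ hμ'
      -- rescale M'
      have hN : ((μ / μ') • M') * ((μ / μ') • M') = (μ * μ) • (1 : Matrix (Fin n) (Fin n) F) := by
        rw [Matrix.smul_mul, Matrix.mul_smul, hM', smul_smul, smul_smul]
        congr 1
        field_simp
      have hNa : edim ((μ / μ') • M') μ = edim M' μ' := by
        have := edim_smul M' ht μ'
        rwa [div_mul_cancel₀ μ hμ'] at this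
      have hNb : edim ((μ / μ') • M') (-μ) = edim M' (-μ') := by
        have := edim_smul M' ht (-μ')
        rwa [mul_neg, div_mul_cancel₀ μ hμ'] at this
      have hsum := edim_add_edim h2 hμ hM
      have hsum' := edim_add_edim h2 hμ hN
      have hmin := rmin_split h2 hμ hM
      have hmin' := rmin_split h2 hμ hN
      rw [rmin_smul M' ht] at hmin'
      by_cases hcase : edim M μ = edim ((μ / μ') • M') μ
      · obtain ⟨A, hA⟩ := exists_conj_of_sq_split h2 (Matrix.toLin' M)
          (Matrix.toLin' ((μ / μ') • M')) hμ (toLin_sq hM) (toLin_sq hN) hcase (by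
            show edim M (-μ) = edim ((μ / μ') • M') (-μ)
            omega)
        obtain ⟨P, P', hPP', hconj⟩ := exists_matrix_conj_of_equiv A hA
        exact ⟨P, P', hPP', μ / μ', ht, hconj⟩
      · -- the eigenspace dimensions are swapped: use the negative
        have hcase' : edim M μ = edim ((μ / μ') • M') (-μ) := by
          rcases min_choice (edim M μ) (edim M (-μ)) with h | h <;>
          rcases min_choice (edim ((μ / μ') • M') μ) (edim ((μ / μ') • M') (-μ)) with h' | h' <;>
          omega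
        have hN2 : (-((μ / μ') • M')) * (-((μ / μ') • M')) =
            (μ * μ) • (1 : Matrix (Fin n) (Fin n) F) := by
          rw [neg_mul_neg, hN]
        have hneg : ∀ ν : F, edim (-((μ / μ') • M')) ν = edim ((μ / μ') • M') (-ν) := by
          intro ν
          have := edim_smul ((μ / μ') • M') (neg_ne_zero.mpr (one_ne_zero (α := F))) (-ν)
          rw [neg_one_smul, neg_one_mul, neg_neg] at this
          exact this
        obtain ⟨A, hA⟩ := exists_conj_of_sq_split h2 (Matrix.toLin' M)
          (Matrix.toLin' (-((μ / μ') • M'))) hμ (toLin_sq hM) (toLin_sq hN2) (by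
            show edim M μ = edim (-((μ / μ') • M')) μ
            rw [hneg]; exact hcase') (by
            show edim M (-μ) = edim (-((μ / μ') • M')) (-μ)
            rw [hneg, neg_neg]; omega)
        obtain ⟨P, P', hPP', hconj⟩ := exists_matrix_conj_of_equiv A hA
        refine ⟨P, P', hPP', -(μ / μ'), neg_ne_zero.mpr ht, ?_⟩
        rw [hconj, neg_smul]
    · exfalso
      rw [rmin_nonsplit hM' hsq'] at hr
      omega
  · by_cases hsq' : IsSquare c'
    · exfalso
      obtain ⟨μ', rfl⟩ := hsq'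
      have hμ' : μ' ≠ 0 := fun h => hc' (by rw [h, mul_zero])
      obtain ⟨-, -, hlt⟩ := hsplit M' μ' hμ' hM' hns'
      rw [rmin_nonsplit hM hsq] at hr
      omega
    · -- both non-split
      have hsq'' : IsSquare (c / c') := by
        rw [← quadraticChar_one_iff_isSquare (div_ne_zero hc hc'), div_eq_mul_inv, map_mul,
          quadraticChar_neg_one_iff_not_isSquare.mpr hsq]
        have h1 : quadraticChar F c'⁻¹ = -1 := by
          rw [quadraticChar_neg_one_iff_not_isSquare]
          intro h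
          apply hsq'
          obtain ⟨r, hr⟩ := h
          refine ⟨r⁻¹, ?_⟩
          rw [← mul_inv, ← hr, inv_inv]
        rw [h1]
        norm_num
      obtain ⟨s, hs⟩ := hsq''
      have hs0 : s ≠ 0 := by
        rintro rfl
        rw [mul_zero] at hs
        exact (div_ne_zero hc hc') hs
      have hN : (s • M') * (s • M') = c • (1 : Matrix (Fin n) (Fin n) F) := by
        rw [Matrix.smul_mul, Matrix.mul_smul, hM', smul_smul, smul_smul, ← hs,
          div_mul_cancel₀ c hc']
      obtain ⟨A, hA⟩ := exists_conj_of_sq_nonsquare h2 hsq n (Fin n → F) (Fin n → F)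
        (Matrix.toLin' M) (Matrix.toLin' (s • M'))
        (by rw [Module.finrank_fintype_fun_eq_card, Fintype.card_fin])
        (by rw [Module.finrank_fintype_fun_eq_card, Fintype.card_fin]) (toLin_sq hM) (toLin_sq hN)
      obtain ⟨P, P', hPP', hconj⟩ := exists_matrix_conj_of_equiv A hA
      exact ⟨P, P', hPP', s, hs0, hconj⟩

/-- the possible values of `rmin` on non-scalar matrices with scalar square -/
theorem rmin_mem_of_sq (h2 : (2 : F) ≠ 0) {M : Matrix (Fin n) (Fin n) F} {c : F} (hc : c ≠ 0)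
    (hM : M * M = c • (1 : Matrix (Fin n) (Fin n) F))
    (hns : ∀ a : F, M ≠ a • (1 : Matrix (Fin n) (Fin n) F)) :
    (1 ≤ rmin M ∧ 2 * rmin M ≤ n) ∨ (rmin M = n ∧ Even n) := by
  by_cases hsq : IsSquare c
  · left
    obtain ⟨μ, rfl⟩ := hsq
    have hμ : μ ≠ 0 := fun h => hc (by rw [h, mul_zero])
    have hsum := edim_add_edim h2 hμ hM
    have h1 : edim M μ ≠ n := fun h => hns μ (eq_smul_one_of_edim_eq h)
    have h2' : edim M (-μ) ≠ n := fun h => hns (-μ) (eq_smul_one_of_edim_eq h)
    have hmin := rmin_split h2 hμ hM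
    rcases min_choice (edim M μ) (edim M (-μ)) with h | h
    · have := min_le_right (edim M μ) (edim M (-μ))
      constructor <;> omega
    · have := min_le_left (edim M μ) (edim M (-μ))
      constructor <;> omega
  · right
    refine ⟨rmin_nonsplit hM hsq, ?_⟩
    exact even_finrank_of_sq_nonsquare h2 hsq n (Fin n → F) (Matrix.toLin' M)
      (by rw [Module.finrank_fintype_fun_eq_card, Fintype.card_fin]) (toLin_sq hM)

/-- a diagonal involution with `b` entries `-1` -/
theorem exists_split_rep [DecidableEq F] (h2 : (2 : F) ≠ 0) (b : ℕ) (hb1 : 1 ≤ b)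
    (hb2 : 2 * b ≤ n) :
    ∃ M : Matrix (Fin n) (Fin n) F, M * M = 1 ∧
      (∀ a : F, M ≠ a • (1 : Matrix (Fin n) (Fin n) F)) ∧ rmin M = b := by
  have hne : (1 : F) ≠ -1 := by
    intro h
    apply h2
    have : (2 : F) = 1 + 1 := by norm_num
    rw [this]
    nth_rewrite 2 [h]
    rw [add_neg_cancel]
  let d : Fin n → F := fun i => if (i : ℕ) < b then -1 else 1
  have hdd : ∀ i, d i * d i = 1 := by
    intro i
    show (if (i : ℕ) < b then (-1 : F) else 1) * (if (i : ℕ) < b then (-1 : F) else 1) = 1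
    split_ifs <;> norm_num
  have hM : diagonal d * diagonal d = (1 : Matrix (Fin n) (Fin n) F) := by
    rw [diagonal_mul_diagonal, ← diagonal_one]
    congr 1
    funext i
    exact hdd i
  have hM' : diagonal d * diagonal d = ((1 : F) * 1) • (1 : Matrix (Fin n) (Fin n) F) := by
    rw [hM, mul_one, one_smul]
  have hrank : ∀ ν : F, (diagonal d - ν • (1 : Matrix (Fin n) (Fin n) F)).rank =
      Fintype.card {i : Fin n // d i - ν ≠ 0} := by
    intro ν
    rw [Matrix.smul_one_eq_diagonal, diagonal_sub, Matrix.rank_diagonal]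
  have hcardlt : Fintype.card {i : Fin n // (i : ℕ) < b} = b := by
    have e : {i : Fin n // (i : ℕ) < b} ≃ Fin b :=
      { toFun := fun i => ⟨(i.1 : ℕ), i.2⟩
        invFun := fun j => ⟨⟨(j : ℕ), by have := j.2; omega⟩, j.2⟩
        left_inv := fun i => rfl
        right_inv := fun j => rfl }
    rw [Fintype.card_congr e, Fintype.card_fin]
  have hr1 : (diagonal d - (1 : F) • (1 : Matrix (Fin n) (Fin n) F)).rank = b := by
    rw [hrank, ← hcardlt]
    apply Fintype.card_congr
    apply Equiv.subtypeEquivRight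
    intro i
    show (if (i : ℕ) < b then (-1 : F) else 1) - 1 ≠ 0 ↔ (i : ℕ) < b
    split_ifs with h
    · simp only [h, iff_true]
      intro h0
      apply hne
      have : (-1 : F) = 1 := sub_eq_zero.mp h0
      exact this.symm
    · simp [h]
  have he1 : edim (diagonal d) 1 = n - b := by
    have := rank_sub_add_edim (diagonal d) (1 : F)
    omega
  have he2 : edim (diagonal d) (-1) = b := by
    have := edim_add_edim h2 (one_ne_zero (α := F)) hM'
    omega
  refine ⟨diagonal d, hM, ?_, ?_⟩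
  · intro a ha
    have h0 : d ⟨0, by omega⟩ = a := by
      have := congrFun (congrFun ha ⟨0, by omega⟩) ⟨0, by omega⟩
      simpa using this
    have h1 : d ⟨n - 1, by omega⟩ = a := by
      have := congrFun (congrFun ha ⟨n - 1, by omega⟩) ⟨n - 1, by omega⟩
      simpa using this
    have e0 : d ⟨0, by omega⟩ = -1 := by
      show (if (0 : ℕ) < b then (-1 : F) else 1) = -1
      rw [if_pos (by omega)]
    have e1 : d ⟨n - 1, by omega⟩ = 1 := by
      show (if n - 1 < b then (-1 : F) else 1) = 1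
      rw [if_neg (by omega)]
    exact hne (e1.symm.trans (h1.trans (h0.symm.trans e0)))
  · rw [rmin_split h2 (one_ne_zero (α := F)) hM', he1, he2]
    omega

/-- a matrix whose square is a given scalar, in even dimension -/
theorem exists_sq_eq_smul (hn : Even n) (ε : F) :
    ∃ M : Matrix (Fin n) (Fin n) F, M * M = ε • (1 : Matrix (Fin n) (Fin n) F) := by
  obtain ⟨m, hm⟩ := hn
  let e : Fin m ⊕ Fin m ≃ Fin n := finSumFinEquiv.trans (finCongr hm.symm)
  let B : Matrix (Fin m ⊕ Fin m) (Fin m ⊕ Fin m) F :=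
    fromBlocks 0 (ε • (1 : Matrix (Fin m) (Fin m) F)) 1 0
  have hB : B * B = ε • (1 : Matrix (Fin m ⊕ Fin m) (Fin m ⊕ Fin m) F) := by
    show fromBlocks 0 (ε • (1 : Matrix (Fin m) (Fin m) F)) 1 0 *
      fromBlocks 0 (ε • (1 : Matrix (Fin m) (Fin m) F)) 1 0 = _
    rw [fromBlocks_multiply, ← fromBlocks_one, fromBlocks_smul]
    simp
  refine ⟨Matrix.reindexAlgEquiv F F e B, ?_⟩
  rw [← map_mul, hB, map_smul, map_one]

end

end Cfsg.Agent.Lib.Helper43
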