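import Cfsg.Agent.Lib.Helper43.OrthExist

/-!
# Existence of elements of odd prime order in `O^±_{2m}(q)`: the four cases
-/

set_option autoImplicit false

namespace Cfsg.Agent.Lib.Helper43.OrthGen

open Module Polynomial Matrix QuadraticMap Cfsg.Agent.Lib.Helper40.SemisimpleConj
  Cfsg.Agent.Lib.Helper40.PrimeOrder Cfsg.Agent.Lib.Helper40.Symp Cfsg.Agent.Lib.Helper43.OddOrth
  Cfsg.Agent.Lib.Helper43 Cfsg.Agent.Lib.Helper8 Cfsg.Agent.Lib.Helper43.ZeroCount
  Cfsg.Agent.Lib.Helper43.OrthModel Cfsg.Agent.Lib.Helper43.SpTrick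

universe u

variable {F : Type u} [Field F] [Fintype F]

section odd

theorem levi_data (p : ℕ) [Fact p.Prime] [CharP F p] (r : ℕ) [Fact r.Prime] (hr2 : r ≠ 2)
    (i : ℕ) (hi : i = orderOf ((Fintype.card F : ℕ) : ZMod r)) (hodd : Odd i) (a : ℕ)
    (M : Multiset F[X]) (hM : ∀ π ∈ M, π ∈ Rset F r)
    (hMrev : (polyOf a M).reverse = polyOf a M) :
    ∃ k : ℕ, i * Multiset.card M = 2 * k ∧
      ∃ L L' : Matrix (Fin k ⊕ Fin k) (Fin k ⊕ Fin k) F, L * L' = 1 ∧
        (∀ v, Cfsg.quadFormPlus k F (L *ᵥ v) = Cfsg.quadFormPlus k F v) ∧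
        L.charpoly = M.prod ∧ L ^ r = 1 := by
  classical
  have hr : r.Prime := Fact.out
  have hr0 : 0 < r := hr.pos
  have hRm : ∀ π ∈ Rset F r, π.Monic := fun π h => ((mem_Rset hr0).1 h).1
  have hRi : ∀ π ∈ Rset F r, Irreducible π := fun π h => ((mem_Rset hr0).1 h).2.1
  have hRd : ∀ π ∈ Rset F r, π ∣ X ^ r - 1 := fun π h => ((mem_Rset hr0).1 h).2.2.1
  have hR1 : ∀ π ∈ Rset F r, π ≠ X - 1 := fun π h => ((mem_Rset hr0).1 h).2.2.2
  have hRdeg : ∀ π ∈ Rset F r, π.natDegree = i := fun π h => by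
    rw [hi]
    exact natDegree_of_irreducible_dvd r π (hRm π h) (hRi π h) (hRd π h) (hR1 π h)
  obtain ⟨N, hN⟩ := exists_half_of_palindromic r hr2 (hi ▸ hodd) a M hM hMrev
  have hNmem : ∀ π ∈ N, π ∈ Rset F r := fun π h =>
    hM π (by rw [hN]; exact Multiset.mem_add.2 (Or.inl h))
  have hcardM : Multiset.card M = 2 * Multiset.card N := by
    conv_lhs => rw [hN]
    rw [Multiset.card_add, Multiset.card_map]
    ring
  have hd : N.prod.natDegree = i * Multiset.card N := by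
    have := polyOf_natDegree 0 N (fun π hπ => hRm π (hNmem π hπ)) i
      (fun π hπ => hRdeg π (hNmem π hπ))
    unfold polyOf at this
    rw [pow_zero, one_mul, zero_add] at this
    exact this
  obtain ⟨L, L', hLL', hLpres, hLchar, hLr⟩ := exists_levi p r (i * Multiset.card N) N hNmem hd
  refine ⟨i * Multiset.card N, by rw [hcardM]; ring, L, L', hLL', hLpres, ?_, hLr⟩
  rw [hLchar, ← hN]

theorem exists_plus_of_odd (p : ℕ) [Fact p.Prime] [CharP F p] (r : ℕ) [Fact r.Prime]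
    (hr2 : r ≠ 2) (hrp : r ≠ p)
    (i : ℕ) (hi : i = orderOf ((Fintype.card F : ℕ) : ZMod r)) (hodd : Odd i) (m : ℕ)
    (M : Multiset F[X]) (hM : ∀ π ∈ M, π ∈ Rset F r) (hMle : i * Multiset.card M ≤ 2 * m)
    (hMrev : (polyOf (2 * m - i * Multiset.card M) M).reverse =
      polyOf (2 * m - i * Multiset.card M) M) :
    ∃ g : ↥(Cfsg.isometryGroup F (Cfsg.quadFormPlus m F)), (orderOf g).Coprime p ∧
      (mat g).charpoly = polyOf (2 * m - i * Multiset.card M) M := by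
  obtain ⟨k, hk, L, L', hLL', hLpres, hLchar, hLr⟩ := levi_data p r hr2 i hi hodd _ M hM hMrev
  have hkm : k ≤ m := by omega
  have hZ : Nat.card {v : (Fin k ⊕ Fin k → F) × (Fin (m - k) ⊕ Fin (m - k) → F) //
      ((plusForm k F).prod (plusForm (m - k) F)) v = 0} = ZZ (Fintype.card F) 0 1 m := by
    rw [card_zeros_plus_prod k (plusForm (m - k) F) (plusForm_nondegenerate (m - k) F),
      card_zeros_plus, finrank_plus]
    have := ZZ_add (Fintype.card F) 0 1 (m - k) k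
    rw [zero_add] at this
    rw [this]
    congr 1
    omega
  obtain ⟨g, hg1, hg2⟩ := exists_plus_of_model p r hrp m k (plusForm k F)
    (plusForm_nondegenerate k F) L L' hLL' (fun v => by rw [← plusForm_coe]; exact hLpres v) hLr
    _ (plusForm (m - k) F) (plusForm_nondegenerate (m - k) F) (2 * (m - k))
    (finrank_plus F (m - k)) (by omega) hZ
  refine ⟨g, hg1, ?_⟩
  rw [hg2, hLchar]
  unfold polyOf
  rw [mul_comm]
  congr 2
  omega

theorem exists_minus_of_odd (p : ℕ) [Fact p.Prime] [CharP F p] (r : ℕ) [Fact r.Prime]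
    (hr2 : r ≠ 2) (hrp : r ≠ p)
    (a c : F) (hac : ∀ z₁ z₂ : F, z₁ ^ 2 + a * z₁ * z₂ + c * z₂ ^ 2 = 0 → z₁ = 0 ∧ z₂ = 0)
    (i : ℕ) (hi : i = orderOf ((Fintype.card F : ℕ) : ZMod r)) (hodd : Odd i) (m : ℕ)
    (hm : 1 ≤ m)
    (M : Multiset F[X]) (hM : ∀ π ∈ M, π ∈ Rset F r) (hMle : i * Multiset.card M ≤ 2 * m)
    (hMne : i * Multiset.card M ≠ 2 * m)
    (hMrev : (polyOf (2 * m - i * Multiset.card M) M).reverse =
      polyOf (2 * m - i * Multiset.card M) M) :
    ∃ g : ↥(Cfsg.isometryGroup F (Cfsg.quadFormMinus (m - 1) F a c)), (orderOf g).Coprime p ∧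
      (mat g).charpoly = polyOf (2 * m - i * Multiset.card M) M := by
  obtain ⟨k, hk, L, L', hLL', hLpres, hLchar, hLr⟩ := levi_data p r hr2 i hi hodd _ M hM hMrev
  have hkm : k + 1 ≤ m := by omega
  have hZ : Nat.card {v : (Fin k ⊕ Fin k → F) ×
        ((Fin (m - 1 - k) ⊕ Fin (m - 1 - k)) ⊕ Fin 2 → F) //
      ((plusForm k F).prod (minusForm (m - 1 - k) F a c)) v = 0} =
      ZZ (Fintype.card F) 2 1 (m - 1) := by
    rw [card_zeros_plus_prod k (minusForm (m - 1 - k) F a c)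
      (minusForm_nondeg F a c hac (m - 1 - k)),
      card_zeros_minus F a c hac, finrank_minus]
    have := ZZ_add (Fintype.card F) 2 1 (m - 1 - k) k
    rw [show 2 * (m - 1 - k) + 2 = 2 + 2 * (m - 1 - k) by ring, this]
    congr 1
    omega
  obtain ⟨g, hg1, hg2⟩ := exists_minus_of_model p r hrp a c hac m k hm (plusForm k F)
    (plusForm_nondegenerate k F) L L' hLL' (fun v => by rw [← plusForm_coe]; exact hLpres v) hLr
    _ (minusForm (m - 1 - k) F a c) (minusForm_nondeg F a c hac (m - 1 - k))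
    (2 * (m - 1 - k) + 2) (finrank_minus F (m - 1 - k)) (by omega) hZ
  refine ⟨g, hg1, ?_⟩
  rw [hg2, hLchar]
  unfold polyOf
  rw [mul_comm]
  congr 2
  omega

end odd

end Cfsg.Agent.Lib.Helper43.OrthGen
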