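import Cfsg.Agent.Lib.Helper43.OrthExist

/-!
# Existence of elements of odd prime order in `O^±_{2m}(q)`: the case of even `i`
-/

set_option autoImplicit false

namespace Cfsg.Agent.Lib.Helper43.OrthGen

open Module Polynomial Matrix QuadraticMap Cfsg.Agent.Lib.Helper40.SemisimpleConj
  Cfsg.Agent.Lib.Helper40.PrimeOrder Cfsg.Agent.Lib.Helper40.Symp Cfsg.Agent.Lib.Helper43.OddOrth
  Cfsg.Agent.Lib.Helper43 Cfsg.Agent.Lib.Helper8 Cfsg.Agent.Lib.Helper43.ZeroCount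
  Cfsg.Agent.Lib.Helper43.OrthModel Cfsg.Agent.Lib.Helper43.SpTrick

universe u

variable {F : Type u} [Field F] [Fintype F]

theorem even_data (r : ℕ) [Fact r.Prime] (i t : ℕ)
    (hi : i = orderOf ((Fintype.card F : ℕ) : ZMod r)) (ht : t * i = r - 1) (heven : Even i) :
    ∃ j : ℕ, i = 2 * j ∧ 1 ≤ j ∧ ((Fintype.card F : ℕ) : ZMod r) ^ j = -1 := by
  have hr : r.Prime := Fact.out
  have hr2' := hr.two_le
  obtain ⟨j, hj⟩ := heven
  have hi0 : i ≠ 0 := by
    rintro rfl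
    rw [mul_zero] at ht
    omega
  have hj1 : 1 ≤ j := by omega
  refine ⟨j, by omega, hj1, ?_⟩
  exact pow_half_eq_neg_one r _ j hj1 (by rw [← hi]; omega)

/-- the model for even `i`, with the zero count decided -/
theorem sp_model_data (p : ℕ) [Fact p.Prime] [CharP F p] (r : ℕ) [Fact r.Prime]
    (hr2 : r ≠ 2) (hrp : r ≠ p) (i t : ℕ)
    (hi : i = orderOf ((Fintype.card F : ℕ) : ZMod r)) (ht : t * i = r - 1) (heven : Even i)
    (m : ℕ) (M : Multiset F[X]) (hM : ∀ π ∈ M, π ∈ Rset F r)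
    (hMle : i * Multiset.card M ≤ 2 * m) :
    ∃ k : ℕ, i * Multiset.card M = 2 * k ∧ k ≤ m ∧
      ∃ (Q₁ : QuadraticForm F (Fin k ⊕ Fin k → F))
        (A A' : Matrix (Fin k ⊕ Fin k) (Fin k ⊕ Fin k) F),
        (polarBilin Q₁).Nondegenerate ∧ A * A' = 1 ∧ (∀ v, Q₁ (A *ᵥ v) = Q₁ v) ∧
        A.charpoly = M.prod ∧ A ^ r = 1 ∧
        ∀ (V₂ : Type u) [AddCommGroup V₂] [Module F V₂] [FiniteDimensional F V₂]
          (Q₂ : QuadraticForm F V₂), (polarBilin Q₂).Nondegenerate →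
          finrank F V₂ = 2 * (m - k) → ∀ σ₂ : ZMod r, (σ₂ = 1 ∨ σ₂ = -1) →
          ((Nat.card {v : V₂ // Q₂ v = 0} : ℕ) : ZMod r) * ((Fintype.card F : ℕ) : ZMod r) =
            zhat ((Fintype.card F : ℕ) : ZMod r) σ₂ (m - k) →
          (σ₂ * (-1) ^ Multiset.card M = 1 →
            Nat.card {v : (Fin k ⊕ Fin k → F) × V₂ // (Q₁.prod Q₂) v = 0} =
              ZZ (Fintype.card F) 0 1 m) ∧
          (σ₂ * (-1) ^ Multiset.card M = -1 → 1 ≤ m ∧
            Nat.card {v : (Fin k ⊕ Fin k → F) × V₂ // (Q₁.prod Q₂) v = 0} =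
              ZZ (Fintype.card F) 2 1 (m - 1)) := by
  obtain ⟨j, hij, hj1, hqj⟩ := even_data r i t hi ht heven
  have hk : i * Multiset.card M = 2 * (j * Multiset.card M) := by rw [hij]; ring
  obtain ⟨Q₁, A, A', h₁, hAA', hQA, hAchar, hAr, hfix⟩ :=
    exists_sp_model p r hr2 i hi heven M hM (j * Multiset.card M) hk
  have hkm : j * Multiset.card M ≤ m := by omega
  refine ⟨j * Multiset.card M, hk, hkm, Q₁, A, A', h₁, hAA', hQA, hAchar, hAr, ?_⟩
  intro V₂ _ _ _ Q₂ h₂ hd₂ σ₂ hσ₂ hZ₂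
  have hq0 := qbar_ne_zero (F := F) p r hrp
  have hq1 := ne_one_of_orderOf_even r _ i hi heven
  have hτ : ((-1 : ZMod r) ^ Multiset.card M = 1) ∨ ((-1 : ZMod r) ^ Multiset.card M = -1) := by
    rcases neg_one_pow_cases r (Multiset.card M) with h | h
    · exact Or.inl h.1
    · exact Or.inr h.1
  exact zeros_of_model Q₁ Q₂ h₁ h₂ (Matrix.toLin' A)
    (fun v => by rw [Matrix.toLin'_apply]; exact hQA v) r hr2
    (by rw [← Matrix.toLin'_pow, hAr, Matrix.toLin'_one]; rfl)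
    (fun v hv => hfix v (by rw [Matrix.toLin'_apply] at hv; exact hv)) hq0 hq1 m
    (j * Multiset.card M) hkm (finrank_plus F _) hd₂ _ σ₂ hτ hσ₂
    (by rw [pow_mul, hqj]) hZ₂

theorem exists_plus_of_even (p : ℕ) [Fact p.Prime] [CharP F p] (r : ℕ) [Fact r.Prime]
    (hr2 : r ≠ 2) (hrp : r ≠ p) (i t : ℕ)
    (hi : i = orderOf ((Fintype.card F : ℕ) : ZMod r)) (ht : t * i = r - 1) (heven : Even i)
    (m : ℕ) (M : Multiset F[X]) (hM : ∀ π ∈ M, π ∈ Rset F r)
    (hMle : i * Multiset.card M ≤ 2 * m)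
    (hAdm : i * Multiset.card M = 2 * m → Even (Multiset.card M)) :
    ∃ g : ↥(Cfsg.isometryGroup F (Cfsg.quadFormPlus m F)), (orderOf g).Coprime p ∧
      (mat g).charpoly = polyOf (2 * m - i * Multiset.card M) M := by
  obtain ⟨k, hk, hkm, Q₁, A, A', h₁, hAA', hQA, hAchar, hAr, hdec⟩ :=
    sp_model_data p r hr2 hrp i t hi ht heven m M hM hMle
  have hq1 : 1 ≤ Fintype.card F := Fintype.card_pos
  have hfin : ∀ n₂ : ℕ, n₂ = 2 * m - i * Multiset.card M →
      A.charpoly * (X - 1) ^ n₂ = polyOf (2 * m - i * Multiset.card M) M := by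
    intro n₂ hn₂
    rw [hAchar, hn₂]
    unfold polyOf
    rw [mul_comm]
  rcases neg_one_pow_cases r (Multiset.card M) with ⟨hτ, hpar⟩ | ⟨hτ, hpar⟩
  · have hZ := (hdec (Fin (m - k) ⊕ Fin (m - k) → F) (plusForm (m - k) F)
      (plusForm_nondegenerate (m - k) F) (finrank_plus F (m - k)) 1 (Or.inl rfl)
      (by rw [card_zeros_plus]; exact cast_ZZ_plus _ hq1 _)).1 (by rw [hτ, mul_one])
    obtain ⟨g, hg1, hg2⟩ := exists_plus_of_model p r hrp m k Q₁ h₁ A A' hAA' hQA hAr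
      _ (plusForm (m - k) F) (plusForm_nondegenerate (m - k) F) (2 * (m - k))
      (finrank_plus F (m - k)) (by omega) hZ
    exact ⟨g, hg1, by rw [hg2, hfin _ (by omega)]⟩
  · have hklt : k + 1 ≤ m := by
      by_contra hcon
      have h1 : i * Multiset.card M = 2 * m := by omega
      exact (Nat.not_even_iff_odd.2 hpar) (hAdm h1)
    obtain ⟨a', c', hac'⟩ := exists_aniso F
    have hZ := (hdec ((Fin (m - k - 1) ⊕ Fin (m - k - 1)) ⊕ Fin 2 → F)
      (minusForm (m - k - 1) F a' c') (minusForm_nondeg F a' c' hac' (m - k - 1))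
      (by rw [finrank_minus]; omega) (-1) (Or.inr rfl)
      (by
        rw [card_zeros_minus F a' c' hac']
        have := cast_ZZ_minus (R := ZMod r) (Fintype.card F) hq1 (m - k - 1)
        rw [show m - k - 1 + 1 = m - k by omega] at this
        exact this)).1 (by rw [hτ]; ring)
    obtain ⟨g, hg1, hg2⟩ := exists_plus_of_model p r hrp m k Q₁ h₁ A A' hAA' hQA hAr
      _ (minusForm (m - k - 1) F a' c') (minusForm_nondeg F a' c' hac' (m - k - 1))
      (2 * (m - k - 1) + 2) (finrank_minus F (m - k - 1)) (by omega) hZ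
    exact ⟨g, hg1, by rw [hg2, hfin _ (by omega)]⟩

theorem exists_minus_of_even (p : ℕ) [Fact p.Prime] [CharP F p] (r : ℕ) [Fact r.Prime]
    (hr2 : r ≠ 2) (hrp : r ≠ p)
    (a c : F) (hac : ∀ z₁ z₂ : F, z₁ ^ 2 + a * z₁ * z₂ + c * z₂ ^ 2 = 0 → z₁ = 0 ∧ z₂ = 0)
    (i t : ℕ)
    (hi : i = orderOf ((Fintype.card F : ℕ) : ZMod r)) (ht : t * i = r - 1) (heven : Even i)
    (m : ℕ) (hm : 1 ≤ m) (M : Multiset F[X]) (hM : ∀ π ∈ M, π ∈ Rset F r)
    (hMle : i * Multiset.card M ≤ 2 * m)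
    (hAdm : i * Multiset.card M = 2 * m → Odd (Multiset.card M)) :
    ∃ g : ↥(Cfsg.isometryGroup F (Cfsg.quadFormMinus (m - 1) F a c)), (orderOf g).Coprime p ∧
      (mat g).charpoly = polyOf (2 * m - i * Multiset.card M) M := by
  obtain ⟨k, hk, hkm, Q₁, A, A', h₁, hAA', hQA, hAchar, hAr, hdec⟩ :=
    sp_model_data p r hr2 hrp i t hi ht heven m M hM hMle
  have hq1 : 1 ≤ Fintype.card F := Fintype.card_pos
  have hfin : ∀ n₂ : ℕ, n₂ = 2 * m - i * Multiset.card M →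
      A.charpoly * (X - 1) ^ n₂ = polyOf (2 * m - i * Multiset.card M) M := by
    intro n₂ hn₂
    rw [hAchar, hn₂]
    unfold polyOf
    rw [mul_comm]
  rcases neg_one_pow_cases r (Multiset.card M) with ⟨hτ, hpar⟩ | ⟨hτ, hpar⟩
  · have hklt : k + 1 ≤ m := by
      by_contra hcon
      have h1 : i * Multiset.card M = 2 * m := by omega
      exact (Nat.not_odd_iff_even.2 hpar) (hAdm h1)
    have hZ := ((hdec ((Fin (m - k - 1) ⊕ Fin (m - k - 1)) ⊕ Fin 2 → F)
      (minusForm (m - k - 1) F a c) (minusForm_nondeg F a c hac (m - k - 1))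
      (by rw [finrank_minus]; omega) (-1) (Or.inr rfl)
      (by
        rw [card_zeros_minus F a c hac]
        have := cast_ZZ_minus (R := ZMod r) (Fintype.card F) hq1 (m - k - 1)
        rw [show m - k - 1 + 1 = m - k by omega] at this
        exact this)).2 (by rw [hτ]; ring)).2
    obtain ⟨g, hg1, hg2⟩ := exists_minus_of_model p r hrp a c hac m k hm Q₁ h₁ A A' hAA' hQA hAr
      _ (minusForm (m - k - 1) F a c) (minusForm_nondeg F a c hac (m - k - 1))
      (2 * (m - k - 1) + 2) (finrank_minus F (m - k - 1)) (by omega) hZ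
    exact ⟨g, hg1, by rw [hg2, hfin _ (by omega)]⟩
  · have hZ := ((hdec (Fin (m - k) ⊕ Fin (m - k) → F) (plusForm (m - k) F)
      (plusForm_nondegenerate (m - k) F) (finrank_plus F (m - k)) 1 (Or.inl rfl)
      (by rw [card_zeros_plus]; exact cast_ZZ_plus _ hq1 _)).2 (by rw [hτ, one_mul])).2
    obtain ⟨g, hg1, hg2⟩ := exists_minus_of_model p r hrp a c hac m k hm Q₁ h₁ A A' hAA' hQA hAr
      _ (plusForm (m - k) F) (plusForm_nondegenerate (m - k) F) (2 * (m - k))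
      (finrank_plus F (m - k)) (by omega) hZ
    exact ⟨g, hg1, by rw [hg2, hfin _ (by omega)]⟩

end Cfsg.Agent.Lib.Helper43.OrthGen
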