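import Cfsg.Agent.Lib.Helper43.OddOrthExist

/-!
# Orthogonal elements from symplectic ones: `S = J (A - A⁻¹)` is an `A`-invariant symmetric form
-/

set_option autoImplicit false

namespace Cfsg.Agent.Lib.Helper43.OddOrth

open Polynomial Matrix

variable {F : Type*} [Field F]

section symm
variable {l : Type*} [Fintype l] [DecidableEq l]

theorem symp_inv_mem (A A' : Matrix (l ⊕ l) (l ⊕ l) F) (hA : Aᵀ * J l F * A = J l F)
    (hAA' : A * A' = 1) : A'ᵀ * J l F * A' = J l F := by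
  calc A'ᵀ * J l F * A' = A'ᵀ * (Aᵀ * J l F * A) * A' := by rw [hA]
    _ = (A * A')ᵀ * J l F * (A * A') := by
        rw [Matrix.transpose_mul]; simp only [mul_assoc]
    _ = J l F := by rw [hAA', Matrix.transpose_one, one_mul, mul_one]

theorem symp_tJ (A A' : Matrix (l ⊕ l) (l ⊕ l) F) (hA : Aᵀ * J l F * A = J l F)
    (hAA' : A * A' = 1) : Aᵀ * J l F = J l F * A' := by
  calc Aᵀ * J l F = Aᵀ * J l F * (A * A') := by rw [hAA', mul_one]
    _ = (Aᵀ * J l F * A) * A' := by simp only [mul_assoc]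
    _ = J l F * A' := by rw [hA]

theorem form_transpose (A A' : Matrix (l ⊕ l) (l ⊕ l) F) (hA : Aᵀ * J l F * A = J l F)
    (hAA' : A * A' = 1) : (J l F * (A - A'))ᵀ = J l F * (A - A') := by
  have hA'A : A' * A = 1 := mul_eq_one_comm.1 hAA'
  have h1 := symp_tJ A A' hA hAA'
  have h2 := symp_tJ A' A (symp_inv_mem A A' hA hAA') hA'A
  rw [Matrix.transpose_mul, Matrix.transpose_sub, J_transpose, Matrix.mul_neg, Matrix.sub_mul,
    h1, h2, Matrix.mul_sub]
  abel

theorem form_invariant (A A' : Matrix (l ⊕ l) (l ⊕ l) F) (hA : Aᵀ * J l F * A = J l F)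
    (hAA' : A * A' = 1) : Aᵀ * (J l F * (A - A')) * A = J l F * (A - A') := by
  have hA'A : A' * A = 1 := mul_eq_one_comm.1 hAA'
  have h1 := symp_tJ A A' hA hAA'
  calc Aᵀ * (J l F * (A - A')) * A = (Aᵀ * J l F) * ((A - A') * A) := by
        simp only [mul_assoc]
    _ = J l F * (A' * ((A - A') * A)) := by rw [h1, mul_assoc]
    _ = J l F * (A - A') := by
        congr 1
        rw [Matrix.sub_mul, Matrix.mul_sub, ← mul_assoc, hA'A, one_mul, mul_one]

theorem form_det_ne_zero (A A' : Matrix (l ⊕ l) (l ⊕ l) F) (hdet : (A - A').det ≠ 0) :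
    (J l F * (A - A')).det ≠ 0 := by
  rw [Matrix.det_mul]
  apply mul_ne_zero _ hdet
  intro h0
  have := J_det_mul_J_det l F
  rw [h0, zero_mul] at this
  exact zero_ne_one this

end symm

section blocks
variable {α β : Type*} [Fintype α] [DecidableEq α] [Fintype β] [DecidableEq β]

theorem fromBlocks_diag_pow (A : Matrix α α F) (N : ℕ) :
    (Matrix.fromBlocks A 0 0 (1 : Matrix β β F)) ^ N = Matrix.fromBlocks (A ^ N) 0 0 1 := by
  induction N with
  | zero => rw [pow_zero, pow_zero, Matrix.fromBlocks_one]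
  | succ N ih =>
    rw [pow_succ, ih, Matrix.fromBlocks_multiply, pow_succ]
    simp

end blocks

variable [Fintype F]

theorem exists_orth_of_symplectic (h2 : (2 : F) ≠ 0) (m k : ℕ) (hk : k ≤ m)
    (A A' : Matrix (Fin k ⊕ Fin k) (Fin k ⊕ Fin k) F)
    (hA : Aᵀ * J (Fin k) F * A = J (Fin k) F) (hAA' : A * A' = 1)
    (hdet : (A - A').det ≠ 0) :
    ∃ h h' : Matrix (Unit ⊕ (Fin m ⊕ Fin m)) (Unit ⊕ (Fin m ⊕ Fin m)) F, h * h' = 1 ∧
      hᵀ * gramO m F * h = gramO m F ∧
      h.charpoly = (X - 1) ^ (2 * (m - k) + 1) * A.charpoly ∧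
      ∀ N : ℕ, A ^ N = 1 → h ^ N = 1 := by
  classical
  set S₀ : Matrix (Fin k ⊕ Fin k) (Fin k ⊕ Fin k) F := J (Fin k) F * (A - A') with hS₀
  have hS₀det : S₀.det ≠ 0 := form_det_ne_zero A A' hdet
  have hS₀T : S₀ᵀ = S₀ := form_transpose A A' hA hAA'
  have hS₀inv : Aᵀ * S₀ * A = S₀ := form_invariant A A' hA hAA'
  set c : F := S₀.det⁻¹ * (2 * (-1) ^ m) with hc
  let d : Fin (2 * (m - k) + 1) → F := fun j => if j = Fin.last _ then c else 1
  have hcard : Fintype.card ((Fin k ⊕ Fin k) ⊕ Fin (2 * (m - k) + 1)) = 2 * m + 1 := by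
    rw [Fintype.card_sum, Fintype.card_sum, Fintype.card_fin, Fintype.card_fin]
    omega
  obtain ⟨h, h', h1, h2', h3, h4⟩ := exists_orth_of_model h2 m hcard
    (Matrix.fromBlocks S₀ 0 0 (Matrix.diagonal d))
    (Matrix.fromBlocks A 0 0 (1 : Matrix (Fin (2 * (m - k) + 1)) (Fin (2 * (m - k) + 1)) F))
    (Matrix.fromBlocks A' 0 0 (1 : Matrix (Fin (2 * (m - k) + 1)) (Fin (2 * (m - k) + 1)) F))
    (by
      rw [Matrix.fromBlocks_transpose, hS₀T, Matrix.diagonal_transpose]
      simp)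
    (by
      rw [Matrix.det_fromBlocks_zero₂₁, Matrix.det_diagonal]
      have : ∏ j, d j = c := by
        simp only [d]
        rw [Finset.prod_ite_eq' Finset.univ (Fin.last (2 * (m - k))) (fun _ => c)]
        simp
      rw [this, hc, ← mul_assoc, mul_inv_cancel₀ hS₀det, one_mul])
    (by
      rw [Matrix.fromBlocks_transpose, Matrix.fromBlocks_multiply, Matrix.fromBlocks_multiply]
      simp only [Matrix.transpose_zero, Matrix.transpose_one, Matrix.mul_zero, Matrix.zero_mul,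
        add_zero, zero_add, Matrix.one_mul, Matrix.mul_one]
      rw [hS₀inv])
    (by
      rw [Matrix.fromBlocks_multiply]
      simp only [Matrix.mul_zero, Matrix.zero_mul, add_zero, zero_add, Matrix.one_mul, hAA']
      exact Matrix.fromBlocks_one)
  refine ⟨h, h', h1, h2', ?_, ?_⟩
  · rw [h3, Matrix.charpoly_fromBlocks_zero₁₂, Matrix.charpoly_one, Fintype.card_fin, mul_comm]
  · intro N hN
    apply h4
    rw [fromBlocks_diag_pow, hN, Matrix.fromBlocks_one]

end Cfsg.Agent.Lib.Helper43.OddOrth
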