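import Mathlib
import Cfsg.Prelude.Def_ClassicalGeometry
import Cfsg.Prelude.Def_GeometricClasses
import Cfsg.Prelude.Def_Classical
import Cfsg.Agent.Lib.Helper14.QmDefs
import Cfsg.Agent.Lib.Helper43.OrthCardNum
import Cfsg.Agent.Lib.Helper43.OrthExistCases
import Cfsg.Agent.Lib.Helper43.OrthExistEven
import Cfsg.Agent.Lib.Helper40.PSpPoly
import Cfsg.Agent.Lib.Helper45.HyELT

/-!
# QM-ELT (helper43, Qm hive S5990 of helper14): an isometry of `quadFormMinus (d - 1)` of odd prime
order `r ≠ p` with `s` blocks, ALL `q`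

MINUS twin of helper45's `Lib/Helper45/QeELT.lean`, for any admissible number `s` of blocks:
`Helper43.OrthGen.exists_minus_of_odd` / `exists_minus_of_even` give an isometry with characteristic
polynomial `(X-1)^(2d - s c) * ∏ M`; order prime to `p` gives `x^r = 1`, and `Hy.elt_finrank_fix`
reads off the fixed space.
-/

set_option autoImplicit false

namespace Cfsg.Agent.Lib.Helper14.Qm

open Module
open Cfsg.Agent.Lib.Helper2.BG Cfsg.Agent.Lib.Helper99 Cfsg.Agent.Lib.Helper48.Ti
open Cfsg.Agent.Lib.Helper5.Hy (Plus Fixes Fix Orth)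
open Cfsg.Agent.Lib.Helper65.Qe (pol PlusQ IsomQ FixesQ tp)
open Cfsg.Agent.Lib.Helper8 (minusForm IsInvIso nilPart)

section semisimple

variable {F : Type*} [Field F] [Fintype F]

open Polynomial in
open Cfsg.Agent.Lib.Helper40.PrimeOrder in
/-- from an isometry of the minus form with characteristic polynomial `polyOf n M` and order prime to
`p` to the conclusion of `exists_isom_blocks` -/
theorem elt_mcore {p : ℕ} [Fact p.Prime] [CharP F p] (r : ℕ) [Fact r.Prime] (hrp : r ≠ p) (d n : ℕ)
    (a b : F) (M : Multiset F[X]) (hM : ∀ π ∈ M, π ∈ Rset F r)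
    (g : ↥(Cfsg.isometryGroup F (Cfsg.quadFormMinus (d - 1) F a b))) (hg1 : (orderOf g).Coprime p)
    (hg2 : (Cfsg.Agent.Lib.Helper43.OddOrth.mat g).charpoly = polyOf n M) :
    ∃ x : GL (IM d) F, x ∈ Cfsg.isometryGroup F (Cfsg.quadFormMinus (d - 1) F a b) ∧ x ^ r = 1 ∧
      finrank F ↥(Fix (Matrix.toLin' (x : MM d F))) = n := by
  classical
  have hr : r.Prime := Fact.out
  have hp : p.Prime := Fact.out
  have hr0 : 0 < r := hr.pos
  have hRd : ∀ π ∈ Rset F r, π ∣ X ^ r - 1 := fun π h => ((mem_Rset hr0).1 h).2.2.1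
  have hrcop : r.Coprime p := (Nat.coprime_primes hr hp).2 hrp
  have hrF : ((r : ℕ) : F) ≠ 0 := Cfsg.Agent.Lib.Helper40.Symp.natCast_ne_zero_of_coprime p r hrcop
  have hNF : ((orderOf g : ℕ) : F) ≠ 0 :=
    Cfsg.Agent.Lib.Helper40.Symp.natCast_ne_zero_of_coprime p _ hg1
  have hgN : Cfsg.Agent.Lib.Helper43.OddOrth.mat g ^ orderOf g = 1 := by
    rw [← Cfsg.Agent.Lib.Helper43.OddOrth.mat_pow, pow_orderOf_eq_one,
      Cfsg.Agent.Lib.Helper43.OddOrth.mat_one]
  have hmr : Cfsg.Agent.Lib.Helper43.OddOrth.mat g ^ r = 1 := by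
    apply Cfsg.Agent.Lib.Helper40.Symp.pow_eq_one_of_charpoly_dvd _ (orderOf g) hNF hgN r
      (n + Multiset.card M)
    rw [hg2]
    exact polyOf_dvd_pow _ _ _ (X_sub_one_dvd r) (fun π hπ => hRd π (hM π hπ))
  have hgr : g ^ r = 1 := by
    apply Cfsg.Agent.Lib.Helper43.OddOrth.mat_injective
    rw [Cfsg.Agent.Lib.Helper43.OddOrth.mat_pow, Cfsg.Agent.Lib.Helper43.OddOrth.mat_one]
    exact hmr
  refine ⟨(g : GL (IM d) F), g.2, ?_, ?_⟩
  · have := congrArg (Subtype.val) hgr
    simpa using this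
  · have he : M.prod.eval 1 ≠ 0 := by
      rw [Polynomial.eval_multiset_prod]
      apply Multiset.prod_ne_zero
      intro h0
      obtain ⟨π, hπ, hπ0⟩ := Multiset.mem_map.1 h0
      exact eval_one_ne_zero_of_mem_Rset hr0 (hM π hπ) hπ0
    exact Cfsg.Agent.Lib.Helper5.Hy.elt_finrank_fix (Cfsg.Agent.Lib.Helper43.OddOrth.mat g) r hrF hmr
      n M.prod he (by rw [hg2]; rfl)

open Polynomial in
open Cfsg.Agent.Lib.Helper40.PrimeOrder in
/-- QM-ELT (ALL `q`): an isometry of `quadFormMinus (d - 1) F a b` with `x ^ r = 1` whose fixed space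
has dimension `2 d - s c`, for any admissible number `s` of blocks. -/
theorem exists_isom_blocks {p : ℕ} [Fact p.Prime] [CharP F p] (r : ℕ) [Fact r.Prime]
    (hr2 : r ≠ 2) (hrp : r ≠ p) (d : ℕ) (hd : 1 ≤ d) (a b : F)
    (hab : ∀ x y : F, x ^ 2 + a * x * y + b * y ^ 2 = 0 → x = 0 ∧ y = 0) (i c : ℕ)
    (hi : i = orderOf ((Fintype.card F : ℕ) : ZMod r)) (hc : c = if Even i then i else 2 * i)
    (s : ℕ) (hs1 : 1 ≤ s) (hsn : s * c ≤ 2 * d) (hside : s * c = 2 * d → (Even i ∧ Odd s)) :
    ∃ x : GL (IM d) F, x ∈ Cfsg.isometryGroup F (Cfsg.quadFormMinus (d - 1) F a b) ∧ x ^ r = 1 ∧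
      finrank F ↥(Fix (Matrix.toLin' (x : MM d F))) = 2 * d - s * c := by
  classical
  have hr : r.Prime := Fact.out
  have hp : p.Prime := Fact.out
  have hr0 : 0 < r := hr.pos
  have hrcop : r.Coprime p := (Nat.coprime_primes hr hp).2 hrp
  have hrF : ((r : ℕ) : F) ≠ 0 := Cfsg.Agent.Lib.Helper40.Symp.natCast_ne_zero_of_coprime p r hrcop
  have hcardR : (Rset F r).card * i = r - 1 := by rw [hi]; exact card_Rset_mul (F := F) r hrF
  have hr1 : 0 < r - 1 := by have := hr.two_le; omega
  have hRpos : 0 < (Rset F r).card := by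
    rcases Nat.eq_zero_or_pos (Rset F r).card with h | h
    · rw [h, zero_mul] at hcardR; omega
    · exact h
  obtain ⟨π₀, hπ₀⟩ : (Rset F r).Nonempty := Finset.card_pos.1 hRpos
  have h0 : π₀.coeff 0 ≠ 0 := coeff_zero_ne_zero_of_mem_Rset hr0 hπ₀
  by_cases hev : Even i
  · -- `i` even: `s` copies of one factor
    have hci : c = i := by rw [hc, if_pos hev]
    subst hci
    set M : Multiset F[X] := Multiset.replicate s π₀ with hMdef
    have hMcard : Multiset.card M = s := Multiset.card_replicate s π₀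
    have hM : ∀ π ∈ M, π ∈ Rset F r := by
      intro π hπ
      rw [Multiset.eq_of_mem_replicate hπ]; exact hπ₀
    have hMle : c * Multiset.card M ≤ 2 * d := by rw [hMcard, Nat.mul_comm c s]; exact hsn
    have hAdm : c * Multiset.card M = 2 * d → Odd (Multiset.card M) := by
      intro h
      rw [hMcard] at h ⊢
      exact (hside (by rw [Nat.mul_comm s c]; exact h)).2
    obtain ⟨g, hg1, hg2⟩ := Cfsg.Agent.Lib.Helper43.OrthGen.exists_minus_of_even p r hr2 hrp a b hab
      c (Rset F r).card hi hcardR hev d hd M hM hMle hAdm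
    have ha : 2 * d - c * Multiset.card M = 2 * d - s * c := by rw [hMcard, Nat.mul_comm c s]
    rw [ha] at hg2
    exact elt_mcore r hrp d _ a b M hM g hg1 hg2
  · -- `i` odd: `s` pairs `π₀, recip π₀`
    have hodd : Odd i := Nat.not_even_iff_odd.1 hev
    have hci : c = 2 * i := by rw [hc, if_neg hev]
    subst hci
    set N : Multiset F[X] := Multiset.replicate s π₀ with hNdef
    set M : Multiset F[X] := N + N.map recip with hMdef
    have hMcard : Multiset.card M = 2 * s := by
      rw [hMdef, Multiset.card_add, Multiset.card_map, hNdef, Multiset.card_replicate]; ring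
    have hM : ∀ π ∈ M, π ∈ Rset F r := by
      intro π hπ
      rcases Multiset.mem_add.1 hπ with h | h
      · rw [Multiset.eq_of_mem_replicate h]; exact hπ₀
      · obtain ⟨ρ, hρ, rfl⟩ := Multiset.mem_map.1 h
        rw [Multiset.eq_of_mem_replicate hρ]; exact recip_mem_Rset r hπ₀
    have hsc : i * (2 * s) = s * (2 * i) := by ring
    have hMle : i * Multiset.card M ≤ 2 * d := by rw [hMcard, hsc]; exact hsn
    have hMne : i * Multiset.card M ≠ 2 * d := by
      rw [hMcard, hsc]
      intro h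
      exact hev (hside h).1
    have his : i * s ≤ d := by
      have : i * (2 * s) = 2 * (i * s) := by ring
      omega
    have ha : 2 * d - i * Multiset.card M = 2 * (d - i * s) := by
      rw [hMcard]
      have : i * (2 * s) = 2 * (i * s) := by ring
      omega
    have ha' : 2 * d - i * Multiset.card M = 2 * d - s * (2 * i) := by rw [hMcard, hsc]
    have hprod : M.prod = (π₀ * recip π₀) ^ s := by
      rw [hMdef, Multiset.prod_add, hNdef, Multiset.map_replicate, Multiset.prod_replicate,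
        Multiset.prod_replicate, mul_pow]
    have hMrev : (polyOf (2 * d - i * Multiset.card M) M).reverse =
        polyOf (2 * d - i * Multiset.card M) M := by
      rw [ha]
      unfold polyOf
      rw [hprod, reverse_mul_of_domain, Cfsg.Agent.Lib.Helper40.PSp.reverse_X_sub_one_pow,
        reverse_pow', Cfsg.Agent.Lib.Helper40.PSp.reverse_mul_recip π₀ h0]
    obtain ⟨g, hg1, hg2⟩ := Cfsg.Agent.Lib.Helper43.OrthGen.exists_minus_of_odd p r hr2 hrp a b hab
      i hi hodd d hd M hM hMle hMne hMrev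
    rw [ha'] at hg2
    exact elt_mcore r hrp d _ a b M hM g hg1 hg2

end semisimple

end Cfsg.Agent.Lib.Helper14.Qm
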