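import Cfsg.Agent.Lib.Helper43.ClassifyMinus

/-!
# Dichotomy for nondegenerate quadratic spaces of even dimension over a finite field (helper43)

Every nondegenerate quadratic space of dimension `2M` over a finite field (any characteristic) is isometric
to `quadFormPlus M` or to `quadFormMinus (M-1) a c` for ANY prescribed anisotropic binary form
`z₁² + a z₁ z₂ + c z₂²`.
-/

set_option autoImplicit false

namespace Cfsg.Agent.Lib.Helper43.ZeroCount

open Module QuadraticMap Cfsg.Agent.Lib.Helper43 Cfsg.Agent.Lib.Helper8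

universe u

variable {F : Type u} [Field F] [Fintype F]

/-- plus / minus dichotomy, no zero count needed -/
theorem classify_even (a c : F)
    (hac : ∀ z₁ z₂ : F, z₁ ^ 2 + a * z₁ * z₂ + c * z₂ ^ 2 = 0 → z₁ = 0 ∧ z₂ = 0)
    (V : Type u) [AddCommGroup V] [Module F V]
    [FiniteDimensional F V] (Q : QuadraticForm F V)
    (hQ : (polarBilin Q).Nondegenerate) (M : ℕ)
    (hdim : finrank F V = 2 * M) :
    (∃ Θ : V ≃ₗ[F] (Fin M ⊕ Fin M → F), ∀ v, Cfsg.quadFormPlus M F (Θ v) = Q v) ∨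
    (∃ M' : ℕ, M = M' + 1 ∧ ∃ Θ : V ≃ₗ[F] ((Fin M' ⊕ Fin M') ⊕ Fin 2 → F),
      ∀ v, Cfsg.quadFormMinus M' F a c (Θ v) = Q v) := by
  obtain ⟨k, e, f, W, H, hW2, haniso, hnd⟩ := witt_family V Q hQ
  obtain ⟨hd, -, -⟩ := card_OG_family (Q.comp W.subtype) hnd k V Q W.subtype e f H
  have hcases : finrank F W = 0 ∨ finrank F W = 1 ∨ finrank F W = 2 := by omega
  rcases hcases with h0 | h1 | h2
  · left
    have hk : k = M := by omega
    subst hk
    exact Cfsg.Agent.Lib.Helper44.hyperbolic_coords k V Q hdim e f H.qe H.qf H.ee H.ff H.ef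
  · omega
  · right
    refine ⟨k, by omega, ?_⟩
    obtain ⟨Θ₁, hΘ₁⟩ := aniso_plane_coords_gen a c hac W (Q.comp W.subtype) h2 haniso
    obtain ⟨Θ, hΘ⟩ := H.exists_coords hnd Θ₁
    refine ⟨Θ, fun v => ?_⟩
    rw [hΘ v, hΘ₁]
    rfl

end Cfsg.Agent.Lib.Helper43.ZeroCount
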