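import Mathlib
import Cfsg.Agent.Lib.Helper43.ZeroCount

/-!
# Characteristic-free zero-count type calculus for quadratic forms over finite fields (helper43)

`IsPlus Q` : there is a totally singular subspace of half the dimension.
For a nondegenerate form on a space of dimension `2M` over a field with `q` elements, with
`Z = #{v | Q v = 0}`:  plus type iff `Z * q = q^(2M) + (q-1) q^M`, minus type iff
`Z * q + (q-1) q^M = q^(2M)`.  In characteristic 2 the zero count of an orthogonal product is
computed, and the type of a product is the product of the types.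
-/

set_option autoImplicit false

namespace Cfsg.Agent.Lib.Helper43.QType

open Module QuadraticMap Cfsg.Agent.Lib.Helper43 Cfsg.Agent.Lib.Helper43.ZeroCount

universe u

section numbers

/-- closed form of the plus-type zero count -/
theorem ZZ_plus_mul (q : ℕ) (hq : 1 ≤ q) (M : ℕ) :
    ZZ q 0 1 M * q = q ^ (2 * M) + (q - 1) * q ^ M := by
  obtain ⟨t, rfl⟩ : ∃ t, q = t + 1 := ⟨q - 1, by omega⟩
  simp only [Nat.add_sub_cancel]
  induction M with
  | zero => rw [ZZ_zero]; simp; ring
  | succ k ih =>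
    rw [ZZ_succ]
    simp only [Nat.add_sub_cancel]
    have : ((t + 1) * ZZ (t + 1) 0 1 k + t * (t + 1) ^ (2 * k + 0)) * (t + 1) =
        (t + 1) * (ZZ (t + 1) 0 1 k * (t + 1)) + t * (t + 1) ^ (2 * k + 0) * (t + 1) := by ring
    rw [this, ih]
    ring

/-- closed form of the minus-type zero count -/
theorem ZZ_minus_mul (q : ℕ) (hq : 1 ≤ q) (k : ℕ) :
    ZZ q 2 1 k * q + (q - 1) * q ^ (k + 1) = q ^ (2 * (k + 1)) := by
  obtain ⟨t, rfl⟩ : ∃ t, q = t + 1 := ⟨q - 1, by omega⟩
  simp only [Nat.add_sub_cancel]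
  induction k with
  | zero => rw [ZZ_zero]; ring
  | succ k ih =>
    rw [ZZ_succ]
    simp only [Nat.add_sub_cancel]
    have : ((t + 1) * ZZ (t + 1) 2 1 k + t * (t + 1) ^ (2 * k + 2)) * (t + 1) +
        t * (t + 1) ^ (k + 1 + 1) =
        (t + 1) * (ZZ (t + 1) 2 1 k * (t + 1) + t * (t + 1) ^ (k + 1)) +
          t * (t + 1) ^ (2 * k + 2) * (t + 1) := by ring
    rw [this, ih]
    ring

end numbers

section lagrangian
variable {F : Type*} [Field F] [Fintype F] {V : Type*} [AddCommGroup V] [Module F V]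
  [FiniteDimensional F V]

/-- the zero count of a nondegenerate quadratic form with a totally singular subspace of half the
dimension (any characteristic): fibre count over the cosets of `U` -/
theorem card_zeros_of_lagrangian (Q : QuadraticForm F V) (hQ : (polarBilin Q).Nondegenerate)
    (U : Submodule F V) (hU : ∀ u ∈ U, Q u = 0) (k : ℕ) (hk : finrank F U = k)
    (hn : finrank F V = 2 * k) :
    Nat.card {v : V // Q v = 0} * Fintype.card F =
      Fintype.card F ^ (2 * k) + (Fintype.card F - 1) * Fintype.card F ^ k := by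
  classical
  have hfinM : Finite V := Module.finite_of_finite F
  have hftM : Fintype V := Fintype.ofFinite V
  have hq1 : 1 ≤ Fintype.card F := Fintype.card_pos
  have hpol : ∀ u ∈ U, ∀ v ∈ U, polar Q u v = 0 := by
    intro u hu v hv
    unfold polar
    rw [hU _ (U.add_mem hu hv), hU u hu, hU v hv]
    ring
  have hWdim := LinearMap.BilinForm.finrank_orthogonal hQ U
  have hUW : U ≤ LinearMap.BilinForm.orthogonal (polarBilin Q) U := by
    intro u hu
    rw [LinearMap.BilinForm.mem_orthogonal_iff]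
    intro n hn
    exact hpol n hn u hu
  have hUeqW : U = LinearMap.BilinForm.orthogonal (polarBilin Q) U :=
    Submodule.eq_of_le_of_finrank_eq hUW (by rw [hWdim, hn, hk]; omega)
  have hUmem : ∀ v, v ∉ U → ∃ u ∈ U, polar Q v u ≠ 0 := by
    intro v hv
    by_contra hcon
    push Not at hcon
    apply hv
    rw [hUeqW, LinearMap.BilinForm.mem_orthogonal_iff]
    intro n hn
    show polar Q n v = 0
    rw [polar_comm]
    exact hcon n hn
  have hcU : Fintype.card U = Fintype.card F ^ k := by
    rw [Module.card_eq_pow_finrank (K := F) (V := U), hk]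
  have hcM : Fintype.card V = Fintype.card F ^ k * Fintype.card F ^ k := by
    rw [Module.card_eq_pow_finrank (K := F) (V := V), hn, two_mul, pow_add]
  set q := Fintype.card F with hq
  set a := q ^ k with ha
  have hapos : 0 < a := Nat.pos_of_ne_zero (pow_ne_zero _ (by omega))
  have hZ : Nat.card {v : V // Q v = 0} =
      (Finset.univ.filter (fun v : V => Q v = 0)).card := by
    rw [Nat.card_eq_fintype_card, Fintype.card_subtype]
  let c : V → ℕ := fun v => (Finset.univ.filter (fun u : U => Q (v + u) = 0)).card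
  have h1 : ∑ v : V, c v = Nat.card {v : V // Q v = 0} * a := by
    have : ∀ v : V, c v = ∑ u : U, if Q (v + u) = 0 then 1 else 0 := by
      intro v
      simp only [c, Finset.card_filter]
    simp only [this]
    rw [Finset.sum_comm]
    have h3 : ∀ u : U, (∑ v : V, if Q (v + u) = 0 then 1 else 0) =
        Nat.card {v : V // Q v = 0} := by
      intro u
      rw [hZ, Finset.card_filter]
      exact Fintype.sum_equiv (Equiv.addRight (u : V)) _ _ (fun v => rfl)
    simp only [h3]
    rw [Finset.sum_const, Finset.card_univ, hcU, smul_eq_mul, mul_comm]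
  have hQadd : ∀ (v : V) (u : U), Q (v + u) = Q v + polar Q v u := by
    intro v u
    unfold polar
    rw [hU u u.2]
    ring
  have h2a : ∀ v ∈ U, c v = a := by
    intro v hv
    have : (Finset.univ.filter (fun u : U => Q (v + u) = 0)) = Finset.univ := by
      apply Finset.filter_true_of_mem
      intro u _
      exact hU _ (U.add_mem hv u.2)
    simp only [c, this, Finset.card_univ, hcU]
  have h2b : ∀ v, v ∉ U → c v * q = a := by
    intro v hv
    obtain ⟨u₀, hu₀, hne⟩ := hUmem v hv
    let ψ : U →+ F := ((polarBilin Q v).domRestrict U).toAddMonoidHom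
    have hψ : ∀ u : U, ψ u = polar Q v u := fun u => rfl
    have hsurj : ∀ t : F, t ∈ Set.range ψ := by
      intro t
      refine ⟨(t / (polar Q v u₀)) • ⟨u₀, hu₀⟩, ?_⟩
      rw [hψ]
      simp only [Submodule.coe_smul, polar_smul_right, smul_eq_mul]
      field_simp
    have hfil : ∀ u : U, (Q (v + u) = 0) ↔ ψ u = - Q v := by
      intro u
      rw [hψ, hQadd]
      constructor
      · intro h; linear_combination h
      · intro h; linear_combination h
    have hcv : c v = (Finset.univ.filter (fun u : U => ψ u = - Q v)).card := by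
      simp only [c]
      congr 1
      ext u
      simp only [Finset.mem_filter, Finset.mem_univ, true_and]
      exact hfil u
    have hsum := Finset.card_eq_sum_card_fiberwise (f := ψ) (s := (Finset.univ : Finset U))
      (t := (Finset.univ : Finset F)) (fun _ _ => Finset.mem_coe.2 (Finset.mem_univ _))
    have heq : ∀ b : F, (Finset.univ.filter (fun u : U => ψ u = b)).card = c v := by
      intro b
      rw [hcv]
      exact AddMonoidHom.card_fiber_eq_of_mem_range ψ (hsurj b) (hsurj _)
    simp only [heq] at hsum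
    rw [Finset.sum_const, Finset.card_univ, Finset.card_univ, hcU, smul_eq_mul] at hsum
    rw [mul_comm, ← hsum]
  have h3 : (∑ v : V, c v) * q = ∑ v : V, if v ∈ U then a * q else a := by
    rw [Finset.sum_mul]
    apply Finset.sum_congr rfl
    intro v _
    by_cases hv : v ∈ U
    · rw [if_pos hv, h2a v hv]
    · rw [if_neg hv, h2b v hv]
  rw [Finset.sum_ite, Finset.sum_const, Finset.sum_const, smul_eq_mul, smul_eq_mul] at h3
  have hA : (Finset.univ.filter (fun v : V => v ∈ U)).card = a := by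
    rw [← hcU, Fintype.card_subtype]
  have hAB := Finset.card_filter_add_card_filter_not (s := (Finset.univ : Finset V))
    (fun v : V => v ∈ U)
  rw [Finset.card_univ, hcM, hA] at hAB
  rw [hA, h1] at h3
  set nB := (Finset.univ.filter (fun v : V => ¬ v ∈ U)).card with hnB
  have h4 : a * (Nat.card {v : V // Q v = 0} * q) = a * (a * q + nB) := by
    calc a * (Nat.card {v : V // Q v = 0} * q)
        = Nat.card {v : V // Q v = 0} * a * q := by ring
      _ = a * (a * q) + nB * a := h3
      _ = a * (a * q + nB) := by ring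
  have h5 := Nat.eq_of_mul_eq_mul_left hapos h4
  have h6 : q ^ (2 * k) = a * a := by rw [two_mul, pow_add]
  have h7 : (q - 1) * a = a * q - a := by rw [Nat.sub_mul, one_mul, mul_comm]
  have h8 : a ≤ a * q := Nat.le_mul_of_pos_right a (by omega)
  rw [h5, h6, h7]
  omega

end lagrangian


section types
variable {F : Type*} [Field F] [Fintype F]

/-- plus type: a totally singular subspace of half the dimension -/
def IsPlus {V : Type*} [AddCommGroup V] [Module F V] (Q : QuadraticForm F V) : Prop :=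
  ∃ U : Submodule F V, (∀ u ∈ U, Q u = 0) ∧ 2 * finrank F U = finrank F V

omit [Fintype F] in
/-- the standard plus form has a totally singular subspace of half the dimension -/
theorem isPlus_of_coords {V : Type*} [AddCommGroup V] [Module F V] (Q : QuadraticForm F V)
    (M : ℕ) (Θ : V ≃ₗ[F] (Fin M ⊕ Fin M → F)) (hΘ : ∀ v, Cfsg.quadFormPlus M F (Θ v) = Q v) :
    IsPlus Q := by
  classical
  let ι : (Fin M → F) →ₗ[F] (Fin M ⊕ Fin M → F) :=
    { toFun := fun x => Sum.elim x 0
      map_add' := fun x y => by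
        funext t
        rcases t with i | i <;> simp
      map_smul' := fun c x => by
        funext t
        rcases t with i | i <;> simp }
  have hιinj : Function.Injective ι := by
    intro x y h
    funext i
    exact congrFun h (Sum.inl i)
  let j : (Fin M → F) →ₗ[F] V := (Θ.symm : (Fin M ⊕ Fin M → F) →ₗ[F] V).comp ι
  have hjinj : Function.Injective j := Θ.symm.injective.comp hιinj
  refine ⟨LinearMap.range j, ?_, ?_⟩
  · rintro u ⟨x, rfl⟩
    rw [← hΘ]
    show Cfsg.quadFormPlus M F (Θ (Θ.symm (ι x))) = 0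
    rw [LinearEquiv.apply_symm_apply]
    unfold Cfsg.quadFormPlus
    apply Finset.sum_eq_zero
    intro i _
    show Sum.elim x (0 : Fin M → F) (Sum.inl i) * Sum.elim x (0 : Fin M → F) (Sum.inr i) = 0
    simp
  · rw [LinearMap.finrank_range_of_inj hjinj, LinearEquiv.finrank_eq Θ]
    simp
    ring

variable {V : Type u} [AddCommGroup V] [Module F V] [FiniteDimensional F V]

/-- plus type iff the zero count is of plus type -/
theorem isPlus_iff_count (Q : QuadraticForm F V) (hQ : (polarBilin Q).Nondegenerate) (M : ℕ)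
    (hn : finrank F V = 2 * M) :
    IsPlus Q ↔ Nat.card {v : V // Q v = 0} * Fintype.card F =
      Fintype.card F ^ (2 * M) + (Fintype.card F - 1) * Fintype.card F ^ M := by
  have hq1 : 1 ≤ Fintype.card F := Fintype.card_pos
  have hq2 : 2 ≤ Fintype.card F := Fintype.one_lt_card
  constructor
  · rintro ⟨U, hU, hUd⟩
    exact card_zeros_of_lagrangian Q hQ U hU M (by omega) hn
  · intro hZ
    rcases card_zeros_dichotomy V Q hQ M hn with h | ⟨hM, h⟩
    · obtain ⟨Θ, hΘ⟩ := classify_plus V Q hQ M hn h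
      exact isPlus_of_coords Q M Θ hΘ
    · exfalso
      obtain ⟨k, rfl⟩ : ∃ k, M = k + 1 := ⟨M - 1, by omega⟩
      have h2 := ZZ_minus_mul (Fintype.card F) hq1 k
      rw [Nat.add_sub_cancel] at h
      rw [← h] at h2
      have hpos : 0 < (Fintype.card F - 1) * Fintype.card F ^ (k + 1) :=
        Nat.mul_pos (by omega) (pow_pos (by omega) _)
      omega

/-- not of plus type iff the zero count is of minus type -/
theorem not_isPlus_iff_count (Q : QuadraticForm F V) (hQ : (polarBilin Q).Nondegenerate) (M : ℕ)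
    (hn : finrank F V = 2 * M) :
    ¬ IsPlus Q ↔ Nat.card {v : V // Q v = 0} * Fintype.card F +
      (Fintype.card F - 1) * Fintype.card F ^ M = Fintype.card F ^ (2 * M) := by
  have hq1 : 1 ≤ Fintype.card F := Fintype.card_pos
  have hq2 : 2 ≤ Fintype.card F := Fintype.one_lt_card
  have hpos : 0 < (Fintype.card F - 1) * Fintype.card F ^ M :=
    Nat.mul_pos (by omega) (pow_pos (by omega) _)
  rw [isPlus_iff_count Q hQ M hn]
  constructor
  · intro hZ
    rcases card_zeros_dichotomy V Q hQ M hn with h | ⟨hM, h⟩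
    · exfalso
      apply hZ
      rw [h]
      exact ZZ_plus_mul _ hq1 M
    · obtain ⟨k, rfl⟩ : ∃ k, M = k + 1 := ⟨M - 1, by omega⟩
      rw [Nat.add_sub_cancel] at h
      rw [h]
      exact ZZ_minus_mul _ hq1 k
  · intro h1 h2
    omega

end types


section char2
variable {F : Type*} [Field F] [Fintype F]

omit [Fintype F] in
theorem add_self_char2 (h2 : (2 : F) = 0) (x : F) : x + x = 0 := by
  rw [← two_mul, h2, zero_mul]

omit [Fintype F] in
theorem add_eq_zero_iff_char2 (h2 : (2 : F) = 0) (x y : F) : x + y = 0 ↔ x = y := by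
  constructor
  · intro h
    have : x = x + y + y := by rw [add_assoc, add_self_char2 h2, add_zero]
    rw [this, h, zero_add]
  · rintro rfl
    exact add_self_char2 h2 x

theorem exists_sq_char2 (h2 : (2 : F) = 0) (c : F) : ∃ s : F, c = s * s := by
  have hdvd : ringChar F ∣ 2 := by
    apply (ringChar.spec F 2).1
    exact_mod_cast h2
  have hne : ringChar F ≠ 1 := CharP.ringChar_ne_one
  have hchar : ringChar F = 2 := by
    rcases (Nat.dvd_prime Nat.prime_two).1 hdvd with h | h
    · exact absurd h hne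
    · exact h
  exact FiniteField.isSquare_of_char_two hchar c

/-- in characteristic 2 all nonzero levels of a quadratic form are equally big -/
theorem card_level_eq {V : Type*} [AddCommGroup V] [Module F V] (h2 : (2 : F) = 0)
    (Q : QuadraticForm F V) (c : F) (hc : c ≠ 0) :
    Nat.card {v : V // Q v = c} = Nat.card {v : V // Q v = 1} := by
  obtain ⟨s, hs⟩ := exists_sq_char2 h2 c
  have hs0 : s ≠ 0 := by
    rintro rfl
    apply hc
    rw [hs, zero_mul]
  apply Nat.card_congr
  refine ⟨fun v => ⟨s⁻¹ • v.1, ?_⟩, fun v => ⟨s • v.1, ?_⟩, ?_, ?_⟩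
  · rw [QuadraticMap.map_smul, v.2, hs, smul_eq_mul]
    field_simp
  · rw [QuadraticMap.map_smul, v.2, hs, smul_eq_mul, mul_one]
  · intro v
    apply Subtype.ext
    show s • s⁻¹ • v.1 = v.1
    rw [smul_smul, mul_inv_cancel₀ hs0, one_smul]
  · intro v
    apply Subtype.ext
    show s⁻¹ • s • v.1 = v.1
    rw [smul_smul, inv_mul_cancel₀ hs0, one_smul]

/-- in characteristic 2: zeros plus `(q-1)` times the ones exhaust the space -/
theorem card_level_sum {V : Type*} [AddCommGroup V] [Module F V] [FiniteDimensional F V]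
    (h2 : (2 : F) = 0) (Q : QuadraticForm F V) :
    Nat.card {v : V // Q v = 0} + (Fintype.card F - 1) * Nat.card {v : V // Q v = 1} =
      Fintype.card F ^ finrank F V := by
  classical
  have hfinV : Finite V := Module.finite_of_finite F
  have hftV : Fintype V := Fintype.ofFinite V
  have h1 : Nat.card V = ∑ c : F, Nat.card {v : V // Q v = c} := by
    rw [← Nat.card_sigma]
    exact Nat.card_congr (Equiv.sigmaFiberEquiv (fun v : V => Q v)).symm
  have h0 : Fintype.card F ^ finrank F V = Nat.card V := by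
    rw [Nat.card_eq_fintype_card, Module.card_eq_pow_finrank (K := F) (V := V)]
  rw [h0, h1, ← Finset.add_sum_erase Finset.univ _ (Finset.mem_univ (0 : F))]
  congr 1
  rw [Finset.sum_congr rfl (fun c hc => card_level_eq h2 Q c (Finset.ne_of_mem_erase hc)),
    Finset.sum_const, Finset.card_erase_of_mem (Finset.mem_univ _), Finset.card_univ, smul_eq_mul]

/-- in characteristic 2: the zero count of an orthogonal product -/
theorem card_zeros_prod {V₁ V₂ : Type*} [AddCommGroup V₁] [Module F V₁] [AddCommGroup V₂]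
    [Module F V₂] [Finite V₁] [Finite V₂] (h2 : (2 : F) = 0)
    (Q₁ : QuadraticForm F V₁) (Q₂ : QuadraticForm F V₂) :
    Nat.card {p : V₁ × V₂ // (Q₁.prod Q₂) p = 0} =
      Nat.card {v : V₁ // Q₁ v = 0} * Nat.card {v : V₂ // Q₂ v = 0} +
      (Fintype.card F - 1) * (Nat.card {v : V₁ // Q₁ v = 1} * Nat.card {v : V₂ // Q₂ v = 1}) := by
  classical
  have e : {p : V₁ × V₂ // (Q₁.prod Q₂) p = 0} ≃
      Σ c : F, {v : V₁ // Q₁ v = c} × {v : V₂ // Q₂ v = c} :=
    { toFun := fun p => ⟨Q₁ p.1.1, ⟨p.1.1, rfl⟩, ⟨p.1.2, by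
        have h := p.2
        rw [QuadraticMap.prod_apply] at h
        exact ((add_eq_zero_iff_char2 h2 _ _).1 h).symm⟩⟩
      invFun := fun x => ⟨(x.2.1.1, x.2.2.1), by
        rw [QuadraticMap.prod_apply]
        show Q₁ x.2.1.1 + Q₂ x.2.2.1 = 0
        rw [x.2.1.2, x.2.2.2]
        exact add_self_char2 h2 _⟩
      left_inv := fun p => rfl
      right_inv := fun x => by
        obtain ⟨c, ⟨v₁, hv₁⟩, ⟨v₂, hv₂⟩⟩ := x
        subst hv₁
        rfl }
  rw [Nat.card_congr e, Nat.card_sigma,
    ← Finset.add_sum_erase Finset.univ _ (Finset.mem_univ (0 : F)), Nat.card_prod]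
  congr 1
  have : ∀ c ∈ Finset.univ.erase (0 : F),
      Nat.card ({v : V₁ // Q₁ v = c} × {v : V₂ // Q₂ v = c}) =
        Nat.card {v : V₁ // Q₁ v = 1} * Nat.card {v : V₂ // Q₂ v = 1} := by
    intro c hc
    have hc0 := Finset.ne_of_mem_erase hc
    rw [Nat.card_prod, card_level_eq h2 Q₁ c hc0, card_level_eq h2 Q₂ c hc0]
  rw [Finset.sum_congr rfl this, Finset.sum_const, Finset.card_erase_of_mem (Finset.mem_univ _),
    Finset.card_univ, smul_eq_mul]

/-- the polar form of an orthogonal product is nondegenerate -/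
theorem nondegenerate_prod {K : Type*} [Field K] {V₁ V₂ : Type*} [AddCommGroup V₁] [Module K V₁]
    [AddCommGroup V₂] [Module K V₂] (Q₁ : QuadraticForm K V₁) (Q₂ : QuadraticForm K V₂)
    (hQ₁ : (polarBilin Q₁).Nondegenerate) (hQ₂ : (polarBilin Q₂).Nondegenerate) :
    (polarBilin (Q₁.prod Q₂)).Nondegenerate := by
  constructor
  · intro x hx
    have h1 : x.1 = 0 := by
      apply hQ₁.1
      intro y
      have := hx (y, 0)
      simpa using this
    have h2 : x.2 = 0 := by
      apply hQ₂.1
      intro y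
      have := hx (0, y)
      simpa using this
    exact Prod.ext h1 h2
  · intro x hx
    have h1 : x.1 = 0 := by
      apply hQ₁.2
      intro y
      have := hx (y, 0)
      simpa using this
    have h2 : x.2 = 0 := by
      apply hQ₂.2
      intro y
      have := hx (0, y)
      simpa using this
    exact Prod.ext h1 h2

/-- the integer identity behind the type of a product -/
theorem prod_count_aux (q Z₁ Z₂ N₁ N₂ a₁ a₂ ε₁ ε₂ : ℤ) (hq0 : q ≠ 0) (hq1 : q - 1 ≠ 0)
    (h1 : Z₁ * q = a₁ ^ 2 + ε₁ * (q - 1) * a₁) (h2 : Z₂ * q = a₂ ^ 2 + ε₂ * (q - 1) * a₂)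
    (L1 : Z₁ + (q - 1) * N₁ = a₁ ^ 2) (L2 : Z₂ + (q - 1) * N₂ = a₂ ^ 2) :
    (Z₁ * Z₂ + (q - 1) * (N₁ * N₂)) * q = (a₁ * a₂) ^ 2 + ε₁ * ε₂ * (q - 1) * (a₁ * a₂) := by
  have n1 : N₁ * q = a₁ ^ 2 - ε₁ * a₁ := by
    apply mul_left_cancel₀ hq1
    linear_combination q * L1 - h1
  have n2 : N₂ * q = a₂ ^ 2 - ε₂ * a₂ := by
    apply mul_left_cancel₀ hq1
    linear_combination q * L2 - h2
  apply mul_left_cancel₀ hq0
  linear_combination (Z₂ * q) * h1 + (a₁ ^ 2 + ε₁ * (q - 1) * a₁) * h2 +
    (q - 1) * (N₂ * q) * n1 + (q - 1) * (a₁ ^ 2 - ε₁ * a₁) * n2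


/-- the zero count of a product, in closed form, for given signs `ε₁ ε₂ = ± 1` -/
theorem count_prod_signs {V₁ : Type*} {V₂ : Type*} [AddCommGroup V₁] [Module F V₁]
    [FiniteDimensional F V₁] [AddCommGroup V₂] [Module F V₂] [FiniteDimensional F V₂]
    (h2 : (2 : F) = 0) (Q₁ : QuadraticForm F V₁) (Q₂ : QuadraticForm F V₂) (M₁ M₂ : ℕ)
    (hn₁ : finrank F V₁ = 2 * M₁) (hn₂ : finrank F V₂ = 2 * M₂) (ε₁ ε₂ : ℤ)
    (h1 : (Nat.card {v : V₁ // Q₁ v = 0} : ℤ) * Fintype.card F =
      (Fintype.card F : ℤ) ^ (2 * M₁) + ε₁ * ((Fintype.card F : ℤ) - 1) * (Fintype.card F : ℤ) ^ M₁)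
    (h2' : (Nat.card {v : V₂ // Q₂ v = 0} : ℤ) * Fintype.card F =
      (Fintype.card F : ℤ) ^ (2 * M₂) + ε₂ * ((Fintype.card F : ℤ) - 1) * (Fintype.card F : ℤ) ^ M₂) :
    (Nat.card {p : V₁ × V₂ // (Q₁.prod Q₂) p = 0} : ℤ) * Fintype.card F =
      (Fintype.card F : ℤ) ^ (2 * (M₁ + M₂)) +
        ε₁ * ε₂ * ((Fintype.card F : ℤ) - 1) * (Fintype.card F : ℤ) ^ (M₁ + M₂) := by
  have hfin₁ : Finite V₁ := Module.finite_of_finite F
  have hfin₂ : Finite V₂ := Module.finite_of_finite F
  have hq2 : 2 ≤ Fintype.card F := Fintype.one_lt_card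
  have hq1 : 1 ≤ Fintype.card F := by omega
  have L1 := card_level_sum h2 Q₁
  have L2 := card_level_sum h2 Q₂
  rw [hn₁] at L1
  rw [hn₂] at L2
  have P := card_zeros_prod h2 Q₁ Q₂
  zify [hq1] at L1 L2 P
  rw [P]
  set q : ℤ := (Fintype.card F : ℤ) with hq
  have hq0 : q ≠ 0 := by
    rw [hq]
    exact_mod_cast (by omega : Fintype.card F ≠ 0)
  have hq1' : q - 1 ≠ 0 := by
    intro h
    have : (Fintype.card F : ℤ) = 1 := by linarith
    have : Fintype.card F = 1 := by exact_mod_cast this
    omega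
  have key := prod_count_aux q _ _ _ _ (q ^ M₁) (q ^ M₂) ε₁ ε₂ hq0 hq1'
    (by rw [h1]; ring) (by rw [h2']; ring) (by rw [L1]; ring) (by rw [L2]; ring)
  rw [key]
  ring

/-- the sign of a nondegenerate even-dimensional quadratic form: `+1` iff plus type -/
theorem exists_sign {V : Type*} [AddCommGroup V] [Module F V] [FiniteDimensional F V]
    (Q : QuadraticForm F V) (hQ : (polarBilin Q).Nondegenerate) (M : ℕ)
    (hM : finrank F V = 2 * M) :
    ∃ ε : ℤ, (ε = 1 ∨ ε = -1) ∧ (IsPlus Q ↔ ε = 1) ∧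
      (Nat.card {v : V // Q v = 0} : ℤ) * Fintype.card F =
        (Fintype.card F : ℤ) ^ (2 * M) + ε * ((Fintype.card F : ℤ) - 1) *
          (Fintype.card F : ℤ) ^ M := by
  have hq2 : 2 ≤ Fintype.card F := Fintype.one_lt_card
  have hq1 : 1 ≤ Fintype.card F := by omega
  by_cases hp : IsPlus Q
  · refine ⟨1, Or.inl rfl, ⟨fun _ => rfl, fun _ => hp⟩, ?_⟩
    have := (isPlus_iff_count Q hQ M hM).1 hp
    zify [hq1] at this
    rw [this]
    ring
  · refine ⟨-1, Or.inr rfl, ⟨fun h => absurd h hp, fun h => by norm_num at h⟩, ?_⟩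
    have := (not_isPlus_iff_count Q hQ M hM).1 hp
    zify [hq1] at this
    linear_combination this

/-- in characteristic 2, the type of an orthogonal product is the product of the types -/
theorem isPlus_prod_iff {V₁ : Type*} {V₂ : Type*} [AddCommGroup V₁] [Module F V₁]
    [FiniteDimensional F V₁] [AddCommGroup V₂] [Module F V₂] [FiniteDimensional F V₂]
    (h2 : (2 : F) = 0) (Q₁ : QuadraticForm F V₁) (Q₂ : QuadraticForm F V₂)
    (hQ₁ : (polarBilin Q₁).Nondegenerate) (hQ₂ : (polarBilin Q₂).Nondegenerate) (M₁ M₂ : ℕ)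
    (hn₁ : finrank F V₁ = 2 * M₁) (hn₂ : finrank F V₂ = 2 * M₂) :
    IsPlus (Q₁.prod Q₂) ↔ (IsPlus Q₁ ↔ IsPlus Q₂) := by
  have hq2 : 2 ≤ Fintype.card F := Fintype.one_lt_card
  have hq1 : 1 ≤ Fintype.card F := by omega
  have hnd := nondegenerate_prod Q₁ Q₂ hQ₁ hQ₂
  have hn : finrank F (V₁ × V₂) = 2 * (M₁ + M₂) := by
    rw [Module.finrank_prod, hn₁, hn₂]
    ring
  obtain ⟨ε₁, hε₁, hp₁, hc₁⟩ := exists_sign Q₁ hQ₁ M₁ hn₁
  obtain ⟨ε₂, hε₂, hp₂, hc₂⟩ := exists_sign Q₂ hQ₂ M₂ hn₂
  have hc := count_prod_signs h2 Q₁ Q₂ M₁ M₂ hn₁ hn₂ ε₁ ε₂ hc₁ hc₂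
  rw [hp₁, hp₂]
  have hε : ε₁ * ε₂ = 1 ∨ ε₁ * ε₂ = -1 := by
    rcases hε₁ with h | h <;> rcases hε₂ with h' | h' <;> rw [h, h'] <;> norm_num
  rcases hε with h | h
  · rw [h] at hc
    have hplus : IsPlus (Q₁.prod Q₂) := by
      rw [isPlus_iff_count _ hnd (M₁ + M₂) hn]
      zify [hq1]
      rw [hc]
      ring
    refine ⟨fun _ => ?_, fun _ => hplus⟩
    rcases hε₁ with rfl | rfl <;> rcases hε₂ with rfl | rfl
    · exact Iff.rfl
    · norm_num at h
    · norm_num at h
    · exact Iff.rfl
  · rw [h] at hc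
    have hminus : ¬ IsPlus (Q₁.prod Q₂) := by
      rw [not_isPlus_iff_count _ hnd (M₁ + M₂) hn]
      zify [hq1]
      linear_combination hc
    refine ⟨fun hp => absurd hp hminus, fun hiff => ?_⟩
    exfalso
    rcases hε₁ with rfl | rfl <;> rcases hε₂ with rfl | rfl
    · norm_num at h
    · have := hiff.1 rfl
      norm_num at this
    · have := hiff.2 rfl
      norm_num at this
    · norm_num at h

end char2

end Cfsg.Agent.Lib.Helper43.QType
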