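import Mathlib
import Cfsg.Agent.Lib.Helper65.QeDefs
import Cfsg.Agent.Lib.Helper43.QType

/-! # Qe hive (helper65, S5988), leaf QE-T0: plus type ⇔ plus zero count, for a nondegenerate subspace
(all characteristics) (helper43) -/

set_option autoImplicit false

namespace Cfsg.Agent.Lib.Helper65.Qe

open Polynomial Module
open Cfsg.Agent.Lib.Helper2.BG Cfsg.Agent.Lib.Helper99 Cfsg.Agent.Lib.Helper48.Ti
open Cfsg.Agent.Lib.Helper5.Hy

section abstract

variable {F V : Type*} [Field F] [Fintype F] [AddCommGroup V] [Module F V] [FiniteDimensional F V]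
variable {Q : QuadraticForm F V}

omit [Fintype F] [FiniteDimensional F V] in
/-- relative nondegeneracy gives nondegeneracy of the restricted form -/
theorem t0_nondeg {W : Submodule F V} (hW : Nd (pol Q) W) :
    (QuadraticMap.polarBilin (Q.comp W.subtype)).Nondegenerate :=
  Cfsg.Agent.Lib.Helper43.nondegenerate_comp_subtype Q W (fun w hw h => hW w hw h)

omit [Fintype F] [FiniteDimensional F V] in
/-- `PlusQ Q W` is the plus type of the restricted form -/
theorem t0_plusQ_iff (W : Submodule F V) :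
    PlusQ Q W ↔ Cfsg.Agent.Lib.Helper43.QType.IsPlus (Q.comp W.subtype) := by
  constructor
  · rintro ⟨U, hUW, hU, hd⟩
    refine ⟨U.comap W.subtype, ?_, ?_⟩
    · intro u hu
      exact hU _ hu
    · rw [LinearEquiv.finrank_eq (Submodule.comapSubtypeEquivOfLe hUW), hd]
  · rintro ⟨U', hU', hd⟩
    refine ⟨U'.map W.subtype, Submodule.map_subtype_le W U', ?_, ?_⟩
    · rintro u ⟨u', hu', rfl⟩
      exact hU' u' hu'
    · rw [Submodule.finrank_map_subtype_eq, hd]

/-- QE-T0 (ALL characteristics): plus type ⇔ plus zero count. -/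
theorem plusQ_iff_card {W : Submodule F V} (hW : Nd (pol Q) W) (M : ℕ)
    (hdim : finrank F W = 2 * M) :
    PlusQ Q W ↔ Nat.card {w : W // Q (w : V) = 0} =
      Cfsg.Agent.Lib.Helper43.ZZ (Fintype.card F) 0 1 M := by
  have hq1 : 1 ≤ Fintype.card F := Fintype.card_pos
  rw [t0_plusQ_iff, Cfsg.Agent.Lib.Helper43.QType.isPlus_iff_count _ (t0_nondeg hW) M hdim,
    ← Cfsg.Agent.Lib.Helper43.QType.ZZ_plus_mul _ hq1 M]
  show Nat.card {w : W // Q (w : V) = 0} * Fintype.card F = _ ↔ _
  constructor
  · intro h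
    exact Nat.eq_of_mul_eq_mul_right (by omega) h
  · intro h
    rw [h]

end abstract

end Cfsg.Agent.Lib.Helper65.Qe
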