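import Mathlib
import Cfsg.Agent.Lib.Helper65.QeDefs
import Cfsg.Agent.Lib.Helper44.CharTwoSym
import Cfsg.Agent.Lib.Helper43.QType
import Cfsg.Agent.Lib.Helper43.QeT0

/-! # Qe hive (helper65, S5988), leaf QE-T1: in characteristic 2 the type of an orthogonal sum of
nondegenerate subspaces is the product of the types (helper43) -/

set_option autoImplicit false

namespace Cfsg.Agent.Lib.Helper65.Qe

open Polynomial Module
open Cfsg.Agent.Lib.Helper2.BG Cfsg.Agent.Lib.Helper99 Cfsg.Agent.Lib.Helper48.Ti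
open Cfsg.Agent.Lib.Helper5.Hy

section abstract

variable {F V : Type*} [Field F] [Fintype F] [AddCommGroup V] [Module F V] [FiniteDimensional F V]
variable {Q : QuadraticForm F V}

omit [Fintype F] in
/-- the plus type is invariant under isometries -/
theorem t1_isPlus_congr {V₁ V₂ : Type*} [AddCommGroup V₁] [Module F V₁] [AddCommGroup V₂]
    [Module F V₂] (Q₁ : QuadraticForm F V₁) (Q₂ : QuadraticForm F V₂) (Θ : V₁ ≃ₗ[F] V₂)
    (hΘ : ∀ v, Q₂ (Θ v) = Q₁ v) :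
    Cfsg.Agent.Lib.Helper43.QType.IsPlus Q₁ ↔ Cfsg.Agent.Lib.Helper43.QType.IsPlus Q₂ := by
  constructor
  · rintro ⟨U, hU, hd⟩
    refine ⟨U.map (Θ : V₁ →ₗ[F] V₂), ?_, ?_⟩
    · rintro u ⟨u', hu', rfl⟩
      show Q₂ (Θ u') = 0
      rw [hΘ]
      exact hU u' hu'
    · rw [LinearEquiv.finrank_map_eq Θ U, hd, LinearEquiv.finrank_eq Θ]
  · rintro ⟨U, hU, hd⟩
    refine ⟨U.map (Θ.symm : V₂ →ₗ[F] V₁), ?_, ?_⟩
    · rintro u ⟨u', hu', rfl⟩
      show Q₁ (Θ.symm u') = 0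
      rw [← hΘ, LinearEquiv.apply_symm_apply]
      exact hU u' hu'
    · rw [LinearEquiv.finrank_map_eq Θ.symm U, hd, LinearEquiv.finrank_eq Θ]

omit [Fintype F] [FiniteDimensional F V] in
/-- orthogonal nondegenerate subspaces are disjoint -/
theorem t1_disjoint {W₀ W₁ : Submodule F V} (h₀ : Nd (pol Q) W₀) (ho : Orth (pol Q) W₀ W₁) :
    W₀ ⊓ W₁ = ⊥ := by
  rw [eq_bot_iff]
  intro x hx
  rw [Submodule.mem_bot]
  apply h₀ x hx.1
  intro v hv
  have := ho v hv x hx.2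
  show QuadraticMap.polarBilin Q x v = 0
  rw [QuadraticMap.polarBilin_apply_apply, QuadraticMap.polar_comm]
  exact this

omit [Fintype F] [FiniteDimensional F V] in
/-- the sum of two disjoint subspaces as a product -/
theorem t1_exists_equiv {W₀ W₁ : Submodule F V} (hd : W₀ ⊓ W₁ = ⊥) :
    ∃ e : (W₀ × W₁) ≃ₗ[F] ↥(W₀ ⊔ W₁), ∀ p : W₀ × W₁, ((e p : ↥(W₀ ⊔ W₁)) : V) = (p.1 : V) + p.2 := by
  let f : (W₀ × W₁) →ₗ[F] V := W₀.subtype.coprod W₁.subtype
  have hf : ∀ p : W₀ × W₁, f p = (p.1 : V) + p.2 := fun p => by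
    simp [f, LinearMap.coprod_apply]
  have hinj : Function.Injective f := by
    rw [← LinearMap.ker_eq_bot, eq_bot_iff]
    intro p hp
    rw [LinearMap.mem_ker, hf] at hp
    have h1 : (p.1 : V) = - (p.2 : V) := eq_neg_of_add_eq_zero_left hp
    have h2 : (p.1 : V) ∈ W₀ ⊓ W₁ := ⟨p.1.2, by rw [h1]; exact W₁.neg_mem p.2.2⟩
    rw [hd, Submodule.mem_bot] at h2
    have h3 : (p.2 : V) = 0 := by
      rw [h2, zero_add] at hp
      exact hp
    rw [Submodule.mem_bot]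
    exact Prod.ext (Subtype.ext h2) (Subtype.ext h3)
  have hrange : LinearMap.range f = W₀ ⊔ W₁ := by
    simp only [f, LinearMap.range_coprod, Submodule.range_subtype]
  refine ⟨(LinearEquiv.ofInjective f hinj).trans (LinearEquiv.ofEq _ _ hrange), fun p => ?_⟩
  rw [← hf]
  rfl

omit [Fintype F] [FiniteDimensional F V] in
/-- in characteristic 2 the polar form is alternating -/
theorem t1_polar_self (h2 : (2 : F) = 0) (Q' : QuadraticForm F V) (x : V) :
    QuadraticMap.polar Q' x x = 0 := by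
  rw [QuadraticMap.polar_self, nsmul_eq_mul]
  have : ((2 : ℕ) : F) = 0 := by exact_mod_cast h2
  rw [this, zero_mul]

omit [Fintype F] in
/-- in characteristic 2 a nondegenerate subspace has even dimension -/
theorem t1_even (h2 : (2 : F) = 0) {W : Submodule F V} (hW : Nd (pol Q) W) :
    ∃ M, finrank F W = 2 * M := by
  have halt : (QuadraticMap.polarBilin (Q.comp W.subtype)).IsAlt := by
    intro x
    rw [QuadraticMap.polarBilin_apply_apply]
    exact t1_polar_self h2 _ x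
  exact Cfsg.Agent.Lib.Helper44.alt_finrank_even (finrank F W) W _ halt (t0_nondeg hW) rfl

/-- QE-T1 (char 2): the type of an orthogonal sum is the product of the types. -/
theorem plusQ_sup_two (h2 : (2 : F) = 0) {W₀ W₁ : Submodule F V}
    (h₀ : Nd (pol Q) W₀) (h₁ : Nd (pol Q) W₁) (ho : Orth (pol Q) W₀ W₁) :
    PlusQ Q (W₀ ⊔ W₁) ↔ (PlusQ Q W₀ ↔ PlusQ Q W₁) := by
  obtain ⟨M₀, hM₀⟩ := t1_even h2 h₀
  obtain ⟨M₁, hM₁⟩ := t1_even h2 h₁
  obtain ⟨e, he⟩ := t1_exists_equiv (t1_disjoint h₀ ho)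
  have hiso : ∀ p : W₀ × W₁, (Q.comp (W₀ ⊔ W₁).subtype) (e p) =
      ((Q.comp W₀.subtype).prod (Q.comp W₁.subtype)) p := by
    intro p
    rw [QuadraticMap.prod_apply]
    show Q ((e p : ↥(W₀ ⊔ W₁)) : V) = Q (p.1 : V) + Q (p.2 : V)
    rw [he]
    have h := ho p.1 p.1.2 p.2 p.2.2
    have h' : QuadraticMap.polar Q (p.1 : V) (p.2 : V) = 0 := h
    unfold QuadraticMap.polar at h'
    linear_combination h'
  rw [t0_plusQ_iff, t0_plusQ_iff, t0_plusQ_iff,
    ← t1_isPlus_congr _ _ e hiso]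
  exact Cfsg.Agent.Lib.Helper43.QType.isPlus_prod_iff h2 _ _ (t0_nondeg h₀) (t0_nondeg h₁)
    M₀ M₁ hM₀ hM₁

end abstract

end Cfsg.Agent.Lib.Helper65.Qe
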