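import Cfsg.Agent.Lib.Helper43.OrthCardNum

/-!
# The zero counts `ZZ` modulo a prime
-/

set_option autoImplicit false

namespace Cfsg.Agent.Lib.Helper43.ZeroCount

open Cfsg.Agent.Lib.Helper43

section cast
variable {R : Type*} [CommRing R]

/-- `q̄^(2n) + σ (q̄ - 1) q̄^n` -/
def zhat (x σ : R) (n : ℕ) : R := x ^ (2 * n) + σ * (x - 1) * x ^ n

theorem cast_ZZ_plus (q : ℕ) (hq : 1 ≤ q) (n : ℕ) :
    ((ZZ q 0 1 n : ℕ) : R) * (q : R) = zhat (q : R) 1 n := by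
  unfold zhat
  induction n with
  | zero => rw [ZZ_zero]; simp
  | succ n ih =>
    rw [ZZ_succ, Nat.cast_add, Nat.cast_mul, Nat.cast_mul, Nat.cast_pow, Nat.cast_sub hq,
      Nat.cast_one, add_mul, mul_assoc, ih]
    ring

theorem cast_ZZ_minus (q : ℕ) (hq : 1 ≤ q) (n : ℕ) :
    ((ZZ q 2 1 n : ℕ) : R) * (q : R) = zhat (q : R) (-1) (n + 1) := by
  unfold zhat
  induction n with
  | zero => rw [ZZ_zero]; simp; ring
  | succ n ih =>
    rw [ZZ_succ, Nat.cast_add, Nat.cast_mul, Nat.cast_mul, Nat.cast_pow, Nat.cast_sub hq,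
      Nat.cast_one, add_mul, mul_assoc, ih]
    ring

theorem zhat_shift (x σ τ : R) (m k : ℕ) (hk : k ≤ m) (hτ : τ * τ = 1) (hx : x ^ k = τ) :
    zhat x σ m = zhat x (σ * τ) (m - k) := by
  unfold zhat
  obtain ⟨d, rfl⟩ : ∃ d, m = d + k := ⟨m - k, by omega⟩
  rw [Nat.add_sub_cancel, show 2 * (d + k) = 2 * d + k + k by ring, pow_add, pow_add, pow_add, hx]
  linear_combination (x ^ (2 * d)) * hτ

end cast

section decide
variable (r : ℕ) [Fact r.Prime]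

theorem zhat_ne (hr2 : r ≠ 2) (x : ZMod r) (hx0 : x ≠ 0) (hx1 : x ≠ 1) (n : ℕ) :
    zhat x 1 n ≠ zhat x (-1) n := by
  unfold zhat
  intro h
  have h2 : (2 : ZMod r) * ((x - 1) * x ^ n) = 0 := by linear_combination h
  have h2ne : (2 : ZMod r) ≠ 0 := by
    intro h0
    have h3 : ((2 : ℕ) : ZMod r) = 0 := by exact_mod_cast h0
    rw [ZMod.natCast_eq_zero_iff] at h3
    have hr : r.Prime := Fact.out
    have := (Nat.prime_dvd_prime_iff_eq hr Nat.prime_two).1 h3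
    exact hr2 this
  rcases mul_eq_zero.1 h2 with h3 | h3
  · exact h2ne h3
  · rcases mul_eq_zero.1 h3 with h4 | h4
    · exact hx1 (sub_eq_zero.1 h4)
    · exact hx0 (pow_eq_zero_iff (by
        intro hn; subst hn; simp at h4) |>.1 h4)

/-- deciding the type of a zero count from a congruence -/
theorem zero_count_decide (hr2 : r ≠ 2) (q : ℕ) (hq : 1 ≤ q) (hq0 : (q : ZMod r) ≠ 0)
    (hq1 : (q : ZMod r) ≠ 1) (m k : ℕ) (hk : k ≤ m) (τ σ₂ : ZMod r)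
    (hτ : τ = 1 ∨ τ = -1) (hσ₂ : σ₂ = 1 ∨ σ₂ = -1) (hqk : (q : ZMod r) ^ k = τ) (Z Z₂ : ℕ)
    (hZ : Z = ZZ q 0 1 m ∨ (1 ≤ m ∧ Z = ZZ q 2 1 (m - 1)))
    (hZ₂ : (Z₂ : ZMod r) * (q : ZMod r) = zhat (q : ZMod r) σ₂ (m - k))
    (hmod : Z ≡ Z₂ [MOD r]) :
    (σ₂ * τ = 1 → Z = ZZ q 0 1 m) ∧ (σ₂ * τ = -1 → 1 ≤ m ∧ Z = ZZ q 2 1 (m - 1)) := by
  have hττ : τ * τ = 1 := by
    rcases hτ with h | h <;> rw [h] <;> ring
  have hcast : (Z : ZMod r) = (Z₂ : ZMod r) := (ZMod.natCast_eq_natCast_iff Z Z₂ r).2 hmod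
  have hkey : (Z : ZMod r) * (q : ZMod r) = zhat (q : ZMod r) (σ₂ * τ) m := by
    rw [hcast, hZ₂, zhat_shift (q : ZMod r) (σ₂ * τ) τ m k hk hττ hqk, mul_assoc, hττ, mul_one]
  have hne := zhat_ne r hr2 (q : ZMod r) hq0 hq1 m
  have hone : (1 : ZMod r) ≠ -1 := by
    intro h
    have h2 : (2 : ZMod r) = 0 := by linear_combination h
    have h3 : ((2 : ℕ) : ZMod r) = 0 := by exact_mod_cast h2
    rw [ZMod.natCast_eq_zero_iff] at h3
    have hr : r.Prime := Fact.out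
    exact hr2 ((Nat.prime_dvd_prime_iff_eq hr Nat.prime_two).1 h3)
  constructor
  · intro h1
    rcases hZ with h | ⟨hm, h⟩
    · exact h
    · exfalso
      rw [h1] at hkey
      have h5 : ((ZZ q 2 1 (m - 1) : ℕ) : ZMod r) * (q : ZMod r) =
          zhat (q : ZMod r) (-1) m := by
        rw [cast_ZZ_minus q hq (m - 1)]
        congr 1
        omega
      rw [h, h5] at hkey
      exact hne hkey.symm
  · intro h1
    rcases hZ with h | ⟨hm, h⟩
    · exfalso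
      rw [h1, h, cast_ZZ_plus q hq m] at hkey
      exact hne hkey
    · exact ⟨hm, h⟩

end decide

end Cfsg.Agent.Lib.Helper43.ZeroCount
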