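import Mathlib
import Cfsg.Prelude.Def_Transfer
import Cfsg.Prelude.Def_OddOrderLocal
import Cfsg.Agent.Lib.Helper15.CycSylDefs
import Cfsg.Agent.Lib.Helper43.CycSylW6

set_option autoImplicit false
set_option linter.unusedSectionVars false
set_option linter.unusedVariables false

/-!
# S4016 hive, leaf W9a: `C(P)` is a TI-subset
-/

namespace Cfsg.Agent.Lib.Helper15.CycSyl

open Subgroup

variable {G : Type*} [Group G] [Finite G] {p : ℕ} [Fact p.Prime]

/-- a `p`-element centralizing a Sylow `p`-subgroup lies in it -/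
theorem w9a_mem_of_centralizes (P : Sylow p G) {a : G}
    (ha : a ∈ centralizer ((P : Subgroup G) : Set G)) (hap : ∃ k : ℕ, a ^ p ^ k = 1) :
    a ∈ (P : Subgroup G) := by
  obtain ⟨k, hk⟩ := hap
  have hzp : IsPGroup p (zpowers a) := by
    rintro ⟨g, hg⟩
    obtain ⟨i, rfl⟩ := Subgroup.mem_zpowers_iff.mp hg
    refine ⟨k, Subtype.ext ?_⟩
    show (a ^ i) ^ p ^ k = 1
    rw [← zpow_natCast, ← zpow_mul, mul_comm, zpow_mul, zpow_natCast, hk, one_zpow]
  have hle : zpowers a ≤ normalizer ((P : Subgroup G) : Set G) := by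
    rw [zpowers_le]
    exact centralizer_le_normalizer _ ha
  have hsup : IsPGroup p (zpowers a ⊔ (P : Subgroup G) : Subgroup G) :=
    hzp.to_sup_of_normal_right' P.isPGroup' hle
  have := P.is_maximal' hsup le_sup_right
  have h1 : zpowers a ≤ zpowers a ⊔ (P : Subgroup G) := le_sup_left
  rw [this] at h1
  exact h1 (mem_zpowers a)

/-- the normalizer of a subgroup normalizes its centralizer -/
theorem w9a_normalizer_le (P : Subgroup G) :
    normalizer (P : Set G) ≤ normalizer (centralizer (P : Set G) : Set G) := by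
  intro g hg
  have key : ∀ (t : G), t ∈ normalizer (P : Set G) → ∀ c ∈ centralizer (P : Set G),
      t * c * t⁻¹ ∈ centralizer (P : Set G) := by
    intro t ht c hc
    rw [Subgroup.mem_centralizer_iff] at hc ⊢
    intro a ha
    have ha' : t⁻¹ * a * t ∈ P := (mem_set_normalizer_iff''.mp ht a).mp ha
    have := hc _ ha'
    calc a * (t * c * t⁻¹) = t * ((t⁻¹ * a * t) * c) * t⁻¹ := by group
      _ = t * (c * (t⁻¹ * a * t)) * t⁻¹ := by rw [this]
      _ = t * c * t⁻¹ * a := by group
  rw [mem_set_normalizer_iff]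
  intro c
  constructor
  · intro hc
    exact key g hg c hc
  · intro hc
    have := key g⁻¹ (inv_mem hg) _ hc
    have e : g⁻¹ * (g * c * g⁻¹) * g⁻¹⁻¹ = c := by group
    rwa [e] at this

/-- [W9a] -/
theorem Local.tiSubset (h : Local p G) (P : Sylow p G) :
    Cfsg.IsTISubset (centralizer ((P : Subgroup G) : Set G) : Set G) := by
  have hp : p.Prime := Fact.out
  intro g hg x hx hgx
  by_contra hx1
  apply hg
  apply w9a_normalizer_le (P : Subgroup G)
  have hx' : x ∈ centralizer ((P : Subgroup G) : Set G) := hx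
  have hgx' : g * x * g⁻¹ ∈ centralizer ((P : Subgroup G) : Set G) := hgx
  by_cases hco : (orderOf x).Coprime p
  · exact h.f3 P g x hx' hx1 hco hgx'
  · -- the `p`-part of `x`
    have hn0 : orderOf x ≠ 0 := (orderOf_pos x).ne'
    have hpd : p ∣ orderOf x := by
      by_contra hnd
      exact hco ((Nat.Prime.coprime_iff_not_dvd hp).mpr hnd).symm
    set m := ordCompl[p] (orderOf x) with hm
    set a := x ^ m with ha
    have hmul : ordProj[p] (orderOf x) * m = orderOf x := Nat.ordProj_mul_ordCompl_eq_self _ p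
    have hap : a ^ p ^ ((orderOf x).factorization p) = 1 := by
      rw [ha, ← pow_mul, mul_comm, hmul, pow_orderOf_eq_one]
    have ha1 : a ≠ 1 := by
      intro h1
      have hdvd : orderOf x ∣ m := orderOf_dvd_of_pow_eq_one h1
      have hmpos : 0 < m := Nat.ordCompl_pos p hn0
      have hle : orderOf x ≤ m := Nat.le_of_dvd hmpos hdvd
      have hk : 1 ≤ (orderOf x).factorization p :=
        (hp.dvd_iff_one_le_factorization hn0).mp hpd
      have hpk : 2 ≤ ordProj[p] (orderOf x) := by
        calc 2 ≤ p := hp.two_le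
          _ = p ^ 1 := (pow_one p).symm
          _ ≤ p ^ (orderOf x).factorization p := Nat.pow_le_pow_right hp.pos hk
      nlinarith
    have haC : a ∈ centralizer ((P : Subgroup G) : Set G) := pow_mem hx' m
    have haP : a ∈ (P : Subgroup G) := w9a_mem_of_centralizes P haC ⟨_, hap⟩
    have hga : g * a * g⁻¹ = (g * x * g⁻¹) ^ m := by
      rw [ha, conj_pow]
    have hgaC : g * a * g⁻¹ ∈ centralizer ((P : Subgroup G) : Set G) := by
      rw [hga]; exact pow_mem hgx' m
    have hgap : (g * a * g⁻¹) ^ p ^ ((orderOf x).factorization p) = 1 := by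
      rw [conj_pow, hap, mul_one, mul_inv_cancel]
    have hgaP : g * a * g⁻¹ ∈ (P : Subgroup G) := w9a_mem_of_centralizes P hgaC ⟨_, hgap⟩
    exact h.ti P g a haP ha1 hgaP

end Cfsg.Agent.Lib.Helper15.CycSyl
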