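import Mathlib
import Cfsg.Prelude.Def_Transfer
import Cfsg.Agent.Lib.Helper15.CycSylDefs
import Cfsg.Agent.Lib.Helper43.CycSylW6
import Cfsg.Agent.Lib.Helper43.CycSylW9a

set_option autoImplicit false
set_option linter.unusedSectionVars false
set_option linter.unusedVariables false

/-!
# S4016 hive, leaf W5 (core): the configuration `TConf`, modulo Schur–Zassenhaus in `N(P)`
-/

namespace Cfsg.Agent.Lib.Helper15.CycSyl

open Subgroup
open scoped Pointwise

variable {G : Type*} [Group G] [Finite G] {p : ℕ} [Fact p.Prime]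

/-- a `p`-element normalizing a Sylow `p`-subgroup lies in it -/
theorem w5_mem_of_normalizes (P : Sylow p G) {a : G}
    (ha : a ∈ normalizer ((P : Subgroup G) : Set G)) (hap : ∃ k : ℕ, a ^ p ^ k = 1) :
    a ∈ (P : Subgroup G) := by
  obtain ⟨k, hk⟩ := hap
  have hzp : IsPGroup p (zpowers a) := by
    rintro ⟨g, hg⟩
    obtain ⟨i, rfl⟩ := Subgroup.mem_zpowers_iff.mp hg
    refine ⟨k, Subtype.ext ?_⟩
    show (a ^ i) ^ p ^ k = 1
    rw [← zpow_natCast, ← zpow_mul, mul_comm, zpow_mul, zpow_natCast, hk, one_zpow]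
  have hle : zpowers a ≤ normalizer ((P : Subgroup G) : Set G) := by
    rw [zpowers_le]
    exact ha
  have hsup : IsPGroup p (zpowers a ⊔ (P : Subgroup G) : Subgroup G) :=
    hzp.to_sup_of_normal_right' P.isPGroup' hle
  have := P.is_maximal' hsup le_sup_right
  have h1 : zpowers a ≤ zpowers a ⊔ (P : Subgroup G) := le_sup_left
  rw [this] at h1
  exact h1 (mem_zpowers a)

/-- the configuration, once a complement `L` of `P` in `N(P)` containing a Sylow `r`-subgroup `R`
of `G` that meets `C(P)` is given -/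
theorem w5_core (h : Local p G) (P : Sylow p G) {r : ℕ} (hr : r.Prime) (hrp : r ≠ p)
    (R : Sylow r G) {x' : G} (hxR : x' ∈ (R : Subgroup G))
    (hxC : x' ∈ centralizer ((P : Subgroup G) : Set G)) (hx1 : x' ≠ 1)
    (L : Subgroup G) (hle : L ≤ normalizer ((P : Subgroup G) : Set G))
    (hinf : L ⊓ (P : Subgroup G) = ⊥)
    (hsup : (P : Subgroup G) ⊔ L = normalizer ((P : Subgroup G) : Set G))
    (hcop : (Nat.card L).Coprime p) (hRL : (R : Subgroup G) ≤ L) :
    ∃ u : G, TConf p P L u := by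
  have hp : p.Prime := Fact.out
  have hLab := h.ab L hcop
  have hxL : x' ∈ L := hRL hxR
  have hxo : (orderOf x').Coprime p := w6_coprime_of_mem hcop hxL
  have hCx : centralizer ({x'} : Set G) = normalizer ((P : Subgroup G) : Set G) :=
    h.f2 P x' hxC hx1 hxo
  have hRne : (R : Subgroup G) ≠ ⊥ := by
    intro hb
    rw [hb, mem_bot] at hxR
    exact hx1 hxR
  obtain ⟨u, huN, huC, hup⟩ := h.burn r hr hrp R hRne
  have hCRN : centralizer ((R : Subgroup G) : Set G) ≤ normalizer ((P : Subgroup G) : Set G) := by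
    rw [← hCx]
    exact centralizer_le (Set.singleton_subset_iff.mpr hxR)
  -- (A)
  have hA : u ∉ normalizer ((P : Subgroup G) : Set G) := by
    intro huNP
    have huP : u ∈ (P : Subgroup G) := w5_mem_of_normalizes P huNP hup
    apply huC
    rw [mem_centralizer_iff]
    intro s hs
    have hsN : s ∈ normalizer ((P : Subgroup G) : Set G) := hle (hRL hs)
    have h1 : u * s * u⁻¹ ∈ (R : Subgroup G) := (mem_set_normalizer_iff.mp huN s).mp hs
    have h2 : s * u⁻¹ * s⁻¹ ∈ (P : Subgroup G) :=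
      (mem_set_normalizer_iff.mp hsN u⁻¹).mp (inv_mem huP)
    have h3 : u * s * u⁻¹ * s⁻¹ ∈ L := hRL (mul_mem h1 (inv_mem hs))
    have h4 : u * s * u⁻¹ * s⁻¹ ∈ (P : Subgroup G) := by
      have : u * s * u⁻¹ * s⁻¹ = u * (s * u⁻¹ * s⁻¹) := by group
      rw [this]
      exact mul_mem huP h2
    have h5 : u * s * u⁻¹ * s⁻¹ = 1 := by
      have : u * s * u⁻¹ * s⁻¹ ∈ L ⊓ (P : Subgroup G) := ⟨h3, h4⟩
      rwa [hinf, mem_bot] at this
    calc s * u = (u * s * u⁻¹ * s⁻¹)⁻¹ * (u * s) := by group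
      _ = u * s := by rw [h5, inv_one, one_mul]
  have huNC : u ∈ normalizer (centralizer ((R : Subgroup G) : Set G) : Set G) :=
    w9a_normalizer_le (R : Subgroup G) huN
  -- (B)
  have hB : centralizer ((R : Subgroup G) : Set G) ⊓ (P : Subgroup G) = ⊥ := by
    rw [eq_bot_iff]
    intro v hv
    rw [mem_bot]
    by_contra hv1
    obtain ⟨hvC, hvP⟩ := hv
    have h1 : u * v * u⁻¹ ∈ centralizer ((R : Subgroup G) : Set G) :=
      (mem_set_normalizer_iff.mp huNC v).mp hvC
    have h2 : u * v * u⁻¹ ∈ normalizer ((P : Subgroup G) : Set G) := hCRN h1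
    have h3 : ∃ k : ℕ, (u * v * u⁻¹) ^ p ^ k = 1 := by
      obtain ⟨k, hk⟩ := w6_pow_of_mem_sylow P hvP
      exact ⟨k, by rw [conj_pow, hk, mul_one, mul_inv_cancel]⟩
    have h4 : u * v * u⁻¹ ∈ (P : Subgroup G) := w5_mem_of_normalizes P h2 h3
    exact hA (h.ti P u v hvP hv1 h4)
  -- (C)
  have hLC : L ≤ centralizer ((R : Subgroup G) : Set G) := by
    intro l hl
    rw [mem_centralizer_iff]
    intro s hs
    exact hLab s (hRL hs) l hl
  have hCL : centralizer ((R : Subgroup G) : Set G) = L := by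
    apply le_antisymm _ hLC
    intro c hc
    have hcN : c ∈ (P : Subgroup G) ⊔ L := by
      rw [hsup]
      exact hCRN hc
    have hmul : c ∈ ((P : Subgroup G) : Set G) * (L : Set G) := by
      rw [← coe_mul_of_right_le_normalizer_left (P : Subgroup G) L hle]
      exact hcN
    obtain ⟨a, ha, l, hl, rfl⟩ := Set.mem_mul.mp hmul
    have ha' : a ∈ centralizer ((R : Subgroup G) : Set G) := by
      have : a = (a * l) * l⁻¹ := by group
      rw [this]
      exact mul_mem hc (inv_mem (hLC hl))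
    have : a ∈ centralizer ((R : Subgroup G) : Set G) ⊓ (P : Subgroup G) := ⟨ha', ha⟩
    rw [hB, mem_bot] at this
    rw [this, one_mul]
    exact hl
  refine ⟨u, ⟨hle, hinf, hsup, hcop, ?_, ?_, hA, hup⟩⟩
  · calc centralizer (L : Set G) ≤ centralizer ((R : Subgroup G) : Set G) := centralizer_le hRL
      _ = L := hCL
  · rw [← hCL]
    exact huNC

end Cfsg.Agent.Lib.Helper15.CycSyl
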