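import Mathlib
import Cfsg.Prelude.Def_Transfer
import Cfsg.Agent.Lib.Helper15.CycSylDefs
import Cfsg.Agent.Lib.Helper43.CycSylW5core

set_option autoImplicit false
set_option linter.unusedSectionVars false
set_option linter.unusedVariables false

/-!
# S4016 hive, leaf W5 (main): the configuration `TConf` from a Schur–Zassenhaus complement
-/

namespace Cfsg.Agent.Lib.Helper15.CycSyl

open Subgroup
open scoped Pointwise

variable {G : Type*} [Group G] [Finite G] {p : ℕ} [Fact p.Prime]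

/-- an `r`-subgroup of `H` is conjugate in `H` into a subgroup `L₀ ≤ H` of index prime to `r` -/
theorem w5_conj_into {r : ℕ} [Fact r.Prime] (H L₀ R : Subgroup G) (hL : L₀ ≤ H) (hR : R ≤ H)
    (hRr : IsPGroup r R) (hidx : ¬ r ∣ (L₀.subgroupOf H).index) :
    ∃ n ∈ H, ∀ s ∈ R, n⁻¹ * s * n ∈ L₀ := by
  have hR' : IsPGroup r (R.subgroupOf H) := by
    rw [← comap_subtype]
    exact hRr.comap_subtype
  have hnd : ¬ r ∣ Nat.card (↥H ⧸ L₀.subgroupOf H) := by
    rw [← Subgroup.index_eq_card]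
    exact hidx
  obtain ⟨q, hq⟩ := hR'.nonempty_fixed_point_of_prime_not_dvd_card (↥H ⧸ L₀.subgroupOf H) hnd
  obtain ⟨n, rfl⟩ := QuotientGroup.mk_surjective q
  refine ⟨n.1, n.2, ?_⟩
  intro s hs
  have hs' : s⁻¹ ∈ R := inv_mem hs
  have hsH : s⁻¹ ∈ H := hR hs'
  have := hq ⟨⟨s⁻¹, hsH⟩, hs'⟩
  have e : (QuotientGroup.mk ((⟨s⁻¹, hsH⟩ : ↥H) * n) : ↥H ⧸ L₀.subgroupOf H) =
      QuotientGroup.mk n := this
  have e2 := QuotientGroup.eq.mp e
  rw [Subgroup.mem_subgroupOf] at e2
  have e3 : (((⟨s⁻¹, hsH⟩ : ↥H) * n)⁻¹ * n : ↥H).1 = n.1⁻¹ * s * n.1 := by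
    simp [mul_assoc]
  rw [e3] at e2
  exact e2

/-- [W5] modulo the Schur–Zassenhaus complement -/
theorem w5_main (h : Local p G) (P : Sylow p G) (x : G)
    (hx : x ∈ centralizer ((P : Subgroup G) : Set G)) (hx1 : x ≠ 1) (hxo : (orderOf x).Coprime p)
    (hSZ : ∃ L : Subgroup G, L ≤ normalizer ((P : Subgroup G) : Set G) ∧
      L ⊓ (P : Subgroup G) = ⊥ ∧
      (P : Subgroup G) ⊔ L = normalizer ((P : Subgroup G) : Set G) ∧ (Nat.card L).Coprime p ∧
      Nat.card (normalizer ((P : Subgroup G) : Set G)) =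
        Nat.card (P : Subgroup G) * Nat.card L) :
    ∃ (L : Subgroup G) (u : G), TConf p P L u := by
  have hp : p.Prime := Fact.out
  -- an element of prime order
  have hn0 : orderOf x ≠ 0 := (orderOf_pos x).ne'
  have hn1 : orderOf x ≠ 1 := fun h1 => hx1 (orderOf_eq_one_iff.mp h1)
  set r := (orderOf x).minFac with hrdef
  have hr : r.Prime := Nat.minFac_prime hn1
  have hrd : r ∣ orderOf x := Nat.minFac_dvd _
  have : Fact r.Prime := ⟨hr⟩
  have hrp : r ≠ p := by
    intro hrp
    rw [hrp] at hrd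
    have := Nat.Coprime.eq_one_of_dvd hxo.symm hrd
    exact hp.one_lt.ne' this
  set x' := x ^ (orderOf x / r) with hx'def
  have hox' : orderOf x' = r := orderOf_pow_orderOf_div hn0 hrd
  have hx'1 : x' ≠ 1 := by
    intro h1
    rw [h1, orderOf_one] at hox'
    exact hr.one_lt.ne hox'
  have hx'C : x' ∈ centralizer ((P : Subgroup G) : Set G) := pow_mem hx _
  -- a Sylow r-subgroup containing x'
  have hzr : IsPGroup r (zpowers x') := by
    apply IsPGroup.of_card (n := 1)
    rw [Nat.card_zpowers, hox', pow_one]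
  obtain ⟨R, hR⟩ := hzr.exists_le_sylow
  have hxR : x' ∈ (R : Subgroup G) := hR (mem_zpowers x')
  have hRcop : (Nat.card (R : Subgroup G)).Coprime p := by
    obtain ⟨k, hk⟩ := R.isPGroup'.exists_card_eq
    rw [hk]
    exact ((Nat.coprime_primes hr hp).mpr hrp).pow_left k
  have hRab := h.ab (R : Subgroup G) hRcop
  have hx'o : (orderOf x').Coprime p := w6_coprime_of_mem hRcop hxR
  have hCx : centralizer ({x'} : Set G) = normalizer ((P : Subgroup G) : Set G) :=
    h.f2 P x' hx'C hx'1 hx'o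
  have hRN : (R : Subgroup G) ≤ normalizer ((P : Subgroup G) : Set G) := by
    rw [← hCx]
    intro s hs
    rw [mem_centralizer_iff]
    intro z hz
    rw [Set.mem_singleton_iff] at hz
    rw [hz]
    exact hRab x' hxR s hs
  -- the complement, conjugated so that it contains R
  obtain ⟨L₀, hle, hinf, hsup, hcop, hcard⟩ := hSZ
  set H := normalizer ((P : Subgroup G) : Set G) with hH
  have hidx : ¬ r ∣ (L₀.subgroupOf H).index := by
    have e1 : (L₀.subgroupOf H).index * Nat.card (L₀.subgroupOf H) = Nat.card H :=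
      Subgroup.index_mul_card _
    have e2 : Nat.card (L₀.subgroupOf H) = Nat.card L₀ :=
      Nat.card_congr (Subgroup.subgroupOfEquivOfLe hle).toEquiv
    rw [e2, hcard] at e1
    have hpos : 0 < Nat.card L₀ := Nat.card_pos
    have e3 : (L₀.subgroupOf H).index = Nat.card (P : Subgroup G) :=
      Nat.eq_of_mul_eq_mul_right hpos e1
    rw [e3]
    obtain ⟨k, hk⟩ := P.isPGroup'.exists_card_eq
    rw [hk]
    intro hdvd
    have := hr.dvd_of_dvd_pow hdvd
    exact hrp ((Nat.prime_dvd_prime_iff_eq hr hp).mp this)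
  obtain ⟨n, hnH, hn⟩ := w5_conj_into H L₀ (R : Subgroup G) hle hRN R.isPGroup' hidx
  have hnH' : n⁻¹ ∈ H := inv_mem hnH
  set L := L₀.map (MulAut.conj n).toMonoidHom with hLdef
  have hmemL : ∀ c, c ∈ L ↔ n⁻¹ * c * n ∈ L₀ := by
    intro c
    rw [hLdef, Subgroup.mem_map]
    constructor
    · rintro ⟨l, hl, rfl⟩
      have : n⁻¹ * ((MulAut.conj n).toMonoidHom l) * n = l := by
        simp [MulAut.conj_apply, mul_assoc]
      rw [this]
      exact hl
    · intro hc
      refine ⟨n⁻¹ * c * n, hc, ?_⟩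
      simp [MulAut.conj_apply, mul_assoc]
  have hPn : ∀ c, c ∈ (P : Subgroup G) ↔ n⁻¹ * c * n ∈ (P : Subgroup G) :=
    fun c => mem_set_normalizer_iff''.mp hnH c
  have hHn : ∀ c, c ∈ H ↔ n⁻¹ * c * n ∈ H := by
    intro c
    constructor
    · intro hc
      exact mul_mem (mul_mem hnH' hc) hnH
    · intro hc
      have : c = n * (n⁻¹ * c * n) * n⁻¹ := by group
      rw [this]
      exact mul_mem (mul_mem hnH hc) hnH'
  have hle' : L ≤ H := by
    intro c hc
    rw [hHn]
    exact hle ((hmemL c).mp hc)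
  have hinf' : L ⊓ (P : Subgroup G) = ⊥ := by
    rw [eq_bot_iff]
    rintro c ⟨hcL, hcP⟩
    rw [mem_bot]
    have h1 : n⁻¹ * c * n ∈ L₀ ⊓ (P : Subgroup G) := ⟨(hmemL c).mp hcL, (hPn c).mp hcP⟩
    rw [hinf, mem_bot] at h1
    calc c = n * (n⁻¹ * c * n) * n⁻¹ := by group
      _ = 1 := by rw [h1]; group
  have hsup' : (P : Subgroup G) ⊔ L = H := by
    apply le_antisymm
    · exact sup_le (le_normalizer) hle'
    · intro c hc
      have hc' : n⁻¹ * c * n ∈ (P : Subgroup G) ⊔ L₀ := by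
        rw [hsup]
        exact (hHn c).mp hc
      have hmul : n⁻¹ * c * n ∈ ((P : Subgroup G) : Set G) * (L₀ : Set G) := by
        rw [← coe_mul_of_right_le_normalizer_left (P : Subgroup G) L₀ hle]
        exact hc'
      obtain ⟨a, ha, l, hl, hal⟩ := Set.mem_mul.mp hmul
      have e : c = (n * a * n⁻¹) * (n * l * n⁻¹) := by
        have : c = n * (n⁻¹ * c * n) * n⁻¹ := by group
        rw [this, ← hal]
        group
      rw [e]
      apply mul_mem
      · apply mem_sup_left
        rw [hPn]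
        have : n⁻¹ * (n * a * n⁻¹) * n = a := by group
        rw [this]
        exact ha
      · apply mem_sup_right
        rw [hmemL]
        have : n⁻¹ * (n * l * n⁻¹) * n = l := by group
        rw [this]
        exact hl
  have hcop' : (Nat.card L).Coprime p := by
    rw [hLdef, Subgroup.card_map_of_injective (MulAut.conj n).injective]
    exact hcop
  have hRL : (R : Subgroup G) ≤ L := by
    intro s hs
    rw [hmemL]
    exact hn s hs
  obtain ⟨u, hu⟩ := w5_core h P hr hrp R hxR hx'C hx'1 L hle' hinf' hsup' hcop' hRL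
  exact ⟨L, u, hu⟩

end Cfsg.Agent.Lib.Helper15.CycSyl
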