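import Mathlib
import Cfsg.Prelude.Def_Transfer
import Cfsg.Agent.Lib.Helper15.CycSylDefs
import Cfsg.Agent.Lib.Helper17.CycSylSZ
import Cfsg.Agent.Lib.Helper43.CycSylW5main

set_option autoImplicit false

/-!
# S4016 hive, leaf W5: construction of the configuration
-/

namespace Cfsg.Agent.Lib.Helper15.CycSyl

open Subgroup

variable {G : Type*} [Group G] [Finite G] {p : ℕ} [Fact p.Prime]

/-- [W5] -/
theorem Local.exists_conf (h : Local p G) (P : Sylow p G) (x : G)
    (hx : x ∈ centralizer ((P : Subgroup G) : Set G)) (hx1 : x ≠ 1) (hxo : (orderOf x).Coprime p) :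
    ∃ (L : Subgroup G) (u : G), TConf p P L u :=
  w5_main h P x hx hx1 hxo (exists_compl_normalizer P)

end Cfsg.Agent.Lib.Helper15.CycSyl
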