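import Cfsg.Agent.Lib.Helper43.OddOrthModel

/-!
# Classes of elements of odd prime order in `O_{2m+1}(q)`, `q` odd
-/

set_option autoImplicit false

namespace Cfsg.Agent.Lib.Helper43.OddOrth

open Polynomial UniqueFactorizationMonoid Matrix
open Cfsg.Agent.Lib.Helper40.SemisimpleConj Cfsg.Agent.Lib.Helper40.PrimeOrder
  Cfsg.Agent.Lib.Helper40.Symp

section basics
variable {F : Type*} [Field F] {κ : Type} [Fintype κ] [DecidableEq κ]

/-- the matrix of an isometry -/
def mat {Q₀ : (κ → F) → F} (g : ↥(Cfsg.isometryGroup F Q₀)) : Matrix κ κ F :=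
  ((g : Matrix.GeneralLinearGroup κ F) : Matrix κ κ F)

theorem mat_mul {Q₀ : (κ → F) → F} (g h : ↥(Cfsg.isometryGroup F Q₀)) :
    mat (g * h) = mat g * mat h := rfl

theorem mat_one {Q₀ : (κ → F) → F} : mat (1 : ↥(Cfsg.isometryGroup F Q₀)) = 1 := rfl

theorem mat_pow {Q₀ : (κ → F) → F} (g : ↥(Cfsg.isometryGroup F Q₀)) (k : ℕ) :
    mat (g ^ k) = mat g ^ k := by
  induction k with
  | zero => rw [pow_zero, pow_zero, mat_one]
  | succ k ih => rw [pow_succ, pow_succ, mat_mul, ih]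

theorem mat_mul_inv {Q₀ : (κ → F) → F} (g : ↥(Cfsg.isometryGroup F Q₀)) :
    mat g * mat g⁻¹ = 1 := by
  rw [← mat_mul, mul_inv_cancel, mat_one]

theorem mat_injective {Q₀ : (κ → F) → F} (g h : ↥(Cfsg.isometryGroup F Q₀))
    (hgh : mat g = mat h) : g = h := Subtype.ext (Units.ext hgh)

theorem mat_preserves {Q₀ : (κ → F) → F} (g : ↥(Cfsg.isometryGroup F Q₀)) (u : κ → F) :
    Q₀ (mat g *ᵥ u) = Q₀ u := g.2 u u

theorem charpoly_eq_of_isConj_isom {Q₀ : (κ → F) → F} (a b : ↥(Cfsg.isometryGroup F Q₀))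
    (hab : IsConj a b) : (mat a).charpoly = (mat b).charpoly := by
  rw [isConj_iff] at hab
  obtain ⟨c, hc⟩ := hab
  have e1 : mat b = mat c * mat a * mat c⁻¹ := by
    rw [← hc, mat_mul, mat_mul]
  have e3 : mat c⁻¹ * mat c = 1 := by
    rw [← mat_mul, inv_mul_cancel, mat_one]
  rw [e1, Matrix.charpoly_mul_comm, ← Matrix.mul_assoc, e3, Matrix.one_mul]

variable [Fintype F]

theorem isConj_isom_of_charpoly (p : ℕ) [Fact p.Prime] [CharP F p] (Q₀ : (κ → F) → F)
    (Q : QuadraticForm F (κ → F)) (hQQ : Q₀ = ⇑Q)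
    (hQ : (QuadraticMap.polarBilin Q).Nondegenerate)
    (a b : ↥(Cfsg.isometryGroup F Q₀)) (hodd : Odd (orderOf a)) (ha : (orderOf a).Coprime p)
    (hb : (orderOf b).Coprime p) (hc : (mat a).charpoly = (mat b).charpoly) : IsConj a b := by
  subst hQQ
  have hN : ((orderOf a * orderOf b : ℕ) : F) ≠ 0 :=
    natCast_ne_zero_of_coprime p _ (Nat.Coprime.mul_left ha hb)
  have haN : mat a ^ (orderOf a * orderOf b) = 1 := by
    rw [← mat_pow, pow_mul, pow_orderOf_eq_one, one_pow, mat_one]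
  have hbN : mat b ^ (orderOf a * orderOf b) = 1 := by
    rw [← mat_pow, mul_comm, pow_mul, pow_orderOf_eq_one, one_pow, mat_one]
  obtain ⟨P, hP⟩ := exists_GL_conj (mat a) (mat b) _ hN haN hbN hc
  exact Cfsg.Agent.Lib.Helper43.OrthConj.isConj_isometryGroup_of_isConj Q hQ a b hodd ha P hP

end basics

section main
variable {F : Type*} [Field F] [Fintype F]

theorem eval_neg_one_ne_zero_of_mem_Rset (h2 : (2 : F) ≠ 0) {r : ℕ} (hr0 : 0 < r) (hodd : Odd r)
    {π : F[X]} (hπ : π ∈ Rset F r) : π.eval (-1) ≠ 0 := by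
  have hd : π ∣ X ^ r - 1 := ((mem_Rset hr0).1 hπ).2.2.1
  intro h0
  have h1 := eval_dvd (x := (-1 : F)) hd
  rw [h0, zero_dvd_iff] at h1
  simp only [eval_sub, eval_pow, eval_X, eval_one, hodd.neg_one_pow] at h1
  apply h2
  linear_combination -h1

set_option maxHeartbeats 800000 in
theorem exists_orth_of_multiset (p : ℕ) [Fact p.Prime] [CharP F p] (h2 : (2 : F) ≠ 0)
    (m r i : ℕ) (hr : r.Prime) (hr2 : r ≠ 2)
    (hi : i = orderOf ((Fintype.card F : ℕ) : ZMod r)) (M : Multiset F[X])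
    (hM : ∀ π ∈ M, π ∈ Rset F r) (hMle : i * Multiset.card M ≤ 2 * m)
    (hMrev : (polyOf (2 * m - i * Multiset.card M) M).reverse =
      polyOf (2 * m - i * Multiset.card M) M) :
    ∃ g : ↥(Cfsg.isometryGroup F (Cfsg.quadFormOdd m F)), (orderOf g).Coprime p ∧
      (mat g).charpoly = polyOf (2 * m + 1 - i * Multiset.card M) M := by
  classical
  have : Fact r.Prime := ⟨hr⟩
  have hr0 : 0 < r := hr.pos
  have hrodd : Odd r := hr.odd_of_ne_two hr2
  have hRm : ∀ π ∈ Rset F r, π.Monic := fun π h => ((mem_Rset hr0).1 h).1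
  have hRi : ∀ π ∈ Rset F r, Irreducible π := fun π h => ((mem_Rset hr0).1 h).2.1
  have hRd : ∀ π ∈ Rset F r, π ∣ X ^ r - 1 := fun π h => ((mem_Rset hr0).1 h).2.2.1
  have hR1 : ∀ π ∈ Rset F r, π ≠ X - 1 := fun π h => ((mem_Rset hr0).1 h).2.2.2
  have hRdeg : ∀ π ∈ Rset F r, π.natDegree = i := fun π h => by
    rw [hi]
    exact natDegree_of_irreducible_dvd r π (hRm π h) (hRi π h) (hRd π h) (hR1 π h)
  have hfm : M.prod.Monic := prod_monic M (fun π hπ => hRm π (hM π hπ))
  have hf1 : M.prod.eval 1 ≠ 0 :=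
    eval_one_prod_ne_zero M (fun π hπ => eval_one_ne_zero_of_mem_Rset hr0 (hM π hπ))
  have hfm1 : M.prod.eval (-1) ≠ 0 :=
    eval_neg_one_prod_ne_zero M
      (fun π hπ => eval_neg_one_ne_zero_of_mem_Rset h2 hr0 hrodd (hM π hπ))
  obtain ⟨-, hfrev, hfeven⟩ := even_and_reverse_of_palindromic h2 M.prod
    (2 * m - i * Multiset.card M) hf1 hfm1 hMrev
  have hfd : M.prod.natDegree = i * Multiset.card M := by
    have := polyOf_natDegree 0 M (fun π hπ => hRm π (hM π hπ)) i
      (fun π hπ => hRdeg π (hM π hπ))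
    unfold polyOf at this
    rw [pow_zero, one_mul, zero_add] at this
    exact this
  obtain ⟨k, hk⟩ := hfeven
  have hk2 : i * Multiset.card M = 2 * k := by rw [← hfd, hk]; ring
  have hkm : k ≤ m := by omega
  obtain ⟨g₀, hg₀1, hg₀2⟩ := exists_symplectic_of_palindromic p k M.prod hfm
    (by rw [hfd, hk2]) hfrev
  set A : Matrix (Fin k ⊕ Fin k) (Fin k ⊕ Fin k) F :=
    (g₀ : Matrix (Fin k ⊕ Fin k) (Fin k ⊕ Fin k) F) with hA
  set A' : Matrix (Fin k ⊕ Fin k) (Fin k ⊕ Fin k) F :=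
    ((g₀⁻¹ : ↥(Matrix.symplecticGroup (Fin k) F)) :
      Matrix (Fin k ⊕ Fin k) (Fin k ⊕ Fin k) F) with hA'
  have hAA' : A * A' = 1 := by
    rw [hA, hA', ← Submonoid.coe_mul, mul_inv_cancel]; rfl
  have hA'A : A' * A = 1 := mul_eq_one_comm.1 hAA'
  have hAJ : Aᵀ * J (Fin k) F * A = J (Fin k) F := SymplecticGroup.mem_iff'.1 g₀.2
  have hdet : (A - A').det ≠ 0 := by
    have e1 : A - A' = A' * ((Matrix.scalar (Fin k ⊕ Fin k) (1 : F) - A) *
        (Matrix.scalar (Fin k ⊕ Fin k) (-1 : F) - A)) := by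
      have hs1 : Matrix.scalar (Fin k ⊕ Fin k) (1 : F) = 1 := map_one _
      have hs2 : Matrix.scalar (Fin k ⊕ Fin k) (-1 : F) = -1 := by
        rw [map_neg, map_one]
      rw [hs1, hs2]
      have e2 : ((1 : Matrix (Fin k ⊕ Fin k) (Fin k ⊕ Fin k) F) - A) * (-1 - A) = A * A - 1 := by
        noncomm_ring
      rw [e2, Matrix.mul_sub, ← mul_assoc, hA'A, one_mul, mul_one]
    rw [e1, Matrix.det_mul, Matrix.det_mul, ← Matrix.eval_charpoly, ← Matrix.eval_charpoly,
      hg₀2]
    have hA'det : A'.det ≠ 0 := by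
      intro h0
      have := congrArg Matrix.det hAA'
      rw [Matrix.det_mul, h0, mul_zero, Matrix.det_one] at this
      exact zero_ne_one this
    exact mul_ne_zero hA'det (mul_ne_zero hf1 hfm1)
  obtain ⟨h, h', hh', hG, hchar, hpow⟩ :=
    exists_orth_of_symplectic h2 m k hkm A A' hAJ hAA' hdet
  have hh'h : h' * h = 1 := mul_eq_one_comm.1 hh'
  let g : ↥(Cfsg.isometryGroup F (Cfsg.quadFormOdd m F)) :=
    ⟨⟨h, h', hh', hh'h⟩, fun u _ => preserves_of_gram h2 h hG u⟩
  have hgmat : mat g = h := rfl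
  refine ⟨g, ?_, ?_⟩
  · have hgN : g ^ orderOf g₀ = 1 := by
      apply mat_injective
      rw [mat_pow, mat_one, hgmat]
      apply hpow
      rw [hA, ← coe_pow_symplectic, pow_orderOf_eq_one]
      rfl
    exact Nat.Coprime.coprime_dvd_left (orderOf_dvd_of_pow_eq_one hgN) hg₀1
  · rw [hgmat, hchar, hg₀2]
    unfold polyOf
    congr 2
    omega

set_option maxHeartbeats 1600000 in
theorem card_orth_classes_eq (p : ℕ) [Fact p.Prime] [CharP F p] (h2 : (2 : F) ≠ 0)
    (m r i : ℕ) (hr : r.Prime) (hr2 : r ≠ 2) (hrp : r ≠ p)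
    (hi : i = orderOf ((Fintype.card F : ℕ) : ZMod r)) :
    Nat.card {C : ConjClasses ↥(Cfsg.isometryGroup F (Cfsg.quadFormOdd m F)) //
      ∃ g : ↥(Cfsg.isometryGroup F (Cfsg.quadFormOdd m F)),
        ConjClasses.mk g = C ∧ orderOf g = r} =
    Nat.card {M : Multiset F[X] // (∀ π ∈ M, π ∈ Rset F r) ∧ M ≠ 0 ∧
      i * Multiset.card M ≤ 2 * m ∧
      (polyOf (2 * m - i * Multiset.card M) M).reverse =
        polyOf (2 * m - i * Multiset.card M) M} := by
  classical
  have : Fact r.Prime := ⟨hr⟩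
  have hp : p.Prime := Fact.out
  have hr0 : 0 < r := hr.pos
  have hr2' := hr.two_le
  have hrodd : Odd r := hr.odd_of_ne_two hr2
  have hrcop : r.Coprime p := (Nat.coprime_primes hr hp).2 hrp
  have hRm : ∀ π ∈ Rset F r, π.Monic := fun π h => ((mem_Rset hr0).1 h).1
  have hRi : ∀ π ∈ Rset F r, Irreducible π := fun π h => ((mem_Rset hr0).1 h).2.1
  have hRd : ∀ π ∈ Rset F r, π ∣ X ^ r - 1 := fun π h => ((mem_Rset hr0).1 h).2.2.1
  have hR1 : ∀ π ∈ Rset F r, π ≠ X - 1 := fun π h => ((mem_Rset hr0).1 h).2.2.2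
  have hRdeg : ∀ π ∈ Rset F r, π.natDegree = i := fun π h => by
    rw [hi]
    exact natDegree_of_irreducible_dvd r π (hRm π h) (hRi π h) (hRd π h) (hR1 π h)
  have hQnd := oddForm_nondegenerate (m := m) h2
  have hcardI : Fintype.card (Unit ⊕ (Fin m ⊕ Fin m)) = 2 * m + 1 := by
    rw [Fintype.card_sum, Fintype.card_sum, Fintype.card_fin, Fintype.card_unit]
    ring
  have hconj : ∀ a b : ↥(Cfsg.isometryGroup F (Cfsg.quadFormOdd m F)), Odd (orderOf a) →
      (orderOf a).Coprime p → (orderOf b).Coprime p → (mat a).charpoly = (mat b).charpoly →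
      IsConj a b := fun a b h1 h2' h3 h4 =>
    isConj_isom_of_charpoly p (Cfsg.quadFormOdd m F) (Cfsg.Agent.Lib.Helper43.oddForm m F)
      (Cfsg.Agent.Lib.Helper43.oddForm_coe m F) hQnd a b h1 h2' h3 h4
  let P : Multiset F[X] → F[X] := fun M => polyOf (2 * m + 1 - i * Multiset.card M) M
  have hPinj : ∀ M M' : Multiset F[X], (∀ π ∈ M, π ∈ Rset F r) → (∀ π ∈ M', π ∈ Rset F r) →
      P M = P M' → M = M' := by
    intro M M' hM hM' h
    have h1 := filter_polyOf (2 * m + 1 - i * Multiset.card M) M (fun π hπ => hRm π (hM π hπ))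
      (fun π hπ => hRi π (hM π hπ)) (fun π hπ => hR1 π (hM π hπ))
    have h2 := filter_polyOf (2 * m + 1 - i * Multiset.card M') M'
      (fun π hπ => hRm π (hM' π hπ))
      (fun π hπ => hRi π (hM' π hπ)) (fun π hπ => hR1 π (hM' π hπ))
    rw [← h1, ← h2]
    exact congrArg (fun f => (normalizedFactors f).filter (fun π => π ≠ X - 1)) h
  have hex : ∀ M : {M : Multiset F[X] // (∀ π ∈ M, π ∈ Rset F r) ∧ M ≠ 0 ∧
      i * Multiset.card M ≤ 2 * m ∧ (polyOf (2 * m - i * Multiset.card M) M).reverse =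
        polyOf (2 * m - i * Multiset.card M) M},
      ∃ g : ↥(Cfsg.isometryGroup F (Cfsg.quadFormOdd m F)), (orderOf g).Coprime p ∧
        (mat g).charpoly = P M.1 ∧ orderOf g = r := by
    rintro ⟨M, hM, hM0, hMle, hMrev⟩
    obtain ⟨g, hg1, hg2⟩ := exists_orth_of_multiset p h2 m r i hr hr2 hi M hM hMle hMrev
    refine ⟨g, hg1, hg2, ?_⟩
    have hNF : ((orderOf g : ℕ) : F) ≠ 0 := natCast_ne_zero_of_coprime p _ hg1
    have hgN : mat g ^ orderOf g = 1 := by
      rw [← mat_pow, pow_orderOf_eq_one, mat_one]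
    have hgr : g ^ r = 1 := by
      apply mat_injective
      rw [mat_pow, mat_one]
      apply pow_eq_one_of_charpoly_dvd _ (orderOf g) hNF hgN r
        (2 * m + 1 - i * Multiset.card M + Multiset.card M)
      rw [hg2]
      exact polyOf_dvd_pow _ _ _ (X_sub_one_dvd r) (fun π hπ => hRd π (hM π hπ))
    have hg1' : g ≠ 1 := by
      intro h1
      apply hM0
      have h2' : P M = polyOf (2 * m + 1) (0 : Multiset F[X]) := by
        change polyOf (2 * m + 1 - i * Multiset.card M) M = polyOf (2 * m + 1) (0 : Multiset F[X])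
        rw [← hg2, h1, mat_one, Matrix.charpoly_one, hcardI]
        simp [polyOf]
      have h3 := filter_polyOf (2 * m + 1 - i * Multiset.card M) M
        (fun π hπ => hRm π (hM π hπ))
        (fun π hπ => hRi π (hM π hπ)) (fun π hπ => hR1 π (hM π hπ))
      have h4 := filter_polyOf (F := F) (2 * m + 1) (0 : Multiset F[X]) (by simp) (by simp)
        (by simp)
      rw [← h3, ← h4]
      exact congrArg (fun f => (normalizedFactors f).filter (fun π => π ≠ X - 1)) h2'
    exact orderOf_eq_prime hgr hg1'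
  let Ξ : {M : Multiset F[X] // (∀ π ∈ M, π ∈ Rset F r) ∧ M ≠ 0 ∧
      i * Multiset.card M ≤ 2 * m ∧ (polyOf (2 * m - i * Multiset.card M) M).reverse =
        polyOf (2 * m - i * Multiset.card M) M} →
      {C : ConjClasses ↥(Cfsg.isometryGroup F (Cfsg.quadFormOdd m F)) //
        ∃ g : ↥(Cfsg.isometryGroup F (Cfsg.quadFormOdd m F)),
          ConjClasses.mk g = C ∧ orderOf g = r} :=
    fun M => ⟨ConjClasses.mk (Classical.choose (hex M)), Classical.choose (hex M), rfl,
      (Classical.choose_spec (hex M)).2.2⟩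
  symm
  apply Nat.card_eq_of_bijective Ξ
  constructor
  · intro M M' hMM
    have h1 : ConjClasses.mk (Classical.choose (hex M)) =
        ConjClasses.mk (Classical.choose (hex M')) := congrArg Subtype.val hMM
    have h2' := charpoly_eq_of_isConj_isom _ _ (ConjClasses.mk_eq_mk_iff_isConj.1 h1)
    rw [(Classical.choose_spec (hex M)).2.1, (Classical.choose_spec (hex M')).2.1] at h2'
    exact Subtype.ext (hPinj _ _ M.2.1 M'.2.1 h2')
  · rintro ⟨C, g, hgC, hgr⟩
    set f := (mat g).charpoly with hf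
    have hfm : f.Monic := Matrix.charpoly_monic _
    have hfd : f.natDegree = 2 * m + 1 := by
      rw [hf, Matrix.charpoly_natDegree_eq_dim, hcardI]
    set M₀ := normalizedFactors f with hM₀
    set M' := M₀.filter (fun π => π ≠ X - 1) with hM'
    set a := Multiset.count (X - 1) M₀ with ha
    have hfP : f = polyOf a M' := eq_polyOf_of_monic f hfm
    have hgr1 : mat g ^ r = 1 := by
      rw [← mat_pow, ← hgr, pow_orderOf_eq_one, mat_one]
    have hM'mem : ∀ x ∈ M', x ∈ Rset F r := by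
      intro x hx
      rw [hM', Multiset.mem_filter] at hx
      obtain ⟨hx1, hx2⟩ := hx
      rw [hM₀, mem_normalizedFactors_iff_monic hfm.ne_zero] at hx1
      rw [mem_Rset hr0]
      exact ⟨hx1.1, hx1.2.1, dvd_of_pow_eq_one _ r hgr1 x hx1.2.1 hx1.2.2, hx2⟩
    have hdeg : 2 * m + 1 = a + i * Multiset.card M' := by
      rw [← hfd, hfP]
      exact polyOf_natDegree _ _ (fun x hx => hRm x (hM'mem x hx)) i
        (fun x hx => hRdeg x (hM'mem x hx))
    -- the reversal
    have hGu : IsUnit (gramO m F).det := by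
      rw [gramO_det]
      exact isUnit_iff_ne_zero.2 (mul_ne_zero h2 (pow_ne_zero _ (neg_ne_zero.2 one_ne_zero)))
    have hGG : gramO m F * (gramO m F)⁻¹ = 1 := Matrix.mul_nonsing_inv _ hGu
    have hgG : (mat g)ᵀ * gramO m F * mat g = gramO m F :=
      gram_of_preserves (mat g) (fun u => mat_preserves g u)
    obtain ⟨k', hk'⟩ := hrodd
    have hdet1 : (mat g).det = 1 :=
      det_eq_one_of_form (gramO m F) (gramO m F)⁻¹ (mat g) hGG hgG k' (by rw [← hk']; exact hgr1)
    have hrevf : f.reverse = -f :=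
      reverse_charpoly_orth (by rw [hcardI]; exact ⟨m, rfl⟩) (gramO m F) (gramO m F)⁻¹ (mat g)
        (mat g⁻¹) hGG hgG (mat_mul_inv g) hdet1
    rw [hfP] at hrevf
    obtain ⟨ha1, hpal⟩ := polyOf_of_reverse_neg h2 a M'
      (fun π hπ => eval_one_ne_zero_of_mem_Rset hr0 (hM'mem π hπ)) hrevf
    have hle : i * Multiset.card M' ≤ 2 * m := by omega
    have ha' : 2 * m - i * Multiset.card M' = a - 1 := by omega
    have hfPm : f = P M' := by
      change f = polyOf (2 * m + 1 - i * Multiset.card M') M'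
      rw [hfP]
      congr 1
      omega
    have hgcop : (orderOf g).Coprime p := by rw [hgr]; exact hrcop
    have hgodd : Odd (orderOf g) := by rw [hgr]; exact ⟨k', hk'⟩
    have hrev : (polyOf (2 * m - i * Multiset.card M') M').reverse =
        polyOf (2 * m - i * Multiset.card M') M' := by
      rw [ha']
      exact hpal
    have hM0 : M' ≠ 0 := by
      intro h0
      have h1 : f = (mat (1 : ↥(Cfsg.isometryGroup F (Cfsg.quadFormOdd m F)))).charpoly := by
        rw [hfPm, h0, mat_one, Matrix.charpoly_one, hcardI]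
        simp [P, polyOf]
      have h2' : IsConj g 1 := hconj g 1 hgodd hgcop (by simp) h1
      have h3 : g = 1 := isConj_one_left.1 h2'
      rw [h3, orderOf_one] at hgr
      omega
    refine ⟨⟨M', hM'mem, hM0, hle, hrev⟩, ?_⟩
    apply Subtype.ext
    change ConjClasses.mk (Classical.choose (hex ⟨M', hM'mem, hM0, hle, hrev⟩)) = C
    rw [← hgC]
    apply ConjClasses.mk_eq_mk_iff_isConj.2
    obtain ⟨hc1, hc2, hc3⟩ := Classical.choose_spec (hex ⟨M', hM'mem, hM0, hle, hrev⟩)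
    apply hconj _ _ (by rw [hc3]; exact ⟨k', hk'⟩) hc1 hgcop
    rw [hc2, ← hfPm]

end main

end Cfsg.Agent.Lib.Helper43.OddOrth
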