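import Mathlib
import Cfsg.Agent.Lib.Helper41.SpBNDefs

/-! # S2545 hive (helper41), leaf DC: `|B n B| * |B ∩ n B n⁻¹| = |B|^2` (helper43) -/

set_option autoImplicit false

namespace Cfsg.Agent.Lib.Helper41.SpBN

/-- the double coset `B n B` is the preimage of the `B`-orbit of `n B` in `G ⧸ B` -/
theorem dc_eq_preimage {G : Type*} [Group G] (B : Subgroup G) (n : G) :
    DoubleCoset.doubleCoset n (B : Set G) B =
      (QuotientGroup.mk : G → G ⧸ B) ⁻¹' (MulAction.orbit B ((n : G) : G ⧸ B)) := by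
  ext g
  rw [DoubleCoset.mem_doubleCoset]
  constructor
  · rintro ⟨x, hx, y, hy, rfl⟩
    refine ⟨⟨x, hx⟩, ?_⟩
    change ((x * n : G) : G ⧸ B) = ((x * n * y : G) : G ⧸ B)
    rw [QuotientGroup.eq]
    have : (x * n)⁻¹ * (x * n * y) = y := by group
    rw [this]
    exact hy
  · rintro ⟨⟨x, hx⟩, h⟩
    have h' : ((x * n : G) : G ⧸ B) = ((g : G) : G ⧸ B) := h
    rw [QuotientGroup.eq] at h'
    refine ⟨x, hx, (x * n)⁻¹ * g, h', ?_⟩
    group

/-- the stabiliser in `B` of the coset `n B` has the order of `B ∩ n B n⁻¹` -/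
theorem dc_card_stab {G : Type*} [Group G] (B : Subgroup G) (n : G) :
    Nat.card (MulAction.stabilizer B ((n : G) : G ⧸ B)) =
      Nat.card (B ⊓ B.map (MulAut.conj n).toMonoidHom : Subgroup G) := by
  have h1 : MulAction.stabilizer G ((n : G) : G ⧸ B) = B.map (MulAut.conj n).toMonoidHom := by
    have h2 : ((n : G) : G ⧸ B) = n • ((1 : G) : G ⧸ B) := by
      change _ = ((n * 1 : G) : G ⧸ B)
      rw [mul_one]
    rw [h2, MulAction.stabilizer_smul_eq_stabilizer_map_conj, MulAction.stabilizer_quotient]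
  have h3 : MulAction.stabilizer B ((n : G) : G ⧸ B) =
      ((B ⊓ B.map (MulAut.conj n).toMonoidHom).subgroupOf B) := by
    ext b
    rw [Subgroup.inf_subgroupOf_left, Subgroup.mem_subgroupOf, ← h1]
    exact Iff.rfl
  rw [h3]
  exact Nat.card_congr (Subgroup.subgroupOfEquivOfLe
    (inf_le_left : B ⊓ B.map (MulAut.conj n).toMonoidHom ≤ B)).toEquiv

/-- LEAF DC (pure group theory): `|B n B| · |B ∩ n B n⁻¹| = |B|²`. -/
theorem card_doubleCoset_mul {G : Type*} [Group G] [Finite G] (B : Subgroup G) (n : G) :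
    Nat.card (DoubleCoset.doubleCoset n (B : Set G) B) *
        Nat.card (B ⊓ B.map (MulAut.conj n).toMonoidHom : Subgroup G) =
      Nat.card B * Nat.card B := by
  classical
  rw [dc_eq_preimage, QuotientGroup.card_preimage_mk, ← dc_card_stab, mul_assoc]
  congr 1
  have e := MulAction.orbitProdStabilizerEquivGroup B ((n : G) : G ⧸ B)
  rw [← Nat.card_prod]
  exact Nat.card_congr e

end Cfsg.Agent.Lib.Helper41.SpBN
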