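import Mathlib
import Cfsg.Agent.Lib.Helper20.SuGrp

set_option autoImplicit false
set_option linter.unusedSectionVars false
set_option linter.unusedVariables false

/-!
# SU-D: the centralizer of the unipotent radical `QJ k` in `SUJ`
-/

namespace Cfsg.Agent.Lib.Helper20.SuF

open Matrix Subgroup Cfsg.Agent.Lib.Helper20.PslF

variable {n : ℕ} {K : Type*} [Field K] [Fintype K] (F : Inv K)

theorem d_mulVec_eb (M : Matrix (Fin n) (Fin n) K) (a : Fin n) :
    M *ᵥ (eb a : Fin n → K) = fun x => M x a := by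
  funext x
  rw [Matrix.mulVec, dotProduct, Finset.sum_eq_single a]
  · rw [eb_same, mul_one]
  · intro b _ hb; rw [eb_ne hb, mul_zero]
  · intro h; exact absurd (Finset.mem_univ a) h

theorem d_exists_tr (x : K) (hx : F.sg x = x) : ∃ c, c + F.sg c + x = 0 := by
  obtain ⟨y, hy⟩ := F.tr_surj (-x) (by rw [map_neg, hx])
  exact ⟨y, by rw [hy]; ring⟩

theorem d_exists_skew : ∃ c : K, c ≠ 0 ∧ c + F.sg c = 0 := by
  obtain ⟨a, ha⟩ := F.nontriv
  refine ⟨a - F.sg a, ?_, ?_⟩
  · intro h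
    exact ha (sub_eq_zero.1 h).symm
  · rw [map_sub, F.invol]; ring

theorem d_b3_lt {k : ℕ} {x : Fin n} (h : (x : ℕ) < k) : b3 k x = 0 := by
  unfold b3; rw [if_pos h]

theorem d_b3_ge {k : ℕ} (hk : 2 * k ≤ n) {x : Fin n} (h : n - k ≤ (x : ℕ)) : b3 k x = 2 := by
  unfold b3
  have := x.2
  rw [if_neg (by omega), if_neg (by omega)]

theorem d_b3_le_one {k : ℕ} {x : Fin n} (h : (x : ℕ) < n - k) : b3 k x ≤ 1 := by
  unfold b3
  split_ifs <;> omega

theorem d_b3_pos {k : ℕ} {x : Fin n} (h : k ≤ (x : ℕ)) : 1 ≤ b3 k x := by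
  unfold b3
  split_ifs <;> omega

/-- Eichler elements in the radical -/
theorem d_Sg_mem_QJ {k : ℕ} (hk : 2 * k ≤ n) (i : Fin n) (hi : (i : ℕ) < k) (w : Fin n → K)
    (hw : ∀ x : Fin n, n - k ≤ (x : ℕ) → w x = 0) (c : K) (h1 : hf F (eb i) (eb i) = 0)
    (h2 : hf F w (eb i) = 0) :
    Sg F (eb i) w c h1 h2 ∈ (QJ k : Subgroup (SLn n K)) := by
  rw [mem_QJ]
  intro x y hxy
  rw [mt_Sg, Sm_apply]
  have hri : ((Fin.rev i : Fin n) : ℕ) = n - ((i : ℕ) + 1) := Fin.val_rev i
  have t2 : w x * F.sg ((eb i : Fin n → K) (Fin.rev y)) = 0 := by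
    by_cases hy : Fin.rev y = i
    · have hy' : y = Fin.rev i := by rw [← hy, Fin.rev_rev]
      have hyb : b3 k y = 2 := by
        apply d_b3_ge hk
        rw [hy', hri]; omega
      by_cases hx : n - k ≤ (x : ℕ)
      · rw [hw x hx, zero_mul]
      · exfalso
        apply hxy
        have := d_b3_le_one (k := k) (x := x) (by omega)
        omega
    · rw [eb_ne hy, map_zero, mul_zero]
  have t3 : (eb i : Fin n → K) x * F.sg (w (Fin.rev y)) = 0 := by
    by_cases hx : x = i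
    · by_cases hy : n - k ≤ ((Fin.rev y : Fin n) : ℕ)
      · rw [hw _ hy, map_zero, mul_zero]
      · exfalso
        apply hxy
        have hxb : b3 k x = 0 := by rw [hx]; exact d_b3_lt hi
        have hyv : ((Fin.rev y : Fin n) : ℕ) = n - ((y : ℕ) + 1) := Fin.val_rev y
        have hyb : 1 ≤ b3 k y := by
          apply d_b3_pos
          have := y.2
          omega
        omega
    · rw [eb_ne hx, zero_mul]
  have t4 : (eb i : Fin n → K) x * F.sg ((eb i : Fin n → K) (Fin.rev y)) = 0 := by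
    by_cases hx : x = i
    · by_cases hy : Fin.rev y = i
      · exfalso
        apply hxy
        have hy' : y = Fin.rev i := by rw [← hy, Fin.rev_rev]
        have hyb : b3 k y = 2 := by
          apply d_b3_ge hk
          rw [hy', hri]; omega
        have hxb : b3 k x = 0 := by rw [hx]; exact d_b3_lt hi
        omega
      · rw [eb_ne hy, map_zero, mul_zero]
    · rw [eb_ne hx, zero_mul]
  rw [t2, t3, t4]
  ring

theorem d_comm_vec {c S : SLn n K} (h : c * S = S * c) (x : Fin n → K) :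
    mt c *ᵥ (mt S *ᵥ x) = mt S *ᵥ (mt c *ᵥ x) := by
  have e := congrArg (fun g : SLn n K => mt g) h
  simp only [mt_mul] at e
  rw [Matrix.mulVec_mulVec, Matrix.mulVec_mulVec, e]

/-- the action of a centralizing element on the basis vectors -/
theorem d_key {k : ℕ} (hk : 2 * k ≤ n) {c : SLn n K}
    (hcomm : ∀ r ∈ (QJ k : Subgroup (SLn n K)), r ∈ SUJ F → c * r = r * c)
    (i : Fin n) (hi : (i : ℕ) < k) :
    mt c *ᵥ (eb i : Fin n → K) = (mt c (Fin.rev i) (Fin.rev i)) • (eb i : Fin n → K) ∧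
    ∀ j : Fin n, (j : ℕ) < n - k → j ≠ i → ∃ t : K,
      mt c *ᵥ (eb j : Fin n → K) =
        (mt c (Fin.rev i) (Fin.rev i)) • (eb j : Fin n → K) + t • (eb i : Fin n → K) := by
  have hri : ((Fin.rev i : Fin n) : ℕ) = n - ((i : ℕ) + 1) := Fin.val_rev i
  have hne : i ≠ Fin.rev i := by
    intro h
    have := congrArg Fin.val h
    rw [hri] at this
    omega
  have h1 : hf F (eb i : Fin n → K) (eb i) = 0 := by rw [hf_eb_eb, if_neg hne]
  set x : Fin n → K := eb (Fin.rev i) with hx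
  have hxu : hf F x (eb i) = 1 := by rw [hx, hf_eb_eb, if_pos rfl]
  set μ : K := mt c (Fin.rev i) (Fin.rev i) with hμdef
  have hμ : hf F (mt c *ᵥ x) (eb i) = μ := by rw [hf_eb_right, hx, d_mulVec_eb]
  -- the long root element
  have hF1 : mt c *ᵥ (eb i : Fin n → K) = μ • (eb i : Fin n → K) := by
    obtain ⟨c', hc'0, hc'⟩ := d_exists_skew F
    have h2 : hf F (0 : Fin n → K) (eb i) = 0 := hf_zero_left F _
    have hSQ := d_Sg_mem_QJ F hk i hi 0 (fun _ _ => rfl) c' h1 h2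
    have hSU : Sg F (eb i) 0 c' h1 h2 ∈ SUJ F :=
      Sg_mem_SUJ F h1 h2 (by rw [hf_zero_left, add_zero]; exact hc')
    have e := d_comm_vec (hcomm _ hSQ hSU) x
    rw [mt_Sg, Sm_mulVec, Sm_mulVec, hxu, hμ] at e
    simp only [hf_zero_right, smul_zero, zero_smul, add_zero, sub_zero, mul_one,
      Matrix.mulVec_add, Matrix.mulVec_smul] at e
    have e2 := add_left_cancel e
    have e3 := congrArg (fun v => c'⁻¹ • v) e2
    simp only [smul_smul] at e3
    rwa [inv_mul_cancel₀ hc'0, one_smul, ← mul_assoc, inv_mul_cancel₀ hc'0, one_mul] at e3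
  refine ⟨hF1, ?_⟩
  intro j hj hji
  have hrj : ((Fin.rev j : Fin n) : ℕ) = n - ((j : ℕ) + 1) := Fin.val_rev j
  have h2 : hf F (eb j : Fin n → K) (eb i) = 0 := by
    rw [hf_eb_eb, if_neg]
    intro h
    have := congrArg Fin.val h
    rw [hri] at this
    omega
  have hfix : F.sg (hf F (eb j : Fin n → K) (eb j)) = hf F (eb j : Fin n → K) (eb j) := hf_conj F _ _
  obtain ⟨c', hc'⟩ := d_exists_tr F _ hfix
  have hSQ := d_Sg_mem_QJ F hk i hi (eb j) (fun z hz => eb_ne (by
    intro h; rw [h] at hz; omega)) c' h1 h2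
  have hSU : Sg F (eb i) (eb j) c' h1 h2 ∈ SUJ F := Sg_mem_SUJ F h1 h2 hc'
  have e := d_comm_vec (hcomm _ hSQ hSU) x
  have hxw : hf F x (eb j) = 0 := by
    rw [hx, hf_eb_eb, if_neg]
    intro h
    exact hji (Fin.rev_injective h).symm
  rw [mt_Sg, Sm_mulVec, Sm_mulVec, hxu, hμ, hxw, zero_smul, sub_zero, one_smul, mul_one,
    Matrix.mulVec_add, Matrix.mulVec_add, Matrix.mulVec_smul, hF1] at e
  refine ⟨- hf F (mt c *ᵥ x) (eb j), ?_⟩
  have e2 : mt c *ᵥ (eb j : Fin n → K) = (mt c *ᵥ x + μ • (eb j : Fin n → K) -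
      hf F (mt c *ᵥ x) (eb j) • (eb i : Fin n → K) + (c' * μ) • (eb i : Fin n → K)) -
      mt c *ᵥ x - c' • μ • (eb i : Fin n → K) := by
    rw [← e]; abel
  rw [e2, smul_smul, neg_smul]
  abel

/-- SU-D (centralizer of the radical, k = 1, 2) -/
theorem centralizer_QJ (hn : 4 ≤ n) {k : ℕ} (hk1 : 1 ≤ k) (hk2 : k ≤ 2) {c : SLn n K}
    (hc : c ∈ SUJ F)
    (hcomm : ∀ r ∈ (QJ k : Subgroup (SLn n K)), r ∈ SUJ F → c * r = r * c) :
    ∃ (lam : K) (h : lam ^ n = 1), scal lam h ∈ SUJ F ∧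
      ∃ r ∈ (QJ k : Subgroup (SLn n K)), c = scal lam h * r := by
  have hk : 2 * k ≤ n := by omega
  set i0 : Fin n := ⟨0, by omega⟩ with hi0
  have hi0v : (i0 : ℕ) = 0 := rfl
  have hi0k : (i0 : ℕ) < k := by rw [hi0v]; omega
  obtain ⟨hA, hB⟩ := d_key F hk hcomm i0 hi0k
  set μ : K := mt c (Fin.rev i0) (Fin.rev i0) with hμ
  -- all block-0 columns
  have hcol0 : ∀ i : Fin n, (i : ℕ) < k → mt c *ᵥ (eb i : Fin n → K) = μ • (eb i : Fin n → K) := by
    intro i hi
    by_cases hii : i = i0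
    · rw [hii]; exact hA
    · obtain ⟨hAi, -⟩ := d_key F hk hcomm i hi
      obtain ⟨t, ht⟩ := hB i (by omega) hii
      have e1 := congrFun hAi i
      have e2 := congrFun ht i
      rw [Pi.smul_apply, eb_same, smul_eq_mul, mul_one] at e1
      rw [Pi.add_apply, Pi.smul_apply, Pi.smul_apply, eb_same, eb_ne hii, smul_eq_mul,
        smul_eq_mul, mul_one, mul_zero, add_zero] at e2
      rw [hAi, ← e1, e2]
  have hone : ∀ x y : Fin n, (eb y : Fin n → K) x = (1 : Matrix (Fin n) (Fin n) K) x y := by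
    intro x y
    rw [eb_apply, Matrix.one_apply]
  have hent0 : ∀ x y : Fin n, (y : ℕ) < k →
      mt c x y = μ * (1 : Matrix (Fin n) (Fin n) K) x y := by
    intro x y hy
    have e := congrFun (hcol0 y hy) x
    rw [d_mulVec_eb, Pi.smul_apply, smul_eq_mul, hone] at e
    exact e
  have hent1 : ∀ x y : Fin n, (y : ℕ) < n - k → x ≠ i0 →
      mt c x y = μ * (1 : Matrix (Fin n) (Fin n) K) x y := by
    intro x y hy hx
    by_cases hy0 : y = i0
    · exact hent0 x y (by rw [hy0]; exact hi0k)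
    · obtain ⟨t, ht⟩ := hB y hy hy0
      have e := congrFun ht x
      rw [d_mulVec_eb, Pi.add_apply, Pi.smul_apply, Pi.smul_apply, eb_ne hx, smul_eq_mul,
        smul_eq_mul, mul_zero, add_zero, hone] at e
      exact e
  have hμ0 : μ ≠ 0 := by
    intro h0
    have e := congrArg (fun v => mt c⁻¹ *ᵥ v) hA
    simp only [Matrix.mulVec_mulVec, mt_inv_mul, Matrix.one_mulVec, h0, zero_smul,
      Matrix.mulVec_zero] at e
    have := congrFun e i0
    rw [eb_same, Pi.zero_apply] at this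
    exact one_ne_zero this
  have hinv : ∀ i : Fin n, (i : ℕ) < k →
      mt c⁻¹ *ᵥ (eb i : Fin n → K) = μ⁻¹ • (eb i : Fin n → K) := by
    intro i hi
    have e := congrArg (fun v => mt c⁻¹ *ᵥ v) (hcol0 i hi)
    simp only [Matrix.mulVec_mulVec, mt_inv_mul, Matrix.one_mulVec, Matrix.mulVec_smul] at e
    conv_rhs => rw [e]
    rw [smul_smul, inv_mul_cancel₀ hμ0, one_smul]
  have hrow2 : ∀ X Y : Fin n, n - k ≤ (X : ℕ) →
      mt c X Y = F.sg μ⁻¹ * (1 : Matrix (Fin n) (Fin n) K) X Y := by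
    intro X Y hX
    have hrX : ((Fin.rev X : Fin n) : ℕ) = n - ((X : ℕ) + 1) := Fin.val_rev X
    have hrXk : ((Fin.rev X : Fin n) : ℕ) < k := by
      have := X.2
      omega
    have e := inv_apply_of_mem F hc (Fin.rev Y) (Fin.rev X)
    rw [Fin.rev_rev, Fin.rev_rev] at e
    have e2 : mt c⁻¹ (Fin.rev Y) (Fin.rev X) =
        μ⁻¹ * (eb (Fin.rev X) : Fin n → K) (Fin.rev Y) := by
      have := congrFun (hinv (Fin.rev X) hrXk) (Fin.rev Y)
      rw [d_mulVec_eb, Pi.smul_apply, smul_eq_mul] at this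
      exact this
    rw [e2] at e
    have e3 := congrArg F.sg e
    rw [F.invol, map_mul] at e3
    rw [← e3]
    congr 1
    rw [eb_apply, Matrix.one_apply]
    by_cases hXY : X = Y
    · rw [if_pos hXY, if_pos (by rw [hXY]), map_one]
    · rw [if_neg hXY, if_neg (fun h => hXY (Fin.rev_injective h).symm), map_zero]
  have hri0 : n - k ≤ ((Fin.rev i0 : Fin n) : ℕ) := by
    have : ((Fin.rev i0 : Fin n) : ℕ) = n - ((i0 : ℕ) + 1) := Fin.val_rev i0
    rw [this, hi0v]; omega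
  have hμσ : F.sg μ⁻¹ = μ := by
    have := hrow2 (Fin.rev i0) (Fin.rev i0) hri0
    rw [Matrix.one_apply_eq, mul_one] at this
    exact this.symm
  have hmain : ∀ x y : Fin n, ¬ b3 k x < b3 k y →
      mt c x y = μ * (1 : Matrix (Fin n) (Fin n) K) x y := by
    intro x y hxy
    by_cases hX : n - k ≤ (x : ℕ)
    · rw [hrow2 x y hX, hμσ]
    · have hy : (y : ℕ) < n - k := by
        by_contra hy
        apply hxy
        rw [d_b3_ge hk (not_lt.mp hy)]
        have := d_b3_le_one (k := k) (x := x) (not_le.mp hX)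
        omega
      by_cases hx0 : x = i0
      · have hyk : (y : ℕ) < k := by
          by_contra hyk
          apply hxy
          rw [hx0, d_b3_lt hi0k]
          exact d_b3_pos (not_lt.mp hyk)
        exact hent0 x y hyk
      · exact hent1 x y hy hx0
  have hup : (mt c).IsUpperTriangular := by
    intro x y hyx
    have hyx' : y < x := hyx
    rw [hmain x y (not_lt.mpr (b3_mono k hk hyx'.le)), Matrix.one_apply_ne (ne_of_gt hyx'),
      mul_zero]
  have hd : ∀ x : Fin n, mt c x x = μ := by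
    intro x
    rw [hmain x x (lt_irrefl _), Matrix.one_apply_eq, mul_one]
  have hlamn : μ ^ n = 1 := by
    have hdet := Matrix.det_of_isUpperTriangular hup
    rw [mt_det] at hdet
    rw [hdet]
    simp only [hd, Finset.prod_const, Finset.card_univ, Fintype.card_fin]
  have hdetr : (μ⁻¹ • mt c).det = 1 := by
    rw [Matrix.det_smul, mt_det, mul_one, Fintype.card_fin, inv_pow, hlamn, inv_one]
  have hσμ : F.sg μ * μ = 1 := by
    have h1 : F.sg μ⁻¹ = (F.sg μ)⁻¹ := map_inv₀ F.sg μ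
    have h3 : μ = (F.sg μ)⁻¹ := by rw [← h1]; exact hμσ.symm
    have h2 : F.sg μ ≠ 0 := F.sg_ne_zero hμ0
    calc F.sg μ * μ = F.sg μ * (F.sg μ)⁻¹ := congrArg _ h3
      _ = 1 := mul_inv_cancel₀ h2
  refine ⟨μ, hlamn, ?_, mkSL (μ⁻¹ • mt c) hdetr, ?_, ?_⟩
  · rw [mem_SUJ, mt_scal]
    have e : (Matrix.scalar (Fin n) μ : Matrix (Fin n) (Fin n) K) = μ • (1 : Matrix (Fin n) (Fin n) K) := by
      rw [Matrix.scalar_apply, Matrix.smul_one_eq_diagonal]
    rw [e, adj_smul, adj_one, Matrix.smul_mul, Matrix.one_mul, smul_smul, hσμ, one_smul]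
  · rw [mem_QJ]
    intro x y hxy
    rw [mt_mkSL, Matrix.smul_apply, smul_eq_mul, hmain x y hxy, ← mul_assoc,
      inv_mul_cancel₀ hμ0, one_mul]
  · apply mt_ext
    rw [mt_mul, mt_scal, mt_mkSL]
    rw [Matrix.scalar_apply, ← Matrix.smul_eq_diagonal_mul, smul_smul, mul_inv_cancel₀ hμ0,
      one_smul]

end Cfsg.Agent.Lib.Helper20.SuF
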