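import Mathlib
import Cfsg.Agent.Lib.Helper20.SuClosedDefs

set_option autoImplicit false
set_option linter.unusedSectionVars false
set_option linter.unusedVariables false

/-!
# SU-G5: transporting the Heisenberg radical at the first index to the other indices
-/

namespace Cfsg.Agent.Lib.Helper20.SuF

open Matrix Subgroup Cfsg.Agent.Lib.Helper20.PslF

variable {n : ℕ} {K : Type*} [Field K] [Fintype K] {F : Inv K} {T : Subgroup (SLn n K)}
  (hn : 4 ≤ n)

/-- SU-G5 -/
theorem Qa_mem (h : SC F T)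
    (h0 : ∀ (w : Fin n → K) (c : K), (∀ x, w x ≠ 0 → y0 hn < x ∧ x < Fin.rev (y0 hn)) →
      c + F.sg c + hf F w w = 0 → SgT F (eb (y0 hn)) w c ∈ T)
    (a : Fin n) (ha : a < Fin.rev a) (w : Fin n → K) (c : K)
    (hw : ∀ x, w x ≠ 0 → a < x ∧ x < Fin.rev a) (hu : c + F.sg c + hf F w w = 0) :
    SgT F (eb a) w c ∈ T := by
  have hra : ((Fin.rev a : Fin n) : ℕ) = n - ((a : ℕ) + 1) := Fin.val_rev a
  have ha' : (a : ℕ) < n - ((a : ℕ) + 1) := by
    have := Fin.lt_def.1 ha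
    rwa [hra] at this
  have hw0 : ∀ x, w x ≠ 0 → y0 hn < x ∧ x < Fin.rev (y0 hn) := by
    intro x hx
    obtain ⟨h1, h2⟩ := hw x hx
    rw [Fin.lt_def] at h1 h2 ⊢
    rw [Fin.lt_def, rev_y0_val, y0_val]
    rw [hra] at h2
    constructor <;> omega
  by_cases ha0 : a = y0 hn
  · rw [ha0]
    exact h0 w c hw0 hu
  · have ha0v : 0 < (a : ℕ) := by
      rcases Nat.eq_zero_or_pos (a : ℕ) with h1 | h1
      · exact absurd (Fin.ext (by rw [h1, y0_val])) ha0
      · exact h1
    have hwz : ∀ x, ¬ (a < x ∧ x < Fin.rev a) → w x = 0 := by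
      intro x hx
      by_contra hne
      exact hx (hw x hne)
    -- vanishing of `w` at the four special indices
    have w_a : w a = 0 := hwz a (fun h => lt_irrefl _ h.1)
    have w_ra : w (Fin.rev a) = 0 := hwz _ (fun h => lt_irrefl _ h.2)
    have w_0 : w (y0 hn) = 0 := by
      apply hwz
      rintro ⟨h1, -⟩
      rw [Fin.lt_def, y0_val] at h1
      omega
    have w_r0 : w (Fin.rev (y0 hn)) = 0 := by
      apply hwz
      rintro ⟨-, h2⟩
      rw [Fin.lt_def, rev_y0_val, hra] at h2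
      omega
    -- index inequalities
    have ne1 : a ≠ Fin.rev a := ne_of_lt ha
    have ne2 : y0 hn ≠ Fin.rev a := by
      intro e
      have := congrArg Fin.val e
      rw [y0_val, hra] at this
      omega
    have ne3 : a ≠ Fin.rev (y0 hn) := by
      intro e
      have := congrArg Fin.val e
      rw [rev_y0_val] at this
      omega
    have ne4 : y0 hn ≠ Fin.rev (y0 hn) := y0_ne_rev hn
    -- first element
    have u1 : hf F (eb (Fin.rev (y0 hn)) : Fin n → K) (eb (Fin.rev (y0 hn))) = 0 := by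
      rw [hf_eb_eb, Fin.rev_rev, if_neg (Ne.symm ne4)]
    have v1 : hf F (eb a : Fin n → K) (eb (Fin.rev (y0 hn))) = 0 := by
      rw [hf_eb_eb, Fin.rev_rev, if_neg ha0]
    have m1 : SgT F (eb (Fin.rev (y0 hn))) (eb a) 0 ∈ SUJ F := by
      apply SgT_mem_SUJ F u1 v1
      rw [map_zero, add_zero, zero_add, hf_eb_eb, if_neg ne1]
    -- second element
    have u2 : hf F (eb (Fin.rev a) : Fin n → K) (eb (Fin.rev a)) = 0 := by
      rw [hf_eb_eb, Fin.rev_rev, if_neg (Ne.symm ne1)]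
    have v2 : hf F (-(eb (y0 hn)) : Fin n → K) (eb (Fin.rev a)) = 0 := by
      rw [hf_neg_left, hf_eb_eb, Fin.rev_rev, if_neg (Ne.symm ha0), neg_zero]
    have m2 : SgT F (eb (Fin.rev a)) (-(eb (y0 hn))) 0 ∈ SUJ F := by
      apply SgT_mem_SUJ F u2 v2
      rw [map_zero, add_zero, zero_add, hf_neg_left, hf_neg_right, hf_eb_eb, if_neg ne4]
      simp
    set g1 := SgT F (eb (Fin.rev (y0 hn))) (eb a) 0 with hg1
    set g2 := SgT F (eb (Fin.rev a)) (-(eb (y0 hn))) 0 with hg2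
    -- action on `e_0`
    have e1 : mt g1 *ᵥ (eb (y0 hn) : Fin n → K) = eb (y0 hn) + eb a := by
      rw [hg1, SgT_mulVec F 0 u1 v1, hf_eb_eb, Fin.rev_rev, if_pos rfl, hf_eb_eb, if_neg ne2]
      simp
    have e2 : mt g2 *ᵥ ((eb (y0 hn) : Fin n → K) + eb a) = eb a := by
      rw [hg2, SgT_mulVec F 0 u2 v2, hf_add_left, hf_add_left, hf_eb_eb, hf_eb_eb, Fin.rev_rev,
        if_neg (Ne.symm ha0), if_pos rfl, hf_neg_right, hf_neg_right, hf_eb_eb, hf_eb_eb,
        if_neg ne4, if_neg ne3]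
      simp
    -- action on `w`
    have f1 : mt g1 *ᵥ w = w := by
      apply SgT_mulVec_of_orth F 0 u1 v1
      · rw [hf_eb_right, Fin.rev_rev]; exact w_0
      · rw [hf_eb_right]; exact w_ra
    have f2 : mt g2 *ᵥ w = w := by
      apply SgT_mulVec_of_orth F 0 u2 v2
      · rw [hf_eb_right, Fin.rev_rev]; exact w_a
      · rw [hf_neg_right, hf_eb_right, w_r0, neg_zero]
    have hx : SgT F (eb (y0 hn)) w c ∈ T := h0 w c hw0 hu
    have hg : g2 * g1 ∈ SUJ F := mul_mem m2 m1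
    have hconj : (g2 * g1) * SgT F (eb (y0 hn)) w c * (g2 * g1)⁻¹ = SgT F (eb a) w c := by
      have : (g2 * g1) * SgT F (eb (y0 hn)) w c * (g2 * g1)⁻¹ =
          g2 * (g1 * SgT F (eb (y0 hn)) w c * g1⁻¹) * g2⁻¹ := by group
      rw [this, conj_SgT F m1, e1, f1, conj_SgT F m2, e2, f2]
    rw [← hconj]
    apply h.closed _ hx _ hg
    rw [hconj]
    exact SgT_mem_UU F c ha hw

end Cfsg.Agent.Lib.Helper20.SuF
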