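import Mathlib
import Cfsg.Agent.Lib.Helper43.RegConj

set_option autoImplicit false

/-!
The centralizer of a regular nilpotent endomorphism: polynomial representation, commutativity,
scalar-plus-nilpotent decomposition, annihilator of `f`.
-/

namespace Cfsg.Agent.Lib.Helper43

open Module

section

variable {K V : Type*} [Field K] [AddCommGroup V] [Module K V] [FiniteDimensional K V]

/-- every endomorphism commuting with a regular nilpotent `f` is a polynomial in `f` -/
theorem exists_poly_rep (f : V →ₗ[K] V) (n : ℕ) (hn1 : 1 ≤ n) (hn : finrank K V = n)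
    (hfn : f ^ n = 0) (v : V) (hv : (f ^ (n - 1)) v ≠ 0) (A : V →ₗ[K] V)
    (hA : A ∘ₗ f = f ∘ₗ A) :
    ∃ a : Fin n → K, A = ∑ i : Fin n, a i • f ^ (i : ℕ) := by
  set b := cyclicBasis f n hn1 hn hfn v hv with hb
  refine ⟨fun i => b.repr (A v) i, ?_⟩
  have hsub : A - ∑ i : Fin n, b.repr (A v) i • f ^ (i : ℕ) = 0 := by
    apply eq_zero_of_commute_of_apply_cyclic f n hn hfn v hv
    · show (A - ∑ i : Fin n, b.repr (A v) i • f ^ (i : ℕ)) * f
        = f * (A - ∑ i : Fin n, b.repr (A v) i • f ^ (i : ℕ))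
      have hA' : A * f = f * A := hA
      rw [sub_mul, mul_sub, hA', Finset.sum_mul, Finset.mul_sum]
      congr 1
      apply Finset.sum_congr rfl
      intro i _
      rw [smul_mul_assoc, mul_smul_comm, ← pow_succ, ← pow_succ']
    · rw [LinearMap.sub_apply, LinearMap.sum_apply, sub_eq_zero]
      conv_lhs => rw [← b.sum_repr (A v)]
      apply Finset.sum_congr rfl
      intro i _
      rw [LinearMap.smul_apply, hb, cyclicBasis_apply]
  exact sub_eq_zero.mp hsub

/-- the centralizer of a regular nilpotent endomorphism is commutative -/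
theorem comm_of_commute_regular (f : V →ₗ[K] V) (n : ℕ) (hn1 : 1 ≤ n) (hn : finrank K V = n)
    (hfn : f ^ n = 0) (v : V) (hv : (f ^ (n - 1)) v ≠ 0) (A B : V →ₗ[K] V)
    (hA : A ∘ₗ f = f ∘ₗ A) (hB : B ∘ₗ f = f ∘ₗ B) : A * B = B * A := by
  obtain ⟨a, ha⟩ := exists_poly_rep f n hn1 hn hfn v hv A hA
  rw [ha, Finset.sum_mul, Finset.mul_sum]
  apply Finset.sum_congr rfl
  intro i _
  rw [smul_mul_assoc, mul_smul_comm]
  congr 1
  have hB' : Commute B f := hB
  exact (hB'.pow_right (i : ℕ)).eq.symm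

/-- scalar plus nilpotent decomposition in the centralizer of a regular nilpotent map -/
theorem exists_scalar_sub_nilpotent (f : V →ₗ[K] V) (n : ℕ) (hn1 : 1 ≤ n)
    (hn : finrank K V = n) (hfn : f ^ n = 0) (v : V) (hv : (f ^ (n - 1)) v ≠ 0)
    (A : V →ₗ[K] V) (hA : A ∘ₗ f = f ∘ₗ A) :
    ∃ c : K, IsNilpotent (A - c • (1 : V →ₗ[K] V)) := by
  classical
  obtain ⟨a, ha⟩ := exists_poly_rep f n hn1 hn hfn v hv A hA
  refine ⟨a ⟨0, hn1⟩, ?_⟩
  have h1 : A - a ⟨0, hn1⟩ • (1 : V →ₗ[K] V) =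
      ∑ i : Fin n, (if (i : ℕ) = 0 then 0 else a i • f ^ (i : ℕ)) := by
    rw [ha, sub_eq_iff_eq_add]
    have h2 : a ⟨0, hn1⟩ • (1 : V →ₗ[K] V) =
        ∑ i : Fin n, (if (i : ℕ) = 0 then a i • f ^ (i : ℕ) else 0) := by
      rw [Finset.sum_eq_single (⟨0, hn1⟩ : Fin n)]
      · simp
      · intro j _ hj
        have : (j : ℕ) ≠ 0 := fun h => hj (Fin.ext h)
        rw [if_neg this]
      · intro h; exact absurd (Finset.mem_univ _) h
    rw [h2, ← Finset.sum_add_distrib]
    apply Finset.sum_congr rfl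
    intro i _
    by_cases hi : (i : ℕ) = 0
    · rw [if_pos hi, if_pos hi, zero_add]
    · rw [if_neg hi, if_neg hi, add_zero]
  rw [h1]
  have hfnil : IsNilpotent f := ⟨n, hfn⟩
  apply Commute.isNilpotent_sum
  · intro i _
    by_cases hi : (i : ℕ) = 0
    · rw [if_pos hi]; exact IsNilpotent.zero
    · rw [if_neg hi]
      apply IsNilpotent.smul
      exact hfnil.pow_of_pos hi
  · intro i j _ _
    have hc : Commute (f ^ (i : ℕ)) (f ^ (j : ℕ)) := Commute.pow_pow (Commute.refl f) _ _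
    by_cases hi : (i : ℕ) = 0
    · rw [if_pos hi]; exact Commute.zero_left _
    · by_cases hj : (j : ℕ) = 0
      · rw [if_pos hj]; exact Commute.zero_right _
      · rw [if_neg hi, if_neg hj]
        exact (hc.smul_left _).smul_right _

/-- the kernel of a regular nilpotent map is spanned by the top iterate of a cyclic vector -/
theorem ker_eq_span_top_iterate (f : V →ₗ[K] V) (n : ℕ) (hn1 : 1 ≤ n)
    (hfn : f ^ n = 0) (hker1 : finrank K (LinearMap.ker f) ≤ 1) (v : V)
    (hv : (f ^ (n - 1)) v ≠ 0) (w : V) (hw : f w = 0) : ∃ c : K, w = c • (f ^ (n - 1)) v := by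
  set z := (f ^ (n - 1)) v with hz
  have hfz : f z = 0 := by
    rw [hz, ← Module.End.mul_apply, ← pow_succ', pow_eq_zero_of_le (by omega) hfn]
    simp
  obtain ⟨v₀, hv₀⟩ := finrank_le_one_iff.mp hker1
  obtain ⟨a, ha⟩ := hv₀ ⟨z, LinearMap.mem_ker.mpr hfz⟩
  obtain ⟨b, hb⟩ := hv₀ ⟨w, LinearMap.mem_ker.mpr hw⟩
  have ha' : a • (v₀ : V) = z := congrArg Subtype.val ha
  have hb' : b • (v₀ : V) = w := congrArg Subtype.val hb
  have ha0 : a ≠ 0 := by
    rintro rfl
    rw [zero_smul] at ha'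
    exact hv ha'.symm
  refine ⟨b * a⁻¹, ?_⟩
  rw [← ha', ← hb', smul_smul, mul_assoc, inv_mul_cancel₀ ha0, mul_one]

/-- the annihilator of `f` in its centralizer is spanned by `f ^ (n - 1)` -/
theorem eq_smul_pow_of_comp_eq_zero (f : V →ₗ[K] V) (n : ℕ) (hn1 : 1 ≤ n)
    (hn : finrank K V = n) (hfn : f ^ n = 0) (hker1 : finrank K (LinearMap.ker f) ≤ 1) (v : V)
    (hv : (f ^ (n - 1)) v ≠ 0) (A : V →ₗ[K] V) (hA : A ∘ₗ f = f ∘ₗ A) (hfA : f ∘ₗ A = 0) :
    ∃ t : K, A = t • f ^ (n - 1) := by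
  have h1 : f (A v) = 0 := by
    have := LinearMap.congr_fun hfA v
    simpa using this
  obtain ⟨t, ht⟩ := ker_eq_span_top_iterate f n hn1 hfn hker1 v hv (A v) h1
  refine ⟨t, ?_⟩
  have hsub : A - t • f ^ (n - 1) = 0 := by
    apply eq_zero_of_commute_of_apply_cyclic f n hn hfn v hv
    · show (A - t • f ^ (n - 1)) * f = f * (A - t • f ^ (n - 1))
      have hA' : A * f = f * A := hA
      rw [sub_mul, mul_sub, hA', smul_mul_assoc, mul_smul_comm, ← pow_succ, ← pow_succ']
    · rw [LinearMap.sub_apply, LinearMap.smul_apply, ht, sub_self]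
  exact sub_eq_zero.mp hsub

end

end Cfsg.Agent.Lib.Helper43
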