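import Mathlib
import Cfsg.Agent.Lib.Helper43.RegCent

set_option autoImplicit false

/-!
Matrix form of the facts on the centralizer of a regular nilpotent matrix.
-/

namespace Cfsg.Agent.Lib.Helper43

open Module Matrix

section

variable {ι : Type*} [Fintype ι] [DecidableEq ι] {F : Type*} [Field F]

/-- `N` is a regular nilpotent matrix of size `n` -/
structure IsRegNilp (N : Matrix ι ι F) (n : ℕ) : Prop where
  card : Fintype.card ι = n
  pos : 1 ≤ n
  nil : N ^ n = 0
  rank : N.rank = n - 1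

namespace IsRegNilp

variable {N : Matrix ι ι F} {n : ℕ}

theorem finrank_fun (h : IsRegNilp N n) : finrank F (ι → F) = n := by
  rw [Module.finrank_fintype_fun_eq_card, h.card]

theorem toLin_pow (h : IsRegNilp N n) : (Matrix.toLin' N) ^ n = 0 := by
  rw [← Matrix.toLin'_pow, h.nil, map_zero]

theorem finrank_ker_le (h : IsRegNilp N n) : finrank F (LinearMap.ker (Matrix.toLin' N)) ≤ 1 := by
  have h1 := LinearMap.finrank_range_add_finrank_ker (Matrix.toLin' N)
  rw [h.finrank_fun] at h1
  have h2 : finrank F (LinearMap.range (Matrix.toLin' N)) = n - 1 := by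
    rw [← h.rank, Matrix.rank, Matrix.toLin'_apply']
  have := h.pos
  omega

theorem exists_cyclic (h : IsRegNilp N n) : ∃ v : ι → F, ((Matrix.toLin' N) ^ (n - 1)) v ≠ 0 :=
  Cfsg.Agent.Lib.Helper43.exists_cyclic (Matrix.toLin' N) n h.pos h.finrank_fun h.finrank_ker_le

theorem toLin_comm {A : Matrix ι ι F} (hA : A * N = N * A) :
    Matrix.toLin' A ∘ₗ Matrix.toLin' N = Matrix.toLin' N ∘ₗ Matrix.toLin' A := by
  rw [← Matrix.toLin'_mul, ← Matrix.toLin'_mul, hA]

theorem comm (h : IsRegNilp N n) {A B : Matrix ι ι F} (hA : A * N = N * A)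
    (hB : B * N = N * B) : A * B = B * A := by
  obtain ⟨v, hv⟩ := h.exists_cyclic
  have := comm_of_commute_regular (Matrix.toLin' N) n h.pos h.finrank_fun h.toLin_pow v hv
    (Matrix.toLin' A) (Matrix.toLin' B) (toLin_comm hA) (toLin_comm hB)
  apply Matrix.toLin'.injective
  rw [Matrix.toLin'_mul, Matrix.toLin'_mul]
  exact this

theorem exists_scalar (h : IsRegNilp N n) {A : Matrix ι ι F} (hA : A * N = N * A) :
    ∃ c : F, IsNilpotent (A - c • (1 : Matrix ι ι F)) := by
  obtain ⟨v, hv⟩ := h.exists_cyclic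
  obtain ⟨c, k, hk⟩ := exists_scalar_sub_nilpotent (Matrix.toLin' N) n h.pos h.finrank_fun
    h.toLin_pow v hv (Matrix.toLin' A) (toLin_comm hA)
  refine ⟨c, k, ?_⟩
  apply Matrix.toLin'.injective
  rw [Matrix.toLin'_pow, map_sub, map_smul, Matrix.toLin'_one, map_zero]
  exact hk

theorem annihilator (h : IsRegNilp N n) {A : Matrix ι ι F} (hA : A * N = N * A)
    (hNA : N * A = 0) : ∃ t : F, A = t • N ^ (n - 1) := by
  obtain ⟨v, hv⟩ := h.exists_cyclic
  have h0 : Matrix.toLin' N ∘ₗ Matrix.toLin' A = 0 := by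
    rw [← Matrix.toLin'_mul, hNA, map_zero]
  obtain ⟨t, ht⟩ := eq_smul_pow_of_comp_eq_zero (Matrix.toLin' N) n h.pos h.finrank_fun
    h.toLin_pow h.finrank_ker_le v hv (Matrix.toLin' A) (toLin_comm hA) h0
  refine ⟨t, ?_⟩
  apply Matrix.toLin'.injective
  rw [map_smul, Matrix.toLin'_pow]
  exact ht

theorem finrank_centralizer (h : IsRegNilp N n) :
    finrank F (Subalgebra.centralizer F ({N} : Set (Matrix ι ι F))) = n := by
  obtain ⟨v, hv⟩ := h.exists_cyclic
  let C := Subalgebra.centralizer F ({N} : Set (Matrix ι ι F))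
  let ev : C →ₗ[F] (ι → F) :=
    { toFun := fun A => (A : Matrix ι ι F) *ᵥ v
      map_add' := by intro A B; simp [Matrix.add_mulVec]
      map_smul' := by intro c A; simp [Matrix.smul_mulVec] }
  have hmem : ∀ A : Matrix ι ι F, A ∈ C ↔ A * N = N * A := by
    intro A
    show A ∈ Subalgebra.centralizer F ({N} : Set (Matrix ι ι F)) ↔ _
    rw [Subalgebra.mem_centralizer_iff]
    constructor
    · intro hA; exact (hA N rfl).symm
    · intro hA g hg
      rw [Set.mem_singleton_iff.mp hg]; exact hA.symm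
  have hinj : Function.Injective ev := by
    rw [← LinearMap.ker_eq_bot, LinearMap.ker_eq_bot']
    rintro ⟨A, hA⟩ h0
    have h0' : A *ᵥ v = 0 := h0
    have h1 := eq_zero_of_commute_of_apply_cyclic (Matrix.toLin' N) n h.finrank_fun h.toLin_pow v hv
      (Matrix.toLin' A) (toLin_comm ((hmem A).mp hA)) (by rw [Matrix.toLin'_apply]; exact h0')
    apply Subtype.ext
    show A = 0
    apply Matrix.toLin'.injective
    rw [h1, map_zero]
  have hsurj : Function.Surjective ev := by
    intro w
    obtain ⟨A', hA', hA'v⟩ := exists_commute_apply_eq (Matrix.toLin' N) n h.finrank_fun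
      h.toLin_pow v hv w
    have hAmem : LinearMap.toMatrix' A' ∈ C := by
      rw [hmem]
      apply Matrix.toLin'.injective
      rw [Matrix.toLin'_mul, Matrix.toLin'_mul, Matrix.toLin'_toMatrix']
      exact hA'
    refine ⟨⟨LinearMap.toMatrix' A', hAmem⟩, ?_⟩
    show LinearMap.toMatrix' A' *ᵥ v = w
    rw [← Matrix.toLin'_apply, Matrix.toLin'_toMatrix', hA'v]
  have e : C ≃ₗ[F] (ι → F) := LinearEquiv.ofBijective ev ⟨hinj, hsurj⟩
  rw [e.finrank_eq, h.finrank_fun]

end IsRegNilp

end

end Cfsg.Agent.Lib.Helper43
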