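import Mathlib

set_option autoImplicit false

/-!
Norm-one elements of a finite commutative local algebra with involution, counted through the
Cayley transform.
-/

namespace Cfsg.Agent.Lib.Helper43.InvNorm

section cayley

variable {R : Type*} [CommRing R]

/-- the Cayley partner of `x` -/
noncomputable def cay (x : R) : R := (1 - x) * Ring.inverse (1 + x)

theorem cay_spec {x : R} (h : IsUnit (1 + x)) : cay x * (1 + x) = 1 - x := by
  unfold cay
  rw [mul_assoc, Ring.inverse_mul_cancel _ h, mul_one]

theorem cay_rel {x : R} (h : IsUnit (1 + x)) : cay x + x + cay x * x = 1 := by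
  have := cay_spec h
  linear_combination this

theorem eq_cay_of_rel {x g : R} (h : IsUnit (1 + x)) (hrel : g + x + g * x = 1) : g = cay x := by
  have h1 : g * (1 + x) = cay x * (1 + x) := by
    rw [cay_spec h]; linear_combination hrel
  exact h.mul_left_injective h1

theorem isUnit_one_add_cay {x : R} (h2 : IsUnit (2 : R)) (h : IsUnit (1 + x)) :
    IsUnit (1 + cay x) := by
  have h3 : (1 + cay x) * (1 + x) = 2 := by
    have := cay_spec h
    linear_combination this
  have hu : IsUnit ((1 + cay x) * (1 + x)) := by rw [h3]; exact h2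
  exact isUnit_of_mul_isUnit_left hu

theorem cay_cay {x : R} (h2 : IsUnit (2 : R)) (h : IsUnit (1 + x)) : cay (cay x) = x := by
  symm
  apply eq_cay_of_rel (isUnit_one_add_cay h2 h)
  have := cay_rel h
  linear_combination this

theorem sigma_cay_of_norm (σ : R →+* R) {g : R} (h : IsUnit (1 + g)) (hg : g * σ g = 1) :
    σ (cay g) = - cay g := by
  have hrel := cay_rel h
  have h1 := congrArg σ hrel
  simp only [map_add, map_mul, map_one] at h1
  have h2 : σ (cay g) * (1 + g) = - cay g * (1 + g) := by
    have := cay_spec h
    linear_combination g * h1 - (1 + σ (cay g)) * hg + this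
  exact h.mul_left_injective h2

theorem norm_of_sigma_cay (σ : R →+* R) {x : R} (h : IsUnit (1 + x)) (hx : σ x = -x) :
    cay x * σ (cay x) = 1 := by
  have hrel := cay_rel h
  have hspec := cay_spec h
  have h1 := congrArg σ hrel
  simp only [map_add, map_mul, map_one, hx] at h1
  have h3 : σ (cay x) * (1 - x) = 1 + x := by linear_combination h1
  have hu : IsUnit (1 - x) := by
    have : IsUnit (σ (cay x) * (1 - x)) := by rw [h3]; exact h
    exact isUnit_of_mul_isUnit_right this
  have h4 : (cay x * σ (cay x) - 1) * ((1 + x) * (1 - x)) = 0 := by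
    linear_combination (σ (cay x) * (1 - x)) * hspec + (1 - x) * h3
  have h5 := (h.mul hu).mul_left_eq_zero.mp h4
  exact sub_eq_zero.mp h5

end cayley

section residue

variable {F R : Type*} [Field F] [CommRing R] [Algebra F R] [Nontrivial R]

theorem scalar_eq_zero_of_isNilpotent {a : F} (h : IsNilpotent (algebraMap F R a)) : a = 0 := by
  obtain ⟨k, hk⟩ := h
  rw [← map_pow] at hk
  have h0 : a ^ k = 0 := by
    apply (algebraMap F R).injective
    rw [hk, map_zero]
  exact eq_zero_of_pow_eq_zero h0

variable (H : ∀ x : R, ∃ a : F, IsNilpotent (x - algebraMap F R a))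

/-- the residue of `x`: the scalar `a` with `x - a` nilpotent -/
noncomputable def resid (x : R) : F := (H x).choose

theorem resid_spec (x : R) : IsNilpotent (x - algebraMap F R (resid H x)) := (H x).choose_spec

theorem resid_unique {x : R} {a : F} (h : IsNilpotent (x - algebraMap F R a)) : resid H x = a := by
  have h1 := resid_spec H x
  have h2 : IsNilpotent (algebraMap F R (resid H x - a)) := by
    rw [map_sub]
    have := Commute.isNilpotent_sub (Commute.all _ _) h h1
    convert this using 1; ring
  exact sub_eq_zero.mp (scalar_eq_zero_of_isNilpotent h2)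

theorem resid_add (x y : R) : resid H (x + y) = resid H x + resid H y := by
  apply resid_unique
  have := Commute.isNilpotent_add (Commute.all _ _) (resid_spec H x) (resid_spec H y)
  rw [map_add]
  convert this using 1; ring

theorem resid_mul (x y : R) : resid H (x * y) = resid H x * resid H y := by
  apply resid_unique
  have hx := resid_spec H x
  have hy := resid_spec H y
  have h1 : IsNilpotent ((x - algebraMap F R (resid H x)) * y) :=
    Commute.isNilpotent_mul_right (Commute.all _ _) hx
  have h2 : IsNilpotent (algebraMap F R (resid H x) * (y - algebraMap F R (resid H y))) :=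
    Commute.isNilpotent_mul_left (Commute.all _ _) hy
  have := Commute.isNilpotent_add (Commute.all _ _) h1 h2
  rw [map_mul]
  convert this using 1; ring

theorem resid_algebraMap (a : F) : resid H (algebraMap F R a) = a := by
  apply resid_unique
  rw [sub_self]
  exact IsNilpotent.zero

theorem resid_one : resid H (1 : R) = 1 := by
  have := resid_algebraMap H (1 : F)
  rwa [map_one] at this

theorem resid_neg (x : R) : resid H (-x) = - resid H x := by
  apply resid_unique
  have := (resid_spec H x).neg
  rw [map_neg]
  convert this using 1; ring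

theorem resid_eq_zero_iff (x : R) : resid H x = 0 ↔ IsNilpotent x := by
  constructor
  · intro h
    have := resid_spec H x
    rwa [h, map_zero, sub_zero] at this
  · intro h
    apply resid_unique
    rwa [map_zero, sub_zero]

theorem isUnit_iff_resid_ne_zero (x : R) : IsUnit x ↔ resid H x ≠ 0 := by
  constructor
  · intro hu h0
    exact hu.not_isNilpotent ((resid_eq_zero_iff H x).mp h0)
  · intro h
    have hu : IsUnit (algebraMap F R (resid H x)) := (IsUnit.mk0 _ h).map (algebraMap F R)
    have := (resid_spec H x).isUnit_add_left_of_commute hu (Commute.all _ _)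
    convert this using 1; ring

theorem resid_map (σ : R →ₐ[F] R) (x : R) : resid H (σ x) = resid H x := by
  apply resid_unique
  have := (resid_spec H x).map σ
  rwa [map_sub, AlgHom.commutes] at this

include H in
theorem card_norm_one (h2 : (2 : F) ≠ 0) [Finite R] (σ : R →ₐ[F] R) :
    Nat.card {g : R // g * σ g = 1} = 2 * Nat.card {x : R // σ x = -x} := by
  classical
  have h2R : IsUnit (2 : R) := by
    have := (IsUnit.mk0 _ h2).map (algebraMap F R)
    rwa [map_ofNat] at this
  have hres2 : resid H (2 : R) = 2 := by
    have := resid_algebraMap H (2 : F)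
    rwa [map_ofNat] at this
  set Z : Set R := {g | g * σ g = 1} with hZ
  set Zp : Set R := {g | g * σ g = 1 ∧ IsUnit (1 + g)} with hZp
  set Zn : Set R := {g | g * σ g = 1 ∧ ¬ IsUnit (1 + g)} with hZn
  set Rm : Set R := {x | σ x = -x} with hRm
  have hsq : ∀ g ∈ Z, resid H g = 1 ∨ resid H g = -1 := by
    intro g hg
    have h1 : resid H g * resid H g = 1 := by
      have := congrArg (resid H) hg
      rwa [resid_mul, resid_map, resid_one] at this
    have h3 : (resid H g - 1) * (resid H g + 1) = 0 := by linear_combination h1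
    rcases mul_eq_zero.mp h3 with h | h
    · left; exact sub_eq_zero.mp h
    · right; exact eq_neg_of_add_eq_zero_left h
  have hne : (1 : F) + 1 ≠ 0 := by
    intro h; apply h2; rw [← h]; norm_num
  have hunit_iff : ∀ g ∈ Z, (IsUnit (1 + g) ↔ resid H g = 1) := by
    intro g hg
    rw [isUnit_iff_resid_ne_zero H, resid_add, resid_one]
    rcases hsq g hg with h | h
    · rw [h]; exact ⟨fun _ => rfl, fun _ => hne⟩
    · rw [h]
      constructor
      · intro h'; exact absurd (by ring) h'
      · intro h'
        exfalso; apply hne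
        linear_combination -h'
  have hunit_iff' : ∀ g ∈ Z, (IsUnit (1 - g) ↔ resid H g = -1) := by
    intro g hg
    rw [isUnit_iff_resid_ne_zero H, sub_eq_add_neg, resid_add, resid_one, resid_neg]
    rcases hsq g hg with h | h
    · rw [h]
      constructor
      · intro h'; exact absurd (by ring) h'
      · intro h'
        exfalso; apply hne
        linear_combination h'
    · rw [h]; exact ⟨fun _ => rfl, fun _ => by rw [neg_neg]; exact hne⟩
  have hcard1 : Nat.card {g : R // g * σ g = 1} = Z.ncard := Nat.card_coe_set_eq Z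
  have hcard2 : Nat.card {x : R // σ x = -x} = Rm.ncard := Nat.card_coe_set_eq Rm
  have hunion : Z = Zp ∪ Zn := by
    ext g
    simp only [hZ, hZp, hZn, Set.mem_setOf_eq, Set.mem_union]
    tauto
  have hdisj : Disjoint Zp Zn := by
    rw [Set.disjoint_left]
    rintro g ⟨_, h1⟩ ⟨_, h2⟩
    exact h2 h1
  have hRm_unit : ∀ x ∈ Rm, IsUnit (1 + x) := by
    intro x hx
    apply IsNilpotent.isUnit_one_add
    rw [← resid_eq_zero_iff H]
    have h1 : resid H x = - resid H x := by
      have := congrArg (resid H) hx
      rwa [resid_map, resid_neg] at this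
    have h3 : (2 : F) * resid H x = 0 := by linear_combination h1
    exact (mul_eq_zero.mp h3).resolve_left h2
  have hZpRm : Zp.ncard = Rm.ncard := by
    apply Set.ncard_congr (fun g _ => cay g)
    · rintro g ⟨hg, hu⟩
      exact sigma_cay_of_norm σ.toRingHom hu hg
    · rintro a b ⟨_, ha⟩ ⟨_, hb⟩ hab
      have := congrArg cay hab
      rwa [cay_cay h2R ha, cay_cay h2R hb] at this
    · intro x hx
      have hu := hRm_unit x hx
      exact ⟨cay x, ⟨norm_of_sigma_cay σ.toRingHom hu hx, isUnit_one_add_cay h2R hu⟩,
        cay_cay h2R hu⟩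
  have hZnZp : Zn.ncard = Zp.ncard := by
    apply Set.ncard_congr (fun g _ => -g)
    · rintro g ⟨hg, hu⟩
      have hgZ : g ∈ Z := hg
      refine ⟨?_, ?_⟩
      · rw [map_neg]; linear_combination hg
      · rw [← sub_eq_add_neg, hunit_iff' g hgZ]
        rcases hsq g hgZ with h | h
        · exact absurd ((hunit_iff g hgZ).mpr h) hu
        · exact h
    · intro a b _ _ hab
      exact neg_injective hab
    · rintro g ⟨hg, hu⟩
      have hgZ : g ∈ Z := hg
      have hmg : (-g) * σ (-g) = 1 := by rw [map_neg]; linear_combination hg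
      refine ⟨-g, ⟨hmg, ?_⟩, neg_neg g⟩
      rw [← sub_eq_add_neg, hunit_iff' g hgZ, (hunit_iff g hgZ).mp hu]
      intro h
      apply hne
      linear_combination h
  rw [hcard1, hcard2, hunion, Set.ncard_union_eq hdisj (Set.toFinite _) (Set.toFinite _),
    hZnZp, hZpRm]
  ring

theorem resid_smul (c : F) (x : R) : resid H (c • x) = c * resid H x := by
  rw [Algebra.smul_def, resid_mul, resid_algebraMap]

include H in
/-- squaring is injective on elements of residue one -/
theorem sq_injective_of_resid_one (h2 : (2 : F) ≠ 0) {x y : R} (hx : resid H x = 1)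
    (hy : resid H y = 1) (hxy : x * x = y * y) : x = y := by
  have h1 : (x - y) * (x + y) = 0 := by linear_combination hxy
  have hu : IsUnit (x + y) := by
    rw [isUnit_iff_resid_ne_zero H, resid_add, hx, hy]
    intro h; apply h2; rw [← h]; norm_num
  exact sub_eq_zero.mp (hu.mul_left_eq_zero.mp h1)

include H in
/-- every element of residue one is a square of an element of residue one -/
theorem exists_sqrt_of_resid_one (h2 : (2 : F) ≠ 0) [Finite R] {T : R} (hT : resid H T = 1) :
    ∃ w : R, resid H w = 1 ∧ w * w = T := by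
  let sq : {x : R // resid H x = 1} → {x : R // resid H x = 1} :=
    fun x => ⟨x.1 * x.1, by rw [resid_mul, x.2, one_mul]⟩
  have hinj : Function.Injective sq := by
    intro x y hxy
    apply Subtype.ext
    exact sq_injective_of_resid_one H h2 x.2 y.2 (congrArg Subtype.val hxy)
  obtain ⟨w, hw⟩ := Finite.surjective_of_injective hinj ⟨T, hT⟩
  exact ⟨w.1, w.2, congrArg Subtype.val hw⟩

include H in
/-- a symmetric element of residue one is a norm -/
theorem exists_norm_eq_of_resid_one (h2 : (2 : F) ≠ 0) [Finite R] (σ : R →ₐ[F] R) {T : R}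
    (hσT : σ T = T) (hT : resid H T = 1) : ∃ g : R, g * σ g = T := by
  obtain ⟨w, hw1, hw⟩ := exists_sqrt_of_resid_one H h2 hT
  have hσw : σ w = w := by
    apply sq_injective_of_resid_one H h2 _ hw1
    · rw [← map_mul, hw, hσT]
    · rw [resid_map, hw1]
  exact ⟨w, by rw [hσw, hw]⟩

include H in
/-- a symmetric element whose residue is a nonzero square is a norm -/
theorem exists_norm_eq_of_resid_sq (h2 : (2 : F) ≠ 0) [Finite R] (σ : R →ₐ[F] R) {T : R}
    (hσT : σ T = T) {b : F} (hb : b ≠ 0) (hT : resid H T = b * b) : ∃ g : R, g * σ g = T := by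
  have h1 : resid H ((b⁻¹ * b⁻¹) • T) = 1 := by
    rw [resid_smul, hT]; field_simp
  have h2' : σ ((b⁻¹ * b⁻¹) • T) = (b⁻¹ * b⁻¹) • T := by rw [map_smul, hσT]
  obtain ⟨g, hg⟩ := exists_norm_eq_of_resid_one H h2 σ h2' h1
  refine ⟨b • g, ?_⟩
  rw [map_smul, smul_mul_smul_comm, hg, smul_smul]
  have : b * b * (b⁻¹ * b⁻¹) = 1 := by field_simp
  rw [this, one_smul]

include H in
/-- the norm equation `g σ(g) S = a` for a symmetric unit `S` with `a * resid S` a square -/
theorem exists_norm_mul_eq (h2 : (2 : F) ≠ 0) [Finite R] (σ : R →ₐ[F] R) {S : R}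
    (hσS : σ S = S) (hS : IsUnit S) {a : F} (ha : a ≠ 0) (hsq : IsSquare (a * resid H S)) :
    ∃ g : R, g * σ g * S = algebraMap F R a := by
  obtain ⟨S', hS'⟩ := hS.exists_right_inv
  have hc : resid H S ≠ 0 := (isUnit_iff_resid_ne_zero H S).mp hS
  have hres' : resid H S * resid H S' = 1 := by
    have := congrArg (resid H) hS'
    rwa [resid_mul, resid_one] at this
  have hσS' : σ S' = S' := by
    have h3 : S * σ S' = 1 := by
      have := congrArg σ hS'
      rwa [map_mul, map_one, hσS] at this
    have h4 : S * (σ S' - S') = 0 := by rw [mul_sub, h3, hS', sub_self]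
    exact sub_eq_zero.mp (hS.mul_right_eq_zero.mp h4)
  obtain ⟨d, hd⟩ := hsq
  have hd0 : d ≠ 0 := by
    rintro rfl
    rw [mul_zero] at hd
    exact (mul_ne_zero ha hc) hd
  have hT : resid H (a • S') = (d * (resid H S)⁻¹) * (d * (resid H S)⁻¹) := by
    rw [resid_smul]
    have : resid H S' = (resid H S)⁻¹ := by
      field_simp
      linear_combination hres'
    rw [this]
    field_simp
    linear_combination hd
  have hσT : σ (a • S') = a • S' := by rw [map_smul, hσS']
  obtain ⟨g, hg⟩ := exists_norm_eq_of_resid_sq H h2 σ hσT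
    (mul_ne_zero hd0 (inv_ne_zero hc)) hT
  refine ⟨g, ?_⟩
  rw [hg, smul_mul_assoc, mul_comm S' S, hS', Algebra.algebraMap_eq_smul_one]

end residue

end Cfsg.Agent.Lib.Helper43.InvNorm
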