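import Mathlib

set_option autoImplicit false

/-!
Dimension of the skew part of a commutative algebra with involution, through multiplication
by a skew element with one-dimensional annihilator.
-/

namespace Cfsg.Agent.Lib.Helper43.SkewDim

open Module

variable {F R : Type*} [Field F] [CommRing R] [Algebra F R]

/-- the skew part -/
def skewPart (σ : R →ₐ[F] R) : Submodule F R := LinearMap.ker (σ.toLinearMap + LinearMap.id)

/-- the symmetric part -/
def symPart (σ : R →ₐ[F] R) : Submodule F R := LinearMap.ker (σ.toLinearMap - LinearMap.id)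

theorem mem_skewPart (σ : R →ₐ[F] R) (x : R) : x ∈ skewPart σ ↔ σ x = -x := by
  unfold skewPart
  rw [LinearMap.mem_ker, LinearMap.add_apply, LinearMap.id_apply, AlgHom.toLinearMap_apply]
  exact add_eq_zero_iff_eq_neg

theorem mem_symPart (σ : R →ₐ[F] R) (x : R) : x ∈ symPart σ ↔ σ x = x := by
  unfold symPart
  rw [LinearMap.mem_ker, LinearMap.sub_apply, LinearMap.id_apply, AlgHom.toLinearMap_apply]
  exact sub_eq_zero

theorem isCompl_sym_skew (h2 : (2 : F) ≠ 0) (σ : R →ₐ[F] R) (hσ : ∀ x, σ (σ x) = x) :
    IsCompl (symPart σ) (skewPart σ) := by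
  constructor
  · rw [Submodule.disjoint_def]
    intro x hx1 hx2
    rw [mem_symPart] at hx1
    rw [mem_skewPart] at hx2
    have h : (2 : F) • x = 0 := by
      rw [two_smul]
      nth_rewrite 1 [← hx1]
      rw [hx2, neg_add_cancel]
    exact (smul_eq_zero.mp h).resolve_left h2
  · rw [codisjoint_iff, eq_top_iff]
    intro x _
    have hx : x = (2 : F)⁻¹ • (x + σ x) + (2 : F)⁻¹ • (x - σ x) := by
      rw [← smul_add]
      have : x + σ x + (x - σ x) = (2 : F) • x := by rw [two_smul]; abel
      rw [this, smul_smul, inv_mul_cancel₀ h2, one_smul]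
    rw [hx]
    apply Submodule.add_mem_sup
    · apply Submodule.smul_mem
      rw [mem_symPart, map_add, hσ, add_comm]
    · apply Submodule.smul_mem
      rw [mem_skewPart, map_sub, hσ, neg_sub]

theorem finrank_skewPart [Module.Finite F R] (h2 : (2 : F) ≠ 0) (σ : R →ₐ[F] R)
    (hσ : ∀ x, σ (σ x) = x) (d z : R) (hd : σ d = -d) (hz : σ z = -z)
    (hker : ∀ x, d * x = 0 → ∃ t : F, x = t • z) (m : ℕ) (hdim : finrank F R = 2 * m) :
    finrank F (skewPart σ) = m := by
  classical
  have hcompl := isCompl_sym_skew h2 σ hσ
  have hsum := Submodule.finrank_add_eq_of_isCompl hcompl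
  -- multiplication by d
  let L : R →ₗ[F] R := LinearMap.mulLeft F d
  have hL : ∀ x, L x = d * x := fun x => rfl
  have h1 : ∀ x ∈ symPart σ, L x ∈ skewPart σ := by
    intro x hx
    rw [mem_symPart] at hx
    rw [mem_skewPart, hL, map_mul, hd, hx, neg_mul]
  have h2' : ∀ x ∈ skewPart σ, L x ∈ symPart σ := by
    intro x hx
    rw [mem_skewPart] at hx
    rw [mem_symPart, hL, map_mul, hd, hx, neg_mul_neg]
  -- injective on the symmetric part
  have hinj : Function.Injective (L.restrict h1) := by
    rw [← LinearMap.ker_eq_bot, LinearMap.ker_eq_bot']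
    rintro ⟨x, hx⟩ h0
    have h0' : d * x = 0 := by
      have := congrArg Subtype.val h0
      simpa [LinearMap.restrict_apply, hL] using this
    obtain ⟨t, rfl⟩ := hker x h0'
    rw [mem_symPart, map_smul, hz] at hx
    have h3 : (2 : F) • (t • z) = 0 := by
      rw [two_smul]
      nth_rewrite 1 [← hx]
      rw [smul_neg, neg_add_cancel]
    have h4 := (smul_eq_zero.mp h3).resolve_left h2
    exact Subtype.ext h4
  have hle1 : finrank F (symPart σ) ≤ finrank F (skewPart σ) :=
    LinearMap.finrank_le_finrank_of_injective hinj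
  -- kernel on the skew part
  have hrk := LinearMap.finrank_range_add_finrank_ker (L.restrict h2')
  have hrange : finrank F (LinearMap.range (L.restrict h2')) ≤ finrank F (symPart σ) :=
    Submodule.finrank_le _
  have hkerle : finrank F (LinearMap.ker (L.restrict h2')) ≤ 1 := by
    have hinj2 : Function.Injective
        ((skewPart σ).subtype.domRestrict (LinearMap.ker (L.restrict h2'))) := by
      intro a b hab
      have : ((a : skewPart σ) : R) = ((b : skewPart σ) : R) := hab
      exact Subtype.ext (Subtype.ext this)
    have hrange2 : LinearMap.range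
        ((skewPart σ).subtype.domRestrict (LinearMap.ker (L.restrict h2'))) ≤ F ∙ z := by
      rintro _ ⟨⟨⟨x, hx⟩, hxk⟩, rfl⟩
      rw [LinearMap.mem_ker] at hxk
      have h0' : d * x = 0 := by
        have := congrArg Subtype.val hxk
        simpa [LinearMap.restrict_apply, hL] using this
      obtain ⟨t, ht⟩ := hker x h0'
      show x ∈ F ∙ z
      rw [ht]
      exact Submodule.smul_mem _ _ (Submodule.mem_span_singleton_self z)
    calc finrank F (LinearMap.ker (L.restrict h2'))
        = finrank F (LinearMap.range
            ((skewPart σ).subtype.domRestrict (LinearMap.ker (L.restrict h2')))) :=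
          (LinearMap.finrank_range_of_inj hinj2).symm
      _ ≤ finrank F (F ∙ z) := Submodule.finrank_mono hrange2
      _ ≤ 1 := by
          have := finrank_span_le_card (R := F) ({z} : Set R)
          simpa using this
  omega

end Cfsg.Agent.Lib.Helper43.SkewDim
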