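import Mathlib
import Cfsg.Agent.Lib.Helper43.RegCentMatrix

set_option autoImplicit false

/-!
The adjoint involution of the standard symplectic form on matrices, and the centralizer algebra
of a symplectic matrix `U` with `U - 1` regular nilpotent, as a commutative algebra with involution.
-/

namespace Cfsg.Agent.Lib.Helper43

open Module Matrix

section

variable {F : Type*} [Field F] {m : ℕ}

/-- the adjoint of a matrix for the standard symplectic form -/
def spAdj (A : Matrix (Fin m ⊕ Fin m) (Fin m ⊕ Fin m) F) :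
    Matrix (Fin m ⊕ Fin m) (Fin m ⊕ Fin m) F :=
  (-J (Fin m) F) * Aᵀ * J (Fin m) F

theorem J_mul_neg_J : J (Fin m) F * (-J (Fin m) F) = 1 := by
  rw [mul_neg, J_squared, neg_neg]

theorem neg_J_mul_J : (-J (Fin m) F) * J (Fin m) F = 1 := by
  rw [neg_mul, J_squared, neg_neg]

theorem spAdj_one : spAdj (1 : Matrix (Fin m ⊕ Fin m) (Fin m ⊕ Fin m) F) = 1 := by
  unfold spAdj
  rw [transpose_one, mul_one, neg_J_mul_J]

theorem spAdj_mul (A B : Matrix (Fin m ⊕ Fin m) (Fin m ⊕ Fin m) F) :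
    spAdj (A * B) = spAdj B * spAdj A := by
  unfold spAdj
  rw [transpose_mul]
  calc -J (Fin m) F * (Bᵀ * Aᵀ) * J (Fin m) F
      = -J (Fin m) F * Bᵀ * 1 * Aᵀ * J (Fin m) F := by simp only [mul_one, Matrix.mul_assoc]
    _ = -J (Fin m) F * Bᵀ * (J (Fin m) F * (-J (Fin m) F)) * Aᵀ * J (Fin m) F := by
        rw [J_mul_neg_J]
    _ = _ := by simp only [Matrix.mul_assoc]

theorem spAdj_add (A B : Matrix (Fin m ⊕ Fin m) (Fin m ⊕ Fin m) F) :
    spAdj (A + B) = spAdj A + spAdj B := by
  unfold spAdj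
  rw [transpose_add, Matrix.mul_add, Matrix.add_mul]

theorem spAdj_smul (c : F) (A : Matrix (Fin m ⊕ Fin m) (Fin m ⊕ Fin m) F) :
    spAdj (c • A) = c • spAdj A := by
  unfold spAdj
  rw [transpose_smul, Matrix.mul_smul, Matrix.smul_mul]

theorem spAdj_neg (A : Matrix (Fin m ⊕ Fin m) (Fin m ⊕ Fin m) F) :
    spAdj (-A) = - spAdj A := by
  unfold spAdj
  rw [transpose_neg, Matrix.mul_neg, Matrix.neg_mul]

theorem spAdj_sub (A B : Matrix (Fin m ⊕ Fin m) (Fin m ⊕ Fin m) F) :
    spAdj (A - B) = spAdj A - spAdj B := by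
  rw [sub_eq_add_neg, spAdj_add, spAdj_neg, ← sub_eq_add_neg]

theorem spAdj_spAdj (A : Matrix (Fin m ⊕ Fin m) (Fin m ⊕ Fin m) F) : spAdj (spAdj A) = A := by
  unfold spAdj
  rw [transpose_mul, transpose_mul, transpose_transpose, transpose_neg, J_transpose, neg_neg]
  calc -J (Fin m) F * (-J (Fin m) F * (A * J (Fin m) F)) * J (Fin m) F
      = (J (Fin m) F * J (Fin m) F) * A * (J (Fin m) F * J (Fin m) F) := by
        simp only [Matrix.mul_assoc, Matrix.neg_mul, Matrix.mul_neg, neg_neg]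
    _ = A := by rw [J_squared]; simp

theorem spAdj_pow (A : Matrix (Fin m ⊕ Fin m) (Fin m ⊕ Fin m) F) (k : ℕ) :
    spAdj (A ^ k) = spAdj A ^ k := by
  induction k with
  | zero => rw [pow_zero, pow_zero, spAdj_one]
  | succ k ih => rw [pow_succ, spAdj_mul, ih, pow_succ']

theorem mem_symplecticGroup_iff_mul_spAdj (A : Matrix (Fin m ⊕ Fin m) (Fin m ⊕ Fin m) F) :
    A ∈ symplecticGroup (Fin m) F ↔ A * spAdj A = 1 := by
  rw [SymplecticGroup.mem_iff]
  unfold spAdj
  constructor
  · intro h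
    calc A * (-J (Fin m) F * Aᵀ * J (Fin m) F)
        = -(A * J (Fin m) F * Aᵀ) * J (Fin m) F := by
          simp only [Matrix.mul_assoc, Matrix.neg_mul, Matrix.mul_neg]
      _ = 1 := by rw [h, neg_J_mul_J]
  · intro h
    have h1 : -(A * J (Fin m) F * Aᵀ) * J (Fin m) F = 1 := by
      rw [← h]
      simp only [Matrix.mul_assoc, Matrix.neg_mul, Matrix.mul_neg]
    have h2 : -(A * J (Fin m) F * Aᵀ) * J (Fin m) F * (-J (Fin m) F) = -J (Fin m) F := by
      rw [h1, one_mul]
    rw [Matrix.mul_assoc, J_mul_neg_J, mul_one] at h2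
    exact neg_injective h2

theorem spAdj_mul_self_of_mem {A : Matrix (Fin m ⊕ Fin m) (Fin m ⊕ Fin m) F}
    (hA : A ∈ symplecticGroup (Fin m) F) : spAdj A * A = 1 :=
  mul_eq_one_comm.mp ((mem_symplecticGroup_iff_mul_spAdj A).mp hA)

/-- the adjoint of a matrix commuting with a symplectic matrix commutes with it -/
theorem spAdj_commute {U A : Matrix (Fin m ⊕ Fin m) (Fin m ⊕ Fin m) F}
    (hU : U ∈ symplecticGroup (Fin m) F) (hA : U * A = A * U) : U * spAdj A = spAdj A * U := by
  have h1 : spAdj A * spAdj U = spAdj U * spAdj A := by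
    rw [← spAdj_mul, ← spAdj_mul, hA]
  have hUU := (mem_symplecticGroup_iff_mul_spAdj U).mp hU
  have hUU' := spAdj_mul_self_of_mem hU
  calc U * spAdj A = U * spAdj A * (spAdj U * U) := by rw [hUU', mul_one]
    _ = U * (spAdj A * spAdj U) * U := by simp only [Matrix.mul_assoc]
    _ = U * (spAdj U * spAdj A) * U := by rw [h1]
    _ = (U * spAdj U) * spAdj A * U := by simp only [Matrix.mul_assoc]
    _ = spAdj A * U := by rw [hUU, one_mul]

end

section commring

/-- a subalgebra whose elements commute is a commutative ring -/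
instance subalgebraCommRing {F A : Type*} [CommRing F] [Ring A] [Algebra F A] (C : Subalgebra F A)
    [hc : Fact (∀ a ∈ C, ∀ b ∈ C, a * b = b * a)] : CommRing C :=
  { C.toRing with mul_comm := fun a b => Subtype.ext (hc.out a.1 a.2 b.1 b.2) }

end commring

end Cfsg.Agent.Lib.Helper43
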