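import Mathlib
import Cfsg.Agent.Lib.Helper43.SpAdj
import Cfsg.Agent.Lib.Helper43.InvNorm
import Cfsg.Agent.Lib.Helper43.SkewDim

set_option autoImplicit false

/-!
The centralizer algebra of a regular unipotent symplectic matrix.
-/

namespace Cfsg.Agent.Lib.Helper43

open Module Matrix

section

variable {F : Type*} [Field F] {m : ℕ}

/-- `U` is a symplectic matrix with `U - 1` regular nilpotent -/
structure IsRegUnipSp (U : Matrix (Fin m ⊕ Fin m) (Fin m ⊕ Fin m) F) : Prop where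
  mem : U ∈ symplecticGroup (Fin m) F
  reg : IsRegNilp (U - 1) (2 * m)

/-- the centralizer algebra -/
abbrev cent (U : Matrix (Fin m ⊕ Fin m) (Fin m ⊕ Fin m) F) :
    Subalgebra F (Matrix (Fin m ⊕ Fin m) (Fin m ⊕ Fin m) F) :=
  Subalgebra.centralizer F {U}

theorem mem_cent_iff {U A : Matrix (Fin m ⊕ Fin m) (Fin m ⊕ Fin m) F} :
    A ∈ cent U ↔ U * A = A * U := by
  unfold cent
  rw [Subalgebra.mem_centralizer_iff]
  constructor
  · intro h; exact h U rfl
  · intro h g hg; rw [Set.mem_singleton_iff.mp hg]; exact h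

theorem mem_cent_iff' {U A : Matrix (Fin m ⊕ Fin m) (Fin m ⊕ Fin m) F} :
    A ∈ cent U ↔ A * (U - 1) = (U - 1) * A := by
  rw [mem_cent_iff, mul_sub, sub_mul, mul_one, one_mul]
  constructor
  · intro h; rw [h]
  · intro h; exact (sub_left_inj.mp h).symm

theorem cent_eq_cent_sub_one (U : Matrix (Fin m ⊕ Fin m) (Fin m ⊕ Fin m) F) :
    cent U = Subalgebra.centralizer F {U - 1} := by
  ext A
  rw [mem_cent_iff', Subalgebra.mem_centralizer_iff]
  constructor
  · intro h g hg; rw [Set.mem_singleton_iff.mp hg]; exact h.symm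
  · intro h; exact (h _ rfl).symm

namespace IsRegUnipSp

variable {U : Matrix (Fin m ⊕ Fin m) (Fin m ⊕ Fin m) F}

theorem comm (h : IsRegUnipSp U) : ∀ a ∈ cent U, ∀ b ∈ cent U, a * b = b * a := by
  intro a ha b hb
  exact h.reg.comm (mem_cent_iff'.mp ha) (mem_cent_iff'.mp hb)

theorem spAdj_mem (h : IsRegUnipSp U) {A : Matrix (Fin m ⊕ Fin m) (Fin m ⊕ Fin m) F}
    (hA : A ∈ cent U) : spAdj A ∈ cent U :=
  mem_cent_iff.mpr (spAdj_commute h.mem (mem_cent_iff.mp hA))

theorem self_mem (U : Matrix (Fin m ⊕ Fin m) (Fin m ⊕ Fin m) F) : U ∈ cent U :=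
  mem_cent_iff.mpr rfl

variable [hc : Fact (∀ a ∈ cent U, ∀ b ∈ cent U, a * b = b * a)]

/-- the adjoint involution on the centralizer algebra, as a linear map -/
noncomputable def adjLin (h : IsRegUnipSp U) : cent U →ₗ[F] cent U where
  toFun x := ⟨spAdj (x : Matrix (Fin m ⊕ Fin m) (Fin m ⊕ Fin m) F), h.spAdj_mem x.2⟩
  map_add' x y := Subtype.ext (spAdj_add _ _)
  map_smul' c x := Subtype.ext (spAdj_smul _ _)

/-- the adjoint involution on the centralizer algebra -/
noncomputable def adjHom (h : IsRegUnipSp U) : cent U →ₐ[F] cent U :=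
  AlgHom.ofLinearMap (adjLin h) (Subtype.ext spAdj_one) (by
    intro x y
    apply Subtype.ext
    show spAdj ((x : Matrix (Fin m ⊕ Fin m) (Fin m ⊕ Fin m) F) *
      (y : Matrix (Fin m ⊕ Fin m) (Fin m ⊕ Fin m) F)) =
      spAdj (x : Matrix (Fin m ⊕ Fin m) (Fin m ⊕ Fin m) F) *
        spAdj (y : Matrix (Fin m ⊕ Fin m) (Fin m ⊕ Fin m) F)
    rw [spAdj_mul]
    exact h.comm _ (h.spAdj_mem y.2) _ (h.spAdj_mem x.2))

theorem adjHom_coe (h : IsRegUnipSp U) (x : cent U) :
    ((adjHom h x : cent U) : Matrix (Fin m ⊕ Fin m) (Fin m ⊕ Fin m) F) = spAdj x := rfl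

theorem adjHom_adjHom (h : IsRegUnipSp U) (x : cent U) : adjHom h (adjHom h x) = x := by
  apply Subtype.ext
  rw [adjHom_coe, adjHom_coe, spAdj_spAdj]

theorem exists_resid (h : IsRegUnipSp U) (x : cent U) :
    ∃ a : F, IsNilpotent (x - algebraMap F (cent U) a) := by
  obtain ⟨c, k, hk⟩ := h.reg.exists_scalar (mem_cent_iff'.mp x.2)
  refine ⟨c, k, ?_⟩
  apply Subtype.ext
  rw [Subalgebra.coe_pow, Subalgebra.coe_sub, Subalgebra.coe_algebraMap,
    Algebra.algebraMap_eq_smul_one]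
  exact hk

theorem finrank_cent (h : IsRegUnipSp U) : finrank F (cent U) = 2 * m := by
  have := h.reg.finrank_centralizer
  rw [← cent_eq_cent_sub_one] at this
  exact this

/-- the top power of `U - 1` is fixed by left multiplication by the adjoint of `U` -/
theorem spAdj_mul_top (h : IsRegUnipSp U) :
    spAdj U * (U - 1) ^ (2 * m - 1) = (U - 1) ^ (2 * m - 1) := by
  have h1 : U * (U - 1) ^ (2 * m - 1) = (U - 1) ^ (2 * m - 1) := by
    have h2 : (U - 1) * (U - 1) ^ (2 * m - 1) = 0 := by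
      rw [← pow_succ']
      have : 2 * m - 1 + 1 = 2 * m := by have := h.reg.pos; omega
      rw [this, h.reg.nil]
    rw [sub_mul, one_mul, sub_eq_zero] at h2
    exact h2
  calc spAdj U * (U - 1) ^ (2 * m - 1) = spAdj U * (U * (U - 1) ^ (2 * m - 1)) := by rw [h1]
    _ = (spAdj U * U) * (U - 1) ^ (2 * m - 1) := by rw [Matrix.mul_assoc]
    _ = _ := by rw [spAdj_mul_self_of_mem h.mem, one_mul]

theorem spAdj_sub_one (h : IsRegUnipSp U) : spAdj (U - 1) = -(spAdj U * (U - 1)) := by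
  rw [spAdj_sub, spAdj_one, mul_sub, mul_one, spAdj_mul_self_of_mem h.mem, neg_sub]

theorem spAdj_top (h : IsRegUnipSp U) :
    spAdj ((U - 1) ^ (2 * m - 1)) = -((U - 1) ^ (2 * m - 1)) := by
  have hodd : Odd (2 * m - 1) := by
    have := h.reg.pos
    exact ⟨m - 1, by omega⟩
  have hcomm : Commute (spAdj U) (U - 1) := by
    have h1 : U * spAdj U = spAdj U * U := spAdj_commute h.mem rfl
    show spAdj U * (U - 1) = (U - 1) * spAdj U
    rw [mul_sub, sub_mul, mul_one, one_mul, h1]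
  have hpow : ∀ k : ℕ, spAdj U ^ k * (U - 1) ^ (2 * m - 1) = (U - 1) ^ (2 * m - 1) := by
    intro k
    induction k with
    | zero => rw [pow_zero, one_mul]
    | succ k ih => rw [pow_succ, Matrix.mul_assoc, h.spAdj_mul_top, ih]
  rw [spAdj_pow, h.spAdj_sub_one, neg_pow, hcomm.mul_pow, hpow, hodd.neg_one_pow, neg_one_mul]

theorem finrank_skew (h : IsRegUnipSp U) (h2 : (2 : F) ≠ 0) :
    finrank F (SkewDim.skewPart (adjHom h)) = m := by
  have hUc : U ∈ cent U := self_mem U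
  have hU'c : spAdj U ∈ cent U := h.spAdj_mem hUc
  have hNc : (U - 1) ^ (2 * m - 1) ∈ cent U :=
    Subalgebra.pow_mem _ (Subalgebra.sub_mem _ hUc (Subalgebra.one_mem _)) _
  haveI : Module.Finite F (cent U) := inferInstance
  apply SkewDim.finrank_skewPart h2 (adjHom h) (adjHom_adjHom h)
    (⟨U, hUc⟩ - ⟨spAdj U, hU'c⟩ : cent U) ⟨(U - 1) ^ (2 * m - 1), hNc⟩
  · apply Subtype.ext
    rw [adjHom_coe]
    show spAdj (U - spAdj U) = -(U - spAdj U)
    rw [spAdj_sub, spAdj_spAdj, neg_sub]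
  · apply Subtype.ext
    rw [adjHom_coe]
    exact h.spAdj_top
  · intro x hx
    have hx' : (U - spAdj U) * (x : Matrix (Fin m ⊕ Fin m) (Fin m ⊕ Fin m) F) = 0 :=
      congrArg Subtype.val hx
    -- U - U' = U' (U + 1) (U - 1)
    have hfac : U - spAdj U = spAdj U * (U + 1) * (U - 1) := by
      have h1 : (U + 1) * (U - 1) = U * U - 1 := by noncomm_ring
      rw [Matrix.mul_assoc, h1, mul_sub, mul_one, ← Matrix.mul_assoc,
        spAdj_mul_self_of_mem h.mem, one_mul]
    have hnilN : IsNilpotent (U - 1) := ⟨2 * m, h.reg.nil⟩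
    have hunit2 : IsUnit ((2 : F) • (1 : Matrix (Fin m ⊕ Fin m) (Fin m ⊕ Fin m) F)) := by
      have : IsUnit (algebraMap F (Matrix (Fin m ⊕ Fin m) (Fin m ⊕ Fin m) F) 2) :=
        (IsUnit.mk0 _ h2).map _
      rwa [Algebra.algebraMap_eq_smul_one] at this
    have hU1 : IsUnit (U + 1) := by
      have h3 : U + 1 = (2 : F) • (1 : Matrix (Fin m ⊕ Fin m) (Fin m ⊕ Fin m) F) + (U - 1) := by
        rw [two_smul]; abel
      rw [h3]
      apply hnilN.isUnit_add_left_of_commute hunit2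
      exact (Commute.one_right _).smul_right _
    have hU' : IsUnit (spAdj U) :=
      ⟨⟨spAdj U, U, spAdj_mul_self_of_mem h.mem,
        (mem_symplecticGroup_iff_mul_spAdj U).mp h.mem⟩, rfl⟩
    have hW : IsUnit (spAdj U * (U + 1)) := hU'.mul hU1
    rw [hfac, Matrix.mul_assoc] at hx'
    have hNx : (U - 1) * (x : Matrix (Fin m ⊕ Fin m) (Fin m ⊕ Fin m) F) = 0 := by
      obtain ⟨w, hw⟩ := hW
      have := congrArg (fun y => (↑w⁻¹ : Matrix (Fin m ⊕ Fin m) (Fin m ⊕ Fin m) F) * y) hx'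
      simp only [mul_zero] at this
      rw [← hw, ← Matrix.mul_assoc, Units.inv_mul, one_mul] at this
      exact this
    obtain ⟨t, ht⟩ := h.reg.annihilator (mem_cent_iff'.mp x.2) hNx
    refine ⟨t, ?_⟩
    apply Subtype.ext
    exact ht
  · exact h.finrank_cent

theorem card_skew [Fintype F] (h : IsRegUnipSp U) (h2 : (2 : F) ≠ 0) :
    Nat.card {x : cent U // adjHom h x = -x} = Fintype.card F ^ m := by
  have h1 : Nat.card {x : cent U // adjHom h x = -x} = Nat.card (SkewDim.skewPart (adjHom h)) := by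
    apply Nat.card_congr
    exact Equiv.subtypeEquivRight (fun x => (SkewDim.mem_skewPart (adjHom h) x).symm)
  rw [h1, Module.natCard_eq_pow_finrank (K := F), h.finrank_skew h2, Nat.card_eq_fintype_card]

theorem card_norm_one [Fintype F] (h : IsRegUnipSp U) (h2 : (2 : F) ≠ 0) :
    Nat.card {g : cent U // g * adjHom h g = 1} = 2 * Fintype.card F ^ m := by
  have hne : Nonempty (Fin m ⊕ Fin m) := by
    have := h.reg.pos
    exact ⟨Sum.inl ⟨0, by omega⟩⟩
  have hnt : Nontrivial (cent U) :=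
    ⟨⟨0, 1, fun h01 => zero_ne_one (α := Matrix (Fin m ⊕ Fin m) (Fin m ⊕ Fin m) F)
      (congrArg Subtype.val h01)⟩⟩
  have hfin : Finite (cent U) := inferInstance
  rw [InvNorm.card_norm_one (F := F) (R := cent U) h.exists_resid h2 (adjHom h), h.card_skew h2]

end IsRegUnipSp

end

end Cfsg.Agent.Lib.Helper43
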