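import Mathlib
import Cfsg.Agent.Lib.Helper43.SpRegCent

set_option autoImplicit false

/-!
Existence of a regular unipotent element in the symplectic group, odd characteristic.
-/

namespace Cfsg.Agent.Lib.Helper43

open Module Matrix

section shift

variable (F : Type*) [Field F] (m : ℕ)

/-- the shift matrix -/
def shiftM : Matrix (Fin m) (Fin m) F := Matrix.of fun i j => if (j : ℕ) = (i : ℕ) + 1 then 1 else 0

/-- the corner matrix -/
def cornerM : Matrix (Fin m) (Fin m) F :=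
  Matrix.of fun i j => if (i : ℕ) + 1 = m ∧ (j : ℕ) + 1 = m then 1 else 0

variable {F m}

theorem shiftM_mulVec_of_lt (x : Fin m → F) (i : Fin m) (h : (i : ℕ) + 1 < m) :
    (shiftM F m *ᵥ x) i = x ⟨(i : ℕ) + 1, h⟩ := by
  rw [Matrix.mulVec, dotProduct, Finset.sum_eq_single (⟨(i : ℕ) + 1, h⟩ : Fin m)]
  · simp [shiftM]
  · intro j _ hj
    have : (j : ℕ) ≠ (i : ℕ) + 1 := fun h' => hj (Fin.ext h')
    simp [shiftM, this]
  · intro h'; exact absurd (Finset.mem_univ _) h'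

theorem shiftM_mulVec_of_not_lt (x : Fin m → F) (i : Fin m) (h : ¬ (i : ℕ) + 1 < m) :
    (shiftM F m *ᵥ x) i = 0 := by
  rw [Matrix.mulVec, dotProduct]
  apply Finset.sum_eq_zero
  intro j _
  have : (j : ℕ) ≠ (i : ℕ) + 1 := by have := j.2; omega
  simp [shiftM, this]

theorem shiftM_pow_mulVec (k : ℕ) (x : Fin m → F) (i : Fin m) :
    ((shiftM F m ^ k) *ᵥ x) i = if h : (i : ℕ) + k < m then x ⟨(i : ℕ) + k, h⟩ else 0 := by
  induction k generalizing x i with
  | zero => simp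
  | succ k ih =>
    rw [pow_succ, ← Matrix.mulVec_mulVec, ih]
    by_cases h : (i : ℕ) + k < m
    · rw [dif_pos h]
      by_cases h' : (i : ℕ) + (k + 1) < m
      · rw [dif_pos h', shiftM_mulVec_of_lt _ _ (by simpa [add_assoc] using h')]
        rfl
      · rw [dif_neg h', shiftM_mulVec_of_not_lt _ _ (by simpa [add_assoc] using h')]
    · rw [dif_neg h, dif_neg (by omega)]

theorem shiftM_pow_eq_zero : shiftM F m ^ m = 0 := by
  apply Matrix.toLin'.injective
  apply LinearMap.ext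
  intro x
  rw [Matrix.toLin'_apply, map_zero, LinearMap.zero_apply]
  funext i
  rw [shiftM_pow_mulVec, dif_neg (by omega)]
  rfl

theorem shiftM_transpose_mulVec_succ (y : Fin m → F) (j : ℕ) (h : j + 1 < m) :
    ((shiftM F m)ᵀ *ᵥ y) ⟨j + 1, h⟩ = y ⟨j, by omega⟩ := by
  rw [Matrix.mulVec, dotProduct, Finset.sum_eq_single (⟨j, by omega⟩ : Fin m)]
  · simp [shiftM]
  · intro l _ hl
    have : j ≠ (l : ℕ) := fun h' => hl (Fin.ext h'.symm)
    simp [shiftM, this]
  · intro h'; exact absurd (Finset.mem_univ _) h'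

theorem cornerM_mulVec_last (y : Fin m → F) (i : Fin m) (h : (i : ℕ) + 1 = m) :
    (cornerM F m *ᵥ y) i = y i := by
  rw [Matrix.mulVec, dotProduct, Finset.sum_eq_single i]
  · simp [cornerM, h]
  · intro l _ hl
    have : (l : ℕ) + 1 ≠ m := by
      intro h'
      apply hl
      apply Fin.ext
      omega
    simp [cornerM, this]
  · intro h'; exact absurd (Finset.mem_univ _) h'

theorem cornerM_transpose : (cornerM F m)ᵀ = cornerM F m := by
  ext i j
  simp [cornerM, and_comm]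

end shift

section nil

variable (F : Type*) [Field F] (m : ℕ)

/-- a regular nilpotent element of the symplectic Lie algebra -/
def spNil : Matrix (Fin m ⊕ Fin m) (Fin m ⊕ Fin m) F :=
  fromBlocks (shiftM F m) (cornerM F m) 0 (-(shiftM F m)ᵀ)

variable {F m}

theorem spAdj_spNil : spAdj (spNil F m) = -spNil F m := by
  unfold spAdj spNil J
  rw [fromBlocks_transpose, fromBlocks_neg, fromBlocks_multiply, fromBlocks_multiply,
    fromBlocks_neg]
  simp [cornerM_transpose]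

theorem spNil_pow (k : ℕ) : ∃ X : Matrix (Fin m) (Fin m) F,
    spNil F m ^ k = fromBlocks (shiftM F m ^ k) X 0 ((-(shiftM F m)ᵀ) ^ k) := by
  induction k with
  | zero => exact ⟨0, by rw [pow_zero, pow_zero, pow_zero, fromBlocks_one]⟩
  | succ k ih =>
    obtain ⟨X, hX⟩ := ih
    refine ⟨shiftM F m ^ k * cornerM F m + X * (-(shiftM F m)ᵀ), ?_⟩
    rw [pow_succ, hX]
    unfold spNil
    rw [fromBlocks_multiply]
    simp [pow_succ]

theorem spNil_pow_eq_zero : spNil F m ^ (2 * m) = 0 := by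
  obtain ⟨X, hX⟩ := spNil_pow (F := F) (m := m) m
  have h1 : (-(shiftM F m)ᵀ) ^ m = 0 := by
    rw [neg_pow, ← Matrix.transpose_pow, shiftM_pow_eq_zero, transpose_zero, mul_zero]
  rw [shiftM_pow_eq_zero, h1] at hX
  rw [mul_comm, pow_mul, hX, pow_two, fromBlocks_multiply]
  simp

theorem spNil_mulVec_eq_zero {k : ℕ} (z : Fin (k + 1) ⊕ Fin (k + 1) → F)
    (hz : spNil F (k + 1) *ᵥ z = 0) :
    z = z (Sum.inl 0) • Pi.single (Sum.inl 0) 1 := by
  unfold spNil at hz
  rw [fromBlocks_mulVec] at hz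
  have hl : ∀ i : Fin (k + 1),
      (shiftM F (k + 1) *ᵥ (z ∘ Sum.inl)) i + (cornerM F (k + 1) *ᵥ (z ∘ Sum.inr)) i = 0 := by
    intro i
    have := congrFun hz (Sum.inl i)
    simpa using this
  have hr : ∀ i : Fin (k + 1), ((shiftM F (k + 1))ᵀ *ᵥ (z ∘ Sum.inr)) i = 0 := by
    intro i
    have := congrFun hz (Sum.inr i)
    simpa [Matrix.neg_mulVec] using this
  -- the second half vanishes
  have hy : ∀ j : Fin (k + 1), z (Sum.inr j) = 0 := by
    intro j
    by_cases hj : (j : ℕ) + 1 < k + 1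
    · have := hr ⟨(j : ℕ) + 1, hj⟩
      rw [shiftM_transpose_mulVec_succ] at this
      exact this
    · have hj' : (j : ℕ) + 1 = k + 1 := by have := j.2; omega
      have := hl j
      rw [shiftM_mulVec_of_not_lt _ _ hj, cornerM_mulVec_last _ _ hj', zero_add] at this
      exact this
  have hy' : cornerM F (k + 1) *ᵥ (z ∘ Sum.inr) = 0 := by
    have : z ∘ Sum.inr = 0 := funext hy
    rw [this, Matrix.mulVec_zero]
  -- the first half vanishes beyond the first coordinate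
  have hx : ∀ j : Fin (k + 1), (j : ℕ) ≠ 0 → z (Sum.inl j) = 0 := by
    intro j hj
    have hlt : ((j : ℕ) - 1) + 1 < k + 1 := by have := j.2; omega
    have := hl ⟨(j : ℕ) - 1, by omega⟩
    rw [hy', Pi.zero_apply, add_zero, shiftM_mulVec_of_lt _ _ hlt] at this
    have hj' : (⟨(j : ℕ) - 1 + 1, hlt⟩ : Fin (k + 1)) = j := Fin.ext (by simp; omega)
    rw [hj'] at this
    exact this
  funext i
  rcases i with i | i
  · by_cases hi : (i : ℕ) = 0
    · have : i = 0 := Fin.ext hi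
      subst this
      simp
    · have hne : i ≠ 0 := fun h => hi (by rw [h]; rfl)
      rw [hx i hi]
      simp [hne]
  · rw [hy i]
    simp

theorem spNil_isRegNilp (k : ℕ) : IsRegNilp (spNil F (k + 1)) (2 * (k + 1)) := by
  refine ⟨by rw [Fintype.card_sum, Fintype.card_fin, two_mul], by omega, spNil_pow_eq_zero, ?_⟩
  -- the kernel is one-dimensional
  have hker : finrank F (LinearMap.ker (Matrix.toLin' (spNil F (k + 1)))) = 1 := by
    have hle : LinearMap.ker (Matrix.toLin' (spNil F (k + 1))) ≤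
        F ∙ (Pi.single (Sum.inl 0) 1 : Fin (k + 1) ⊕ Fin (k + 1) → F) := by
      intro z hz
      rw [LinearMap.mem_ker, Matrix.toLin'_apply] at hz
      rw [spNil_mulVec_eq_zero z hz]
      exact Submodule.smul_mem _ _ (Submodule.mem_span_singleton_self _)
    have hge : F ∙ (Pi.single (Sum.inl 0) 1 : Fin (k + 1) ⊕ Fin (k + 1) → F) ≤
        LinearMap.ker (Matrix.toLin' (spNil F (k + 1))) := by
      rw [Submodule.span_singleton_le_iff_mem, LinearMap.mem_ker, Matrix.toLin'_apply,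
        Matrix.mulVec_single_one]
      funext i
      rcases i with i | i
      · simp [spNil, shiftM]
      · simp [spNil]
    rw [le_antisymm hle hge, finrank_span_singleton]
    intro h
    have := congrFun h (Sum.inl 0)
    simp at this
  have h1 := LinearMap.finrank_range_add_finrank_ker (Matrix.toLin' (spNil F (k + 1)))
  rw [hker, Module.finrank_fintype_fun_eq_card, Fintype.card_sum, Fintype.card_fin] at h1
  rw [Matrix.rank, ← Matrix.toLin'_apply']
  omega

end nil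

section cayley

variable {F : Type*} [Field F] {m : ℕ}

/-- the Cayley transform of a regular nilpotent skew-adjoint matrix is a regular unipotent
symplectic matrix -/
theorem exists_isRegUnipSp_of_skew (h2 : (2 : F) ≠ 0)
    (N₀ : Matrix (Fin m ⊕ Fin m) (Fin m ⊕ Fin m) F) (hskew : spAdj N₀ = -N₀)
    (hreg : IsRegNilp N₀ (2 * m)) :
    ∃ U : Matrix (Fin m ⊕ Fin m) (Fin m ⊕ Fin m) F, IsRegUnipSp U := by
  have hnil : IsNilpotent N₀ := ⟨2 * m, hreg.nil⟩
  obtain ⟨uP, huP⟩ := hnil.isUnit_one_add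
  obtain ⟨uQ, huQ⟩ := hnil.isUnit_one_sub
  have hcommPQ : Commute (uP : Matrix (Fin m ⊕ Fin m) (Fin m ⊕ Fin m) F) uQ := by
    rw [huP, huQ]
    show (1 + N₀) * (1 - N₀) = (1 - N₀) * (1 + N₀)
    noncomm_ring
  have hcomm : Commute uP uQ := Units.ext hcommPQ.eq
  have hcommN : Commute N₀ ((uQ⁻¹ : (Matrix (Fin m ⊕ Fin m) (Fin m ⊕ Fin m) F)ˣ) :
      Matrix (Fin m ⊕ Fin m) (Fin m ⊕ Fin m) F) := by
    apply Commute.units_inv_right
    rw [huQ]
    exact (Commute.one_right _).sub_right (Commute.refl N₀)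
  have hadjP : spAdj (uP : Matrix (Fin m ⊕ Fin m) (Fin m ⊕ Fin m) F) = uQ := by
    rw [huP, huQ, spAdj_add, spAdj_one, hskew, sub_eq_add_neg]
  have hadjQ : spAdj (uQ : Matrix (Fin m ⊕ Fin m) (Fin m ⊕ Fin m) F) = uP := by
    rw [huP, huQ, spAdj_sub, spAdj_one, hskew, sub_neg_eq_add]
  have hadjQi : spAdj ((uQ⁻¹ : (Matrix (Fin m ⊕ Fin m) (Fin m ⊕ Fin m) F)ˣ) :
      Matrix (Fin m ⊕ Fin m) (Fin m ⊕ Fin m) F) =
      ((uP⁻¹ : (Matrix (Fin m ⊕ Fin m) (Fin m ⊕ Fin m) F)ˣ) :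
        Matrix (Fin m ⊕ Fin m) (Fin m ⊕ Fin m) F) := by
    apply Units.eq_inv_of_mul_eq_one_left
    rw [← hadjQ, ← spAdj_mul, Units.inv_mul, spAdj_one]
  refine ⟨((uP * uQ⁻¹ : (Matrix (Fin m ⊕ Fin m) (Fin m ⊕ Fin m) F)ˣ) :
      Matrix (Fin m ⊕ Fin m) (Fin m ⊕ Fin m) F), ?_, ?_⟩
  · rw [mem_symplecticGroup_iff_mul_spAdj, Units.val_mul, spAdj_mul, hadjQi, hadjP]
    have h1 : uP * uQ⁻¹ * (uP⁻¹ * uQ) = 1 := by
      rw [hcomm.inv_right.eq]
      group
    have := congrArg Units.val h1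
    simpa [Units.val_mul] using this
  · have hU1 : ((uP * uQ⁻¹ : (Matrix (Fin m ⊕ Fin m) (Fin m ⊕ Fin m) F)ˣ) :
        Matrix (Fin m ⊕ Fin m) (Fin m ⊕ Fin m) F) - 1 =
        N₀ * ((2 : F) • ((uQ⁻¹ : (Matrix (Fin m ⊕ Fin m) (Fin m ⊕ Fin m) F)ˣ) :
          Matrix (Fin m ⊕ Fin m) (Fin m ⊕ Fin m) F)) := by
      have h3 : (1 : Matrix (Fin m ⊕ Fin m) (Fin m ⊕ Fin m) F) =
          (uQ : Matrix (Fin m ⊕ Fin m) (Fin m ⊕ Fin m) F) *
            ((uQ⁻¹ : (Matrix (Fin m ⊕ Fin m) (Fin m ⊕ Fin m) F)ˣ) :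
              Matrix (Fin m ⊕ Fin m) (Fin m ⊕ Fin m) F) := by
        rw [Units.mul_inv]
      rw [Units.val_mul]
      nth_rewrite 1 [h3]
      rw [← sub_mul, huP, huQ, Matrix.mul_smul, ← Matrix.smul_mul]
      congr 1
      rw [two_smul]
      abel
    have hWdet : IsUnit ((2 : F) • ((uQ⁻¹ : (Matrix (Fin m ⊕ Fin m) (Fin m ⊕ Fin m) F)ˣ) :
          Matrix (Fin m ⊕ Fin m) (Fin m ⊕ Fin m) F)).det := by
      rw [Matrix.det_smul]
      apply IsUnit.mul
      · exact (IsUnit.mk0 _ h2).pow _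
      · exact (Matrix.isUnit_iff_isUnit_det _).mp (Units.isUnit _)
    refine ⟨hreg.card, hreg.pos, ?_, ?_⟩
    · rw [hU1, (hcommN.smul_right _).mul_pow, hreg.nil, zero_mul]
    · rw [hU1, Matrix.rank_mul_eq_left_of_isUnit_det _ _ hWdet, hreg.rank]

/-- existence of a regular unipotent symplectic matrix in odd characteristic -/
theorem exists_isRegUnipSp (h2 : (2 : F) ≠ 0) (hm : 1 ≤ m) :
    ∃ U : Matrix (Fin m ⊕ Fin m) (Fin m ⊕ Fin m) F, IsRegUnipSp U := by
  obtain ⟨k, rfl⟩ : ∃ k, m = k + 1 := ⟨m - 1, by omega⟩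
  exact exists_isRegUnipSp_of_skew h2 (spNil F (k + 1)) spAdj_spNil (spNil_isRegNilp k)

end cayley

end Cfsg.Agent.Lib.Helper43
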