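import Mathlib
import Cfsg.Agent.Lib.Helper43.SpRegExists

set_option autoImplicit false

/-!
The symplectic conjugacy classes of regular unipotent elements, odd characteristic.
-/

namespace Cfsg.Agent.Lib.Helper43

open Module Matrix

section conj

variable {ι : Type*} [Fintype ι] [DecidableEq ι] {F : Type*} [Field F]

theorem conj_pow (P P' N : Matrix ι ι F) (hPP' : P' * P = 1) (k : ℕ) :
    (P * N * P') ^ k = P * N ^ k * P' ∨ k = 0 := by
  induction k with
  | zero => right; rfl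
  | succ k ih =>
    left
    rcases ih with ih | rfl
    · rw [pow_succ, ih, pow_succ]
      calc P * N ^ k * P' * (P * N * P') = P * N ^ k * (P' * P) * N * P' := by
            simp only [Matrix.mul_assoc]
        _ = _ := by rw [hPP', mul_one]; simp only [Matrix.mul_assoc]
    · rw [pow_one, pow_one]

/-- regular nilpotency is invariant under conjugation -/
theorem IsRegNilp.conj {N : Matrix ι ι F} {n : ℕ} (h : IsRegNilp N n) (P P' : Matrix ι ι F)
    (hPP' : P * P' = 1) : IsRegNilp (P * N * P') n := by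
  have hP'P : P' * P = 1 := mul_eq_one_comm.mp hPP'
  have hPdet : IsUnit P.det := (Matrix.isUnit_iff_isUnit_det _).mp ⟨⟨P, P', hPP', hP'P⟩, rfl⟩
  have hP'det : IsUnit P'.det := (Matrix.isUnit_iff_isUnit_det _).mp ⟨⟨P', P, hP'P, hPP'⟩, rfl⟩
  refine ⟨h.card, h.pos, ?_, ?_⟩
  · rcases conj_pow P P' N hP'P n with h1 | h1
    · rw [h1, h.nil, mul_zero, zero_mul]
    · have := h.pos; omega
  · rw [Matrix.rank_mul_eq_left_of_isUnit_det _ _ hP'det,
      Matrix.rank_mul_eq_right_of_isUnit_det _ _ hPdet, h.rank]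

/-- two regular nilpotent matrices are conjugate -/
theorem IsRegNilp.exists_conj {N N' : Matrix ι ι F} {n : ℕ} (h : IsRegNilp N n)
    (h' : IsRegNilp N' n) :
    ∃ P P' : Matrix ι ι F, P * P' = 1 ∧ P' * P = 1 ∧ P * N = N' * P := by
  obtain ⟨v, hv⟩ := h.exists_cyclic
  obtain ⟨v', hv'⟩ := h'.exists_cyclic
  obtain ⟨A, hA, -⟩ := exists_equiv_conj (Matrix.toLin' N) (Matrix.toLin' N') n h.pos
    h.finrank_fun h.toLin_pow h'.toLin_pow v v' hv hv'
  refine ⟨LinearMap.toMatrix' A.toLinearMap, LinearMap.toMatrix' A.symm.toLinearMap, ?_, ?_, ?_⟩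
  · rw [← LinearMap.toMatrix'_comp, LinearEquiv.comp_symm, LinearMap.toMatrix'_id]
  · rw [← LinearMap.toMatrix'_comp, LinearEquiv.symm_comp, LinearMap.toMatrix'_id]
  · apply Matrix.toLin'.injective
    rw [Matrix.toLin'_mul, Matrix.toLin'_mul, Matrix.toLin'_toMatrix']
    exact hA

end conj

section simil

variable {F : Type*} [Field F] {m : ℕ}

/-- conjugation by a similitude preserves the symplectic group -/
theorem similitude_conj_mem {U h : Matrix (Fin m ⊕ Fin m) (Fin m ⊕ Fin m) F}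
    (hU : U ∈ symplecticGroup (Fin m) F) {c : F} (hc : c ≠ 0)
    (hh : h * spAdj h = c • (1 : Matrix (Fin m ⊕ Fin m) (Fin m ⊕ Fin m) F)) :
    h * U * (c⁻¹ • spAdj h) ∈ symplecticGroup (Fin m) F := by
  have hinv : h * (c⁻¹ • spAdj h) = 1 := by
    rw [Matrix.mul_smul, hh, smul_smul, inv_mul_cancel₀ hc, one_smul]
  have hinv' : (c⁻¹ • spAdj h) * h = 1 := mul_eq_one_comm.mp hinv
  have hh' : spAdj h * h = c • (1 : Matrix (Fin m ⊕ Fin m) (Fin m ⊕ Fin m) F) := by
    rw [Matrix.smul_mul] at hinv'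
    have := congrArg (fun X => c • X) hinv'
    simp only [smul_smul, mul_inv_cancel₀ hc, one_smul] at this
    exact this
  rw [mem_symplecticGroup_iff_mul_spAdj, spAdj_mul, spAdj_mul, spAdj_smul, spAdj_spAdj]
  have hUU := (mem_symplecticGroup_iff_mul_spAdj U).mp hU
  calc h * U * (c⁻¹ • spAdj h) * (c⁻¹ • h * (spAdj U * spAdj h))
      = (c⁻¹ * c⁻¹) • (h * U * (spAdj h * h) * spAdj U * spAdj h) := by
        simp only [Matrix.mul_smul, Matrix.smul_mul, smul_smul, Matrix.mul_assoc]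
    _ = (c⁻¹ * c⁻¹ * c) • (h * (U * spAdj U) * spAdj h) := by
        rw [hh']
        simp only [Matrix.mul_smul, Matrix.smul_mul, smul_smul, Matrix.mul_assoc, mul_one,
          one_mul]
    _ = 1 := by
        rw [hUU, mul_one, hh, smul_smul]
        have : c⁻¹ * c⁻¹ * c * c = 1 := by field_simp
        rw [this, one_smul]

end simil

section classes

variable {F : Type*} [Field F] {m : ℕ}

theorem IsRegUnipSp.nontrivial_cent {U : Matrix (Fin m ⊕ Fin m) (Fin m ⊕ Fin m) F}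
    (h : IsRegUnipSp U) : Nontrivial (cent U) := by
  have hne : Nonempty (Fin m ⊕ Fin m) := by
    have := h.reg.pos
    exact ⟨Sum.inl ⟨0, by omega⟩⟩
  exact ⟨⟨0, 1, fun h01 => zero_ne_one (α := Matrix (Fin m ⊕ Fin m) (Fin m ⊕ Fin m) F)
    (congrArg Subtype.val h01)⟩⟩

/-- every regular unipotent symplectic matrix is symplectically conjugate to `U₀` or to its
conjugate under a similitude with non-square multiplier -/
theorem exists_sp_conj [Fintype F] [DecidableEq F] (h2 : (2 : F) ≠ 0)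
    {U₀ U : Matrix (Fin m ⊕ Fin m) (Fin m ⊕ Fin m) F} (hR₀ : IsRegUnipSp U₀)
    (hR : IsRegUnipSp U) {ε : F} (hε : ¬ IsSquare ε)
    (h₀ : Matrix (Fin m ⊕ Fin m) (Fin m ⊕ Fin m) F)
    (hh : h₀ * spAdj h₀ = ε • (1 : Matrix (Fin m ⊕ Fin m) (Fin m ⊕ Fin m) F)) :
    (∃ k ∈ symplecticGroup (Fin m) F, k * U₀ = U * k) ∨
    (∃ k ∈ symplecticGroup (Fin m) F, k * (h₀ * U₀ * (ε⁻¹ • spAdj h₀)) = U * k) := by
  haveI : Fact (∀ a ∈ cent U₀, ∀ b ∈ cent U₀, a * b = b * a) := ⟨hR₀.comm⟩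
  haveI := hR₀.nontrivial_cent
  have hε0 : ε ≠ 0 := by
    rintro rfl
    exact hε ⟨0, by simp⟩
  obtain ⟨h, hi, hhi, hih, hconj⟩ := hR₀.reg.exists_conj hR.reg
  have hconjU : h * U₀ = U * h := by
    rw [mul_sub, sub_mul, mul_one, one_mul] at hconj
    exact sub_left_inj.mp hconj
  -- the symmetric unit S
  have hSmem : spAdj h * h ∈ cent U₀ := by
    rw [mem_cent_iff]
    have h1 : spAdj h * spAdj U = spAdj U₀ * spAdj h := by
      rw [← spAdj_mul, ← spAdj_mul, hconjU]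
    have h3 : U₀ * spAdj h = spAdj h * U := by
      calc U₀ * spAdj h = U₀ * spAdj h * (spAdj U * U) := by
            rw [spAdj_mul_self_of_mem hR.mem, mul_one]
        _ = U₀ * (spAdj h * spAdj U) * U := by simp only [Matrix.mul_assoc]
        _ = (U₀ * spAdj U₀) * spAdj h * U := by rw [h1]; simp only [Matrix.mul_assoc]
        _ = _ := by rw [(mem_symplecticGroup_iff_mul_spAdj U₀).mp hR₀.mem, one_mul]
    calc U₀ * (spAdj h * h) = (U₀ * spAdj h) * h := by rw [Matrix.mul_assoc]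
      _ = spAdj h * (U * h) := by rw [h3, Matrix.mul_assoc]
      _ = _ := by rw [← hconjU, Matrix.mul_assoc]
  set S : cent U₀ := ⟨spAdj h * h, hSmem⟩ with hSdef
  have hσS : IsRegUnipSp.adjHom hR₀ S = S := by
    apply Subtype.ext
    rw [IsRegUnipSp.adjHom_coe]
    show spAdj (spAdj h * h) = spAdj h * h
    rw [spAdj_mul, spAdj_spAdj]
  have hSunitM : IsUnit (spAdj h * h) := by
    refine ⟨⟨spAdj h * h, hi * spAdj hi, ?_, ?_⟩, rfl⟩
    · calc spAdj h * h * (hi * spAdj hi) = spAdj h * (h * hi) * spAdj hi := by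
            simp only [Matrix.mul_assoc]
        _ = 1 := by rw [hhi, mul_one, ← spAdj_mul, hih, spAdj_one]
    · calc hi * spAdj hi * (spAdj h * h) = hi * (spAdj hi * spAdj h) * h := by
            simp only [Matrix.mul_assoc]
        _ = 1 := by rw [← spAdj_mul, hhi, spAdj_one, mul_one, hih]
  have hne : Nonempty (Fin m ⊕ Fin m) := by
    have := hR₀.reg.pos
    exact ⟨Sum.inl ⟨0, by omega⟩⟩
  have hSunit : IsUnit S := by
    rw [InvNorm.isUnit_iff_resid_ne_zero hR₀.exists_resid]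
    intro h0
    have hnil := (InvNorm.resid_eq_zero_iff hR₀.exists_resid S).mp h0
    have hnilM : IsNilpotent (spAdj h * h) := by
      obtain ⟨k, hk⟩ := hnil
      refine ⟨k, ?_⟩
      have := congrArg Subtype.val hk
      rwa [Subalgebra.coe_pow] at this
    exact hSunitM.not_isNilpotent hnilM
  have hc0 : InvNorm.resid hR₀.exists_resid S ≠ 0 :=
    (InvNorm.isUnit_iff_resid_ne_zero hR₀.exists_resid S).mp hSunit
  by_cases hsq : IsSquare (InvNorm.resid hR₀.exists_resid S)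
  · left
    obtain ⟨g, hg⟩ := InvNorm.exists_norm_mul_eq hR₀.exists_resid h2 (IsRegUnipSp.adjHom hR₀) hσS
      hSunit (a := 1) one_ne_zero (by rwa [one_mul])
    have hg1 : IsRegUnipSp.adjHom hR₀ g * S * g = 1 := by
      rw [map_one] at hg
      rw [← hg]; ring
    have hg1M : spAdj (g : Matrix (Fin m ⊕ Fin m) (Fin m ⊕ Fin m) F) * (spAdj h * h) *
        (g : Matrix (Fin m ⊕ Fin m) (Fin m ⊕ Fin m) F) = 1 := congrArg Subtype.val hg1
    refine ⟨h * g, ?_, ?_⟩
    · rw [mem_symplecticGroup_iff_mul_spAdj]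
      apply mul_eq_one_comm.mp
      rw [spAdj_mul, ← hg1M]
      simp only [Matrix.mul_assoc]
    · rw [Matrix.mul_assoc, ← mem_cent_iff.mp g.2, ← Matrix.mul_assoc, hconjU, Matrix.mul_assoc]
  · right
    have hsq' : IsSquare (ε * InvNorm.resid hR₀.exists_resid S) := by
      rw [← quadraticChar_one_iff_isSquare (mul_ne_zero hε0 hc0), map_mul,
        quadraticChar_neg_one_iff_not_isSquare.mpr hε,
        quadraticChar_neg_one_iff_not_isSquare.mpr hsq]
      norm_num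
    obtain ⟨g, hg⟩ := InvNorm.exists_norm_mul_eq hR₀.exists_resid h2 (IsRegUnipSp.adjHom hR₀) hσS
      hSunit (a := ε) hε0 hsq'
    have hg1 : IsRegUnipSp.adjHom hR₀ g * S * g = algebraMap F (cent U₀) ε := by
      rw [← hg]; ring
    have hg1M : spAdj (g : Matrix (Fin m ⊕ Fin m) (Fin m ⊕ Fin m) F) * (spAdj h * h) *
        (g : Matrix (Fin m ⊕ Fin m) (Fin m ⊕ Fin m) F) =
        ε • (1 : Matrix (Fin m ⊕ Fin m) (Fin m ⊕ Fin m) F) := by
      have := congrArg Subtype.val hg1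
      rw [Subalgebra.coe_algebraMap, Algebra.algebraMap_eq_smul_one] at this
      exact this
    have hinv : h₀ * (ε⁻¹ • spAdj h₀) = 1 := by
      rw [Matrix.mul_smul, hh, smul_smul, inv_mul_cancel₀ hε0, one_smul]
    have hinv' : (ε⁻¹ • spAdj h₀) * h₀ = 1 := mul_eq_one_comm.mp hinv
    refine ⟨h * g * (ε⁻¹ • spAdj h₀), ?_, ?_⟩
    · rw [mem_symplecticGroup_iff_mul_spAdj]
      apply mul_eq_one_comm.mp
      rw [spAdj_mul, spAdj_mul, spAdj_smul, spAdj_spAdj]
      calc ε⁻¹ • h₀ * (spAdj (g : Matrix (Fin m ⊕ Fin m) (Fin m ⊕ Fin m) F) * spAdj h) *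
            (h * g * (ε⁻¹ • spAdj h₀))
          = (ε⁻¹ * ε⁻¹) • (h₀ * (spAdj (g : Matrix (Fin m ⊕ Fin m) (Fin m ⊕ Fin m) F) *
              (spAdj h * h) * g) * spAdj h₀) := by
            simp only [Matrix.mul_smul, Matrix.smul_mul, smul_smul, Matrix.mul_assoc]
        _ = 1 := by
            rw [hg1M, Matrix.mul_smul, Matrix.smul_mul, mul_one, hh, smul_smul, smul_smul]
            have : ε⁻¹ * ε⁻¹ * ε * ε = 1 := by field_simp
            rw [this, one_smul]
    · calc h * g * (ε⁻¹ • spAdj h₀) * (h₀ * U₀ * (ε⁻¹ • spAdj h₀))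
          = h * g * ((ε⁻¹ • spAdj h₀) * h₀) * U₀ * (ε⁻¹ • spAdj h₀) := by
            simp only [Matrix.mul_assoc]
        _ = h * (g * U₀) * (ε⁻¹ • spAdj h₀) := by
            rw [hinv', mul_one]; simp only [Matrix.mul_assoc]
        _ = (h * U₀) * g * (ε⁻¹ • spAdj h₀) := by
            rw [← mem_cent_iff.mp g.2]; simp only [Matrix.mul_assoc]
        _ = _ := by rw [hconjU]; simp only [Matrix.mul_assoc]

/-- `U₀` and its conjugate under a similitude with non-square multiplier are not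
symplectically conjugate -/
theorem not_sp_conj [Fintype F] [DecidableEq F]
    {U₀ : Matrix (Fin m ⊕ Fin m) (Fin m ⊕ Fin m) F} (hR₀ : IsRegUnipSp U₀)
    {ε : F} (hε : ¬ IsSquare ε)
    (h₀ : Matrix (Fin m ⊕ Fin m) (Fin m ⊕ Fin m) F)
    (hh : h₀ * spAdj h₀ = ε • (1 : Matrix (Fin m ⊕ Fin m) (Fin m ⊕ Fin m) F))
    (k : Matrix (Fin m ⊕ Fin m) (Fin m ⊕ Fin m) F) (hk : k ∈ symplecticGroup (Fin m) F)
    (hconj : k * U₀ = (h₀ * U₀ * (ε⁻¹ • spAdj h₀)) * k) : False := by
  haveI : Fact (∀ a ∈ cent U₀, ∀ b ∈ cent U₀, a * b = b * a) := ⟨hR₀.comm⟩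
  haveI := hR₀.nontrivial_cent
  have hε0 : ε ≠ 0 := by
    rintro rfl
    exact hε ⟨0, by simp⟩
  have hinv : h₀ * (ε⁻¹ • spAdj h₀) = 1 := by
    rw [Matrix.mul_smul, hh, smul_smul, inv_mul_cancel₀ hε0, one_smul]
  have hinv' : (ε⁻¹ • spAdj h₀) * h₀ = 1 := mul_eq_one_comm.mp hinv
  have hh' : spAdj h₀ * h₀ = ε • (1 : Matrix (Fin m ⊕ Fin m) (Fin m ⊕ Fin m) F) := by
    rw [Matrix.smul_mul] at hinv'
    have := congrArg (fun X => ε • X) hinv'
    simp only [smul_smul, mul_inv_cancel₀ hε0, one_smul] at this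
    exact this
  -- g = h₀⁻¹ k commutes with U₀
  have hgmem : (ε⁻¹ • spAdj h₀) * k ∈ cent U₀ := by
    rw [mem_cent_iff]
    calc U₀ * ((ε⁻¹ • spAdj h₀) * k)
        = ((ε⁻¹ • spAdj h₀) * h₀) * U₀ * ((ε⁻¹ • spAdj h₀) * k) := by rw [hinv', one_mul]
      _ = (ε⁻¹ • spAdj h₀) * ((h₀ * U₀ * (ε⁻¹ • spAdj h₀)) * k) := by
          simp only [Matrix.mul_assoc]
      _ = _ := by rw [← hconj]; simp only [Matrix.mul_assoc]
  set g : cent U₀ := ⟨(ε⁻¹ • spAdj h₀) * k, hgmem⟩ with hgdef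
  have hkg : k = h₀ * ((ε⁻¹ • spAdj h₀) * k) := by
    rw [← Matrix.mul_assoc, hinv, one_mul]
  -- ε σ(g) g = 1
  have hnorm : ε • (IsRegUnipSp.adjHom hR₀ g * g) = 1 := by
    apply Subtype.ext
    rw [Subalgebra.coe_smul, Subalgebra.coe_mul, IsRegUnipSp.adjHom_coe, Subalgebra.coe_one]
    show ε • (spAdj ((ε⁻¹ • spAdj h₀) * k) * ((ε⁻¹ • spAdj h₀) * k)) = 1
    have hk1 : spAdj k * k = 1 := spAdj_mul_self_of_mem hk
    generalize (ε⁻¹ • spAdj h₀) * k = B at hkg ⊢
    rw [hkg, spAdj_mul] at hk1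
    rw [← hk1]
    calc ε • (spAdj B * B)
        = spAdj B * (ε • (1 : Matrix (Fin m ⊕ Fin m) (Fin m ⊕ Fin m) F)) * B := by
          rw [Matrix.mul_smul, mul_one, Matrix.smul_mul]
      _ = _ := by rw [← hh']; simp only [Matrix.mul_assoc]
  have hres := congrArg (InvNorm.resid hR₀.exists_resid) hnorm
  rw [InvNorm.resid_smul, InvNorm.resid_mul, InvNorm.resid_map, InvNorm.resid_one] at hres
  apply hε
  set c := InvNorm.resid hR₀.exists_resid g with hc
  have hc0 : c ≠ 0 := by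
    rintro h0
    rw [h0] at hres
    simp at hres
  refine ⟨c⁻¹, ?_⟩
  field_simp
  linear_combination hres

end classes

end Cfsg.Agent.Lib.Helper43
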