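import Cfsg.Agent.Lib.Helper21.Lq.Defs

/-! # Lq hive (S2333, helper21), leaf ARITH: closed form of the Landazuri-Seitz bound `Tq`. -/

set_option autoImplicit false

namespace Cfsg.Agent.Lib.Helper21.Lq

/-- `2 * (Q (Q - 1) / 2) = Q (Q - 1)` -/
theorem arith_even (Q : ℕ) : 2 * (Q * (Q - 1) / 2) = Q * (Q - 1) := by
  apply Nat.mul_div_cancel'
  rcases Nat.even_or_odd Q with h | h
  · exact Dvd.dvd.mul_right h.two_dvd _
  · apply Dvd.dvd.mul_left
    obtain ⟨k, hk⟩ := h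
    exact ⟨k, by omega⟩

/-- the closed form, over `ℤ`, without division -/
theorem arith_key (q : ℕ) (hq : 1 ≤ q) (n : ℕ) :
    (2 * ((q : ℤ) + 1) * (Tq q n : ℤ)) = ((q : ℤ) ^ n - 1) * ((q : ℤ) ^ n - q) := by
  induction n with
  | zero => simp [Tq]
  | succ n ih =>
    have hQ : 1 ≤ q ^ n := Nat.one_le_pow _ _ hq
    have hstep : Tq q (n + 1) = (q - 1) * (q ^ n * (q ^ n - 1) / 2) + Tq q n := rfl
    have hD := arith_even (q ^ n)
    generalize q ^ n * (q ^ n - 1) / 2 = D at hstep hD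
    have h2 : (D : ℤ) * 2 = (q : ℤ) ^ n * ((q : ℤ) ^ n - 1) := by
      have h3 : ((2 * D : ℕ) : ℤ) = ((q ^ n * (q ^ n - 1) : ℕ) : ℤ) := by rw [hD]
      push_cast [hQ] at h3
      linarith
    rw [hstep]
    push_cast [hq]
    have h4 : 2 * ((q : ℤ) + 1) * (((q : ℤ) - 1) * (D : ℤ) + (Tq q n : ℤ))
        = ((q : ℤ) + 1) * ((q : ℤ) - 1) * ((D : ℤ) * 2) + 2 * ((q : ℤ) + 1) * (Tq q n : ℤ) := by ring
    rw [h4, h2, ih]
    ring

/-- ARITH -/
theorem Tq_eq (q : ℕ) (hq : 2 ≤ q) (n : ℕ) :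
    Tq q n = (q ^ n - 1) * (q ^ n - q) / (2 * (q + 1)) := by
  rcases Nat.eq_zero_or_pos n with rfl | hn
  · simp [Tq]
  · have hq1 : 1 ≤ q := by omega
    have hQ : 1 ≤ q ^ n := Nat.one_le_pow _ _ hq1
    have hQq : q ≤ q ^ n := by
      calc q = q ^ 1 := (pow_one q).symm
        _ ≤ q ^ n := Nat.pow_le_pow_right hq1 hn
    have key := arith_key q hq1 n
    have hnat : 2 * (q + 1) * Tq q n = (q ^ n - 1) * (q ^ n - q) := by
      have : ((2 * (q + 1) * Tq q n : ℕ) : ℤ) = (((q ^ n - 1) * (q ^ n - q) : ℕ) : ℤ) := by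
        push_cast [hQ, hQq]
        exact key
      exact_mod_cast this
    rw [← hnat]
    exact (Nat.mul_div_cancel_left _ (by omega)).symm

end Cfsg.Agent.Lib.Helper21.Lq
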