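import Cfsg.Agent.Lib.Helper21.Lq.Defs
import Cfsg.Agent.Lib.Helper13.SpParabolic

/-! # Lq hive (S2333, helper21), leaf C-EMAT: toolkit for the Siegel / Eichler elements
`E(w,c) : x ↦ x + f(x,e)(w + c e) + f(x,w) e` (`f(w,e) = 0`). -/

set_option autoImplicit false

namespace Cfsg.Agent.Lib.Helper21.Lq

open Module Cfsg.Agent.Lib.Helper6.Ls Cfsg.Agent.Lib.Helper13

section concrete

variable {F : Type*} [Field F] [Fintype F]

theorem Emat_mulVec {m : ℕ} (e w : Vec F m) (c : F) (x : Vec F m) :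
    Matrix.mulVec (Emat e w c) x =
      x + Cfsg.sympForm m F x e • (w + c • e) + Cfsg.sympForm m F x w • e := by
  unfold Emat
  rw [Matrix.add_mulVec, Matrix.add_mulVec, Matrix.one_mulVec, Matrix.vecMulVec_mulVec,
    Matrix.vecMulVec_mulVec, sympForm_def, sympForm_def, dotProduct_comm x, dotProduct_comm x]
  ext i
  simp only [Pi.add_apply, Pi.smul_apply, smul_eq_mul, MulOpposite.smul_eq_mul_unop,
    MulOpposite.unop_op]
  ring

/-- `E(w,c)` preserves the form when `f(w,e) = 0` -/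
theorem cemat_preserves {m : ℕ} (e w : Vec F m) (hwe : Cfsg.sympForm m F w e = 0) (c : F)
    (x y : Vec F m) :
    Cfsg.sympForm m F (Matrix.mulVec (Emat e w c) x) (Matrix.mulVec (Emat e w c) y) =
      Cfsg.sympForm m F x y := by
  have hew : Cfsg.sympForm m F e w = 0 := by rw [sympForm_swap, hwe, neg_zero]
  rw [Emat_mulVec, Emat_mulVec]
  simp only [sympForm_add_left, sympForm_add_right, sympForm_smul_left, sympForm_smul_right,
    sympForm_self, hwe, hew]
  rw [sympForm_swap m w y, sympForm_swap m e y]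
  ring

theorem cemat_mem {m : ℕ} (e w : Vec F m) (hwe : Cfsg.sympForm m F w e = 0) (c : F) :
    Emat e w c ∈ Matrix.symplecticGroup (Fin m) F :=
  mem_symplectic_of_preserves m _ (cemat_preserves e w hwe c)

theorem coe_Eelt [CharP F 2] {m : ℕ} (e w : Vec F m) (hwe : Cfsg.sympForm m F w e = 0) (c : F) :
    ((Eelt e w c : Spg F m) : Matrix (Fin m ⊕ Fin m) (Fin m ⊕ Fin m) F) = Emat e w c := by
  unfold Eelt
  rw [dif_pos (cemat_mem e w hwe c)]

omit [Fintype F] in
/-- two symplectic elements with the same action on vectors are equal -/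
theorem cemat_ext {m : ℕ} (g h : Spg F m)
    (hgh : ∀ x : Vec F m, Matrix.mulVec (g : Matrix (Fin m ⊕ Fin m) (Fin m ⊕ Fin m) F) x =
      Matrix.mulVec (h : Matrix (Fin m ⊕ Fin m) (Fin m ⊕ Fin m) F) x) : g = h :=
  Subtype.ext (Matrix.ext_iff_mulVec.mpr hgh)

omit [Fintype F] in
theorem cemat_coe_mul {m : ℕ} (g h : Spg F m) :
    ((g * h : Spg F m) : Matrix (Fin m ⊕ Fin m) (Fin m ⊕ Fin m) F) =
      (g : Matrix (Fin m ⊕ Fin m) (Fin m ⊕ Fin m) F) * (h : Matrix _ _ F) := rfl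

theorem Eelt_mul [CharP F 2] {m : ℕ} (e w w' : Vec F m) (hwe : Cfsg.sympForm m F w e = 0)
    (hw'e : Cfsg.sympForm m F w' e = 0) (c c' : F) :
    Eelt e w c * Eelt e w' c' = Eelt e (w + w') (c + c' + Cfsg.sympForm m F w' w) := by
  have hew : Cfsg.sympForm m F e w = 0 := by rw [sympForm_swap, hwe, neg_zero]
  have hsum : Cfsg.sympForm m F (w + w') e = 0 := by
    rw [sympForm_add_left, hwe, hw'e, add_zero]
  apply cemat_ext
  intro x
  rw [cemat_coe_mul, coe_Eelt e w hwe, coe_Eelt e w' hw'e, coe_Eelt e (w + w') hsum,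
    ← Matrix.mulVec_mulVec, Emat_mulVec, Emat_mulVec, Emat_mulVec]
  simp only [sympForm_add_left, sympForm_add_right, sympForm_smul_left,
    sympForm_self, hw'e, hew]
  ext i
  simp only [Pi.add_apply, Pi.smul_apply, smul_eq_mul]
  ring

theorem Eelt_zero_eq [CharP F 2] {m : ℕ} (e : Vec F m) (c : F) :
    Eelt e 0 c = sympTransvElt m e c := by
  apply cemat_ext
  intro x
  rw [coe_Eelt e 0 (sympForm_zero_left m e), coe_sympTransvElt, Emat_mulVec,
    sympTransvection_mulVec, sympForm_zero_right, zero_smul, add_zero, zero_add, smul_smul,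
    mul_comm]

/-- conjugating `E(w,c)` by a symplectic `g` with `g e = a e`: `g E(w,c) g⁻¹ = E(a • g w, a² c)`. -/
theorem conj_Eelt [CharP F 2] {m : ℕ} (e w : Vec F m) (hwe : Cfsg.sympForm m F w e = 0) (c : F)
    (g : Spg F m) (a : F)
    (hge : Matrix.mulVec (g : Matrix (Fin m ⊕ Fin m) (Fin m ⊕ Fin m) F) e = a • e) :
    g * Eelt e w c * g⁻¹ =
      Eelt e (a • Matrix.mulVec (g : Matrix (Fin m ⊕ Fin m) (Fin m ⊕ Fin m) F) w) (a ^ 2 * c) := by
  have hpres := preserves_of_mem_symplectic m (g : Matrix (Fin m ⊕ Fin m) (Fin m ⊕ Fin m) F) g.2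
  have hw' : Cfsg.sympForm m F
      (a • Matrix.mulVec (g : Matrix (Fin m ⊕ Fin m) (Fin m ⊕ Fin m) F) w) e = 0 := by
    rw [sympForm_smul_left, ← sympForm_smul_right, ← hge, hpres, hwe]
  rw [mul_inv_eq_iff_eq_mul]
  apply cemat_ext
  intro x
  have hxe : a * Cfsg.sympForm m F
      (Matrix.mulVec (g : Matrix (Fin m ⊕ Fin m) (Fin m ⊕ Fin m) F) x) e =
      Cfsg.sympForm m F x e := by
    rw [← sympForm_smul_right, ← hge, hpres]
  rw [cemat_coe_mul, cemat_coe_mul, coe_Eelt e w hwe, coe_Eelt e _ hw', ← Matrix.mulVec_mulVec,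
    ← Matrix.mulVec_mulVec, Emat_mulVec, Emat_mulVec, Matrix.mulVec_add, Matrix.mulVec_add,
    Matrix.mulVec_smul, Matrix.mulVec_smul, Matrix.mulVec_add, Matrix.mulVec_smul, hge,
    sympForm_smul_right, hpres, ← hxe]
  ext i
  simp only [Pi.add_apply, Pi.smul_apply, smul_eq_mul]
  ring

end concrete

end Cfsg.Agent.Lib.Helper21.Lq
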