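import Mathlib
import Cfsg.Agent.Lib.Helper43.NilpConj

set_option autoImplicit false

/-!
The Jordan type of a nilpotent endomorphism as a multiset, its uniqueness, and matrix forms of
the conjugacy theorem.
-/

namespace Cfsg.Agent.Lib.Helper43

open Module Cfsg.Agent.Lib.Helper99

section smin

/-- the kernel dimension function of a Jordan type -/
def smin (μ : Multiset ℕ) (k : ℕ) : ℕ := (μ.map (fun b => min b k)).sum

theorem smin_zero (k : ℕ) : smin 0 k = 0 := by simp [smin]

theorem smin_cons (b : ℕ) (μ : Multiset ℕ) (k : ℕ) : smin (b ::ₘ μ) k = min b k + smin μ k := by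
  simp [smin]

theorem smin_le_sum (μ : Multiset ℕ) (k : ℕ) : smin μ k ≤ μ.sum := by
  induction μ using Multiset.induction_on with
  | empty => simp [smin]
  | cons b μ ih =>
    rw [smin_cons, Multiset.sum_cons]
    have := min_le_left b k
    omega

theorem smin_eq_sum_iff (μ : Multiset ℕ) (k : ℕ) : smin μ k = μ.sum ↔ ∀ b ∈ μ, b ≤ k := by
  induction μ using Multiset.induction_on with
  | empty => simp [smin]
  | cons b μ ih =>
    rw [smin_cons, Multiset.sum_cons]
    have h1 := min_le_left b k
    have h2 := smin_le_sum μ k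
    constructor
    · intro h
      have h3 : min b k = b := by omega
      have h4 : smin μ k = μ.sum := by omega
      intro c hc
      rcases Multiset.mem_cons.mp hc with rfl | hc
      · exact min_eq_left_iff.mp h3
      · exact ih.mp h4 c hc
    · intro h
      have h3 : min b k = b := min_eq_left (h b (Multiset.mem_cons_self b μ))
      have h4 : smin μ k = μ.sum := ih.mpr (fun c hc => h c (Multiset.mem_cons_of_mem hc))
      omega

theorem smin_one (μ : Multiset ℕ) (h1 : ∀ b ∈ μ, 1 ≤ b) : smin μ 1 = Multiset.card μ := by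
  induction μ using Multiset.induction_on with
  | empty => simp [smin]
  | cons b μ ih =>
    rw [smin_cons, Multiset.card_cons, ih (fun c hc => h1 c (Multiset.mem_cons_of_mem hc))]
    have := h1 b (Multiset.mem_cons_self b μ)
    rw [min_eq_right this]
    omega

theorem eq_of_smin_eq {μ μ' : Multiset ℕ} (h1 : ∀ b ∈ μ, 1 ≤ b) (h1' : ∀ b ∈ μ', 1 ≤ b)
    (h : ∀ k, smin μ k = smin μ' k) : μ = μ' := by
  classical
  ext j
  rcases Nat.eq_zero_or_pos j with rfl | hj
  · rw [Multiset.count_eq_zero_of_notMem, Multiset.count_eq_zero_of_notMem]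
    · intro h0; have := h1' 0 h0; omega
    · intro h0; have := h1 0 h0; omega
  · have e1 := sum_min_identity μ j hj
    have e2 := sum_min_identity μ' j hj
    have a1 := h (j - 1)
    have a2 := h (j + 1)
    have a3 := h j
    unfold smin at a1 a2 a3
    omega

end smin

section jt

universe u

variable {K : Type*} [Field K] {V : Type u} [AddCommGroup V] [Module K V] [FiniteDimensional K V]

theorem exists_jt (T : V →ₗ[K] V) (hT : IsNilpotent T) :
    ∃ μ : Multiset ℕ, (∀ b ∈ μ, 1 ≤ b) ∧ ∀ k, dker T k = smin μ k :=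
  exists_jordan_type (finrank K V) V T rfl hT

theorem sum_eq_finrank_of_dker (T : V →ₗ[K] V) (hT : IsNilpotent T) (μ : Multiset ℕ)
    (hμ : ∀ k, dker T k = smin μ k) : μ.sum = finrank K V := by
  obtain ⟨a, ha⟩ := hT
  have h1 := dker_eq_of_pow_eq_zero T ha (a + μ.sum) (by omega)
  rw [hμ] at h1
  rw [← h1]
  symm
  rw [smin_eq_sum_iff]
  intro b hb
  have := Multiset.le_sum_of_mem hb
  omega

end jt

end Cfsg.Agent.Lib.Helper43
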