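import Mathlib
import Cfsg.Agent.Lib.Helper22.KbDefs2

/-!
# Kb hive (S1299, owner helper22), leaf KB-AB: two elements of an elementary abelian group of order at least `p ^ 3`
lie in a common hyperplane
-/

set_option autoImplicit false

namespace Cfsg.Agent.Lib.Helper22.Kb

open Subgroup Cfsg
open scoped commutatorElement

variable {G : Type*} [Group G]

variable {p k : ℕ} {A : Subgroup G}

/-- in a group where everything commutes, two elements of order dividing `p` generate at most `p * p` elements -/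
theorem kbab_card_sup_le {H : Type*} [Group H] [Finite H] (hcomm : ∀ x y : H, x * y = y * x) {p : ℕ}
    (hp : 0 < p) (a b : H) (ha : a ^ p = 1) (hb : b ^ p = 1) :
    Nat.card ↥(zpowers a ⊔ zpowers b) ≤ p * p := by
  have hN : (zpowers b).Normal :=
    ⟨fun n hn g => by rw [hcomm g n, mul_inv_cancel_right]; exact hn⟩
  have hsurj : Function.Surjective
      (fun yz : zpowers a × zpowers b =>
        (⟨(yz.1 : H) * (yz.2 : H), mul_mem (mem_sup_left yz.1.2) (mem_sup_right yz.2.2)⟩ :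
          ↥(zpowers a ⊔ zpowers b))) := by
    rintro ⟨x, hx⟩
    have hx' : x ∈ ((zpowers a ⊔ zpowers b : Subgroup H) : Set H) := hx
    rw [Subgroup.mul_normal] at hx'
    obtain ⟨y, hy, z, hz, rfl⟩ := Set.mem_mul.mp hx'
    exact ⟨(⟨y, hy⟩, ⟨z, hz⟩), rfl⟩
  have h1 := Nat.card_le_card_of_surjective _ hsurj
  rw [Nat.card_prod, Nat.card_zpowers, Nat.card_zpowers] at h1
  have h2 : orderOf a ≤ p := Nat.le_of_dvd hp (orderOf_dvd_of_pow_eq_one ha)
  have h3 : orderOf b ≤ p := Nat.le_of_dvd hp (orderOf_dvd_of_pow_eq_one hb)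
  exact h1.trans (Nat.mul_le_mul h2 h3)

/-- LEAF KB-AB. -/
theorem kb_exists_hyp [Finite G] [Fact p.Prime] (hA : Cfsg.IsElementaryAbelian p A)
    (hA3 : p ^ 3 ≤ Nat.card A) {a b : G} (ha : a ∈ A) (hb : b ∈ A) :
    ∃ F : Subgroup G, F ≤ A ∧ a ∈ F ∧ b ∈ F ∧ p * Nat.card F = Nat.card A := by
  have hp : p.Prime := Fact.out
  have hpow : ∀ x : A, x ^ p = 1 := fun x => Subtype.ext (by simpa using hA.2 x x.2)
  have hAp : IsPGroup p A := fun x => ⟨1, by rw [pow_one]; exact hpow x⟩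
  obtain ⟨m, hm⟩ := IsPGroup.iff_card.mp hAp
  have hcomm : ∀ x y : A, x * y = y * x := fun x y => hA.1.is_comm.comm x y
  obtain ⟨n, hn⟩ := IsPGroup.iff_card.mp
    (hAp.to_subgroup (zpowers (⟨a, ha⟩ : A) ⊔ zpowers (⟨b, hb⟩ : A)))
  have hDle := kbab_card_sup_le hcomm hp.pos (⟨a, ha⟩ : A) ⟨b, hb⟩ (hpow _) (hpow _)
  have hnm : n < m := by
    have h1 : p ^ n < p ^ m := by
      rw [← hn, ← hm]
      calc Nat.card ↥(zpowers (⟨a, ha⟩ : A) ⊔ zpowers (⟨b, hb⟩ : A)) ≤ p * p := hDle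
        _ = p ^ 2 := (sq p).symm
        _ < p ^ 3 := Nat.pow_lt_pow_right hp.one_lt (by norm_num)
        _ ≤ Nat.card A := hA3
    exact (Nat.pow_lt_pow_iff_right hp.one_lt).mp h1
  have hdvd : p ^ (m - 1) ∣ Nat.card A := by
    rw [hm]; exact pow_dvd_pow p (Nat.sub_le m 1)
  obtain ⟨K, hKc, hDK⟩ := Sylow.exists_subgroup_card_pow_prime_le p hdvd _ hn (by omega)
  refine ⟨K.map A.subtype, Subgroup.map_subtype_le K, ?_, ?_, ?_⟩
  · exact ⟨⟨a, ha⟩, hDK (mem_sup_left (mem_zpowers _)), rfl⟩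
  · exact ⟨⟨b, hb⟩, hDK (mem_sup_right (mem_zpowers _)), rfl⟩
  · rw [Subgroup.card_subtype, hKc, hm, ← pow_succ']
    congr 1
    omega

end Cfsg.Agent.Lib.Helper22.Kb
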