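import Mathlib
import Cfsg.Agent.Lib.Helper22.KbDefs2

/-!
# Kb hive (S1299, owner helper22), leaf KB-INF: two hyperplanes of `A` meet in a subgroup of index at most `p ^ 2`
-/

set_option autoImplicit false

namespace Cfsg.Agent.Lib.Helper22.Kb

open Subgroup Cfsg
open scoped commutatorElement

variable {G : Type*} [Group G]

variable {p k : ℕ} {A : Subgroup G}

theorem kbinf_card_mul_relIndex {H L : Subgroup G} (h : H ≤ L) :
    Nat.card H * H.relIndex L = Nat.card L := by
  have := Subgroup.relIndex_mul_relIndex ⊥ H L bot_le h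
  rwa [Subgroup.relIndex_bot_left, Subgroup.relIndex_bot_left] at this

/-- LEAF KB-INF. -/
theorem kb_card_inf [Finite G] [Fact p.Prime] {a : G} {F F' : Subgroup G} (hF : F ∈ kbHyp p A a)
    (hF' : F' ∈ kbHyp p A a) : Nat.card A ≤ p * p * Nat.card (F ⊓ F' : Subgroup G) := by
  obtain ⟨hFA, -, hFc⟩ := hF
  obtain ⟨hF'A, -, hF'c⟩ := hF'
  have h1 : F.relIndex A = p := by
    have h := kbinf_card_mul_relIndex hFA
    have hpos : 0 < Nat.card F := Nat.card_pos
    rw [← hFc] at h
    exact Nat.eq_of_mul_eq_mul_left hpos (by rw [h, mul_comm])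
  have h2 : F'.relIndex A = p := by
    have h := kbinf_card_mul_relIndex hF'A
    have hpos : 0 < Nat.card F' := Nat.card_pos
    rw [← hF'c] at h
    exact Nat.eq_of_mul_eq_mul_left hpos (by rw [h, mul_comm])
  have h3 : (F ⊓ F').relIndex A ≤ p * p := by
    have := Subgroup.relIndex_inf_le (H := F) (K := F') (L := A)
    rwa [h1, h2] at this
  have h4 := kbinf_card_mul_relIndex (H := F ⊓ F') (L := A) (inf_le_left.trans hFA)
  calc Nat.card A = Nat.card (F ⊓ F' : Subgroup G) * (F ⊓ F').relIndex A := h4.symm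
    _ ≤ Nat.card (F ⊓ F' : Subgroup G) * (p * p) := Nat.mul_le_mul_left _ h3
    _ = p * p * Nat.card (F ⊓ F' : Subgroup G) := by ring

end Cfsg.Agent.Lib.Helper22.Kb
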