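import Mathlib

/-!
# U3-CONJ sub-hive (helper60), leaf CJ-ALG: the three coordinates of `N'³ e` vanish (pure field algebra)
-/

set_option autoImplicit false

namespace Cfsg.Agent.Lib.Helper23.U3

open Matrix

variable {F : Type*} [Field F] [Fintype F] {q : ℕ}

/-- CJ-ALG (pure field algebra, Mathlib only): the three coordinates of `N'³ e` vanish. -/
theorem u2_alg (m c a A β : F) (hm : m ≠ 0) (hc : c ≠ 0)
    (hβ : c * β = 3 * m⁻¹ - 2 - m⁻¹ ^ 3) (ha : a * A * c = (m⁻¹ - m) ^ 3) :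
    let v1 := m * (1 + c * β) - 1
    let v2 := m * c * a
    let v3 := m * c
    let w1 := (m * (1 + c * β) - 1) * v1 - m⁻¹ ^ 2 * A * v2 + m * β * v3
    let w2 := m * c * a * v1 + (m⁻¹ ^ 2 - 1) * v2 + m * a * v3
    let w3 := m * c * v1 + (m - 1) * v3
    (m * (1 + c * β) - 1) * w1 - m⁻¹ ^ 2 * A * w2 + m * β * w3 = 0 ∧
      m * c * a * w1 + (m⁻¹ ^ 2 - 1) * w2 + m * a * w3 = 0 ∧
      m * c * w1 + (m - 1) * w3 = 0 := by
  have hβ' : β = (3 * m⁻¹ - 2 - m⁻¹ ^ 3) / c := by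
    rw [eq_div_iff hc]; linear_combination hβ
  subst hβ'
  intro v1 v2 v3 w1 w2 w3
  refine ⟨?_, ?_, ?_⟩
  · simp only [v1, v2, v3, w1, w2, w3]
    linear_combination (norm := skip) (-(m⁻¹ * (3 - m - m⁻¹ ^ 2))) * ha
    field_simp
    ring
  · simp only [v1, v2, v3, w1, w2, w3]
    linear_combination (norm := skip) (-(c * a)) * ha
    field_simp
    ring
  · simp only [v1, v2, v3, w1, w3]
    linear_combination (norm := skip) (-c) * ha
    field_simp
    ring

end Cfsg.Agent.Lib.Helper23.U3
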