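import Mathlib
import Cfsg.Agent.Lib.Helper81.Mi.Defs

/-! # Mi hive (S2140, helper81), leaf MI-TV1: the transvection calculus for `tv v φ = 1 + v φᵀ`. -/

set_option autoImplicit false

namespace Cfsg.Agent.Lib.Helper81.Mi

open Matrix

variable {F : Type*} [Field F] {n : ℕ}

/-- the product of two `tmat` -/
theorem tv1_tmat_mul (u w φ ψ : Fin n → F) :
    tmat u φ * tmat w ψ = 1 + Matrix.vecMulVec u φ + Matrix.vecMulVec w ψ +
      (φ ⬝ᵥ w) • Matrix.vecMulVec u ψ := by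
  unfold tmat
  rw [Matrix.add_mul, Matrix.mul_add, Matrix.mul_add, Matrix.one_mul, Matrix.one_mul, Matrix.mul_one,
    Matrix.vecMulVec_mul_vecMulVec]
  ext i j
  simp only [Matrix.add_apply, Matrix.smul_apply, Matrix.vecMulVec_apply, smul_eq_mul, Pi.smul_apply,
    Matrix.one_apply]
  ring

/-- MI-TV1 -/
theorem tv_mul (v φ ψ : Fin n → F) (h1 : φ ⬝ᵥ v = 0) (h2 : ψ ⬝ᵥ v = 0) :
    tv v φ * tv v ψ = tv v (φ + ψ) := by
  have h3 : (φ + ψ) ⬝ᵥ v = 0 := by rw [add_dotProduct, h1, h2, add_zero]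
  apply Subtype.ext
  show (tv v φ).1 * (tv v ψ).1 = (tv v (φ + ψ)).1
  rw [show (tv v φ).1 = tmat v φ from coe_tv v φ h1, show (tv v ψ).1 = tmat v ψ from coe_tv v ψ h2,
    show (tv v (φ + ψ)).1 = tmat v (φ + ψ) from coe_tv v (φ + ψ) h3, tv1_tmat_mul, h1, zero_smul,
    add_zero]
  unfold tmat
  rw [Matrix.vecMulVec_add, add_assoc]

/-- MI-TV1 -/
theorem tv_mul' (u w φ : Fin n → F) (h1 : φ ⬝ᵥ u = 0) (h2 : φ ⬝ᵥ w = 0) :
    tv u φ * tv w φ = tv (u + w) φ := by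
  have h3 : φ ⬝ᵥ (u + w) = 0 := by rw [dotProduct_add, h1, h2, add_zero]
  apply Subtype.ext
  show (tv u φ).1 * (tv w φ).1 = (tv (u + w) φ).1
  rw [show (tv u φ).1 = tmat u φ from coe_tv u φ h1, show (tv w φ).1 = tmat w φ from coe_tv w φ h2,
    show (tv (u + w) φ).1 = tmat (u + w) φ from coe_tv (u + w) φ h3, tv1_tmat_mul, h2, zero_smul,
    add_zero]
  unfold tmat
  rw [Matrix.add_vecMulVec, add_assoc]

/-- MI-TV1 -/
theorem tv_zero_right (v : Fin n → F) : tv v 0 = 1 := by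
  apply Subtype.ext
  show (tv v 0).1 = 1
  rw [show (tv v 0).1 = tmat v 0 from coe_tv v 0 (zero_dotProduct v)]
  unfold tmat
  rw [Matrix.vecMulVec_zero, add_zero]

/-- MI-TV1 -/
theorem tv_zero_left (φ : Fin n → F) : tv 0 φ = 1 := by
  apply Subtype.ext
  show (tv 0 φ).1 = 1
  rw [show (tv 0 φ).1 = tmat 0 φ from coe_tv 0 φ (dotProduct_zero φ)]
  unfold tmat
  rw [Matrix.zero_vecMulVec, add_zero]

/-- MI-TV1 -/
theorem tv_inv (v φ : Fin n → F) : (tv v φ)⁻¹ = tv v (-φ) := by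
  by_cases h : φ ⬝ᵥ v = 0
  · have h' : (-φ) ⬝ᵥ v = 0 := by rw [neg_dotProduct, h, neg_zero]
    rw [inv_eq_iff_mul_eq_one, tv_mul v φ (-φ) h h', add_neg_cancel, tv_zero_right]
  · have h' : (-φ) ⬝ᵥ v ≠ 0 := by rw [neg_dotProduct]; exact neg_ne_zero.mpr h
    rw [tv_of_ne v φ h, tv_of_ne v (-φ) h', inv_one]

/-- MI-TV1 -/
theorem tv_smul (c : F) (v φ : Fin n → F) : tv (c • v) φ = tv v (c • φ) := by
  have hdot : φ ⬝ᵥ (c • v) = (c • φ) ⬝ᵥ v := by rw [dotProduct_smul, smul_dotProduct]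
  by_cases h : φ ⬝ᵥ (c • v) = 0
  · have h' : (c • φ) ⬝ᵥ v = 0 := hdot ▸ h
    apply Subtype.ext
    show (tv (c • v) φ).1 = (tv v (c • φ)).1
    rw [show (tv (c • v) φ).1 = tmat (c • v) φ from coe_tv _ _ h,
      show (tv v (c • φ)).1 = tmat v (c • φ) from coe_tv _ _ h']
    unfold tmat
    rw [Matrix.smul_vecMulVec, Matrix.vecMulVec_smul]
  · have h' : (c • φ) ⬝ᵥ v ≠ 0 := hdot ▸ h
    rw [tv_of_ne _ _ h, tv_of_ne _ _ h']

/-- MI-TV1 -/
theorem tv_eq_one_iff (v φ : Fin n → F) (h : φ ⬝ᵥ v = 0) : tv v φ = 1 ↔ v = 0 ∨ φ = 0 := by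
  constructor
  · intro h1
    have h2 : (tv v φ).1 = 1 := by rw [h1]; rfl
    rw [show (tv v φ).1 = tmat v φ from coe_tv v φ h] at h2
    unfold tmat at h2
    have h3 : Matrix.vecMulVec v φ = 0 := by
      have := congrArg (fun M => M - 1) h2
      simpa using this
    exact Matrix.vecMulVec_eq_zero.mp h3
  · rintro (rfl | rfl)
    · exact tv_zero_left φ
    · exact tv_zero_right v

/-- MI-TV1 -/
theorem tv_mulVec (v φ x : Fin n → F) (h : φ ⬝ᵥ v = 0) :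
    ((tv v φ : SLn n F) : Matrix (Fin n) (Fin n) F) *ᵥ x = x + (φ ⬝ᵥ x) • v := by
  rw [coe_tv v φ h]
  unfold tmat
  rw [Matrix.add_mulVec, Matrix.one_mulVec, Matrix.vecMulVec_mulVec]
  ext i
  simp only [Pi.add_apply, Pi.smul_apply, smul_eq_mul, MulOpposite.smul_eq_mul_unop,
    MulOpposite.unop_op]
  ring

end Cfsg.Agent.Lib.Helper81.Mi
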