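import Mathlib

/-! # Fw hive (S3211, helper43): two commuting `SL₂(q)`'s interchanged by `n` with `n² = j` — definitions

`Y = L₁L₂` has index 2 in `C = C_G(j)`, `n ∈ C` interchanges `L₁` and `L₂`, `n² = j`.  Then `j` is an isolated involution
(a counting argument on square roots), so `G = C_G(j) O(G)` by Glauberman's Z*-theorem (S0215, on main). -/

set_option autoImplicit false

namespace Cfsg.Agent.Lib.Helper43.Fw

variable {G : Type*} [Group G]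

/-- the abstract configuration extracted from the hypotheses of S3211 -/
structure Setup (L₁ L₂ : Subgroup G) (j n : G) : Prop where
  comm : ∀ a ∈ L₁, ∀ b ∈ L₂, a * b = b * a
  jsq : j * j = 1
  jne : j ≠ 1
  inter : L₁ ⊓ L₂ = Subgroup.zpowers j
  le : L₁ ⊔ L₂ ≤ Subgroup.centralizer ({j} : Set G)
  idx : (L₁ ⊔ L₂).relIndex (Subgroup.centralizer ({j} : Set G)) = 2
  nmem : n ∈ Subgroup.centralizer ({j} : Set G)
  nsq : n * n = j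
  swap : ∀ a : G, a ∈ L₁ ↔ n * a * n⁻¹ ∈ L₂
  sq1 : ∀ z ∈ L₁, z * z = 1 → z = 1 ∨ z = j
  sq2 : ∀ z ∈ L₂, z * z = 1 → z = 1 ∨ z = j
  ab1 : ∀ x ∈ L₁, x * x = j → ∀ a ∈ L₁, ∀ b ∈ L₁, a * x = x * a → b * x = x * b → a * b = b * a
  ab2 : ∀ x ∈ L₂, x * x = j → ∀ a ∈ L₂, ∀ b ∈ L₂, a * x = x * a → b * x = x * b → a * b = b * a
  ex1 : ∃ x ∈ L₁, x * x = j
  invY : ∃ x ∈ L₁ ⊔ L₂, orderOf x = 2 ∧ x ≠ j ∧
    ∀ y ∈ L₁ ⊔ L₂, orderOf y = 2 → y = j ∨ ∃ g ∈ L₁ ⊔ L₂, g * x * g⁻¹ = y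

/-- the reference non-central involution `t₀ = x₁ · (n x₁ n⁻¹)` -/
def t0 (n x₁ : G) : G := x₁ * (n * x₁ * n⁻¹)

end Cfsg.Agent.Lib.Helper43.Fw
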