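import Cfsg.Agent.Lib.Helper39.SmDefs
import Cfsg.Agent.Lib.Helper24.Sm_GCM
import Cfsg.Agent.Lib.Helper80.Stn_BASIC
import Cfsg.Agent.Lib.Helper69.Stn_HXX
import Cfsg.Agent.Lib.Helper70.Stn_BINJ_HCOMM

/-! # Sm hive (S2086, helper39), leaf N-KH: every lift of the torus element `h_ab(t) h_cb(t)` commutes with
every lift of `x_ac(ν)`. -/

set_option autoImplicit false

namespace Cfsg.Agent.Lib.Helper39.Sm

open Cfsg.Agent.Lib.Helper41.Stn
open scoped commutatorElement

variable {K : Type*} [Field K] {n : ℕ} {Y : Type*} [Group Y] (φ : Y →* St K n)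
  (hφ : Function.Surjective φ)

/-- `h_ab(t) h_cb(t)` centralises `x_ac(ν)` -/
theorem nkh_torus_conj (hn : 3 ≤ n) {a b c : Fin n} (hab : a ≠ b) (hbc : b ≠ c) (hac : a ≠ c) {t : K}
    (ht : t ≠ 0) (ν : K) :
    (hh a b t * hh c b t) * xx a c ν * (hh a b t * hh c b t)⁻¹ = xx a c ν := by
  have hcb : c ≠ b := hbc.symm
  have h1 := hh_conj_xx hn hcb ht hac ν
  have h2 := hh_conj_xx hn hab ht hac (dd c b t a / dd c b t c * ν)
  have e1 : dd c b t a = 1 := by simp [dd, hac, hab]
  have e2 : dd c b t c = t := by simp [dd]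
  have e3 : dd a b t a = t := by simp [dd]
  have e4 : dd a b t c = 1 := by simp [dd, hac.symm, hbc.symm]
  rw [e1, e2] at h1 h2
  rw [e3, e4] at h2
  have h3 : t / 1 * (1 / t * ν) = ν := by field_simp
  rw [h3] at h2
  calc (hh a b t * hh c b t) * xx a c ν * (hh a b t * hh c b t)⁻¹
      = hh a b t * (hh c b t * xx a c ν * (hh c b t)⁻¹) * (hh a b t)⁻¹ := by group
    _ = xx a c ν := by rw [h1, h2]

/-- `h_ab(s)` scales `x_ac(ν)` by `s` -/
theorem nkh_scale (hn : 3 ≤ n) {a b c : Fin n} (hab : a ≠ b) (hbc : b ≠ c) (hac : a ≠ c) {s : K}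
    (hs : s ≠ 0) (ν : K) : hh a b s * xx a c ν * (hh a b s)⁻¹ = xx a c (s * ν) := by
  have h2 := hh_conj_xx hn hab hs hac ν
  have e3 : dd a b s a = s := by simp [dd]
  have e4 : dd a b s c = 1 := by simp [dd, hac.symm, hbc.symm]
  rw [e3, e4, div_one] at h2
  exact h2

/-- N-KH -/
theorem commute_torus_lift [Finite K] (hn : 3 ≤ n) (h2 : Nat.card K ≠ 2) (hφ : Function.Surjective φ)
    (hc : φ.ker ≤ Subgroup.center Y) {a b c : Fin n} (hab : a ≠ b) (hbc : b ≠ c) (hac : a ≠ c) {t : K}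
    (ht : t ≠ 0) (ν : K) {e d : Y} (he : φ e = hh a b t * hh c b t) (hd : φ d = xx a c ν) :
    Commute e d := by
  classical
  have hcb : c ≠ b := hbc.symm
  -- the central elements `f ν`
  have hcomm : ∀ ν : K, Commute (hh a b t * hh c b t) (xx a c ν) := by
    intro ν
    have := nkh_torus_conj hn hab hbc hac ht ν
    show (hh a b t * hh c b t) * xx a c ν = xx a c ν * (hh a b t * hh c b t)
    rw [mul_inv_eq_iff_eq_mul] at this
    exact this
  have hcen : ∀ ν : K, cm φ hφ (hh a b t * hh c b t) (xx a c ν) ∈ Subgroup.center Y :=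
    fun ν => cm_mem_center φ hφ hc (hcomm ν)
  have hadd : ∀ ν ν' : K, cm φ hφ (hh a b t * hh c b t) (xx a c (ν + ν')) =
      cm φ hφ (hh a b t * hh c b t) (xx a c ν) * cm φ hφ (hh a b t * hh c b t) (xx a c ν') := by
    intro ν ν'
    rw [← xx_add, cm_mul_right φ hφ hc _ _ _ (map_lft φ hφ (xx a c ν))]
    congr 1
    have := Subgroup.mem_center_iff.mp (hcen ν') (lft φ hφ (xx a c ν))
    rw [this, mul_inv_cancel_right]
  have hzero : cm φ hφ (hh a b t * hh c b t) (xx a c 0) = 1 := by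
    have := hadd 0 0
    rw [add_zero] at this
    exact (mul_eq_left.mp this.symm)
  have hinv : ∀ (s : K), s ≠ 0 → ∀ ν : K, cm φ hφ (hh a b t * hh c b t) (xx a c (s * ν)) =
      cm φ hφ (hh a b t * hh c b t) (xx a c ν) := by
    intro s hs ν
    have hg1 : hh a b s * (hh a b t * hh c b t) * (hh a b s)⁻¹ = hh a b t * hh c b t := by
      have c1 : Commute (hh a b s) (hh a b t) := hh_comm hn hab hab hs ht
      have c2 : Commute (hh a b s) (hh c b t) := hh_comm hn hab hcb hs ht
      have c3 : Commute (hh a b s) (hh a b t * hh c b t) := c1.mul_right c2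
      rw [c3.eq, mul_inv_cancel_right]
    have h1 := cm_conj φ hφ hc (hh a b s) (hh a b t * hh c b t) (xx a c ν) (map_lft φ hφ (hh a b s))
    rw [hg1, nkh_scale hn hab hbc hac hs ν] at h1
    rw [h1]
    have := Subgroup.mem_center_iff.mp (hcen ν) (lft φ hφ (hh a b s))
    rw [this, mul_inv_cancel_right]
  -- a scalar `s ≠ 0, 1`
  obtain ⟨s, hs0, hs1⟩ : ∃ s : K, s ≠ 0 ∧ s ≠ 1 := by
    by_contra hcon
    push Not at hcon
    haveI : Fintype K := Fintype.ofFinite K
    apply h2
    rw [Nat.card_eq_fintype_card]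
    apply le_antisymm
    · have hsub : (Finset.univ : Finset K) ⊆ {0, 1} := by
        intro x _
        by_cases hx : x = 0
        · simp [hx]
        · simp [hcon x hx]
      calc Fintype.card K = (Finset.univ : Finset K).card := rfl
        _ ≤ ({0, 1} : Finset K).card := Finset.card_le_card hsub
        _ ≤ 2 := Finset.card_le_two
    · exact Fintype.one_lt_card
  have hs1' : s - 1 ≠ 0 := sub_ne_zero.mpr hs1
  have hall : ∀ ν : K, cm φ hφ (hh a b t * hh c b t) (xx a c ν) = 1 := by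
    intro ν
    have h3 : ν = s * ((s - 1)⁻¹ * ν) + -((s - 1)⁻¹ * ν) := by field_simp; ring
    rw [h3, hadd, hinv s hs0, ← hadd, add_neg_cancel, hzero]
  have hfin := hall ν
  rw [cm_eq φ hφ hc he hd] at hfin
  exact commutatorElement_eq_one_iff_commute.mp hfin

end Cfsg.Agent.Lib.Helper39.Sm
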