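import Cfsg.Agent.Lib.Helper39.SmDefs
import Cfsg.Agent.Lib.Helper24.Sm_GCM
import Cfsg.Agent.Lib.Helper80.Stn_BASIC
import Cfsg.Agent.Lib.Helper69.Stn_HXX
import Cfsg.Agent.Lib.Helper70.Stn_BINJ_HCOMM
import Cfsg.Agent.Lib.Helper43.Sm_NKH

/-! # Sm hive (S2086, helper39), leaf N-GCUBE: `g(t³ t₁, u) = g(t₁, t³ u)` for
`g(t, u) = cm (x_ab t) (x_bc u)`. -/

set_option autoImplicit false

namespace Cfsg.Agent.Lib.Helper39.Sm

open Cfsg.Agent.Lib.Helper41.Stn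
open scoped commutatorElement

variable {K : Type*} [Field K] {n : ℕ} {Y : Type*} [Group Y] (φ : Y →* St K n)
  (hφ : Function.Surjective φ)

/-- `h_ab(t) h_cb(t)` scales `x_ab` by `t³` -/
theorem ngcube_conj_ab (hn : 3 ≤ n) {a b c : Fin n} (hab : a ≠ b) (hbc : b ≠ c) (hac : a ≠ c) {t : K}
    (ht : t ≠ 0) (t₁ : K) :
    (hh a b t * hh c b t) * xx a b t₁ * (hh a b t * hh c b t)⁻¹ = xx a b (t ^ 3 * t₁) := by
  have hcb : c ≠ b := hbc.symm
  have h1 := hh_conj_xx hn hcb ht hab t₁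
  have h2 := hh_conj_xx hn hab ht hab (dd c b t a / dd c b t b * t₁)
  have e1 : dd c b t a = 1 := by simp [dd, hac, hab]
  have e2 : dd c b t b = t⁻¹ := by simp [dd, hbc]
  have e3 : dd a b t a = t := by simp [dd]
  have e4 : dd a b t b = t⁻¹ := by simp [dd, hab.symm]
  rw [e1, e2] at h1 h2
  rw [e3, e4] at h2
  have h3 : t / t⁻¹ * (1 / t⁻¹ * t₁) = t ^ 3 * t₁ := by field_simp
  rw [h3] at h2
  calc (hh a b t * hh c b t) * xx a b t₁ * (hh a b t * hh c b t)⁻¹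
      = hh a b t * (hh c b t * xx a b t₁ * (hh c b t)⁻¹) * (hh a b t)⁻¹ := by group
    _ = xx a b (t ^ 3 * t₁) := by rw [h1, h2]

/-- `h_ab(t) h_cb(t)` scales `x_bc` by `t⁻³` -/
theorem ngcube_conj_bc (hn : 3 ≤ n) {a b c : Fin n} (hab : a ≠ b) (hbc : b ≠ c) (hac : a ≠ c) {t : K}
    (ht : t ≠ 0) (u : K) :
    (hh a b t * hh c b t) * xx b c (t ^ 3 * u) * (hh a b t * hh c b t)⁻¹ = xx b c u := by
  have hcb : c ≠ b := hbc.symm
  have h1 := hh_conj_xx hn hcb ht hbc (t ^ 3 * u)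
  have h2 := hh_conj_xx hn hab ht hbc (dd c b t b / dd c b t c * (t ^ 3 * u))
  have e1 : dd c b t b = t⁻¹ := by simp [dd, hbc]
  have e2 : dd c b t c = t := by simp [dd]
  have e3 : dd a b t b = t⁻¹ := by simp [dd, hab.symm]
  have e4 : dd a b t c = 1 := by simp [dd, hac.symm, hbc.symm]
  rw [e1, e2] at h1 h2
  rw [e3, e4] at h2
  have h3 : t⁻¹ / 1 * (t⁻¹ / t * (t ^ 3 * u)) = u := by field_simp
  rw [h3] at h2
  calc (hh a b t * hh c b t) * xx b c (t ^ 3 * u) * (hh a b t * hh c b t)⁻¹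
      = hh a b t * (hh c b t * xx b c (t ^ 3 * u) * (hh c b t)⁻¹) * (hh a b t)⁻¹ := by group
    _ = xx b c u := by rw [h1, h2]

/-- N-GCUBE -/
theorem gcm_cube [Finite K] (hn : 3 ≤ n) (h2 : Nat.card K ≠ 2) (hc : φ.ker ≤ Subgroup.center Y)
    {a b c : Fin n} (hab : a ≠ b) (hbc : b ≠ c) (hac : a ≠ c) (t t₁ u : K) :
    cm φ hφ (xx a b (t ^ 3 * t₁)) (xx b c u) = cm φ hφ (xx a b t₁) (xx b c (t ^ 3 * u)) := by
  by_cases ht : t = 0
  · subst ht
    rw [zero_pow (by norm_num), zero_mul, zero_mul, xx_zero, xx_zero,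
      cm_eq φ hφ hc (map_one φ) (map_lft φ hφ (xx b c u)),
      cm_eq φ hφ hc (map_lft φ hφ (xx a b t₁)) (map_one φ), commutatorElement_one_left,
      commutatorElement_one_right]
  · have h1 := cm_conj φ hφ hc (hh a b t * hh c b t) (xx a b t₁) (xx b c (t ^ 3 * u))
      (map_lft φ hφ (hh a b t * hh c b t))
    rw [ngcube_conj_ab hn hab hbc hac ht t₁, ngcube_conj_bc hn hab hbc hac ht u] at h1
    rw [h1]
    have hd : φ (cm φ hφ (xx a b t₁) (xx b c (t ^ 3 * u))) = xx a c (t₁ * (t ^ 3 * u)) := by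
      rw [map_cm, commutatorElement_def, xx_comm3 hab hbc hac]
    have hcomm := commute_torus_lift φ hn h2 hφ hc hab hbc hac ht (t₁ * (t ^ 3 * u))
      (map_lft φ hφ (hh a b t * hh c b t)) hd
    rw [hcomm.eq, mul_inv_cancel_right]

end Cfsg.Agent.Lib.Helper39.Sm
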