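import Cfsg.Agent.Lib.Helper43.OrthGenClasses

/-!
# Levi elements of the orthogonal group of plus type
-/

set_option autoImplicit false

namespace Cfsg.Agent.Lib.Helper43.OrthGen

open Polynomial Matrix Cfsg.Agent.Lib.Helper40.SemisimpleConj Cfsg.Agent.Lib.Helper40.PrimeOrder
  Cfsg.Agent.Lib.Helper40.Symp Cfsg.Agent.Lib.Helper43.OddOrth

section blocks
variable {F : Type*} [Field F] {α β : Type*} [Fintype α] [DecidableEq α] [Fintype β]
  [DecidableEq β]

theorem fromBlocks_diag_pow' (A : Matrix α α F) (D : Matrix β β F) (N : ℕ) :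
    (Matrix.fromBlocks A 0 0 D) ^ N = Matrix.fromBlocks (A ^ N) 0 0 (D ^ N) := by
  induction N with
  | zero => rw [pow_zero, pow_zero, pow_zero, Matrix.fromBlocks_one]
  | succ N ih =>
    rw [pow_succ, ih, Matrix.fromBlocks_multiply, pow_succ, pow_succ]
    simp

end blocks

section levi
variable {F : Type*} [Field F]

theorem quadFormPlus_eq_dot (k : ℕ) (v : Fin k ⊕ Fin k → F) :
    Cfsg.quadFormPlus k F v = (v ∘ Sum.inl) ⬝ᵥ (v ∘ Sum.inr) := rfl

/-- the Levi matrix preserves the split form -/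
theorem levi_preserves (k : ℕ) (h h' : Matrix (Fin k) (Fin k) F) (hh' : h * h' = 1)
    (v : Fin k ⊕ Fin k → F) :
    Cfsg.quadFormPlus k F (Matrix.fromBlocks h 0 0 h'ᵀ *ᵥ v) = Cfsg.quadFormPlus k F v := by
  have h'h : h' * h = 1 := mul_eq_one_comm.1 hh'
  rw [quadFormPlus_eq_dot, quadFormPlus_eq_dot, Matrix.fromBlocks_mulVec]
  simp only [Matrix.zero_mulVec, add_zero, zero_add]
  have e1 : (Sum.elim (h *ᵥ (v ∘ Sum.inl)) (h'ᵀ *ᵥ (v ∘ Sum.inr))) ∘ Sum.inl =
      h *ᵥ (v ∘ Sum.inl) := rfl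
  have e2 : (Sum.elim (h *ᵥ (v ∘ Sum.inl)) (h'ᵀ *ᵥ (v ∘ Sum.inr))) ∘ Sum.inr =
      h'ᵀ *ᵥ (v ∘ Sum.inr) := rfl
  rw [e1, e2, Matrix.dotProduct_mulVec, Matrix.vecMul_transpose, Matrix.mulVec_mulVec, h'h,
    Matrix.one_mulVec]

theorem eq_of_C_mul_monic (a b : F) (P Q : F[X]) (hP : P.Monic) (hQ : Q.Monic) (ha : a ≠ 0)
    (h : C a * P = C b * Q) : P = Q := by
  have h1 := congrArg leadingCoeff h
  rw [leadingCoeff_mul, leadingCoeff_mul, leadingCoeff_C, leadingCoeff_C, hP.leadingCoeff,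
    hQ.leadingCoeff, mul_one, mul_one] at h1
  rw [← h1] at h
  exact mul_left_cancel₀ (by rwa [Ne, C_eq_zero]) h

variable [Fintype F]

theorem exists_levi (p : ℕ) [Fact p.Prime] [CharP F p] (r : ℕ) [Fact r.Prime] (k : ℕ)
    (N : Multiset F[X]) (hN : ∀ π ∈ N, π ∈ Rset F r) (hd : N.prod.natDegree = k) :
    ∃ L L' : Matrix (Fin k ⊕ Fin k) (Fin k ⊕ Fin k) F, L * L' = 1 ∧
      (∀ v, Cfsg.quadFormPlus k F (L *ᵥ v) = Cfsg.quadFormPlus k F v) ∧
      L.charpoly = (N + N.map recip).prod ∧ L ^ r = 1 := by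
  classical
  have hr : r.Prime := Fact.out
  have hr0 : 0 < r := hr.pos
  have hRm : ∀ π ∈ N, π.Monic := fun π h => ((mem_Rset hr0).1 (hN π h)).1
  have hRd : ∀ π ∈ N, π ∣ X ^ r - 1 := fun π h => ((mem_Rset hr0).1 (hN π h)).2.2.1
  have hR0 : ∀ π ∈ N, π.coeff 0 ≠ 0 := fun π h => coeff_zero_ne_zero_of_mem_Rset hr0 (hN π h)
  have hfm : N.prod.Monic := prod_monic N hRm
  have hfdvd : N.prod ∣ (X ^ r - 1) ^ (0 + Multiset.card N) := by
    have := polyOf_dvd_pow 0 N (X ^ r - 1 : F[X]) (X_sub_one_dvd r) hRd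
    unfold polyOf at this
    rwa [pow_zero, one_mul] at this
  have hf0 : N.prod.coeff 0 ≠ 0 := coeff_zero_ne_zero_of_dvd r hr0 _ _ hfdvd
  obtain ⟨g, -, hchar, hpow⟩ := exists_GL_of_charpoly' p k N.prod hfm hd hf0
  have hgr : g ^ r = 1 := by
    apply hpow
    intro π hπm hπi hπd
    have hp : Prime π := hπi.prime
    obtain ⟨π', hπ', hπd'⟩ := hp.exists_mem_multiset_dvd hπd
    exact hπd'.trans (hRd π' hπ')
  set h : Matrix (Fin k) (Fin k) F := (g : Matrix (Fin k) (Fin k) F) with hh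
  set h' : Matrix (Fin k) (Fin k) F := ((g⁻¹ : GL (Fin k) F) : Matrix (Fin k) (Fin k) F) with hh'def
  have hh' : h * h' = 1 := by
    rw [hh, hh'def, ← Units.val_mul, mul_inv_cancel, Units.val_one]
  have h'h : h' * h = 1 := mul_eq_one_comm.1 hh'
  have hhr : h ^ r = 1 := by
    rw [hh, ← Units.val_pow_eq_pow_val, hgr, Units.val_one]
  have hh'r : h' ^ r = 1 := by
    rw [hh'def, ← Units.val_pow_eq_pow_val, inv_pow, hgr, inv_one, Units.val_one]
  refine ⟨Matrix.fromBlocks h 0 0 h'ᵀ, Matrix.fromBlocks h' 0 0 hᵀ, ?_, ?_, ?_, ?_⟩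
  · rw [Matrix.fromBlocks_multiply]
    simp only [Matrix.mul_zero, Matrix.zero_mul, add_zero, zero_add]
    rw [hh', ← Matrix.transpose_mul, hh', Matrix.transpose_one, Matrix.fromBlocks_one]
  · exact levi_preserves k h h' hh'
  · rw [Matrix.charpoly_fromBlocks_zero₁₂, Matrix.charpoly_transpose, Multiset.prod_add, hchar]
    congr 1
    have h1 := charpoly_reverse_of_mul_eq_one h h' hh'
    rw [hchar] at h1
    have h2 := reverse_polyOf 0 N hR0
    unfold polyOf at h2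
    rw [pow_zero, one_mul, one_mul, pow_zero, one_mul] at h2
    rw [h2] at h1
    have hdet : h.det ≠ 0 := by
      intro h0
      have := congrArg Matrix.det hh'
      rw [Matrix.det_mul, h0, zero_mul, Matrix.det_one] at this
      exact zero_ne_one this
    have h3 : C (h.det * (-1) ^ Fintype.card (Fin k)) * h'.charpoly =
        C ((N.map (fun π => π.coeff 0)).prod) * (N.map recip).prod := by
      rw [h1, C_mul, C_pow, C_neg, C_1]
    refine eq_of_C_mul_monic _ _ _ _ (Matrix.charpoly_monic h') ?_ ?_ h3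
    · apply prod_monic
      intro π hπ
      obtain ⟨π', hπ', rfl⟩ := Multiset.mem_map.1 hπ
      exact recip_monic π' (hR0 π' hπ')
    · exact mul_ne_zero hdet (pow_ne_zero _ (neg_ne_zero.2 one_ne_zero))
  · rw [fromBlocks_diag_pow', hhr, ← Matrix.transpose_pow, hh'r, Matrix.transpose_one,
      Matrix.fromBlocks_one]

end levi

end Cfsg.Agent.Lib.Helper43.OrthGen
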