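import Mathlib
import Cfsg.Agent.Lib.Helper59.TqDefs
import Cfsg.Agent.Lib.Helper99.SympForm
import Cfsg.Agent.Lib.Helper43.ClassifyEven
import Cfsg.Agent.Lib.Helper43.QbarFacts
import Cfsg.Agent.Lib.Helper43.QType

/-! # Tq hive (helper59), chunk TQ-TRANS: nondegenerate quadratic spaces of the same even dimension
and the same type over a finite field are isometric (helper43) -/

set_option autoImplicit false

namespace Cfsg.Agent.Lib.Helper59.Tq

open Module
open Cfsg.Agent.Lib.Helper99 Cfsg.Agent.Lib.Helper43 Cfsg.Agent.Lib.Helper43.ZeroCount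
  Cfsg.Agent.Lib.Helper8

universe u

variable {F : Type u} [Field F] {V : Type u} [AddCommGroup V] [Module F V] [FiniteDimensional F V]

omit [FiniteDimensional F V] in
/-- relative nondegeneracy on `⊤` is nondegeneracy -/
theorem trans_nondeg (Q : QuadraticForm F V) (hQ : Nd (QuadraticMap.polarBilin Q) ⊤) :
    (QuadraticMap.polarBilin Q).Nondegenerate := by
  constructor
  · intro x hx
    exact hQ x Submodule.mem_top (fun v _ => hx v)
  · intro x hx
    apply hQ x Submodule.mem_top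
    intro v _
    have := hx v
    rw [QuadraticMap.polarBilin_apply_apply] at this ⊢
    rw [QuadraticMap.polar_comm]
    exact this

omit [FiniteDimensional F V] in
/-- `PlusOn Q ⊤` is the plus type of `Q` -/
theorem trans_plusOn_top (Q : QuadraticForm F V) : PlusOn Q ⊤ ↔ QType.IsPlus Q := by
  constructor
  · rintro ⟨U, -, hU, hd⟩
    refine ⟨U, hU, ?_⟩
    rw [hd, finrank_top]
  · rintro ⟨U, hU, hd⟩
    refine ⟨U, le_top, hU, ?_⟩
    rw [hd, finrank_top]

/-- a space with minus coordinates is not of plus type -/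
theorem trans_not_isPlus_of_coords [Fintype F] (Q : QuadraticForm F V)
    (hQ : (QuadraticMap.polarBilin Q).Nondegenerate) (a c : F)
    (hac : ∀ z₁ z₂ : F, z₁ ^ 2 + a * z₁ * z₂ + c * z₂ ^ 2 = 0 → z₁ = 0 ∧ z₂ = 0) (M' : ℕ)
    (Θ : V ≃ₗ[F] ((Fin M' ⊕ Fin M') ⊕ Fin 2 → F))
    (hΘ : ∀ v, Cfsg.quadFormMinus M' F a c (Θ v) = Q v) : ¬ QType.IsPlus Q := by
  have hdim : finrank F V = 2 * (M' + 1) := by
    rw [LinearEquiv.finrank_eq Θ, Module.finrank_fintype_fun_eq_card]
    simp
    ring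
  rw [QType.not_isPlus_iff_count Q hQ (M' + 1) hdim]
  have hcard : Nat.card {v : V // Q v = 0} = ZZ (Fintype.card F) 2 1 M' := by
    rw [← card_zeros_minus F a c hac M']
    apply Nat.card_congr
    refine ⟨fun v => ⟨Θ v.1, ?_⟩, fun x => ⟨Θ.symm x.1, ?_⟩, fun v => ?_, fun x => ?_⟩
    · rw [← minusForm_coe, hΘ]
      exact v.2
    · rw [← hΘ, LinearEquiv.apply_symm_apply, minusForm_coe]
      exact x.2
    · apply Subtype.ext
      exact Θ.symm_apply_apply v.1
    · apply Subtype.ext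
      exact Θ.apply_symm_apply x.1
  rw [hcard]
  exact QType.ZZ_minus_mul _ Fintype.card_pos M'

/-- TQ-TRANS: nondegenerate quadratic spaces of the same even dimension and the same type over a
finite field are isometric -/
theorem exists_isometry_of_type [Fintype F] {V' : Type u} [AddCommGroup V'] [Module F V']
    [FiniteDimensional F V'] (Q : QuadraticForm F V) (Q' : QuadraticForm F V')
    (hQ : Nd (QuadraticMap.polarBilin Q) ⊤) (hQ' : Nd (QuadraticMap.polarBilin Q') ⊤)
    (hdim : finrank F V = finrank F V') (hev : Even (finrank F V))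
    (ht : PlusOn Q ⊤ ↔ PlusOn Q' ⊤) : ∃ Θ : V ≃ₗ[F] V', ∀ v, Q' (Θ v) = Q v := by
  have hnd := trans_nondeg Q hQ
  have hnd' := trans_nondeg Q' hQ'
  obtain ⟨M, hM⟩ := hev
  have hM2 : finrank F V = 2 * M := by omega
  have hM2' : finrank F V' = 2 * M := by omega
  obtain ⟨a, c, hac⟩ := OrthGen.exists_aniso F
  rw [trans_plusOn_top, trans_plusOn_top] at ht
  rcases classify_even a c hac V Q hnd M hM2 with ⟨Θ, hΘ⟩ | ⟨M₁, hM₁, Θ, hΘ⟩
  · rcases classify_even a c hac V' Q' hnd' M hM2' with ⟨Θ', hΘ'⟩ | ⟨M₂, hM₂, Θ', hΘ'⟩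
    · refine ⟨Θ.trans Θ'.symm, fun v => ?_⟩
      rw [← hΘ', LinearEquiv.trans_apply, LinearEquiv.apply_symm_apply, hΘ]
    · exfalso
      have h1 : QType.IsPlus Q := QType.isPlus_of_coords Q M Θ hΘ
      exact trans_not_isPlus_of_coords Q' hnd' a c hac M₂ Θ' hΘ' (ht.1 h1)
  · rcases classify_even a c hac V' Q' hnd' M hM2' with ⟨Θ', hΘ'⟩ | ⟨M₂, hM₂, Θ', hΘ'⟩
    · exfalso
      have h1 : QType.IsPlus Q' := QType.isPlus_of_coords Q' M Θ' hΘ'
      exact trans_not_isPlus_of_coords Q hnd a c hac M₁ Θ hΘ (ht.2 h1)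
    · have : M₁ = M₂ := by omega
      subst this
      refine ⟨Θ.trans Θ'.symm, fun v => ?_⟩
      rw [← hΘ', LinearEquiv.trans_apply, LinearEquiv.apply_symm_apply, hΘ]

end Cfsg.Agent.Lib.Helper59.Tq
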