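import Mathlib
import Cfsg.Prelude.Def_ClassicalGeometry
import Cfsg.Agent.Lib.Helper4.NdDefs

/-! S5956 hive (helper4), leaf ND-G1: `W ⊕ W^⊥ = V` for a nondegenerate subspace of an alternating space (helper43) -/

set_option autoImplicit false
open Matrix
open Cfsg.Agent.Lib.Helper99 (Nd dker sympB)

namespace Cfsg.Agent.Lib.Helper4.NdH

universe u v

variable {F : Type u} [Field F] {V : Type v} [AddCommGroup V] [Module F V]

/-- alternating forms are skew -/
theorem g1_skew (B : V →ₗ[F] V →ₗ[F] F) (hB : Alt B) (x y : V) : B x y = - B y x := by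
  have h := hB (x + y)
  simp only [map_add, LinearMap.add_apply] at h
  rw [hB x, hB y] at h
  linear_combination h

theorem g1_disjoint (B : V →ₗ[F] V →ₗ[F] F) (hB : Alt B)
    (W : Submodule F V) (hW : Nd B W) : W ⊓ orth B W = ⊥ := by
  rw [eq_bot_iff]
  intro v hv
  rw [Submodule.mem_inf] at hv
  rw [Submodule.mem_bot]
  apply hW v hv.1
  intro w hw
  rw [g1_skew B hB, hv.2 w hw, neg_zero]

/-- the map `V → W^*`, `v ↦ B(·, v)|_W`, whose kernel is `W^⊥` -/
noncomputable def g1_phi (B : V →ₗ[F] V →ₗ[F] F) (W : Submodule F V) : V →ₗ[F] (W →ₗ[F] F) :=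
  (LinearMap.lcomp F F W.subtype).comp B.flip

theorem g1_phi_apply (B : V →ₗ[F] V →ₗ[F] F) (W : Submodule F V) (v : V) (w : W) :
    g1_phi B W v w = B w v := rfl

theorem g1_ker_phi (B : V →ₗ[F] V →ₗ[F] F) (W : Submodule F V) :
    LinearMap.ker (g1_phi B W) = orth B W := by
  ext v
  rw [LinearMap.mem_ker, mem_orth]
  constructor
  · intro h w hw
    have := congrArg (fun f => f ⟨w, hw⟩) h
    exact this
  · intro h
    apply LinearMap.ext
    intro w
    exact h w.1 w.2

theorem g1_finrank_le [FiniteDimensional F V] (B : V →ₗ[F] V →ₗ[F] F) (W : Submodule F V) :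
    Module.finrank F V ≤ Module.finrank F W + Module.finrank F (orth B W) := by
  have h1 := LinearMap.finrank_range_add_finrank_ker (g1_phi B W)
  have h2 : Module.finrank F (LinearMap.range (g1_phi B W)) ≤ Module.finrank F W := by
    have := Submodule.finrank_le (LinearMap.range (g1_phi B W))
    rwa [Subspace.dual_finrank_eq] at this
  rw [g1_ker_phi] at h1
  omega

/-- ND-G1 : `W ∩ W^⊥ = 0` by `Nd B W`; `dim W^⊥ ≥ dim V - dim W` (kernel of `V → W^*`). -/
theorem isCompl_orth [FiniteDimensional F V] (B : V →ₗ[F] V →ₗ[F] F) (hB : Alt B)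
    (W : Submodule F V) (hW : Nd B W) : IsCompl W (orth B W) := by
  have hd := g1_disjoint B hB W hW
  refine ⟨disjoint_iff.mpr hd, codisjoint_iff.mpr ?_⟩
  apply Submodule.eq_top_of_finrank_eq
  have h1 := Submodule.finrank_sup_add_finrank_inf_eq W (orth B W)
  rw [hd, finrank_bot, add_zero] at h1
  have h2 := g1_finrank_le B W
  have h3 := Submodule.finrank_le (W ⊔ orth B W)
  omega

/-- ND-G1 (second part) : a vector of `W^⊥` orthogonal to `W^⊥` is orthogonal to `W ⊔ W^⊥ = ⊤`. -/
theorem nd_orth [FiniteDimensional F V] (B : V →ₗ[F] V →ₗ[F] F) (hB : Alt B) (hV : Nd B ⊤)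
    (W : Submodule F V) (hW : Nd B W) : Nd B (orth B W) := by
  intro u hu h
  apply hV u Submodule.mem_top
  intro v _
  have hc := (isCompl_orth B hB W hW).sup_eq_top
  have hv : v ∈ W ⊔ orth B W := by rw [hc]; exact Submodule.mem_top
  obtain ⟨w, hw, w', hw', rfl⟩ := Submodule.mem_sup.mp hv
  rw [map_add, h w' hw', add_zero, g1_skew B hB, hu w hw, neg_zero]

end Cfsg.Agent.Lib.Helper4.NdH
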