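import Cfsg.Agent.Lib.Helper76.SlDefs

set_option autoImplicit false

/-! Definitions for the sub-hive SL-K2 (`integ`) of the `Sl` hive (S2332, helper76): the transvection matrices
`1 + v fᵀ` of `F^(m+2)` as a set, parametrised by the pairs `(v, f)`. -/

namespace Cfsg.Agent.Lib.Helper76.Sl

open Matrix

variable (F : Type*) [Field F] [Fintype F] [DecidableEq F]

/-- the pairs `(v, f)`, `v ≠ 0`, `f ≠ 0`, `f ⬝ v = 0` (centre and axis of a transvection of `F^(m+2)`) -/
def TvPair (m : ℕ) : Type _ :=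
  {p : (Fin (m + 2) → F) × (Fin (m + 2) → F) // p.1 ≠ 0 ∧ p.2 ≠ 0 ∧ p.2 ⬝ᵥ p.1 = 0}

variable {F}

/-- the transvection matrix `1 + v fᵀ` -/
def tvMat {m : ℕ} (p : TvPair F m) : Matrix (Fin (m + 2)) (Fin (m + 2)) F :=
  1 + Matrix.vecMulVec p.1.1 p.1.2

variable (F)

/-- the set of all transvection matrices -/
def TvSet (m : ℕ) : Set (Matrix (Fin (m + 2)) (Fin (m + 2)) F) := Set.range (tvMat (F := F) (m := m))

end Cfsg.Agent.Lib.Helper76.Sl
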