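import Cfsg.Agent.Lib.Helper41.StnDefs

/-! # Stn hive (S2401, helper41), leaf Stn-WMAT: the image of `w_ij(t)` under a standard hom is the
monomial matrix `e_b ↦ mu i j t b • e_(swap i j b)`. -/

set_option autoImplicit false

namespace Cfsg.Agent.Lib.Helper41.Stn

open Matrix

variable {K : Type*} [Field K] {n : ℕ}

/-- local copy of `std_xx` (leaf BASIC), under a prefixed name -/
theorem wmat_std_xx (φ : St K n →* SpecialLinearGroup (Fin n) K) (hφ : IsStd φ) {i j : Fin n}
    (hij : i ≠ j) (t : K) : (φ (xx i j t)).1 = Matrix.transvection i j t := by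
  unfold xx
  rw [dif_pos hij]
  exact hφ ⟨(i, j), hij⟩ t

/-- entries of a transvection -/
theorem wmat_transvection_apply (i j : Fin n) (t : K) (a b : Fin n) :
    Matrix.transvection i j t a b = (if a = b then 1 else 0) + (if a = i ∧ b = j then t else 0) := by
  unfold Matrix.transvection
  rw [Matrix.add_apply, Matrix.one_apply, Matrix.single_apply]
  congr 1
  by_cases h1 : i = a <;> by_cases h2 : j = b <;> simp [h1, h2, eq_comm]

/-- the matrix `T_ij(t) T_ji(-t⁻¹) T_ij(t)` -/
theorem wmat_matrix {i j : Fin n} (hij : i ≠ j) {t : K} (ht : t ≠ 0) (a b : Fin n) :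
    (Matrix.transvection i j t * Matrix.transvection j i (-t⁻¹) * Matrix.transvection i j t) a b =
      if a = Equiv.swap i j b then mu i j t b else 0 := by
  have hst : t * t⁻¹ = 1 := mul_inv_cancel₀ ht
  have hst' : t⁻¹ * t = 1 := inv_mul_cancel₀ ht
  have hji : j ≠ i := hij.symm
  rw [Matrix.mul_assoc]
  rcases eq_or_ne a i with rfl | hai
  · -- row `i`
    rw [Matrix.transvection_mul_apply_same,
      Matrix.transvection_mul_apply_of_ne j a a b hij, Matrix.transvection_mul_apply_same,
      wmat_transvection_apply, wmat_transvection_apply]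
    rcases eq_or_ne b a with rfl | hbi
    · rw [Equiv.swap_apply_left]
      simp [hij, hji]
      linear_combination (-1 : K) * hst
    · rcases eq_or_ne b j with rfl | hbj
      · rw [Equiv.swap_apply_right]
        simp [mu, hij, hji]
        right
        rw [hst']; ring
      · rw [Equiv.swap_apply_of_ne_of_ne hbi hbj]
        simp [hbj, hbi.symm, hbj.symm]
  · rw [Matrix.transvection_mul_apply_of_ne i j a b hai]
    rcases eq_or_ne a j with rfl | haj
    · -- row `j`
      rw [Matrix.transvection_mul_apply_same, wmat_transvection_apply, wmat_transvection_apply]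
      rcases eq_or_ne b i with rfl | hbi
      · rw [Equiv.swap_apply_left]
        simp [mu, hij, hji]
      · rcases eq_or_ne b a with rfl | hbj
        · rw [Equiv.swap_apply_right]
          simp [hij, hji]
          linear_combination (-1 : K) * hst'
        · rw [Equiv.swap_apply_of_ne_of_ne hbi hbj]
          simp [hbj, hbi.symm, hbj.symm, hai]
    · -- other rows
      rw [Matrix.transvection_mul_apply_of_ne j i a b haj, wmat_transvection_apply]
      rcases eq_or_ne b i with rfl | hbi
      · rw [Equiv.swap_apply_left]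
        simp [hai, haj]
      · rcases eq_or_ne b j with rfl | hbj
        · rw [Equiv.swap_apply_right]
          simp [hai, haj]
        · rw [Equiv.swap_apply_of_ne_of_ne hbi hbj]
          simp [mu, hai, hbi, hbj]

/-- STN-W-MAT: the image of `w_ij(t)` is the monomial matrix `e_b ↦ mu i j t b • e_(swap i j b)`. -/
theorem std_ww (φ : St K n →* SpecialLinearGroup (Fin n) K) (hφ : IsStd φ) {i j : Fin n} (hij : i ≠ j)
    {t : K} (ht : t ≠ 0) (a b : Fin n) :
    (φ (ww i j t)).1 a b = if a = Equiv.swap i j b then mu i j t b else 0 := by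
  unfold ww
  rw [map_mul, map_mul]
  show ((φ (xx i j t)).1 * (φ (xx j i (-t⁻¹))).1 * (φ (xx i j t)).1) a b = _
  rw [wmat_std_xx φ hφ hij, wmat_std_xx φ hφ hij.symm]
  exact wmat_matrix hij ht a b

end Cfsg.Agent.Lib.Helper41.Stn
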