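import Mathlib

set_option autoImplicit false

/-!
# The automorphism group of a finite field is cyclic of order `f`
-/

namespace Cfsg.Agent.Lib.Helper43.RingAutFin

variable {F : Type*} [Field F] [Fintype F]

/-- ring automorphisms of a field of characteristic `p` are `ZMod p`-algebra automorphisms -/
noncomputable def algEquivRingAut (p : ℕ) [Fact p.Prime] [CharP F p] :
    letI : Algebra (ZMod p) F := ZMod.algebra F p
    (F ≃ₐ[ZMod p] F) ≃* (F ≃+* F) :=
  letI : Algebra (ZMod p) F := ZMod.algebra F p
  { toFun := fun e => e.toRingEquiv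
    invFun := fun σ => AlgEquiv.ofRingEquiv (f := σ) (fun r => by
      have := Subsingleton.elim ((σ : F →+* F).comp (algebraMap (ZMod p) F)) (algebraMap (ZMod p) F)
      exact DFunLike.congr_fun this r)
    left_inv := fun e => by ext x; rfl
    right_inv := fun σ => by ext x; rfl
    map_mul' := fun e₁ e₂ => by ext x; rfl }

theorem isCyclic_ringAut (p : ℕ) [Fact p.Prime] [CharP F p] : IsCyclic (F ≃+* F) := by
  letI : Algebra (ZMod p) F := ZMod.algebra F p
  exact isCyclic_of_surjective (algEquivRingAut (F := F) p).toMonoidHom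
    (algEquivRingAut (F := F) p).surjective

theorem card_ringAut (p : ℕ) [Fact p.Prime] [CharP F p] {f : ℕ} (hF : Fintype.card F = p ^ f) :
    Nat.card (F ≃+* F) = f := by
  letI : Algebra (ZMod p) F := ZMod.algebra F p
  rw [← Nat.card_congr (algEquivRingAut (F := F) p).toEquiv, IsGalois.card_aut_eq_finrank]
  have h1 := FiniteField.pow_finrank_eq_card p F
  rw [hF] at h1
  exact Nat.pow_right_injective (Fact.out : p.Prime).two_le h1

theorem card_ringAut' {p f : ℕ} [Fact p.Prime] (hF : Fintype.card F = p ^ f) :
    Nat.card (F ≃+* F) = f := by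
  haveI : CharP F p := charP_of_card_eq_prime_pow hF
  exact card_ringAut p hF

theorem nonempty_mulEquiv_zmod {p f : ℕ} [Fact p.Prime] (hf : 1 ≤ f)
    (hF : Fintype.card F = p ^ f) : Nonempty ((F ≃+* F) ≃* Multiplicative (ZMod f)) := by
  haveI : CharP F p := charP_of_card_eq_prime_pow hF
  haveI : NeZero f := ⟨by omega⟩
  haveI : IsCyclic (F ≃+* F) := isCyclic_ringAut p
  have hcard : Nat.card (F ≃+* F) = Nat.card (Multiplicative (ZMod f)) := by
    rw [card_ringAut p hF, Nat.card_eq_fintype_card, Fintype.card_multiplicative, ZMod.card]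
  exact ⟨mulEquivOfCyclicCardEq hcard⟩

end Cfsg.Agent.Lib.Helper43.RingAutFin
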