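import Mathlib
import Cfsg.Agent.Lib.Helper4.LcDefs

/-! # Lc hive (helper4, S0406), leaf LC-FRAME `frame_exists`:
a frame of 24 pairwise orthogonal vectors of norm 8, congruent modulo 2. -/

set_option autoImplicit false
open Matrix

namespace Cfsg.Agent.Lib.Helper4.Lc

open Cfsg.Agent.Lib.Golay.Cross48 (Hyp Qf bf)

section frame
variable {B : Matrix (Fin 24) (Fin 24) ℤ}

/-- LC-FRAME -/
theorem frame_exists (h : Hyp B) : ∃ e : Fin 24 → V, (∀ i, Qf B (e i) = 8) ∧
    (∀ i j, i ≠ j → bf B (e i) (e j) = 0) ∧ (∀ i j k, (2 : ℤ) ∣ (e i - e j) k) := by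
  classical
  -- a vector of norm 8
  have hne : {x : V | Qf B x = 8}.Nonempty := by
    apply Set.nonempty_of_ncard_ne_zero
    rw [h.h8]; norm_num
  obtain ⟨x, hx⟩ := hne
  have hx8 : Qf B x = 8 := hx
  have h48 := Cfsg.Agent.Lib.Golay.Cross48.card_cross h x hx8
  have hfin : {y : V | Qf B y = 8 ∧ ∀ i, (2 : ℤ) ∣ (x - y) i}.Finite := by
    apply Set.finite_of_ncard_ne_zero
    rw [h48]; norm_num
  set F : Finset V := hfin.toFinset with hF
  have hFmem : ∀ y, y ∈ F ↔ (Qf B y = 8 ∧ ∀ i, (2 : ℤ) ∣ (x - y) i) := by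
    intro y
    rw [hF, Set.Finite.mem_toFinset]
    rfl
  have hFcard : F.card = 48 := by
    rw [← h48, Set.ncard_eq_toFinset_card _ hfin]
  have hQ : ∀ y ∈ F, Qf B y ≠ 0 := by
    intro y hy
    rw [((hFmem y).mp hy).1]; norm_num
  have hcong : ∀ y ∈ F, ∀ y' ∈ F, ∀ i, (2 : ℤ) ∣ (y - y') i := by
    intro y hy y' hy' i
    have h1 := ((hFmem y).mp hy).2 i
    have h2 := ((hFmem y').mp hy').2 i
    have : (y - y') i = (x - y') i - (x - y) i := by
      simp only [Pi.sub_apply]; ring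
    rw [this]
    exact dvd_sub h2 h1
  have hpair : ∀ y ∈ F, ∀ y' ∈ F, y' = y ∨ y' = -y ∨ bf B y y' = 0 := by
    intro y hy y' hy'
    have h1 := ((hFmem y).mp hy).1
    have h2 := ((hFmem y').mp hy').1
    rcases Cfsg.Agent.Lib.Golay.Cross48.key h (le_of_eq h1) (le_of_eq h2) (hcong y hy y' hy')
      with e | e | e
    · exact Or.inl e
    · exact Or.inr (Or.inl e)
    · exact Or.inr (Or.inr e.2.2)
  have h0 : ∀ y ∈ F, y ≠ 0 := by
    intro y hy e
    apply hQ y hy
    rw [e, Cfsg.Agent.Lib.Golay.Cross48.Qf_zero]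
  have hsub : F ⊆ F.filter Cfsg.Agent.Lib.Golay.Cross48.lexpos ∪
      F.filter (fun y => Cfsg.Agent.Lib.Golay.Cross48.lexpos (-y)) := by
    intro y hy
    rw [Finset.mem_union, Finset.mem_filter, Finset.mem_filter]
    rcases Cfsg.Agent.Lib.Golay.Cross48.lexpos_or y (h0 y hy) with hp | hp
    · exact Or.inl ⟨hy, hp⟩
    · exact Or.inr ⟨hy, hp⟩
  have horthG : ∀ y ∈ F.filter Cfsg.Agent.Lib.Golay.Cross48.lexpos,
      ∀ y' ∈ F.filter Cfsg.Agent.Lib.Golay.Cross48.lexpos, y ≠ y' → bf B y y' = 0 := by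
    intro y hy y' hy' hne
    rw [Finset.mem_filter] at hy hy'
    rcases hpair y hy.1 y' hy'.1 with e | e | e
    · exact absurd e.symm hne
    · exfalso
      apply Cfsg.Agent.Lib.Golay.Cross48.not_lexpos_both y
      exact ⟨hy.2, by rw [← e]; exact hy'.2⟩
    · exact e
  have h1 : (F.filter Cfsg.Agent.Lib.Golay.Cross48.lexpos).card ≤ 24 := by
    apply Cfsg.Agent.Lib.Golay.Cross48.orth_card_le (B := B)
    · intro y hy; exact hQ y (Finset.mem_filter.mp hy).1
    · exact horthG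
  have h2 : (F.filter (fun y => Cfsg.Agent.Lib.Golay.Cross48.lexpos (-y))).card ≤ 24 := by
    apply Cfsg.Agent.Lib.Golay.Cross48.orth_card_le (B := B)
    · intro y hy; exact hQ y (Finset.mem_filter.mp hy).1
    · intro y hy y' hy' hne
      rw [Finset.mem_filter] at hy hy'
      rcases hpair y hy.1 y' hy'.1 with e | e | e
      · exact absurd e.symm hne
      · exfalso
        apply Cfsg.Agent.Lib.Golay.Cross48.not_lexpos_both y
        refine ⟨?_, hy.2⟩
        have := hy'.2
        rw [e, neg_neg] at this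
        exact this
      · exact e
  have h3 : F.card ≤ (F.filter Cfsg.Agent.Lib.Golay.Cross48.lexpos).card +
      (F.filter (fun y => Cfsg.Agent.Lib.Golay.Cross48.lexpos (-y))).card :=
    (Finset.card_le_card hsub).trans (Finset.card_union_le _ _)
  have hG24 : (F.filter Cfsg.Agent.Lib.Golay.Cross48.lexpos).card = 24 := by omega
  let eq := (Finset.equivFinOfCardEq hG24).symm
  refine ⟨fun i => ((eq i : {y // y ∈ F.filter Cfsg.Agent.Lib.Golay.Cross48.lexpos}) : V),
    ?_, ?_, ?_⟩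
  · intro i
    have hm := (eq i).2
    rw [Finset.mem_filter] at hm
    exact ((hFmem _).mp hm.1).1
  · intro i j hij
    apply horthG _ (eq i).2 _ (eq j).2
    intro he
    exact hij (eq.injective (Subtype.ext he))
  · intro i j k
    have hmi := (eq i).2
    have hmj := (eq j).2
    rw [Finset.mem_filter] at hmi hmj
    exact hcong _ hmi.1 _ hmj.1 k

end frame

end Cfsg.Agent.Lib.Helper4.Lc
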