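import Mathlib
import Cfsg.Agent.Lib.Helper4.LcDefs

/-! # Lc hive (helper4, S0406), leaf LC-FROF `fr_of_frame`, core with the Parseval identity
(LC-PARS) as a hypothesis. -/

set_option autoImplicit false
open Matrix

namespace Cfsg.Agent.Lib.Helper4.Lc

open Cfsg.Agent.Lib.Golay.Cross48 (Hyp Qf bf)

section frame
variable {B : Matrix (Fin 24) (Fin 24) ℤ}

/-- LC-FROF, with the Parseval identity as a hypothesis -/
theorem lcfrof_core (h : Hyp B) (e : Fin 24 → V) (he8 : ∀ i, Qf B (e i) = 8)
    (horth : ∀ i j, i ≠ j → bf B (e i) (e j) = 0) (hcong : ∀ i j k, (2 : ℤ) ∣ (e i - e j) k)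
    (hpars : ∀ x y : V, ∑ i, bf B x (e i) * bf B y (e i) = 8 * bf B x y) :
    Fr (AddMonoidHom.range (phi B e)) := by
  have hdotφ : ∀ x y : V, dot (phi B e x) (phi B e y) = 8 * bf B x y := by
    intro x y
    unfold dot
    simp only [phi_apply]
    exact hpars x y
  have hsqφ : ∀ x : V, sq (phi B e x) = 8 * Qf B x := by
    intro x
    unfold sq
    simp only [phi_apply, pow_two]
    rw [hpars x x, Cfsg.Agent.Lib.Golay.Cross48.bf_self]
  have hinj : Function.Injective (phi B e) := by
    rw [injective_iff_map_eq_zero]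
    intro x hx
    by_contra hx0
    have hpos := h.pos x hx0
    have hsq := hsqφ x
    rw [hx] at hsq
    have h0 : sq (0 : V) = 0 := by simp [sq]
    omega
  refine ⟨?_, ?_, ?_, ?_, ?_, ?_⟩
  · rintro v ⟨x, rfl⟩ w ⟨y, rfl⟩
    rw [hdotφ]
    exact dvd_mul_right 8 _
  · rintro v ⟨x, rfl⟩
    rw [hsqφ]
    obtain ⟨k, hk⟩ := h.even x
    exact ⟨k, by rw [hk]; ring⟩
  · rintro v ⟨x, rfl⟩ h16
    rw [hsqφ] at h16
    exact h.no2 x (by omega)
  · intro i
    refine ⟨e i, ?_⟩
    funext j
    rw [phi_apply]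
    by_cases hji : j = i
    · subst hji
      rw [Pi.single_eq_same, Cfsg.Agent.Lib.Golay.Cross48.bf_self, he8]
    · rw [Pi.single_eq_of_ne hji, horth i j (fun hh => hji hh.symm)]
  · intro i j hij
    have hdiv : ∀ k, (2 : ℤ) ∣ e i k + e j k := by
      intro k
      have h1 := hcong i j k
      have : e i k + e j k = (e i - e j) k + 2 * e j k := by
        simp only [Pi.sub_apply]; ring
      rw [this]
      exact dvd_add h1 (dvd_mul_right 2 _)
    refine ⟨fun k => (e i k + e j k) / 2, ?_⟩
    have h2z : (2 : ℤ) • (fun k => (e i k + e j k) / 2 : V) = e i + e j := by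
      funext k
      simp only [Pi.smul_apply, smul_eq_mul, Pi.add_apply]
      exact Int.mul_ediv_cancel' (hdiv k)
    funext k
    rw [phi_apply]
    have hk : 2 * bf B (fun k => (e i k + e j k) / 2 : V) (e k) =
        bf B (e i) (e k) + bf B (e j) (e k) := by
      rw [← Cfsg.Agent.Lib.Golay.Cross48.bf_smul_left, h2z,
        Cfsg.Agent.Lib.Golay.Cross48.bf_add_left]
    simp only [Pi.add_apply]
    by_cases hki : k = i
    · subst hki
      rw [Pi.single_eq_same, Pi.single_eq_of_ne hij]
      rw [Cfsg.Agent.Lib.Golay.Cross48.bf_self, he8, horth j k (fun hh => hij hh.symm)] at hk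
      omega
    · by_cases hkj : k = j
      · subst hkj
        rw [Pi.single_eq_same, Pi.single_eq_of_ne hki]
        rw [Cfsg.Agent.Lib.Golay.Cross48.bf_self, he8, horth i k hij] at hk
        omega
      · rw [Pi.single_eq_of_ne hki, Pi.single_eq_of_ne hkj]
        rw [horth i k (fun hh => hki hh.symm), horth j k (fun hh => hkj hh.symm)] at hk
        omega
  · have hset : {v : V | v ∈ AddMonoidHom.range (phi B e) ∧ sq v = 32} =
        (phi B e) '' {x : V | Qf B x = 4} := by
      ext v
      simp only [Set.mem_ofPred_eq, Set.mem_image, AddMonoidHom.mem_range]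
      constructor
      · rintro ⟨⟨x, rfl⟩, h32⟩
        refine ⟨x, ?_, rfl⟩
        rw [hsqφ] at h32
        omega
      · rintro ⟨x, hx4, rfl⟩
        refine ⟨⟨x, rfl⟩, ?_⟩
        rw [hsqφ, hx4]
        norm_num
    rw [hset, Set.ncard_image_of_injective _ hinj, h.h4]

end frame

end Cfsg.Agent.Lib.Helper4.Lc
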