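import Mathlib
import Cfsg.Agent.Lib.Helper4.LcDefs
import Cfsg.Agent.Lib.Helper61.LcPARS
import Cfsg.Agent.Lib.Helper43.LcFROFcore

/-! # Lc hive (helper4, S0406), leaf LC-FROF `fr_of_frame`. -/

set_option autoImplicit false
open Matrix

namespace Cfsg.Agent.Lib.Helper4.Lc

open Cfsg.Agent.Lib.Golay.Cross48 (Hyp Qf bf)

section frame
variable {B : Matrix (Fin 24) (Fin 24) ℤ}

/-- LC-FROF -/
theorem fr_of_frame (h : Hyp B) (e : Fin 24 → V) (he8 : ∀ i, Qf B (e i) = 8)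
    (horth : ∀ i j, i ≠ j → bf B (e i) (e j) = 0) (hcong : ∀ i j k, (2 : ℤ) ∣ (e i - e j) k) :
    Fr (AddMonoidHom.range (phi B e)) :=
  lcfrof_core h e he8 horth hcong (parseval_bf h.symm e he8 horth)

end frame

end Cfsg.Agent.Lib.Helper4.Lc
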