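import Mathlib
import Cfsg.Prelude.Def_ClassicalGeometry
import Cfsg.Agent.Lib.Helper4.NdDefs

/-! S5956 hive (helper4), leaves ND-T1 / ND-T2: transport between matrices and linear maps (helper43) -/

set_option autoImplicit false
open Matrix
open Cfsg.Agent.Lib.Helper99 (Nd dker sympB)

namespace Cfsg.Agent.Lib.Helper4.NdH

universe u v

variable {F : Type u} [Field F]

/-- ND-T1 -/
theorem mem_symplectic_of_isom (d : ℕ)
    (u : (Fin d ⊕ Fin d → F) →ₗ[F] (Fin d ⊕ Fin d → F)) (hu : Isom (sympB (F := F) d) u) :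
    LinearMap.toMatrix' u ∈ Matrix.symplecticGroup (Fin d) F := by
  rw [SymplecticGroup.mem_iff']
  have h1 : LinearMap.BilinForm.comp (sympB (F := F) d) u u = sympB (F := F) d := by
    apply LinearMap.ext
    intro x
    apply LinearMap.ext
    intro y
    exact hu x y
  have h2 := congrArg LinearMap.BilinForm.toMatrix' h1
  rw [LinearMap.BilinForm.toMatrix'_comp] at h2
  unfold sympB at h2
  rw [LinearMap.BilinForm.toMatrix'_toBilin'] at h2
  exact h2

/-- ND-T2 : `x^r` is symplectic, so `(z • 1)ᵀ J (z • 1) = J` gives `z² = 1`. -/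
theorem sq_eq_one_of_pow_eq_smul (d : ℕ) (hd : 1 ≤ d) (x : Matrix.symplecticGroup (Fin d) F)
    (r : ℕ) (z : F)
    (hx : ((x ^ r : Matrix.symplecticGroup (Fin d) F) : Matrix (Fin d ⊕ Fin d) (Fin d ⊕ Fin d) F) =
      z • (1 : Matrix (Fin d ⊕ Fin d) (Fin d ⊕ Fin d) F)) : z * z = 1 := by
  have h1 := SymplecticGroup.mem_iff.mp (x ^ r).2
  rw [hx] at h1
  have h2 : (z * z) • Matrix.J (Fin d) F = Matrix.J (Fin d) F := by
    have h0 : (z • (1 : Matrix (Fin d ⊕ Fin d) (Fin d ⊕ Fin d) F)) * Matrix.J (Fin d) F *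
        (z • (1 : Matrix (Fin d ⊕ Fin d) (Fin d ⊕ Fin d) F))ᵀ = (z * z) • Matrix.J (Fin d) F := by
      rw [Matrix.transpose_smul, Matrix.transpose_one, Matrix.smul_mul, Matrix.one_mul,
        Matrix.mul_smul, Matrix.mul_one, smul_smul]
    rw [← h0]
    exact h1
  have h3 := congrFun (congrFun h2 (Sum.inl ⟨0, by omega⟩)) (Sum.inr ⟨0, by omega⟩)
  rw [Matrix.smul_apply, Matrix.J, Matrix.fromBlocks_apply₁₂, Matrix.neg_apply, Matrix.one_apply_eq,
    smul_eq_mul] at h3
  linear_combination -h3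

end Cfsg.Agent.Lib.Helper4.NdH
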