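import Mathlib
import Cfsg.Agent.Lib.Helper40.OpBNDefs
import Cfsg.Agent.Lib.Helper43.SpBN_WEYL

/-! # S2548 hive (helper40), leaf WEYLD: the even elements of the centraliser of `Sum.swap` in
`Perm (Fin m ⊕ Fin m)` (`= W(D_m)`) are generated by the simple generators of type `D` (helper43) -/

set_option autoImplicit false

namespace Cfsg.Agent.Lib.Helper40.OpBN

open Equiv Cfsg.Agent.Lib.Helper41.SpBN

variable {m : ℕ}

/-- the subgroup generated by the simple generators of type `D` -/
def weyld_H (m : ℕ) : Subgroup (Equiv.Perm (Idx m)) :=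
  Subgroup.closure {σ : Equiv.Perm (Idx m) | IsSimpleGenD σ}

/-- the diagonal copy of `Perm (Fin m)` lies in the generated subgroup -/
theorem weyld_short_mem (τ : Equiv.Perm (Fin m)) : Equiv.Perm.sumCongr τ τ ∈ weyld_H m := by
  cases m with
  | zero =>
    have : Equiv.Perm.sumCongr τ τ = 1 := Subsingleton.elim _ _
    rw [this]
    exact Subgroup.one_mem _
  | succ n =>
    have hτ : τ ∈ Submonoid.closure
        (Set.range fun i : Fin n => Equiv.swap i.castSucc i.succ) := by
      rw [Equiv.Perm.mclosure_swap_castSucc_succ]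
      trivial
    induction hτ using Submonoid.closure_induction with
    | mem x hx =>
      obtain ⟨i, rfl⟩ := hx
      rw [weyl_sumCongr_swap]
      refine Subgroup.subset_closure (Or.inl ⟨i.castSucc, i.succ, ?_, rfl⟩)
      simp
    | one =>
      rw [Equiv.Perm.sumCongr_one]
      exact Subgroup.one_mem _
    | mul x y _ _ hx hy =>
      rw [← Equiv.Perm.sumCongr_mul]
      exact Subgroup.mul_mem _ hx hy

/-- the flip `(e_i f_i)` -/
def weyld_flip (i : Fin m) : Equiv.Perm (Idx m) := Equiv.swap (Sum.inl i) (Sum.inr i)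

theorem weyld_flip_inl (i : Fin m) : weyld_flip i (Sum.inl i) = Sum.inr i :=
  Equiv.swap_apply_left _ _

theorem weyld_flip_inr (i : Fin m) : weyld_flip i (Sum.inr i) = Sum.inl i :=
  Equiv.swap_apply_right _ _

theorem weyld_flip_inl_ne {i l : Fin m} (h : l ≠ i) : weyld_flip i (Sum.inl l) = Sum.inl l :=
  Equiv.swap_apply_of_ne_of_ne (fun e => h (Sum.inl.inj e)) (by simp)

theorem weyld_flip_inr_ne {i l : Fin m} (h : l ≠ i) : weyld_flip i (Sum.inr l) = Sum.inr l :=
  Equiv.swap_apply_of_ne_of_ne (by simp) (fun e => h (Sum.inr.inj e))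

theorem weyld_flip_mul_self (i : Fin m) : weyld_flip i * weyld_flip i = 1 :=
  Equiv.swap_mul_self _ _

theorem weyld_sign_flip (i : Fin m) : Equiv.Perm.sign (weyld_flip i) = -1 :=
  Equiv.Perm.sign_swap (by simp)

/-- conjugating a flip by a diagonal permutation -/
theorem weyld_conj_flip (τ : Equiv.Perm (Fin m)) (i : Fin m) :
    Equiv.Perm.sumCongr τ τ * weyld_flip i * (Equiv.Perm.sumCongr τ τ)⁻¹ = weyld_flip (τ i) := by
  unfold weyld_flip
  rw [← Equiv.swap_apply_apply]
  rfl

/-- `simpleD k k' = flip_{k'} * simpleShort k k' * flip_{k'}` -/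
theorem weyld_simpleD_eq (k k' : Fin m) (hkk : k ≠ k') :
    simpleD k k' = weyld_flip k' * simpleShort k k' * (weyld_flip k')⁻¹ := by
  unfold simpleD simpleShort
  have h1 : weyld_flip k' * Equiv.swap (Sum.inl k) (Sum.inl k') * (weyld_flip k')⁻¹ =
      Equiv.swap (Sum.inl k) (Sum.inr k') := by
    rw [← Equiv.swap_apply_apply, weyld_flip_inl_ne hkk, weyld_flip_inl]
  have h2 : weyld_flip k' * Equiv.swap (Sum.inr k) (Sum.inr k') * (weyld_flip k')⁻¹ =
      Equiv.swap (Sum.inl k') (Sum.inr k) := by
    rw [← Equiv.swap_apply_apply, weyld_flip_inr_ne hkk, weyld_flip_inr, Equiv.swap_comm]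
  rw [← h1, ← h2]
  group

/-- the product of the last two flips lies in the generated subgroup -/
theorem weyld_last_pair (k k' : Fin m) (hkk : (k : ℕ) + 1 = (k' : ℕ)) (hk' : (k' : ℕ) + 1 = m) :
    weyld_flip k' * weyld_flip k ∈ weyld_H m := by
  have hne : k ≠ k' := by
    intro h
    rw [h] at hkk
    omega
  have hS : simpleShort k k' ∈ weyld_H m := Subgroup.subset_closure (Or.inl ⟨k, k', hkk, rfl⟩)
  have hD : simpleD k k' ∈ weyld_H m := Subgroup.subset_closure (Or.inr ⟨k, k', hkk, hk', rfl⟩)
  have h1 : simpleShort k k' = Equiv.Perm.sumCongr (Equiv.swap k k') (Equiv.swap k k') :=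
    (weyl_sumCongr_swap k k').symm
  have h2 : simpleShort k k' * weyld_flip k' * (simpleShort k k')⁻¹ = weyld_flip k := by
    rw [h1, weyld_conj_flip, Equiv.swap_apply_right]
  have h3 : (simpleShort k k')⁻¹ = simpleShort k k' := by
    rw [h1, inv_eq_iff_mul_eq_one, Equiv.Perm.sumCongr_mul, Equiv.swap_mul_self,
      Equiv.Perm.sumCongr_one]
  have h4 : (weyld_flip k')⁻¹ = weyld_flip k' := by
    rw [inv_eq_iff_mul_eq_one, weyld_flip_mul_self]
  have h5 : simpleD k k' * simpleShort k k' = weyld_flip k' * weyld_flip k := by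
    rw [weyld_simpleD_eq k k' hne, ← h2, h3, h4]
    group
  rw [← h5]
  exact Subgroup.mul_mem _ hD hS

/-- a permutation with prescribed values at two points -/
theorem weyld_exists_perm {k k' i j : Fin m} (hkk : k ≠ k') (hij : i ≠ j) :
    ∃ τ : Equiv.Perm (Fin m), τ k' = i ∧ τ k = j := by
  refine ⟨Equiv.swap (Equiv.swap k' i k) j * Equiv.swap k' i, ?_, ?_⟩
  · rw [Equiv.Perm.mul_apply, Equiv.swap_apply_left]
    apply Equiv.swap_apply_of_ne_of_ne
    · intro h
      have h1 := congrArg (Equiv.swap k' i) h
      rw [Equiv.swap_apply_self, Equiv.swap_apply_right] at h1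
      exact hkk h1.symm
    · exact hij
  · rw [Equiv.Perm.mul_apply, Equiv.swap_apply_left]

/-- every product of two distinct flips lies in the generated subgroup -/
theorem weyld_pair_mem {i j : Fin m} (hij : i ≠ j) : weyld_flip i * weyld_flip j ∈ weyld_H m := by
  have hm : 2 ≤ m := by
    have h1 := i.isLt
    have h2 := j.isLt
    have h3 : (i : ℕ) ≠ (j : ℕ) := fun h => hij (Fin.ext h)
    omega
  set k : Fin m := ⟨m - 2, by omega⟩ with hk
  set k' : Fin m := ⟨m - 1, by omega⟩ with hk'
  have hkk : (k : ℕ) + 1 = (k' : ℕ) := by simp only [hk, hk']; omega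
  have hk'm : (k' : ℕ) + 1 = m := by simp only [hk']; omega
  have hne : k ≠ k' := by
    intro h
    rw [h] at hkk
    omega
  obtain ⟨τ, hτ1, hτ2⟩ := weyld_exists_perm hne hij
  have h1 := weyld_last_pair k k' hkk hk'm
  have h2 := weyld_short_mem τ
  have h3 : Equiv.Perm.sumCongr τ τ * (weyld_flip k' * weyld_flip k) * (Equiv.Perm.sumCongr τ τ)⁻¹ =
      weyld_flip i * weyld_flip j := by
    rw [← hτ1, ← hτ2, ← weyld_conj_flip τ k', ← weyld_conj_flip τ k]
    group
  rw [← h3]
  exact Subgroup.mul_mem _ (Subgroup.mul_mem _ h2 h1) (Subgroup.inv_mem _ h2)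

/-- an even product of flips lies in the generated subgroup -/
theorem weyld_flips : ∀ (n : ℕ) (π : Equiv.Perm (Idx m)), (∀ a, π a.swap = (π a).swap) →
    (∀ a, weyl_proj (π a) = weyl_proj a) → Equiv.Perm.sign π = 1 →
    (Finset.univ.filter (fun i : Fin m => π (Sum.inl i) ≠ Sum.inl i)).card = n →
    π ∈ weyld_H m := by
  classical
  intro n
  induction n using Nat.strong_induction_on with
  | _ n ih =>
    intro π hπ hp hs hn
    have hinr : ∀ l : Fin m, π (Sum.inr l) = (π (Sum.inl l)).swap := by
      intro l
      have := hπ (Sum.inl l)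
      rwa [Sum.swap_inl] at this
    by_cases hS : ∀ i : Fin m, π (Sum.inl i) = Sum.inl i
    · have : π = 1 := by
        ext a
        rcases a with i | i
        · rw [hS i]; rfl
        · rw [hinr, hS i]; rfl
      rw [this]
      exact Subgroup.one_mem _
    · push Not at hS
      obtain ⟨i, hi⟩ := hS
      have hi' : π (Sum.inl i) = Sum.inr i := by
        rcases weyl_eq_of_proj (hp (Sum.inl i)) with h' | h'
        · exact absurd h' hi
        · exact h'
      by_cases hj : ∃ j, j ≠ i ∧ π (Sum.inl j) ≠ Sum.inl j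
      · obtain ⟨j, hji, hj⟩ := hj
        have hj' : π (Sum.inl j) = Sum.inr j := by
          rcases weyl_eq_of_proj (hp (Sum.inl j)) with h' | h'
          · exact absurd h' hj
          · exact h'
        set f : Equiv.Perm (Idx m) := weyld_flip i * weyld_flip j with hf
        have hfm : f ∈ weyld_H m := weyld_pair_mem (Ne.symm hji)
        have hlt : (Finset.univ.filter (fun l : Fin m => (f * π) (Sum.inl l) ≠ Sum.inl l)).card < n := by
          rw [← hn]
          apply Finset.card_lt_card
          rw [Finset.ssubset_iff_of_subset]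
          · refine ⟨i, ?_, ?_⟩
            · rw [Finset.mem_filter]
              exact ⟨Finset.mem_univ _, hi⟩
            · rw [Finset.mem_filter]
              intro h
              apply h.2
              rw [Equiv.Perm.mul_apply, hi', hf, Equiv.Perm.mul_apply,
                weyld_flip_inr_ne (Ne.symm hji), weyld_flip_inr]
          · intro l hl
            rw [Finset.mem_filter] at hl ⊢
            refine ⟨Finset.mem_univ _, ?_⟩
            intro h
            apply hl.2
            have hli : l ≠ i := by
              intro e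
              rw [e] at h
              exact hi h
            have hlj : l ≠ j := by
              intro e
              rw [e] at h
              exact hj h
            rw [Equiv.Perm.mul_apply, h, hf, Equiv.Perm.mul_apply, weyld_flip_inl_ne hlj,
              weyld_flip_inl_ne hli]
        have hmem : f * π ∈ weyld_H m := by
          apply ih _ hlt (f * π) ?_ ?_ ?_ rfl
          · intro a
            rw [Equiv.Perm.mul_apply, Equiv.Perm.mul_apply, hπ a, hf, Equiv.Perm.mul_apply,
              Equiv.Perm.mul_apply]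
            unfold weyld_flip
            rw [weyl_flip_comm, weyl_flip_comm]
          · intro a
            rw [Equiv.Perm.mul_apply, hf, Equiv.Perm.mul_apply]
            unfold weyld_flip
            rw [weyl_flip_proj, weyl_flip_proj, hp a]
          · rw [Equiv.Perm.sign_mul, hs, hf, Equiv.Perm.sign_mul, weyld_sign_flip, weyld_sign_flip]
            rfl
        have : π = f⁻¹ * (f * π) := by rw [inv_mul_cancel_left]
        rw [this]
        exact Subgroup.mul_mem _ (Subgroup.inv_mem _ hfm) hmem
      · exfalso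
        push Not at hj
        have : π = weyld_flip i := by
          ext a
          rcases a with l | l
          · by_cases hl : l = i
            · rw [hl, hi', weyld_flip_inl]
            · rw [hj l hl, weyld_flip_inl_ne hl]
          · by_cases hl : l = i
            · rw [hl, hinr, hi', weyld_flip_inr]; rfl
            · rw [hinr, hj l hl, weyld_flip_inr_ne hl]; rfl
        rw [this, weyld_sign_flip] at hs
        exact absurd hs (by decide)

/-- LEAF WEYLD (pure permutations): the even elements of the centraliser of `Sum.swap` (`= W(D_m)`) are generated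
by the simple generators. -/
theorem weylD_gen (π : Equiv.Perm (Idx m)) (hπ : ∀ a, π a.swap = (π a).swap)
    (hsign : Equiv.Perm.sign π = 1) :
    π ∈ Subgroup.closure {σ : Equiv.Perm (Idx m) | IsSimpleGenD σ} := by
  change π ∈ weyld_H m
  set τ := weyl_tau π hπ with hτ
  set g : Equiv.Perm (Idx m) := Equiv.Perm.sumCongr τ τ with hg
  have hgm : g ∈ weyld_H m := weyld_short_mem τ
  have hgc : ∀ a, g a.swap = (g a).swap := by
    intro a
    rcases a with i | i <;> rfl
  have hgp : ∀ a, weyl_proj (g⁻¹ a) = τ⁻¹ (weyl_proj a) := by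
    intro a
    rcases a with i | i <;> rfl
  have hπp : ∀ a, weyl_proj (π a) = τ (weyl_proj a) := by
    intro a
    rw [weyl_proj_apply hπ]
    rfl
  have hgs : Equiv.Perm.sign g = 1 := by
    rw [hg, Equiv.Perm.sign_sumCongr]
    exact Int.units_mul_self _
  have hmem : g⁻¹ * π ∈ weyld_H m := by
    apply weyld_flips _ (g⁻¹ * π) ?_ ?_ ?_ rfl
    · intro a
      rw [Equiv.Perm.mul_apply, Equiv.Perm.mul_apply, hπ a, weyl_comm_inv hgc]
    · intro a
      rw [Equiv.Perm.mul_apply, hgp, hπp, weyl_inv_apply]
    · rw [Equiv.Perm.sign_mul, Equiv.Perm.sign_inv, hgs, hsign, one_mul]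
  have : π = g * (g⁻¹ * π) := by
    rw [mul_inv_cancel_left]
  rw [this]
  exact Subgroup.mul_mem _ hgm hmem

end Cfsg.Agent.Lib.Helper40.OpBN
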