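import Cfsg.Agent.Lib.Helper41.StnDefs
import Cfsg.Agent.Lib.Helper43.Stn_WMAT

/-! # Stn hive (S2401, helper41), leaf Stn-HMAT: the image of `h_ij(t)` under a standard hom is the
diagonal matrix `diag(dd i j t)`. -/

set_option autoImplicit false

namespace Cfsg.Agent.Lib.Helper41.Stn

open Matrix

variable {K : Type*} [Field K] {n : ℕ}

/-- STN-H-MAT -/
theorem std_hh (φ : St K n →* SpecialLinearGroup (Fin n) K) (hφ : IsStd φ) {i j : Fin n} (hij : i ≠ j)
    {t : K} (ht : t ≠ 0) : (φ (hh i j t)).1 = Matrix.diagonal (dd i j t) := by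
  have h1 : (-1 : K) ≠ 0 := by simp
  have hji : j ≠ i := hij.symm
  ext a b
  unfold hh
  rw [map_mul]
  show ((φ (ww i j t)).1 * (φ (ww i j (-1))).1) a b = _
  rw [Matrix.mul_apply, Finset.sum_eq_single (Equiv.swap i j b)]
  · rw [std_ww φ hφ hij ht, std_ww φ hφ hij h1, if_pos rfl, Equiv.swap_apply_self,
      Matrix.diagonal_apply]
    rcases eq_or_ne b i with rfl | hbi
    · rw [Equiv.swap_apply_left]
      by_cases hab : a = b
      · subst hab
        simp [mu, dd, hij, hji]
      · rw [if_neg hab, if_neg hab, zero_mul]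
    · rcases eq_or_ne b j with rfl | hbj
      · rw [Equiv.swap_apply_right]
        by_cases hab : a = b
        · subst hab
          simp [mu, dd, hij, hji]
        · rw [if_neg hab, if_neg hab, zero_mul]
      · rw [Equiv.swap_apply_of_ne_of_ne hbi hbj]
        by_cases hab : a = b
        · subst hab
          simp [mu, dd, hbi, hbj]
        · rw [if_neg hab, if_neg hab, zero_mul]
  · intro c _ hc
    rw [std_ww φ hφ hij h1 c b, if_neg hc, mul_zero]
  · intro h
    exact absurd (Finset.mem_univ _) h

end Cfsg.Agent.Lib.Helper41.Stn
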