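import Cfsg.Agent.Lib.Helper41.StnDefs
import Cfsg.Agent.Lib.Helper73.StnBINJDefs
import Cfsg.Agent.Lib.Helper43.Stn_WMAT

/-! # Stn hive (S2401, helper41), sub-hive BINJ (helper73), leaf BINJ-COLSTD: the image of the column
element `∏_{i<c} x_ic(t i)` under a standard hom is `1 + Σ_{i<c} t_i E_ic`. -/

set_option autoImplicit false

namespace Cfsg.Agent.Lib.Helper41.Stn

open Matrix

variable {K : Type*} [Field K] {n : ℕ}

/-- image of one factor -/
theorem binjcolstd_factor (φ : St K n →* SpecialLinearGroup (Fin n) K) (hφ : IsStd φ) (c : Fin n)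
    (t : Fin n → K) (i : Fin n) :
    (φ (if i < c then xx i c (t i) else 1)).1 =
      if i < c then Matrix.transvection i c (t i) else 1 := by
  by_cases h : i < c
  · rw [if_pos h, if_pos h]
    exact wmat_std_xx φ hφ (ne_of_lt h) (t i)
  · rw [if_neg h, if_neg h, map_one]
    rfl

/-- image of a partial product (over a list without repetitions) -/
theorem binjcolstd_list (φ : St K n →* SpecialLinearGroup (Fin n) K) (hφ : IsStd φ) (c : Fin n)
    (t : Fin n → K) (L : List (Fin n)) (hL : L.Nodup) (a b : Fin n) :
    (φ ((L.map (fun i => if i < c then xx i c (t i) else 1)).prod)).1 a b =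
      if a = b then 1 else if b = c ∧ a < c ∧ a ∈ L then t a else 0 := by
  induction L generalizing a b with
  | nil =>
    simp only [List.map_nil, List.prod_nil, map_one]
    show (1 : Matrix (Fin n) (Fin n) K) a b = _
    rw [Matrix.one_apply]
    simp
  | cons i L ih =>
    have hiL : i ∉ L := (List.nodup_cons.mp hL).1
    have hL' : L.Nodup := (List.nodup_cons.mp hL).2
    rw [List.map_cons, List.prod_cons, map_mul]
    show ((φ (if i < c then xx i c (t i) else 1)).1 *
      (φ ((L.map (fun i => if i < c then xx i c (t i) else 1)).prod)).1) a b = _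
    rw [binjcolstd_factor φ hφ c t i]
    by_cases hic : i < c
    · rw [if_pos hic]
      have hne : i ≠ c := ne_of_lt hic
      rcases eq_or_ne a i with rfl | hai
      · rw [Matrix.transvection_mul_apply_same, ih hL', ih hL']
        by_cases hab : a = b
        · subst hab
          rw [if_pos rfl, if_pos rfl, if_neg (Ne.symm hne)]
          rw [if_neg (by rintro ⟨h1, -⟩; exact hne h1), mul_zero, add_zero]
        · rw [if_neg hab, if_neg hab]
          rw [if_neg (by rintro ⟨-, -, h3⟩; exact hiL h3)]
          by_cases hbc : b = c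
          · subst hbc
            rw [if_pos rfl, if_pos ⟨rfl, hic, List.mem_cons_self⟩, zero_add, mul_one]
          · rw [if_neg (Ne.symm hbc), if_neg (by rintro ⟨h1, -⟩; exact hbc h1),
              if_neg (by rintro ⟨h1, -⟩; exact hbc h1), mul_zero, add_zero]
      · rw [Matrix.transvection_mul_apply_of_ne i c a b hai, ih hL']
        by_cases hab : a = b
        · rw [if_pos hab, if_pos hab]
        · rw [if_neg hab, if_neg hab]
          have : (b = c ∧ a < c ∧ a ∈ i :: L) ↔ (b = c ∧ a < c ∧ a ∈ L) := by
            rw [List.mem_cons]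
            constructor
            · rintro ⟨h1, h2, h3 | h3⟩
              · exact absurd h3 hai
              · exact ⟨h1, h2, h3⟩
            · rintro ⟨h1, h2, h3⟩
              exact ⟨h1, h2, Or.inr h3⟩
          rw [if_congr this rfl rfl]
    · rw [if_neg hic, one_mul, ih hL']
      by_cases hab : a = b
      · rw [if_pos hab, if_pos hab]
      · rw [if_neg hab, if_neg hab]
        have : (b = c ∧ a < c ∧ a ∈ i :: L) ↔ (b = c ∧ a < c ∧ a ∈ L) := by
          rw [List.mem_cons]
          constructor
          · rintro ⟨h1, h2, h3 | h3⟩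
            · exact absurd (h3 ▸ h2) hic
            · exact ⟨h1, h2, h3⟩
          · rintro ⟨h1, h2, h3⟩
            exact ⟨h1, h2, Or.inr h3⟩
        rw [if_congr this rfl rfl]

/-- BINJ-COLSTD -/
theorem std_colElt (φ : St K n →* SpecialLinearGroup (Fin n) K) (hφ : IsStd φ) (c : Fin n)
    (t : Fin n → K) (a b : Fin n) :
    (φ (colElt c t)).1 a b = if a = b then 1 else if b = c ∧ a < c then t a else 0 := by
  unfold colElt
  rw [binjcolstd_list φ hφ c t _ (List.nodup_finRange n)]
  by_cases hab : a = b
  · rw [if_pos hab, if_pos hab]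
  · rw [if_neg hab, if_neg hab]
    have : (b = c ∧ a < c ∧ a ∈ List.finRange n) ↔ (b = c ∧ a < c) := by
      constructor
      · rintro ⟨h1, h2, -⟩
        exact ⟨h1, h2⟩
      · rintro ⟨h1, h2⟩
        exact ⟨h1, h2, List.mem_finRange a⟩
    rw [if_congr this rfl rfl]

end Cfsg.Agent.Lib.Helper41.Stn
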