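import Cfsg.Agent.Lib.Helper41.StnDefs
import Cfsg.Agent.Lib.Helper73.StnBINJDefs
import Cfsg.Agent.Lib.Helper43.Stn_HMAT

/-! # Stn hive (S2401, helper41), sub-hive BINJ (helper73), leaf BINJ-STARSTD: the image of the star
element `∏_{i ≠ l} h_il(t i)` under a standard hom is the diagonal matrix `diag(starDiag l t)`. -/

set_option autoImplicit false

namespace Cfsg.Agent.Lib.Helper41.Stn

open Matrix

variable {K : Type*} [Field K] {n : ℕ}

/-- the diagonal of one factor of the star element -/
def binjstarstd_d (l : Fin n) (t : Fin n → K) (i : Fin n) : Fin n → K :=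
  if i ≠ l then dd i l (t i) else 1

/-- image of one factor -/
theorem binjstarstd_factor (φ : St K n →* SpecialLinearGroup (Fin n) K) (hφ : IsStd φ) (l : Fin n)
    {t : Fin n → K} (ht : ∀ i, t i ≠ 0) (i : Fin n) :
    (φ (if i ≠ l then hh i l (t i) else 1)).1 = Matrix.diagonal (binjstarstd_d l t i) := by
  unfold binjstarstd_d
  by_cases h : i ≠ l
  · rw [if_pos h, if_pos h]
    exact std_hh φ hφ h (ht i)
  · rw [if_neg h, if_neg h, map_one]
    show (1 : Matrix (Fin n) (Fin n) K) = _
    exact Matrix.diagonal_one.symm

/-- image of a partial product -/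
theorem binjstarstd_list (φ : St K n →* SpecialLinearGroup (Fin n) K) (hφ : IsStd φ) (l : Fin n)
    {t : Fin n → K} (ht : ∀ i, t i ≠ 0) (L : List (Fin n)) :
    (φ ((L.map (fun i => if i ≠ l then hh i l (t i) else 1)).prod)).1 =
      Matrix.diagonal (fun a => (L.map (fun i => binjstarstd_d l t i a)).prod) := by
  induction L with
  | nil =>
    simp only [List.map_nil, List.prod_nil, map_one]
    show (1 : Matrix (Fin n) (Fin n) K) = _
    exact Matrix.diagonal_one.symm
  | cons i L ih =>
    rw [List.map_cons, List.prod_cons, map_mul]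
    show (φ (if i ≠ l then hh i l (t i) else 1)).1 *
      (φ ((L.map (fun i => if i ≠ l then hh i l (t i) else 1)).prod)).1 = _
    rw [ih, binjstarstd_factor φ hφ l ht i, Matrix.diagonal_mul_diagonal]
    congr 1

/-- the product of the diagonals -/
theorem binjstarstd_prod (l : Fin n) (t : Fin n → K) (a : Fin n) :
    ∏ i, binjstarstd_d l t i a = starDiag l t a := by
  unfold starDiag
  by_cases hal : a = l
  · rw [if_pos hal]
    apply Finset.prod_congr rfl
    intro i _
    unfold binjstarstd_d
    by_cases h : i ≠ l
    · rw [if_pos h, if_pos h]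
      unfold dd
      rw [if_neg (by rw [hal]; exact h.symm), if_pos hal]
    · rw [if_neg h, if_neg h]
      rfl
  · rw [if_neg hal, Finset.prod_eq_single a]
    · unfold binjstarstd_d
      rw [if_pos hal]
      unfold dd
      rw [if_pos rfl]
    · intro i _ hia
      unfold binjstarstd_d
      by_cases h : i ≠ l
      · rw [if_pos h]
        unfold dd
        rw [if_neg (Ne.symm hia), if_neg hal]
      · rw [if_neg h]
        rfl
    · intro h
      exact absurd (Finset.mem_univ _) h

/-- BINJ-STARSTD -/
theorem std_starElt (φ : St K n →* SpecialLinearGroup (Fin n) K) (hφ : IsStd φ) (l : Fin n)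
    {t : Fin n → K} (ht : ∀ i, t i ≠ 0) :
    (φ (starElt l t)).1 = Matrix.diagonal (starDiag l t) := by
  unfold starElt
  rw [binjstarstd_list φ hφ l ht]
  congr 1
  funext a
  rw [← binjstarstd_prod l t a, Fin.prod_univ_def]

end Cfsg.Agent.Lib.Helper41.Stn
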