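import Mathlib
import Cfsg.Agent.Lib.Helper44.Darboux

/-!
# The determinant of an alternating matrix is a square (characteristic `≠ 2`) (helper43)

Via the Darboux basis of helper44: an invertible alternating matrix is `Pᵀ * A * P = J`-congruent to the standard
Gram matrix, whose determinant is `1`.
-/

set_option autoImplicit false

namespace Cfsg.Agent.Lib.Helper43

open Matrix Module

/-- the standard alternating Gram matrix has determinant `1` -/
theorem altdet_gramJ (N : ℕ) (F : Type*) [Field F] :
    (Cfsg.Agent.Lib.Helper44.gramJ N F).det = 1 := by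
  have h1 : (fromBlocks (1 : Matrix (Fin N) (Fin N) F) (-1) 0 1) * Cfsg.Agent.Lib.Helper44.gramJ N F =
      fromBlocks 1 1 (-1) 0 := by
    unfold Cfsg.Agent.Lib.Helper44.gramJ
    rw [fromBlocks_multiply]
    simp
  have h2 := congrArg Matrix.det h1
  rw [det_mul, det_fromBlocks_zero₂₁, det_one, one_mul, one_mul, det_fromBlocks_one₁₁] at h2
  rw [h2]
  simp

/-- `xᵀ A x = 0` for a skew-symmetric matrix in characteristic `≠ 2` -/
theorem altdet_isAlt {n : Type*} [Fintype n] [DecidableEq n] {F : Type*} [Field F] (h2 : (2 : F) ≠ 0)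
    (A : Matrix n n F) (hA : Aᵀ = -A) : (Matrix.toBilin' A).IsAlt := by
  intro x
  rw [Matrix.toBilin'_apply']
  have h3 : x ⬝ᵥ A *ᵥ x = - (x ⬝ᵥ A *ᵥ x) := by
    conv_lhs => rw [dotProduct_mulVec, ← mulVec_transpose, hA, neg_mulVec, neg_dotProduct,
      dotProduct_comm]
  have h4 : (2 : F) * (x ⬝ᵥ A *ᵥ x) = 0 := by linear_combination h3
  rcases mul_eq_zero.mp h4 with h | h
  · exact absurd h h2
  · exact h

/-- **The determinant of a skew-symmetric matrix over a field of characteristic `≠ 2` is a square.** -/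
theorem alt_det_isSquare {n : ℕ} {F : Type*} [Field F] (h2 : (2 : F) ≠ 0)
    (A : Matrix (Fin n) (Fin n) F) (hA : Aᵀ = -A) : IsSquare A.det := by
  classical
  by_cases hdet : A.det = 0
  · rw [hdet]
    exact ⟨0, by simp⟩
  have hn : Even n := by
    by_contra hodd
    rw [Nat.not_even_iff_odd] at hodd
    have h3 : A.det = - A.det := by
      conv_lhs => rw [← det_transpose, hA, det_neg, Fintype.card_fin, hodd.neg_one_pow, neg_one_mul]
    have h4 : (2 : F) * A.det = 0 := by linear_combination h3
    rcases mul_eq_zero.mp h4 with h | h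
    · exact h2 h
    · exact hdet h
  obtain ⟨N, hN⟩ := hn
  set ω : LinearMap.BilinForm F (Fin n → F) := Matrix.toBilin' A with hω
  have halt : ω.IsAlt := altdet_isAlt h2 A hA
  have hnd : ω.Nondegenerate := LinearMap.BilinForm.nondegenerate_toBilin'_of_det_ne_zero' A hdet
  have hfr : finrank F (Fin n → F) = 2 * N := by
    rw [Module.finrank_fintype_fun_eq_card, Fintype.card_fin]
    omega
  obtain ⟨b, hb⟩ := Cfsg.Agent.Lib.Helper44.darboux_basis N (Fin n → F) ω halt hnd hfr
  let e : Fin N ⊕ Fin N ≃ Fin n := finSumFinEquiv.trans (finCongr hN.symm)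
  let P : Matrix (Fin n) (Fin n) F := fun i j => b (e.symm j) i
  have hP : Pᵀ * A * P = Matrix.reindex e e (Cfsg.Agent.Lib.Helper44.gramJ N F) := by
    ext x y
    rw [← hb, Matrix.reindex_apply, Matrix.submatrix_apply, LinearMap.BilinForm.toMatrix_apply, hω,
      Matrix.toBilin'_apply, Matrix.mul_apply]
    simp only [Matrix.mul_apply, Matrix.transpose_apply, Finset.sum_mul]
    rw [Finset.sum_comm]
  have hdetP := congrArg det hP
  rw [det_mul, det_mul, det_transpose, det_reindex_self, altdet_gramJ] at hdetP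
  have hP0 : det P ≠ 0 := by
    intro h
    rw [h] at hdetP
    simp at hdetP
  refine ⟨(det P)⁻¹, ?_⟩
  field_simp
  linear_combination hdetP

end Cfsg.Agent.Lib.Helper43
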