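import Cfsg.Agent.Lib.Helper43.InvolIdem

/-!
# The averaging idempotent of an element of finite order in an algebra
-/

set_option autoImplicit false

namespace Cfsg.Agent.Lib.Helper43.InvolRing

variable {F : Type*} [Field F] {R : Type*} [Ring R] [Algebra F R]

/-- the average of the powers of `a` -/
noncomputable def avg (F : Type*) [Field F] {R : Type*} [Ring R] [Algebra F R] (N : ℕ) (a : R) : R :=
  ((N : F)⁻¹) • ∑ i ∈ Finset.range N, a ^ i

theorem sum_pow_shift (N : ℕ) (a : R) (haN : a ^ N = 1) :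
    ∑ i ∈ Finset.range N, a ^ (i + 1) = ∑ i ∈ Finset.range N, a ^ i := by
  have h1 := Finset.sum_range_succ' (fun i => a ^ i) N
  have h2 := Finset.sum_range_succ (fun i => a ^ i) N
  rw [h2, haN, pow_zero] at h1
  exact (add_right_cancel h1).symm

theorem mul_avg (N : ℕ) (a : R) (haN : a ^ N = 1) : a * avg F N a = avg F N a := by
  unfold avg
  rw [mul_smul_comm, Finset.mul_sum]
  congr 1
  rw [← sum_pow_shift N a haN]
  apply Finset.sum_congr rfl
  intro i _
  rw [pow_succ']

theorem avg_mul (N : ℕ) (a : R) (haN : a ^ N = 1) : avg F N a * a = avg F N a := by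
  unfold avg
  rw [smul_mul_assoc, Finset.sum_mul]
  congr 1
  rw [← sum_pow_shift N a haN]
  apply Finset.sum_congr rfl
  intro i _
  rw [pow_succ]

theorem avg_mul_of_fix (N : ℕ) (hN : (N : F) ≠ 0) (a y : R) (h : a * y = y) :
    avg F N a * y = y := by
  have hp : ∀ i : ℕ, a ^ i * y = y := by
    intro i
    induction i with
    | zero => rw [pow_zero, one_mul]
    | succ i ih => rw [pow_succ, mul_assoc, h, ih]
  unfold avg
  rw [smul_mul_assoc, Finset.sum_mul, Finset.sum_congr rfl (fun i _ => hp i), Finset.sum_const,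
    Finset.card_range, ← Nat.cast_smul_eq_nsmul F, smul_smul, inv_mul_cancel₀ hN, one_smul]

theorem mul_avg_of_fix (N : ℕ) (hN : (N : F) ≠ 0) (a x : R) (h : x * a = x) :
    x * avg F N a = x := by
  have hp : ∀ i : ℕ, x * a ^ i = x := by
    intro i
    induction i with
    | zero => rw [pow_zero, mul_one]
    | succ i ih => rw [pow_succ', ← mul_assoc, h, ih]
  unfold avg
  rw [mul_smul_comm, Finset.mul_sum, Finset.sum_congr rfl (fun i _ => hp i), Finset.sum_const,
    Finset.card_range, ← Nat.cast_smul_eq_nsmul F, smul_smul, inv_mul_cancel₀ hN, one_smul]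

theorem avg_mul_avg (N : ℕ) (hN : (N : F) ≠ 0) (a : R) (haN : a ^ N = 1) :
    avg F N a * avg F N a = avg F N a :=
  avg_mul_of_fix N hN a _ (mul_avg N a haN)

/-- two elements with `a * y = y`-type absorption have the same average -/
theorem avg_eq_avg (N : ℕ) (hN : (N : F) ≠ 0) (a b : R) (haN : a ^ N = 1) (hbN : b ^ N = 1)
    (h1 : a * avg F N b = avg F N b) (h2 : avg F N a * b = avg F N a) :
    avg F N a = avg F N b := by
  have e1 : avg F N a * avg F N b = avg F N b := avg_mul_of_fix N hN a _ h1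
  have e2 : avg F N a * avg F N b = avg F N a := mul_avg_of_fix N hN b _ h2
  rw [← e2, e1]

theorem avg_inv (N : ℕ) (hN : (N : F) ≠ 0) (a a' : R) (haa' : a * a' = 1) (ha'a : a' * a = 1)
    (haN : a ^ N = 1) : avg F N a = avg F N a' := by
  have ha'N : a' ^ N = 1 := by
    have : a' ^ N * a ^ N = 1 := by
      rw [← (Commute.mul_pow (show Commute a' a from by rw [Commute, SemiconjBy, ha'a, haa'])),
        ha'a, one_pow]
    rw [haN, mul_one] at this
    exact this
  apply avg_eq_avg N hN a a' haN ha'N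
  · calc a * avg F N a' = a * (a' * avg F N a') := by rw [mul_avg N a' ha'N]
      _ = avg F N a' := by rw [← mul_assoc, haa', one_mul]
  · calc avg F N a * a' = (avg F N a * a) * a' := by rw [avg_mul N a haN]
      _ = avg F N a := by rw [mul_assoc, haa', mul_one]

theorem avg_sq (k : ℕ) (hN : ((2 * k + 1 : ℕ) : F) ≠ 0) (a : R) (haN : a ^ (2 * k + 1) = 1) :
    avg F (2 * k + 1) (a ^ 2) = avg F (2 * k + 1) a := by
  have hsqN : (a ^ 2) ^ (2 * k + 1) = 1 := by
    rw [← pow_mul, mul_comm, pow_mul, haN, one_pow]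
  have ha : a = (a ^ 2) ^ (k + 1) := by
    rw [← pow_mul]
    have : 2 * (k + 1) = (2 * k + 1) + 1 := by ring
    rw [this, pow_succ, haN, one_mul]
  symm
  apply avg_eq_avg (2 * k + 1) hN a (a ^ 2) haN hsqN
  · have hp : ∀ i : ℕ, (a ^ 2) ^ i * avg F (2 * k + 1) (a ^ 2) = avg F (2 * k + 1) (a ^ 2) := by
      intro i
      induction i with
      | zero => rw [pow_zero, one_mul]
      | succ i ih => rw [pow_succ, mul_assoc, mul_avg _ _ hsqN, ih]
    have h3 := hp (k + 1)
    rw [← ha] at h3
    exact h3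
  · rw [pow_two, ← mul_assoc, avg_mul _ _ haN, avg_mul _ _ haN]

/-- the complementary factor: `1 - avg = hh * (a - 1)` -/
noncomputable def hh (F : Type*) [Field F] {R : Type*} [Ring R] [Algebra F R] (N : ℕ) (a : R) : R :=
  (-(N : F)⁻¹) • ∑ i ∈ Finset.range N, ∑ j ∈ Finset.range i, a ^ j

theorem one_sub_avg (N : ℕ) (hN : (N : F) ≠ 0) (a : R) :
    1 - avg F N a = hh F N a * (a - 1) := by
  unfold avg hh
  rw [smul_mul_assoc, Finset.sum_mul]
  have h1 : ∀ i ∈ Finset.range N, (∑ j ∈ Finset.range i, a ^ j) * (a - 1) = a ^ i - 1 :=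
    fun i _ => geom_sum_mul a i
  rw [Finset.sum_congr rfl h1, Finset.sum_sub_distrib, Finset.sum_const, Finset.card_range,
    smul_sub, ← Nat.cast_smul_eq_nsmul F, smul_smul, neg_mul, inv_mul_cancel₀ hN, neg_smul,
    neg_smul, one_smul]
  abel

theorem hh_mem (N : ℕ) (a : R) (S : Subalgebra F R) (ha : a ∈ S) : hh F N a ∈ S := by
  unfold hh
  apply S.smul_mem
  apply sum_mem
  intro i _
  apply sum_mem
  intro j _
  exact pow_mem ha j

theorem avg_mem (N : ℕ) (a : R) (S : Subalgebra F R) (ha : a ∈ S) : avg F N a ∈ S := by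
  unfold avg
  apply S.smul_mem
  apply sum_mem
  intro i _
  exact pow_mem ha i

theorem hh_commute (N : ℕ) (a g : R) (h : g * a = a * g) : g * hh F N a = hh F N a * g := by
  have hp : ∀ j : ℕ, g * a ^ j = a ^ j * g := by
    intro j
    exact ((show Commute g a from h).pow_right j)
  unfold hh
  rw [mul_smul_comm, smul_mul_assoc, Finset.mul_sum, Finset.sum_mul]
  congr 1
  apply Finset.sum_congr rfl
  intro i _
  rw [Finset.mul_sum, Finset.sum_mul]
  exact Finset.sum_congr rfl (fun j _ => hp j)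

theorem avg_commute (N : ℕ) (a g : R) (h : g * a = a * g) : g * avg F N a = avg F N a * g := by
  have hp : ∀ j : ℕ, g * a ^ j = a ^ j * g := by
    intro j
    exact ((show Commute g a from h).pow_right j)
  unfold avg
  rw [mul_smul_comm, smul_mul_assoc, Finset.mul_sum, Finset.sum_mul]
  congr 1
  exact Finset.sum_congr rfl (fun j _ => hp j)

end Cfsg.Agent.Lib.Helper43.InvolRing
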