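import Mathlib
import Cfsg.Agent.Lib.Helper5.BalRed
import Cfsg.Agent.Lib.Helper14.FiniteQuad

set_option autoImplicit false
set_option linter.unusedSectionVars false
set_option linter.unusedVariables false
set_option linter.unusedSimpArgs false

/-!
# BAL-OC: semilinear maps commuting projectively with a special orthogonal group are scalar
-/

namespace Cfsg.Agent.Lib.Helper5.Bal

open Matrix

section alg

variable {n : ℕ} {F : Type*} [Field F] (h : Matrix (Fin n) (Fin n) F)

/-- the bilinear form with Gram matrix `h` -/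
def oc_B (u w : Fin n → F) : F := u ⬝ᵥ (h *ᵥ w)

/-- the rank one operator `v ↦ B(b, v) a` -/
def oc_R (a b : Fin n → F) : Matrix (Fin n) (Fin n) F := vecMulVec a (b ᵥ* h)

theorem oc_B_add_left (u u' w : Fin n → F) : oc_B h (u + u') w = oc_B h u w + oc_B h u' w := by
  unfold oc_B; rw [add_dotProduct]

theorem oc_B_add_right (u w w' : Fin n → F) : oc_B h u (w + w') = oc_B h u w + oc_B h u w' := by
  unfold oc_B; rw [mulVec_add, dotProduct_add]

theorem oc_B_smul_left (c : F) (u w : Fin n → F) : oc_B h (c • u) w = c * oc_B h u w := by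
  unfold oc_B; rw [smul_dotProduct, smul_eq_mul]

theorem oc_B_smul_right (c : F) (u w : Fin n → F) : oc_B h u (c • w) = c * oc_B h u w := by
  unfold oc_B; rw [mulVec_smul, dotProduct_smul, smul_eq_mul]

theorem oc_B_neg_left (u w : Fin n → F) : oc_B h (-u) w = - oc_B h u w := by
  unfold oc_B; rw [neg_dotProduct]

theorem oc_B_neg_right (u w : Fin n → F) : oc_B h u (-w) = - oc_B h u w := by
  unfold oc_B; rw [mulVec_neg, dotProduct_neg]

theorem oc_B_sub_left (u u' w : Fin n → F) : oc_B h (u - u') w = oc_B h u w - oc_B h u' w := by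
  unfold oc_B; rw [sub_dotProduct]

theorem oc_B_sub_right (u w w' : Fin n → F) : oc_B h u (w - w') = oc_B h u w - oc_B h u w' := by
  unfold oc_B; rw [mulVec_sub, dotProduct_sub]

theorem oc_B_zero_left (w : Fin n → F) : oc_B h 0 w = 0 := by
  unfold oc_B; rw [zero_dotProduct]

theorem oc_B_zero_right (u : Fin n → F) : oc_B h u 0 = 0 := by
  unfold oc_B; rw [mulVec_zero, dotProduct_zero]

theorem oc_B_symm (hs : hᵀ = h) (u w : Fin n → F) : oc_B h u w = oc_B h w u := by
  unfold oc_B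
  rw [dotProduct_mulVec, ← mulVec_transpose, hs, dotProduct_comm]

theorem oc_R_apply (a b : Fin n → F) (i j : Fin n) : oc_R h a b i j = a i * (b ᵥ* h) j := rfl

theorem oc_R_mulVec (a b v : Fin n → F) : oc_R h a b *ᵥ v = oc_B h b v • a := by
  unfold oc_R oc_B
  rw [vecMulVec_mulVec, dotProduct_mulVec, op_smul_eq_smul]

theorem oc_R_mul_R (a b c d : Fin n → F) : oc_R h a b * oc_R h c d = oc_B h b c • oc_R h a d := by
  unfold oc_R oc_B
  rw [vecMulVec_mul_vecMulVec, dotProduct_mulVec]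
  ext i j
  simp only [vecMulVec_apply, Pi.smul_apply, smul_eq_mul, Matrix.smul_apply]
  ring

theorem oc_R_add_left (a a' b : Fin n → F) : oc_R h (a + a') b = oc_R h a b + oc_R h a' b := by
  ext i j
  simp only [oc_R_apply, Pi.add_apply, Matrix.add_apply]
  ring

theorem oc_R_add_right (a b b' : Fin n → F) : oc_R h a (b + b') = oc_R h a b + oc_R h a b' := by
  ext i j
  simp only [oc_R_apply, add_vecMul, Pi.add_apply, Matrix.add_apply]
  ring

theorem oc_R_smul_left (c : F) (a b : Fin n → F) : oc_R h (c • a) b = c • oc_R h a b := by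
  ext i j
  simp only [oc_R_apply, Pi.smul_apply, smul_eq_mul, Matrix.smul_apply]
  ring

theorem oc_R_smul_right (c : F) (a b : Fin n → F) : oc_R h a (c • b) = c • oc_R h a b := by
  ext i j
  simp only [oc_R_apply, smul_vecMul, Pi.smul_apply, smul_eq_mul, Matrix.smul_apply]
  ring

/-- transposes of rank one operators -/
theorem oc_R_adj (g : Matrix (Fin n) (Fin n) F) (hs : hᵀ = h) (hgh : g * h = 1)
    (a b : Fin n → F) : g * (oc_R h a b)ᵀ * h = oc_R h b a := by
  unfold oc_R
  rw [transpose_vecMulVec, mul_vecMulVec, vecMulVec_mul]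
  congr 1
  rw [← mulVec_transpose, hs, mulVec_mulVec, hgh, one_mulVec]

/-- the Siegel transformation -/
def oc_E (x w : Fin n → F) : Matrix (Fin n) (Fin n) F :=
  1 + oc_R h w x - oc_R h x w - (oc_B h w w / 2) • oc_R h x x

/-- its inverse -/
def oc_E' (x w : Fin n → F) : Matrix (Fin n) (Fin n) F :=
  1 + oc_R h x w - oc_R h w x - (oc_B h w w / 2) • oc_R h x x

theorem oc_E_mul_E' (h2 : (2 : F) ≠ 0) {x w : Fin n → F} (hxx : oc_B h x x = 0)
    (hxw : oc_B h x w = 0) (hwx : oc_B h w x = 0) : oc_E h x w * oc_E' h x w = 1 := by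
  unfold oc_E oc_E'
  simp only [mul_add, add_mul, mul_sub, sub_mul, mul_one, one_mul, Matrix.smul_mul,
    Matrix.mul_smul, oc_R_mul_R, hxx, hxw, hwx, zero_smul, smul_zero, sub_zero, add_zero]
  have : oc_B h w w • oc_R h x x = (oc_B h w w / 2) • oc_R h x x + (oc_B h w w / 2) • oc_R h x x := by
    rw [← add_smul]
    congr 1
    field_simp
    ring
  rw [this]
  abel

theorem oc_E'_eq (g : Matrix (Fin n) (Fin n) F) (hs : hᵀ = h) (hgh : g * h = 1)
    (x w : Fin n → F) : g * (oc_E h x w)ᵀ * h = oc_E' h x w := by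
  unfold oc_E oc_E'
  simp only [transpose_add, transpose_sub, transpose_smul, transpose_one, mul_add, add_mul,
    mul_sub, sub_mul, Matrix.mul_smul, Matrix.smul_mul, mul_one, hgh, oc_R_adj h g hs hgh]

theorem oc_E_form (h2 : (2 : F) ≠ 0) (g : Matrix (Fin n) (Fin n) F) (hs : hᵀ = h) (hgh : g * h = 1)
    (hhg : h * g = 1)
    {x w : Fin n → F} (hxx : oc_B h x x = 0) (hxw : oc_B h x w = 0) :
    oc_E h x w * g * (oc_E h x w)ᵀ = g := by
  have hwx : oc_B h w x = 0 := by rw [oc_B_symm h hs]; exact hxw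
  have e1 := oc_E_mul_E' h h2 hxx hxw hwx
  rw [← oc_E'_eq h g hs hgh] at e1
  calc oc_E h x w * g * (oc_E h x w)ᵀ
      = oc_E h x w * (g * (oc_E h x w)ᵀ * h) * g := by
        simp only [Matrix.mul_assoc, hhg, Matrix.mul_one]
    _ = g := by rw [e1, Matrix.one_mul]

theorem oc_E_det (h2 : (2 : F) ≠ 0) {x w : Fin n → F} (hxx : oc_B h x x = 0)
    (hxw : oc_B h x w = 0) (hwx : oc_B h w x = 0) : (oc_E h x w).det = 1 := by
  have e : oc_E h x w = (1 + oc_R h w x) * (1 - oc_R h x (w + (oc_B h w w / 2) • x)) := by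
    unfold oc_E
    rw [oc_R_add_right, oc_R_smul_right]
    simp only [mul_sub, add_mul, mul_one, one_mul, mul_add, Matrix.mul_smul, oc_R_mul_R, hxx,
      zero_smul, smul_zero, add_zero]
    abel
  have d1 : ∀ a b : Fin n → F, (1 + oc_R h a b).det = 1 + oc_B h b a := by
    intro a b
    have e2 : oc_R h a b = replicateCol Unit a * replicateRow Unit (b ᵥ* h) := by
      ext i j
      rw [oc_R_apply, Matrix.mul_apply]
      simp
    rw [e2, det_one_add_replicateCol_mul_replicateRow]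
    unfold oc_B
    rw [dotProduct_mulVec, dotProduct_comm]
  have e3 : (1 - oc_R h x (w + (oc_B h w w / 2) • x)) =
      1 + oc_R h x (-(w + (oc_B h w w / 2) • x)) := by
    have : oc_R h x (-(w + (oc_B h w w / 2) • x)) = - oc_R h x (w + (oc_B h w w / 2) • x) := by
      have := oc_R_smul_right h (-1) x (w + (oc_B h w w / 2) • x)
      rwa [neg_one_smul, neg_one_smul] at this
    rw [this, sub_eq_add_neg]
  rw [e, det_mul, e3, d1, d1, hxw, oc_B_neg_left, oc_B_add_left, oc_B_smul_left, hwx, hxx]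
  simp


theorem oc_E_mulVec (x w v : Fin n → F) : oc_E h x w *ᵥ v =
    v + oc_B h x v • w - oc_B h w v • x - (oc_B h w w / 2 * oc_B h x v) • x := by
  unfold oc_E
  rw [sub_mulVec, sub_mulVec, add_mulVec, one_mulVec, smul_mulVec, oc_R_mulVec, oc_R_mulVec,
    oc_R_mulVec, smul_smul]

/-- Claim A: a semilinear injective map commuting projectively with a Siegel transformation
fixes the singular line. -/
theorem oc_eigen {σ : F →+* F} (κ : (Fin n → F) →ₛₗ[σ] (Fin n → F))
    (hκ : Function.Injective κ) (hs : hᵀ = h)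
    (hnd : ∀ x : Fin n → F, x ≠ 0 → ∃ v, oc_B h x v ≠ 0)
    {x w : Fin n → F} (hx0 : x ≠ 0) (hxx : oc_B h x x = 0) (hxw : oc_B h x w = 0)
    (hww : oc_B h w w ≠ 0)
    (hE : ∃ c : F, ∀ v, κ (oc_E h x w *ᵥ v) = c • (oc_E h x w *ᵥ κ v)) :
    ∃ l : F, κ x = l • x := by
  have hwx : oc_B h w x = 0 := by rw [oc_B_symm h hs]; exact hxw
  obtain ⟨c, hc⟩ := hE
  have hEx : oc_E h x w *ᵥ x = x := by
    rw [oc_E_mulVec, hxx, hwx]; simp
  have hBx : ∀ v, oc_B h x (oc_E h x w *ᵥ v) = oc_B h x v := by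
    intro v
    rw [oc_E_mulVec]
    simp only [oc_B_add_right, oc_B_sub_right, oc_B_smul_right, hxx, hxw, mul_zero, add_zero,
      sub_zero]
  have hBw : ∀ v, oc_B h w (oc_E h x w *ᵥ v) = oc_B h w v + oc_B h x v * oc_B h w w := by
    intro v
    rw [oc_E_mulVec]
    simp only [oc_B_add_right, oc_B_sub_right, oc_B_smul_right, hwx, mul_zero, sub_zero]
  have hu := hc x
  rw [hEx] at hu
  have hu0 : κ x ≠ 0 := by
    intro h0
    apply hx0
    apply hκ
    rw [map_zero]; exact h0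
  have hc1 : c = 1 := by
    by_contra hne
    have e1 : oc_B h x (κ x) = c * oc_B h x (κ x) := by
      conv_lhs => rw [hu]
      rw [oc_B_smul_right, hBx]
    have ha : oc_B h x (κ x) = 0 := by
      have : (1 - c) * oc_B h x (κ x) = 0 := by linear_combination e1
      rcases mul_eq_zero.mp this with h' | h'
      · exact absurd (by linear_combination -h') hne
      · exact h'
    have e2 : oc_B h w (κ x) = c * (oc_B h w (κ x) + oc_B h x (κ x) * oc_B h w w) := by
      conv_lhs => rw [hu]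
      rw [oc_B_smul_right, hBw]
    have hb : oc_B h w (κ x) = 0 := by
      rw [ha, zero_mul, add_zero] at e2
      have : (1 - c) * oc_B h w (κ x) = 0 := by linear_combination e2
      rcases mul_eq_zero.mp this with h' | h'
      · exact absurd (by linear_combination -h') hne
      · exact h'
    have hEu : oc_E h x w *ᵥ κ x = κ x := by
      rw [oc_E_mulVec, ha, hb]; simp
    rw [hEu] at hu
    have : (1 - c) • κ x = 0 := by
      rw [sub_smul, one_smul, ← hu, sub_self]
    rcases smul_eq_zero.mp this with h' | h'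
    · exact hne (by linear_combination -h')
    · exact hu0 h'
  subst hc1
  have hc' : ∀ v, κ (oc_E h x w *ᵥ v) = oc_E h x w *ᵥ κ v := by
    intro v; rw [hc, one_smul]
  have hN : ∀ v, κ (oc_E h x w *ᵥ v - v) = oc_E h x w *ᵥ κ v - κ v := by
    intro v; rw [map_sub, hc']
  have hNN : ∀ v, oc_E h x w *ᵥ (oc_E h x w *ᵥ v - v) - (oc_E h x w *ᵥ v - v) =
      -(oc_B h w w * oc_B h x v) • x := by
    intro v
    have e1 : oc_E h x w *ᵥ v - v =
        oc_B h x v • w - oc_B h w v • x - (oc_B h w w / 2 * oc_B h x v) • x := by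
      rw [oc_E_mulVec]; abel
    rw [e1, oc_E_mulVec]
    simp only [oc_B_sub_right, oc_B_smul_right, hxx, hxw, hwx, mul_zero, sub_zero, zero_smul]
    module
  obtain ⟨v0, hv0⟩ := hnd x hx0
  have key := hN (oc_E h x w *ᵥ v0 - v0)
  rw [hNN, hN v0, hNN (κ v0), map_smulₛₗ] at key
  have hne : σ (-(oc_B h w w * oc_B h x v0)) ≠ 0 := by
    rw [Ne, map_eq_zero]
    exact neg_ne_zero.mpr (mul_ne_zero hww hv0)
  refine ⟨(σ (-(oc_B h w w * oc_B h x v0)))⁻¹ * (-(oc_B h w w * oc_B h x (κ v0))), ?_⟩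
  rw [mul_smul, ← key, smul_smul, inv_mul_cancel₀ hne, one_smul]


/-- Claim B: enough singular eigenlines force the map to be a scalar. -/
theorem oc_scalar {σ : F →+* F} (κ : (Fin n → F) →ₛₗ[σ] (Fin n → F))
    (hκ : Function.Injective κ) (hs : hᵀ = h) (h2 : (2 : F) ≠ 0)
    {x y z : Fin n → F} (hxx : oc_B h x x = 0) (hyy : oc_B h y y = 0) (hxy : oc_B h x y = 1)
    (hxz : oc_B h x z = 0) (hyz : oc_B h y z = 0) (hzz : oc_B h z z ≠ 0)
    (hx : ∃ l : F, κ x = l • x) (hy : ∃ m : F, κ y = m • y)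
    (hsa : ∀ a : F, a ≠ 0 → ∃ ν : F, κ (z + a • x - (oc_B h z z / (2 * a)) • y) =
      ν • (z + a • x - (oc_B h z z / (2 * a)) • y)) :
    (∀ a : F, σ a = a) ∧ ∃ l : F, κ x = l • x ∧ κ y = l • y ∧ κ z = l • z := by
  obtain ⟨l, hl⟩ := hx
  obtain ⟨m, hm⟩ := hy
  have hyx : oc_B h y x = 1 := by rw [oc_B_symm h hs]; exact hxy
  have hzx : oc_B h z x = 0 := by rw [oc_B_symm h hs]; exact hxz
  have hzy : oc_B h z y = 0 := by rw [oc_B_symm h hs]; exact hyz
  have hl0 : l ≠ 0 := by
    rintro rfl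
    rw [zero_smul] at hl
    have hx0 : x = 0 := hκ (by rw [hl, map_zero])
    rw [hx0, oc_B_zero_left] at hxy
    exact zero_ne_one hxy
  have main : ∀ a : F, a ≠ 0 → ∃ ν : F, κ z =
      ν • (z + a • x - (oc_B h z z / (2 * a)) • y) - (σ a * l) • x
        + (σ (oc_B h z z / (2 * a)) * m) • y := by
    intro a ha
    obtain ⟨ν, hν⟩ := hsa a ha
    refine ⟨ν, ?_⟩
    rw [map_sub, map_add, map_smulₛₗ, map_smulₛₗ, hl, hm] at hν
    rw [← hν, smul_smul, smul_smul]; abel
  -- the three coordinates of `κ z`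
  have coords : ∀ a : F, a ≠ 0 → ∃ ν : F,
      oc_B h z (κ z) = ν * oc_B h z z ∧ oc_B h y (κ z) = ν * a - σ a * l ∧
      κ z = ν • (z + a • x - (oc_B h z z / (2 * a)) • y) - (σ a * l) • x
        + (σ (oc_B h z z / (2 * a)) * m) • y := by
    intro a ha
    obtain ⟨ν, hν⟩ := main a ha
    refine ⟨ν, ?_, ?_, hν⟩
    · conv_lhs => rw [hν]
      simp only [oc_B_add_right, oc_B_sub_right, oc_B_smul_right, hzx, hzy, mul_zero, add_zero,
        sub_zero]
    · conv_lhs => rw [hν]
      simp only [oc_B_add_right, oc_B_sub_right, oc_B_smul_right, hyx, hyy, hyz, mul_zero,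
        add_zero, sub_zero, zero_add, mul_one]
  have h1 : (1 : F) ≠ 0 := one_ne_zero
  have hm1 : (-1 : F) ≠ 0 := neg_ne_zero.mpr one_ne_zero
  obtain ⟨ν1, a1, b1, -⟩ := coords 1 h1
  obtain ⟨ν2, a2, b2, -⟩ := coords (-1) hm1
  have hν12 : ν1 = ν2 := by
    have : ν1 * oc_B h z z = ν2 * oc_B h z z := by rw [← a1, ← a2]
    exact mul_right_cancel₀ hzz this
  subst hν12
  rw [map_one] at b1
  rw [map_neg, map_one] at b2
  have hν1 : l = ν1 := by
    have : 2 * (ν1 - l) = 0 := by linear_combination b2 - b1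
    rcases mul_eq_zero.mp this with h' | h'
    · exact absurd h' h2
    · linear_combination -h'
  subst hν1
  have hβ : oc_B h y (κ z) = 0 := by rw [b1]; ring
  have hσ : ∀ a : F, σ a = a := by
    intro a
    by_cases ha : a = 0
    · rw [ha, map_zero]
    obtain ⟨ν, a3, b3, -⟩ := coords a ha
    have hν : l = ν := by
      have : ν * oc_B h z z = l * oc_B h z z := by rw [← a3, ← a1]
      exact (mul_right_cancel₀ hzz this).symm
    subst hν
    rw [hβ] at b3
    have : (σ a - a) * l = 0 := by linear_combination b3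
    rcases mul_eq_zero.mp this with h' | h'
    · linear_combination h'
    · exact absurd h' hl0
  refine ⟨hσ, ?_⟩
  obtain ⟨ν3, a3, -, c3⟩ := coords 1 h1
  obtain ⟨ν4, a4, -, c4⟩ := coords (-1) hm1
  have hν3 : l = ν3 := by
    have : ν3 * oc_B h z z = l * oc_B h z z := by rw [← a3, ← a1]
    exact (mul_right_cancel₀ hzz this).symm
  have hν4 : l = ν4 := by
    have : ν4 * oc_B h z z = l * oc_B h z z := by rw [← a4, ← a1]
    exact (mul_right_cancel₀ hzz this).symm
  subst hν3
  subst hν4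
  simp only [hσ] at c3 c4
  have c3' : κ z = l • z + (oc_B h z z / 2 * (m - l)) • y := by
    rw [c3]
    module
  have c4' : κ z = l • z - (oc_B h z z / 2 * (m - l)) • y := by
    rw [c4]
    have : oc_B h z z / (2 * -1) = - (oc_B h z z / 2) := by
      field_simp
    rw [this]
    module
  have e3 := congrArg (oc_B h x) c3'
  have e4 := congrArg (oc_B h x) c4'
  simp only [oc_B_add_right, oc_B_sub_right, oc_B_smul_right, hxz, hxy, mul_zero, mul_one,
    zero_add, zero_sub] at e3 e4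
  have hml : l = m := by
    have : oc_B h z z * (m - l) = 0 := by
      have : 2 * (oc_B h z z / 2 * (m - l)) = 0 := by linear_combination e4 - e3
      rw [← this]; field_simp
    rcases mul_eq_zero.mp this with h' | h'
    · exact absurd h' hzz
    · linear_combination -h'
  subst hml
  refine ⟨l, hl, hm, ?_⟩
  rw [c3', sub_self, mul_zero, zero_smul, add_zero]


/-- Claim B with the eigenline hypotheses discharged by Claim A. -/
theorem oc_scalar' {σ : F →+* F} (κ : (Fin n → F) →ₛₗ[σ] (Fin n → F))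
    (hκ : Function.Injective κ) (hs : hᵀ = h) (h2 : (2 : F) ≠ 0)
    (hA : ∀ x w : Fin n → F, x ≠ 0 → oc_B h x x = 0 → oc_B h x w = 0 → oc_B h w w ≠ 0 →
      ∃ l : F, κ x = l • x)
    {x y z : Fin n → F} (hxx : oc_B h x x = 0) (hyy : oc_B h y y = 0) (hxy : oc_B h x y = 1)
    (hxz : oc_B h x z = 0) (hyz : oc_B h y z = 0) (hzz : oc_B h z z ≠ 0) :
    (∀ a : F, σ a = a) ∧ ∃ l : F, κ x = l • x ∧ κ y = l • y ∧ κ z = l • z := by
  have hyx : oc_B h y x = 1 := by rw [oc_B_symm h hs]; exact hxy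
  have hzx : oc_B h z x = 0 := by rw [oc_B_symm h hs]; exact hxz
  have hzy : oc_B h z y = 0 := by rw [oc_B_symm h hs]; exact hyz
  have hx0 : x ≠ 0 := by
    rintro rfl
    rw [oc_B_zero_left] at hxy
    exact zero_ne_one hxy
  have hy0 : y ≠ 0 := by
    rintro rfl
    rw [oc_B_zero_right] at hxy
    exact zero_ne_one hxy
  refine oc_scalar h κ hκ hs h2 hxx hyy hxy hxz hyz hzz (hA x z hx0 hxx hxz hzz)
    (hA y z hy0 hyy hyz hzz) ?_
  intro a ha
  have h2a : (2 * a : F) ≠ 0 := mul_ne_zero h2 ha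
  refine hA (z + a • x - (oc_B h z z / (2 * a)) • y) (a • x + (oc_B h z z / (2 * a)) • y) ?_ ?_ ?_ ?_
  · intro h0
    have := congrArg (oc_B h z) h0
    simp only [oc_B_add_right, oc_B_sub_right, oc_B_smul_right, hzx, hzy, mul_zero, add_zero,
      sub_zero, oc_B_zero_right] at this
    exact hzz this
  · simp only [oc_B_add_right, oc_B_sub_right, oc_B_smul_right, oc_B_add_left, oc_B_sub_left,
      oc_B_smul_left, hxx, hyy, hxy, hyx, hxz, hyz, hzx, hzy, mul_zero, add_zero, sub_zero,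
      zero_add, zero_sub, mul_one]
    field_simp
    ring
  · simp only [oc_B_add_right, oc_B_sub_right, oc_B_smul_right, oc_B_add_left, oc_B_sub_left,
      oc_B_smul_left, hxx, hyy, hxy, hyx, hxz, hyz, hzx, hzy, mul_zero, add_zero, sub_zero,
      zero_add, zero_sub, mul_one]
    ring
  · simp only [oc_B_add_right, oc_B_sub_right, oc_B_smul_right, oc_B_add_left, oc_B_sub_left,
      oc_B_smul_left, hxx, hyy, hxy, hyx, hxz, hyz, hzx, hzy, mul_zero, add_zero, sub_zero,
      zero_add, zero_sub, mul_one]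
    have : a * (oc_B h z z / (2 * a)) + oc_B h z z / (2 * a) * a = oc_B h z z := by
      field_simp
      ring
    rw [this]
    exact hzz

theorem oc_B_comb {u0 u1 u2 : Fin n → F} (h01 : oc_B h u0 u1 = 0) (h02 : oc_B h u0 u2 = 0)
    (h12 : oc_B h u1 u2 = 0) (h10 : oc_B h u1 u0 = 0) (h20 : oc_B h u2 u0 = 0)
    (h21 : oc_B h u2 u1 = 0) (p0 p1 p2 q0 q1 q2 : F) :
    oc_B h (p0 • u0 + p1 • u1 + p2 • u2) (q0 • u0 + q1 • u1 + q2 • u2) =
      p0 * q0 * oc_B h u0 u0 + p1 * q1 * oc_B h u1 u1 + p2 * q2 * oc_B h u2 u2 := by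
  simp only [oc_B_add_left, oc_B_add_right, oc_B_smul_left, oc_B_smul_right, h01, h02, h12, h10,
    h20, h21]
  ring

theorem oc_B_comb_right {u0 u1 u2 t : Fin n → F} (h0 : oc_B h u0 t = 0) (h1 : oc_B h u1 t = 0)
    (h2' : oc_B h u2 t = 0) (p0 p1 p2 : F) :
    oc_B h (p0 • u0 + p1 • u1 + p2 • u2) t = 0 := by
  simp only [oc_B_add_left, oc_B_smul_left, h0, h1, h2', mul_zero, add_zero]

end alg

section main

variable {n : ℕ} {F : Type*} [Field F]

/-- the semilinear map attached to `(k, τ)` -/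
def oc_kap (k : Matrix (Fin n) (Fin n) F) (τ : F ≃+* F) :
    (Fin n → F) →ₛₗ[(τ : F →+* F)] (Fin n → F) where
  toFun v := k *ᵥ (fun i => τ (v i))
  map_add' u v := by
    rw [← mulVec_add]
    congr 1
    funext i
    simp
  map_smul' c v := by
    simp only [RingEquiv.coe_toRingHom]
    rw [← mulVec_smul]
    congr 1
    funext i
    simp

theorem oc_kap_apply (k : Matrix (Fin n) (Fin n) F) (τ : F ≃+* F) (v : Fin n → F) :
    oc_kap k τ v = k *ᵥ (fun i => τ (v i)) := rfl

theorem oc_kap_inj (k k' : Matrix (Fin n) (Fin n) F) (τ : F ≃+* F) (hk : k' * k = 1) :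
    Function.Injective (oc_kap k τ) := by
  intro u v huv
  rw [oc_kap_apply, oc_kap_apply] at huv
  have := congrArg (fun t => k' *ᵥ t) huv
  simp only [mulVec_mulVec, hk, one_mulVec] at this
  funext i
  exact τ.injective (congrFun this i)

theorem oc_kap_comm (k k' : Matrix (Fin n) (Fin n) F) (τ : F ≃+* F) (hk : k' * k = 1)
    (X : Matrix (Fin n) (Fin n) F) (c : F) (hc : k * X.map τ * k' = c • X) (v : Fin n → F) :
    oc_kap k τ (X *ᵥ v) = c • (X *ᵥ oc_kap k τ v) := by
  have e1 : k * X.map τ = c • X * k := by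
    rw [← hc, Matrix.mul_assoc, hk, Matrix.mul_one]
  have e2 : (fun i => τ ((X *ᵥ v) i)) = X.map τ *ᵥ (fun i => τ (v i)) := by
    funext i
    exact RingHom.map_mulVec (τ : F →+* F) X v i
  rw [oc_kap_apply, oc_kap_apply, e2, mulVec_mulVec, e1, ← mulVec_mulVec, smul_mulVec]

/-- BAL-OC -/
theorem cent_orth_mat [Fintype F] (hn : 3 ≤ n) (h2 : (2 : F) ≠ 0) (g : GL (Fin n) F)
    (hg : g.1ᵀ = g.1) (k : GL (Fin n) F) (τ : F ≃+* F)
    (h : ∀ x ∈ formSL g.1, ∃ c : F, k.1 * x.1.map τ * (k⁻¹).1 = c • x.1) :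
    τ = 1 ∧ k ∈ Subgroup.center (GL (Fin n) F) := by
  classical
  obtain ⟨d, rfl⟩ : ∃ d, n = d + 1 := ⟨n - 1, by omega⟩
  have hd : 2 ≤ d := by omega
  set hm : Matrix (Fin (d + 1)) (Fin (d + 1)) F := (g⁻¹).1 with hhm
  have hgh : g.1 * hm = 1 := by rw [hhm, ← Units.val_mul, mul_inv_cancel, Units.val_one]
  have hhg : hm * g.1 = 1 := by rw [hhm, ← Units.val_mul, inv_mul_cancel, Units.val_one]
  have hs : hmᵀ = hm := by
    calc hmᵀ = hmᵀ * (g.1 * hm) := by rw [hgh, Matrix.mul_one]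
      _ = (hmᵀ * g.1ᵀ) * hm := by rw [hg, Matrix.mul_assoc]
      _ = (g.1 * hm)ᵀ * hm := by rw [transpose_mul]
      _ = hm := by rw [hgh, transpose_one, Matrix.one_mul]
  have hkk : (k⁻¹).1 * k.1 = 1 := by rw [← Units.val_mul, inv_mul_cancel, Units.val_one]
  set κ := oc_kap k.1 τ with hκdef
  have hκ : Function.Injective κ := oc_kap_inj k.1 (k⁻¹).1 τ hkk
  have hnd : ∀ x : Fin (d + 1) → F, x ≠ 0 → ∃ v, oc_B hm x v ≠ 0 := by
    intro x hx
    obtain ⟨i, hi⟩ := Function.ne_iff.mp hx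
    refine ⟨g.1 *ᵥ Pi.single i 1, ?_⟩
    unfold oc_B
    rw [mulVec_mulVec, hhg, one_mulVec, dotProduct_single_one]
    exact hi
  have hA : ∀ x w : Fin (d + 1) → F, x ≠ 0 → oc_B hm x x = 0 → oc_B hm x w = 0 →
      oc_B hm w w ≠ 0 → ∃ l : F, κ x = l • x := by
    intro x w hx0 hxx hxw hww
    have hwx : oc_B hm w x = 0 := by rw [oc_B_symm hm hs]; exact hxw
    refine oc_eigen hm κ hκ hs hnd hx0 hxx hxw hww ?_
    obtain ⟨c, hc⟩ := h ⟨oc_E hm x w, oc_E_det hm h2 hxx hxw hwx⟩
      (mem_formSL.mpr (oc_E_form hm h2 g.1 hs hgh hhg hxx hxw))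
    exact ⟨c, fun v => oc_kap_comm k.1 (k⁻¹).1 τ hkk _ c hc v⟩
  -- the orthogonal basis
  have hSymm : (Matrix.toBilin' hm).IsSymm := Matrix.isSymm_toBilin'_iff_isSymm.mpr hs
  have hdet : hm.det ≠ 0 := by
    have : g.1.det * hm.det = 1 := by rw [← det_mul, hgh, det_one]
    exact right_ne_zero_of_mul_eq_one this
  have hNon : (Matrix.toBilin' hm).Nondegenerate :=
    LinearMap.BilinForm.nondegenerate_toBilin'_of_det_ne_zero' hm hdet
  obtain ⟨v, hvO, hv1⟩ := Helper14.exists_normalized_orthogonal_basis h2 d (Matrix.toBilin' hm)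
    hSymm hNon (by simp)
  have hB : ∀ u w, Matrix.toBilin' hm u w = oc_B hm u w :=
    fun u w => Matrix.toBilin'_apply' hm u w
  have hO : ∀ i j, i ≠ j → oc_B hm (v i) (v j) = 0 := by
    intro i j hij
    rw [← hB]
    exact hvO hij
  have hD : ∀ i, oc_B hm (v i) (v i) ≠ 0 := by
    intro i
    rw [← hB]
    exact LinearMap.BilinForm.iIsOrtho.not_isOrtho_basis_self_of_nondegenerate hvO hNon i
  have hN1 : ∀ i : Fin (d + 1), i ≠ Fin.last d → oc_B hm (v i) (v i) = 1 := by
    intro i hi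
    rw [← hB]
    exact hv1 i hi
  obtain ⟨i0, i1, i2, h01, h02, h12, hl0, hl1⟩ : ∃ i0 i1 i2 : Fin (d + 1), i0 ≠ i1 ∧ i0 ≠ i2 ∧
      i1 ≠ i2 ∧ i0 ≠ Fin.last d ∧ i1 ≠ Fin.last d := by
    refine ⟨⟨0, by omega⟩, ⟨1, by omega⟩, ⟨2, by omega⟩, ?_, ?_, ?_, ?_, ?_⟩ <;>
      simp [Fin.ext_iff] <;> omega
  have hd0 : oc_B hm (v i0) (v i0) = 1 := hN1 i0 hl0
  have hd1 : oc_B hm (v i1) (v i1) = 1 := hN1 i1 hl1
  obtain ⟨a, b, hab⟩ := Helper14.exists_binary_rep h2 1 (oc_B hm (v i2) (v i2)) (-1) one_ne_zero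
    (hD i2)
  set d2 := oc_B hm (v i2) (v i2) with hd2
  have hd2ne : d2 ≠ 0 := hD i2
  set c2 : F := 2⁻¹ with hc2def
  have hc2 : 2 * c2 = 1 := mul_inv_cancel₀ h2
  set x : Fin (d + 1) → F := (1 : F) • v i0 + a • v i1 + b • v i2 with hxdef
  set y : Fin (d + 1) → F := c2 • v i0 + (-(c2 * a)) • v i1 + (-(c2 * b)) • v i2 with hydef
  set z : Fin (d + 1) → F := (0 : F) • v i0 + (d2 * b) • v i1 + (-a) • v i2 with hzdef
  have comb := oc_B_comb hm (hO i0 i1 h01) (hO i0 i2 h02) (hO i1 i2 h12) (hO i1 i0 h01.symm)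
    (hO i2 i0 h02.symm) (hO i2 i1 h12.symm)
  have hxx : oc_B hm x x = 0 := by
    rw [hxdef, comb, hd0, hd1, ← hd2]
    linear_combination hab
  have hyy : oc_B hm y y = 0 := by
    rw [hydef, comb, hd0, hd1, ← hd2]
    linear_combination c2 ^ 2 * hab
  have hxy : oc_B hm x y = 1 := by
    rw [hxdef, hydef, comb, hd0, hd1, ← hd2]
    linear_combination (-c2) * hab + hc2
  have hxz : oc_B hm x z = 0 := by
    rw [hxdef, hzdef, comb, hd0, hd1, ← hd2]
    ring
  have hyz : oc_B hm y z = 0 := by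
    rw [hydef, hzdef, comb, hd0, hd1, ← hd2]
    ring
  have hzz : oc_B hm z z = -d2 := by
    rw [hzdef, comb, hd0, hd1, ← hd2]
    linear_combination d2 * hab
  have hzz0 : oc_B hm z z ≠ 0 := by rw [hzz]; exact neg_ne_zero.mpr hd2ne
  obtain ⟨hσ, l, hlx, hly, hlz⟩ := oc_scalar' hm κ hκ hs h2 hA hxx hyy hxy hxz hyz hzz0
  have hτ : ∀ c : F, τ c = c := hσ
  have hx0 : x ≠ 0 := by
    intro h0
    rw [h0, oc_B_zero_left] at hxy
    exact zero_ne_one hxy
  -- the eigenspace
  let W : Submodule F (Fin (d + 1) → F) :=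
    { carrier := {u | κ u = l • u}
      add_mem' := by
        intro u u' hu hu'
        show κ (u + u') = l • (u + u')
        rw [map_add, smul_add, hu, hu']
      zero_mem' := by
        show κ 0 = l • (0 : Fin (d + 1) → F)
        rw [map_zero, smul_zero]
      smul_mem' := by
        intro c u hu
        show κ (c • u) = l • (c • u)
        have hc : (τ : F →+* F) c = c := hτ c
        rw [map_smulₛₗ, hc, hu, smul_comm] }
  have hWx : x ∈ W := hlx
  have hWy : y ∈ W := hly
  have hWz : z ∈ W := hlz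
  have hWv : ∀ i, v i ∈ W := by
    intro i
    by_cases hi0 : i = i0
    · have e : v i0 = c2 • x + y := by
        have : c2 • x + y = (2 * c2) • v i0 := by
          rw [hxdef, hydef]
          module
        rw [this, hc2, one_smul]
      rw [hi0, e]
      exact W.add_mem (W.smul_mem c2 hWx) hWy
    have ht : c2 • x - y ∈ W := W.sub_mem (W.smul_mem c2 hWx) hWy
    have et : c2 • x - y = (2 * c2) • (a • v i1 + b • v i2) := by
      rw [hxdef, hydef]
      module
    rw [et, hc2, one_smul] at ht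
    by_cases hi1 : i = i1
    · have e : v i1 = (-a) • (a • v i1 + b • v i2) + (-b) • z := by
        have : (-a) • (a • v i1 + b • v i2) + (-b) • z = (-(1 * a ^ 2 + d2 * b ^ 2)) • v i1 := by
          rw [hzdef]
          module
        rw [this, hab, neg_neg, one_smul]
      rw [hi1, e]
      exact W.add_mem (W.smul_mem _ ht) (W.smul_mem _ hWz)
    by_cases hi2 : i = i2
    · have e : v i2 = (-(d2 * b)) • (a • v i1 + b • v i2) + a • z := by
        have : (-(d2 * b)) • (a • v i1 + b • v i2) + a • z =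
            (-(1 * a ^ 2 + d2 * b ^ 2)) • v i2 := by
          rw [hzdef]
          module
        rw [this, hab, neg_neg, one_smul]
      rw [hi2, e]
      exact W.add_mem (W.smul_mem _ ht) (W.smul_mem _ hWz)
    -- the remaining basis vectors
    have hxi : oc_B hm x (v i) = 0 := by
      rw [hxdef]
      exact oc_B_comb_right hm (hO i0 i (Ne.symm hi0)) (hO i1 i (Ne.symm hi1))
        (hO i2 i (Ne.symm hi2)) _ _ _
    have hyi : oc_B hm y (v i) = 0 := by
      rw [hydef]
      exact oc_B_comb_right hm (hO i0 i (Ne.symm hi0)) (hO i1 i (Ne.symm hi1))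
        (hO i2 i (Ne.symm hi2)) _ _ _
    obtain ⟨-, l', hlx', -, hlz'⟩ := oc_scalar' hm κ hκ hs h2 hA hxx hyy hxy hxi hyi (hD i)
    have hll : l' = l := by
      have : (l' - l) • x = 0 := by rw [sub_smul, ← hlx', ← hlx, sub_self]
      rcases smul_eq_zero.mp this with h' | h'
      · linear_combination h'
      · exact absurd h' hx0
    rw [hll] at hlz'
    exact hlz'
  have hWtop : ∀ u : Fin (d + 1) → F, u ∈ W := by
    intro u
    have hu : u ∈ Submodule.span F (Set.range v) := v.mem_span u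
    refine (Submodule.span_le.mpr ?_) hu
    rintro _ ⟨i, rfl⟩
    exact hWv i
  have hτ1 : τ = 1 := by
    ext c
    exact hτ c
  have hkl : k.1 = l • (1 : Matrix (Fin (d + 1)) (Fin (d + 1)) F) := by
    ext i j
    have hj : κ (Pi.single j 1) = l • (Pi.single j 1 : Fin (d + 1) → F) := hWtop _
    have e : (fun i' => τ ((Pi.single j 1 : Fin (d + 1) → F) i')) = Pi.single j 1 := by
      funext i'
      exact hτ _
    rw [hκdef, oc_kap_apply, e, mulVec_single_one] at hj
    have := congrFun hj i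
    simp only [Matrix.col_apply, Pi.smul_apply, smul_eq_mul] at this
    rw [this, Matrix.smul_apply, Matrix.one_apply, smul_eq_mul, Pi.single_apply]
  refine ⟨hτ1, ?_⟩
  rw [Subgroup.mem_center_iff]
  intro m
  apply Units.ext
  rw [Units.val_mul, Units.val_mul, hkl, Matrix.mul_smul, Matrix.smul_mul, Matrix.mul_one,
    Matrix.one_mul]

end main

end Cfsg.Agent.Lib.Helper5.Bal
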