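import Mathlib
import Cfsg.Agent.Lib.Helper43.BalOC

set_option autoImplicit false
set_option linter.unusedSectionVars false
set_option linter.unusedVariables false
set_option linter.unusedSimpArgs false

/-!
# BAL-OC': the subfield version of BAL-OC

The special orthogonal group lives over a subfield `j : F₀ →+* F`; a semilinear map over `F`
commuting projectively with it is a scalar, and its field automorphism fixes `j(F₀)`.
-/

namespace Cfsg.Agent.Lib.Helper5.Bal

open Matrix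

section algp

variable {n : ℕ} {F : Type*} [Field F] (h : Matrix (Fin n) (Fin n) F)

/-- Claim B relative to a set `S` of scalars. -/
theorem ocp_scalar {σ : F →+* F} (κ : (Fin n → F) →ₛₗ[σ] (Fin n → F))
    (hκ : Function.Injective κ) (hs : hᵀ = h) (h2 : (2 : F) ≠ 0) (S : F → Prop)
    (hS1 : S 1) (hSm1 : S (-1))
    {x y z : Fin n → F} (hxx : oc_B h x x = 0) (hyy : oc_B h y y = 0) (hxy : oc_B h x y = 1)
    (hxz : oc_B h x z = 0) (hyz : oc_B h y z = 0) (hzz : oc_B h z z ≠ 0)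
    (hSq1 : S (oc_B h z z / (2 * 1))) (hSq2 : S (oc_B h z z / (2 * -1)))
    (hx : ∃ l : F, κ x = l • x) (hy : ∃ m : F, κ y = m • y)
    (hsa : ∀ a : F, S a → a ≠ 0 → ∃ ν : F, κ (z + a • x - (oc_B h z z / (2 * a)) • y) =
      ν • (z + a • x - (oc_B h z z / (2 * a)) • y)) :
    (∀ a : F, S a → σ a = a) ∧ ∃ l : F, κ x = l • x ∧ κ y = l • y ∧ κ z = l • z := by
  obtain ⟨l, hl⟩ := hx
  obtain ⟨m, hm⟩ := hy
  have hyx : oc_B h y x = 1 := by rw [oc_B_symm h hs]; exact hxy
  have hzx : oc_B h z x = 0 := by rw [oc_B_symm h hs]; exact hxz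
  have hzy : oc_B h z y = 0 := by rw [oc_B_symm h hs]; exact hyz
  have hl0 : l ≠ 0 := by
    rintro rfl
    rw [zero_smul] at hl
    have hx0 : x = 0 := hκ (by rw [hl, map_zero])
    rw [hx0, oc_B_zero_left] at hxy
    exact zero_ne_one hxy
  have main : ∀ a : F, S a → a ≠ 0 → ∃ ν : F, κ z =
      ν • (z + a • x - (oc_B h z z / (2 * a)) • y) - (σ a * l) • x
        + (σ (oc_B h z z / (2 * a)) * m) • y := by
    intro a hSa ha
    obtain ⟨ν, hν⟩ := hsa a hSa ha
    refine ⟨ν, ?_⟩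
    rw [map_sub, map_add, map_smulₛₗ, map_smulₛₗ, hl, hm] at hν
    rw [← hν, smul_smul, smul_smul]; abel
  have coords : ∀ a : F, S a → a ≠ 0 → ∃ ν : F,
      oc_B h z (κ z) = ν * oc_B h z z ∧ oc_B h y (κ z) = ν * a - σ a * l ∧
      κ z = ν • (z + a • x - (oc_B h z z / (2 * a)) • y) - (σ a * l) • x
        + (σ (oc_B h z z / (2 * a)) * m) • y := by
    intro a hSa ha
    obtain ⟨ν, hν⟩ := main a hSa ha
    refine ⟨ν, ?_, ?_, hν⟩
    · conv_lhs => rw [hν]
      simp only [oc_B_add_right, oc_B_sub_right, oc_B_smul_right, hzx, hzy, mul_zero, add_zero,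
        sub_zero]
    · conv_lhs => rw [hν]
      simp only [oc_B_add_right, oc_B_sub_right, oc_B_smul_right, hyx, hyy, hyz, mul_zero,
        add_zero, sub_zero, zero_add, mul_one]
  have h1 : (1 : F) ≠ 0 := one_ne_zero
  have hm1 : (-1 : F) ≠ 0 := neg_ne_zero.mpr one_ne_zero
  obtain ⟨ν1, a1, b1, -⟩ := coords 1 hS1 h1
  obtain ⟨ν2, a2, b2, -⟩ := coords (-1) hSm1 hm1
  have hν12 : ν1 = ν2 := by
    have : ν1 * oc_B h z z = ν2 * oc_B h z z := by rw [← a1, ← a2]
    exact mul_right_cancel₀ hzz this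
  subst hν12
  rw [map_one] at b1
  rw [map_neg, map_one] at b2
  have hν1 : l = ν1 := by
    have : 2 * (ν1 - l) = 0 := by linear_combination b2 - b1
    rcases mul_eq_zero.mp this with h' | h'
    · exact absurd h' h2
    · linear_combination -h'
  subst hν1
  have hβ : oc_B h y (κ z) = 0 := by rw [b1]; ring
  have hσ : ∀ a : F, S a → σ a = a := by
    intro a hSa
    by_cases ha : a = 0
    · rw [ha, map_zero]
    obtain ⟨ν, a3, b3, -⟩ := coords a hSa ha
    have hν : l = ν := by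
      have : ν * oc_B h z z = l * oc_B h z z := by rw [← a3, ← a1]
      exact (mul_right_cancel₀ hzz this).symm
    subst hν
    rw [hβ] at b3
    have : (σ a - a) * l = 0 := by linear_combination b3
    rcases mul_eq_zero.mp this with h' | h'
    · linear_combination h'
    · exact absurd h' hl0
  refine ⟨hσ, ?_⟩
  obtain ⟨ν3, a3, -, c3⟩ := coords 1 hS1 h1
  obtain ⟨ν4, a4, -, c4⟩ := coords (-1) hSm1 hm1
  have hν3 : l = ν3 := by
    have : ν3 * oc_B h z z = l * oc_B h z z := by rw [← a3, ← a1]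
    exact (mul_right_cancel₀ hzz this).symm
  have hν4 : l = ν4 := by
    have : ν4 * oc_B h z z = l * oc_B h z z := by rw [← a4, ← a1]
    exact (mul_right_cancel₀ hzz this).symm
  subst hν3
  subst hν4
  rw [hσ 1 hS1, hσ _ hSq1] at c3
  rw [hσ (-1) hSm1, hσ _ hSq2] at c4
  have c3' : κ z = l • z + (oc_B h z z / 2 * (m - l)) • y := by
    rw [c3]
    module
  have c4' : κ z = l • z - (oc_B h z z / 2 * (m - l)) • y := by
    rw [c4]
    have : oc_B h z z / (2 * -1) = - (oc_B h z z / 2) := by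
      field_simp
    rw [this]
    module
  have e3 := congrArg (oc_B h x) c3'
  have e4 := congrArg (oc_B h x) c4'
  simp only [oc_B_add_right, oc_B_sub_right, oc_B_smul_right, hxz, hxy, mul_zero, mul_one,
    zero_add, zero_sub] at e3 e4
  have hml : l = m := by
    have : oc_B h z z * (m - l) = 0 := by
      have : 2 * (oc_B h z z / 2 * (m - l)) = 0 := by linear_combination e4 - e3
      rw [← this]; field_simp
    rcases mul_eq_zero.mp this with h' | h'
    · exact absurd h' hzz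
    · linear_combination -h'
  subst hml
  refine ⟨l, hl, hm, ?_⟩
  rw [c3', sub_self, mul_zero, zero_smul, add_zero]

variable {F₀ : Type*} [Field F₀] (j : F₀ →+* F) (h₀ : Matrix (Fin n) (Fin n) F₀)

theorem ocp_B_map (u w : Fin n → F₀) :
    oc_B (h₀.map j) (j ∘ u) (j ∘ w) = j (oc_B h₀ u w) := by
  unfold oc_B
  rw [RingHom.map_dotProduct]
  congr 1
  funext i
  exact (RingHom.map_mulVec j h₀ w i).symm

theorem ocp_R_map (a b : Fin n → F₀) :
    (oc_R h₀ a b).map j = oc_R (h₀.map j) (j ∘ a) (j ∘ b) := by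
  ext i l
  rw [Matrix.map_apply, oc_R_apply, oc_R_apply, map_mul, RingHom.map_vecMul]
  rfl

theorem ocp_E_map (x w : Fin n → F₀) :
    (oc_E h₀ x w).map j = oc_E (h₀.map j) (j ∘ x) (j ∘ w) := by
  unfold oc_E
  rw [← ocp_R_map, ← ocp_R_map, ← ocp_R_map, ocp_B_map]
  ext i l
  simp only [Matrix.map_apply, Matrix.sub_apply, Matrix.add_apply, Matrix.smul_apply, smul_eq_mul,
    map_sub, map_add, map_mul, map_div₀, map_ofNat, Matrix.one_apply]
  split_ifs <;> simp

theorem ocp_comp_add (u w : Fin n → F₀) : j ∘ (u + w) = j ∘ u + j ∘ w := by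
  funext i; simp

theorem ocp_comp_sub (u w : Fin n → F₀) : j ∘ (u - w) = j ∘ u - j ∘ w := by
  funext i; simp

theorem ocp_comp_smul (c : F₀) (u : Fin n → F₀) : j ∘ (c • u) = j c • (j ∘ u) := by
  funext i; simp

theorem ocp_comp_ne_zero {u : Fin n → F₀} (hu : u ≠ 0) : j ∘ u ≠ 0 := by
  intro h0
  apply hu
  funext i
  have := congrFun h0 i
  simp only [Function.comp_apply, Pi.zero_apply, map_eq_zero] at this
  exact this

/-- Claim B over the subfield, with the eigenline hypotheses discharged by Claim A. -/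
theorem ocp_scalar' {σ : F →+* F} (κ : (Fin n → F) →ₛₗ[σ] (Fin n → F))
    (hκ : Function.Injective κ) (hs : h₀ᵀ = h₀) (h2 : (2 : F₀) ≠ 0)
    (hA : ∀ x w : Fin n → F₀, x ≠ 0 → oc_B h₀ x x = 0 → oc_B h₀ x w = 0 → oc_B h₀ w w ≠ 0 →
      ∃ l : F, κ (j ∘ x) = l • (j ∘ x))
    {x y z : Fin n → F₀} (hxx : oc_B h₀ x x = 0) (hyy : oc_B h₀ y y = 0)
    (hxy : oc_B h₀ x y = 1) (hxz : oc_B h₀ x z = 0) (hyz : oc_B h₀ y z = 0)
    (hzz : oc_B h₀ z z ≠ 0) :
    (∀ a : F₀, σ (j a) = j a) ∧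
      ∃ l : F, κ (j ∘ x) = l • (j ∘ x) ∧ κ (j ∘ y) = l • (j ∘ y) ∧ κ (j ∘ z) = l • (j ∘ z) := by
  have hyx : oc_B h₀ y x = 1 := by rw [oc_B_symm h₀ hs]; exact hxy
  have hzx : oc_B h₀ z x = 0 := by rw [oc_B_symm h₀ hs]; exact hxz
  have hzy : oc_B h₀ z y = 0 := by rw [oc_B_symm h₀ hs]; exact hyz
  have hx0 : x ≠ 0 := by
    rintro rfl
    rw [oc_B_zero_left] at hxy
    exact zero_ne_one hxy
  have hy0 : y ≠ 0 := by
    rintro rfl
    rw [oc_B_zero_right] at hxy
    exact zero_ne_one hxy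
  have hsF : (h₀.map j)ᵀ = h₀.map j := by rw [← transpose_map, hs]
  have h2F : (2 : F) ≠ 0 := by
    have : j 2 ≠ 0 := by rw [Ne, map_eq_zero]; exact h2
    rwa [map_ofNat] at this
  have key := ocp_scalar (h₀.map j) κ hκ hsF h2F (fun a => ∃ a₀ : F₀, j a₀ = a)
    ⟨1, map_one j⟩ ⟨-1, by rw [map_neg, map_one]⟩
    (x := j ∘ x) (y := j ∘ y) (z := j ∘ z)
    (by rw [ocp_B_map, hxx, map_zero]) (by rw [ocp_B_map, hyy, map_zero])
    (by rw [ocp_B_map, hxy, map_one]) (by rw [ocp_B_map, hxz, map_zero])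
    (by rw [ocp_B_map, hyz, map_zero])
    (by rw [ocp_B_map, Ne, map_eq_zero]; exact hzz)
    ⟨oc_B h₀ z z / (2 * 1), by rw [ocp_B_map, map_div₀, map_mul, map_ofNat, map_one]⟩
    ⟨oc_B h₀ z z / (2 * -1), by
      rw [ocp_B_map, map_div₀, map_mul, map_ofNat, map_neg, map_one]⟩
    (hA x z hx0 hxx hxz hzz) (hA y z hy0 hyy hyz hzz) ?_
  · exact ⟨fun a => key.1 (j a) ⟨a, rfl⟩, key.2⟩
  rintro _ ⟨a, rfl⟩ ha'
  have ha : a ≠ 0 := by
    rintro rfl
    exact ha' (map_zero j)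
  have h2a : (2 * a : F₀) ≠ 0 := mul_ne_zero h2 ha
  have e : (j ∘ z + j a • (j ∘ x) - (oc_B (h₀.map j) (j ∘ z) (j ∘ z) / (2 * j a)) • (j ∘ y)) =
      j ∘ (z + a • x - (oc_B h₀ z z / (2 * a)) • y) := by
    rw [ocp_comp_sub, ocp_comp_add, ocp_comp_smul, ocp_comp_smul, ocp_B_map, map_div₀, map_mul,
      map_ofNat]
  rw [e]
  refine hA (z + a • x - (oc_B h₀ z z / (2 * a)) • y) (a • x + (oc_B h₀ z z / (2 * a)) • y)
    ?_ ?_ ?_ ?_
  · intro h0
    have := congrArg (oc_B h₀ z) h0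
    simp only [oc_B_add_right, oc_B_sub_right, oc_B_smul_right, hzx, hzy, mul_zero, add_zero,
      sub_zero, oc_B_zero_right] at this
    exact hzz this
  · simp only [oc_B_add_right, oc_B_sub_right, oc_B_smul_right, oc_B_add_left, oc_B_sub_left,
      oc_B_smul_left, hxx, hyy, hxy, hyx, hxz, hyz, hzx, hzy, mul_zero, add_zero, sub_zero,
      zero_add, zero_sub, mul_one]
    field_simp
    ring
  · simp only [oc_B_add_right, oc_B_sub_right, oc_B_smul_right, oc_B_add_left, oc_B_sub_left,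
      oc_B_smul_left, hxx, hyy, hxy, hyx, hxz, hyz, hzx, hzy, mul_zero, add_zero, sub_zero,
      zero_add, zero_sub, mul_one]
    ring
  · simp only [oc_B_add_right, oc_B_sub_right, oc_B_smul_right, oc_B_add_left, oc_B_sub_left,
      oc_B_smul_left, hxx, hyy, hxy, hyx, hxz, hyz, hzx, hzy, mul_zero, add_zero, sub_zero,
      zero_add, zero_sub, mul_one]
    have : a * (oc_B h₀ z z / (2 * a)) + oc_B h₀ z z / (2 * a) * a = oc_B h₀ z z := by
      field_simp
      ring
    rw [this]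
    exact hzz

end algp

section mainp

variable {n : ℕ} {F : Type*} [Field F]

/-- BAL-OC' -/
theorem cent_orth_mat' {F₀ : Type*} [Field F₀] [Fintype F₀] [Fintype F] (hn : 3 ≤ n)
    (h2 : (2 : F₀) ≠ 0) (j : F₀ →+* F) (g : GL (Fin n) F₀) (hg : g.1ᵀ = g.1)
    (k : GL (Fin n) F) (τ : F ≃+* F)
    (h : ∀ x ∈ formSL g.1, ∃ c : F, k.1 * ((x.1.map j).map τ) * (k⁻¹).1 = c • x.1.map j) :
    (∀ a : F₀, τ (j a) = j a) ∧ k ∈ Subgroup.center (GL (Fin n) F) := by
  classical
  obtain ⟨d, rfl⟩ : ∃ d, n = d + 1 := ⟨n - 1, by omega⟩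
  have hd : 2 ≤ d := by omega
  set hm : Matrix (Fin (d + 1)) (Fin (d + 1)) F₀ := (g⁻¹).1 with hhm
  have hgh : g.1 * hm = 1 := by rw [hhm, ← Units.val_mul, mul_inv_cancel, Units.val_one]
  have hhg : hm * g.1 = 1 := by rw [hhm, ← Units.val_mul, inv_mul_cancel, Units.val_one]
  have hs : hmᵀ = hm := by
    calc hmᵀ = hmᵀ * (g.1 * hm) := by rw [hgh, Matrix.mul_one]
      _ = (hmᵀ * g.1ᵀ) * hm := by rw [hg, Matrix.mul_assoc]
      _ = (g.1 * hm)ᵀ * hm := by rw [transpose_mul]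
      _ = hm := by rw [hgh, transpose_one, Matrix.one_mul]
  have hsF : (hm.map j)ᵀ = hm.map j := by rw [← transpose_map, hs]
  have hhgF : hm.map j * g.1.map j = 1 := by
    rw [← Matrix.map_mul, hhg, Matrix.map_one j (map_zero j) (map_one j)]
  have hkk : (k⁻¹).1 * k.1 = 1 := by rw [← Units.val_mul, inv_mul_cancel, Units.val_one]
  set κ := oc_kap k.1 τ with hκdef
  have hκ : Function.Injective κ := oc_kap_inj k.1 (k⁻¹).1 τ hkk
  have hnd : ∀ x : Fin (d + 1) → F, x ≠ 0 → ∃ v, oc_B (hm.map j) x v ≠ 0 := by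
    intro x hx
    obtain ⟨i, hi⟩ := Function.ne_iff.mp hx
    refine ⟨g.1.map j *ᵥ Pi.single i 1, ?_⟩
    unfold oc_B
    rw [mulVec_mulVec, hhgF, one_mulVec, dotProduct_single_one]
    exact hi
  have hA : ∀ x w : Fin (d + 1) → F₀, x ≠ 0 → oc_B hm x x = 0 → oc_B hm x w = 0 →
      oc_B hm w w ≠ 0 → ∃ l : F, κ (j ∘ x) = l • (j ∘ x) := by
    intro x w hx0 hxx hxw hww
    have hwx : oc_B hm w x = 0 := by rw [oc_B_symm hm hs]; exact hxw
    refine oc_eigen (hm.map j) κ hκ hsF hnd (x := j ∘ x) (w := j ∘ w) (ocp_comp_ne_zero j hx0)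
      (by rw [ocp_B_map, hxx, map_zero]) (by rw [ocp_B_map, hxw, map_zero])
      (by rw [ocp_B_map, Ne, map_eq_zero]; exact hww) ?_
    obtain ⟨c, hc⟩ := h ⟨oc_E hm x w, oc_E_det hm h2 hxx hxw hwx⟩
      (mem_formSL.mpr (oc_E_form hm h2 g.1 hs hgh hhg hxx hxw))
    refine ⟨c, fun v => ?_⟩
    rw [← ocp_E_map]
    exact oc_kap_comm k.1 (k⁻¹).1 τ hkk _ c hc v
  -- the orthogonal basis over the subfield
  have hSymm : (Matrix.toBilin' hm).IsSymm := Matrix.isSymm_toBilin'_iff_isSymm.mpr hs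
  have hdet : hm.det ≠ 0 := by
    have : g.1.det * hm.det = 1 := by rw [← det_mul, hgh, det_one]
    exact right_ne_zero_of_mul_eq_one this
  have hNon : (Matrix.toBilin' hm).Nondegenerate :=
    LinearMap.BilinForm.nondegenerate_toBilin'_of_det_ne_zero' hm hdet
  obtain ⟨v, hvO, hv1⟩ := Helper14.exists_normalized_orthogonal_basis h2 d (Matrix.toBilin' hm)
    hSymm hNon (by simp)
  have hB : ∀ u w, Matrix.toBilin' hm u w = oc_B hm u w :=
    fun u w => Matrix.toBilin'_apply' hm u w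
  have hO : ∀ i i', i ≠ i' → oc_B hm (v i) (v i') = 0 := by
    intro i i' hij
    rw [← hB]
    exact hvO hij
  have hD : ∀ i, oc_B hm (v i) (v i) ≠ 0 := by
    intro i
    rw [← hB]
    exact LinearMap.BilinForm.iIsOrtho.not_isOrtho_basis_self_of_nondegenerate hvO hNon i
  have hN1 : ∀ i : Fin (d + 1), i ≠ Fin.last d → oc_B hm (v i) (v i) = 1 := by
    intro i hi
    rw [← hB]
    exact hv1 i hi
  obtain ⟨i0, i1, i2, h01, h02, h12, hl0, hl1⟩ : ∃ i0 i1 i2 : Fin (d + 1), i0 ≠ i1 ∧ i0 ≠ i2 ∧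
      i1 ≠ i2 ∧ i0 ≠ Fin.last d ∧ i1 ≠ Fin.last d := by
    refine ⟨⟨0, by omega⟩, ⟨1, by omega⟩, ⟨2, by omega⟩, ?_, ?_, ?_, ?_, ?_⟩ <;>
      simp [Fin.ext_iff] <;> omega
  have hd0 : oc_B hm (v i0) (v i0) = 1 := hN1 i0 hl0
  have hd1 : oc_B hm (v i1) (v i1) = 1 := hN1 i1 hl1
  obtain ⟨a, b, hab⟩ := Helper14.exists_binary_rep h2 1 (oc_B hm (v i2) (v i2)) (-1) one_ne_zero
    (hD i2)
  set d2 := oc_B hm (v i2) (v i2) with hd2
  have hd2ne : d2 ≠ 0 := hD i2
  set c2 : F₀ := 2⁻¹ with hc2def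
  have hc2 : 2 * c2 = 1 := mul_inv_cancel₀ h2
  set x : Fin (d + 1) → F₀ := (1 : F₀) • v i0 + a • v i1 + b • v i2 with hxdef
  set y : Fin (d + 1) → F₀ := c2 • v i0 + (-(c2 * a)) • v i1 + (-(c2 * b)) • v i2 with hydef
  set z : Fin (d + 1) → F₀ := (0 : F₀) • v i0 + (d2 * b) • v i1 + (-a) • v i2 with hzdef
  have comb := oc_B_comb hm (hO i0 i1 h01) (hO i0 i2 h02) (hO i1 i2 h12) (hO i1 i0 h01.symm)
    (hO i2 i0 h02.symm) (hO i2 i1 h12.symm)
  have hxx : oc_B hm x x = 0 := by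
    rw [hxdef, comb, hd0, hd1, ← hd2]
    linear_combination hab
  have hyy : oc_B hm y y = 0 := by
    rw [hydef, comb, hd0, hd1, ← hd2]
    linear_combination c2 ^ 2 * hab
  have hxy : oc_B hm x y = 1 := by
    rw [hxdef, hydef, comb, hd0, hd1, ← hd2]
    linear_combination (-c2) * hab + hc2
  have hxz : oc_B hm x z = 0 := by
    rw [hxdef, hzdef, comb, hd0, hd1, ← hd2]
    ring
  have hyz : oc_B hm y z = 0 := by
    rw [hydef, hzdef, comb, hd0, hd1, ← hd2]
    ring
  have hzz : oc_B hm z z = -d2 := by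
    rw [hzdef, comb, hd0, hd1, ← hd2]
    linear_combination d2 * hab
  have hzz0 : oc_B hm z z ≠ 0 := by rw [hzz]; exact neg_ne_zero.mpr hd2ne
  obtain ⟨hσ, l, hlx, hly, hlz⟩ := ocp_scalar' j hm κ hκ hs h2 hA hxx hyy hxy hxz hyz hzz0
  have hτ : ∀ c : F₀, τ (j c) = j c := hσ
  have hx0 : x ≠ 0 := by
    intro h0
    rw [h0, oc_B_zero_left] at hxy
    exact zero_ne_one hxy
  have hjx0 : j ∘ x ≠ 0 := ocp_comp_ne_zero j hx0
  -- the rational eigenspace
  let W : Submodule F₀ (Fin (d + 1) → F₀) :=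
    { carrier := {u | κ (j ∘ u) = l • (j ∘ u)}
      add_mem' := by
        intro u u' hu hu'
        show κ (j ∘ (u + u')) = l • (j ∘ (u + u'))
        rw [ocp_comp_add, map_add, smul_add, hu, hu']
      zero_mem' := by
        show κ (j ∘ (0 : Fin (d + 1) → F₀)) = l • (j ∘ (0 : Fin (d + 1) → F₀))
        have : j ∘ (0 : Fin (d + 1) → F₀) = 0 := by funext i; simp
        rw [this, map_zero, smul_zero]
      smul_mem' := by
        intro c u hu
        show κ (j ∘ (c • u)) = l • (j ∘ (c • u))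
        have hc : (τ : F →+* F) (j c) = j c := hτ c
        rw [ocp_comp_smul, map_smulₛₗ, hc, hu, smul_comm] }
  have hWx : x ∈ W := hlx
  have hWy : y ∈ W := hly
  have hWz : z ∈ W := hlz
  have hWv : ∀ i, v i ∈ W := by
    intro i
    by_cases hi0 : i = i0
    · have e : v i0 = c2 • x + y := by
        have : c2 • x + y = (2 * c2) • v i0 := by
          rw [hxdef, hydef]
          module
        rw [this, hc2, one_smul]
      rw [hi0, e]
      exact W.add_mem (W.smul_mem c2 hWx) hWy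
    have ht : c2 • x - y ∈ W := W.sub_mem (W.smul_mem c2 hWx) hWy
    have et : c2 • x - y = (2 * c2) • (a • v i1 + b • v i2) := by
      rw [hxdef, hydef]
      module
    rw [et, hc2, one_smul] at ht
    by_cases hi1 : i = i1
    · have e : v i1 = (-a) • (a • v i1 + b • v i2) + (-b) • z := by
        have : (-a) • (a • v i1 + b • v i2) + (-b) • z = (-(1 * a ^ 2 + d2 * b ^ 2)) • v i1 := by
          rw [hzdef]
          module
        rw [this, hab, neg_neg, one_smul]
      rw [hi1, e]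
      exact W.add_mem (W.smul_mem _ ht) (W.smul_mem _ hWz)
    by_cases hi2 : i = i2
    · have e : v i2 = (-(d2 * b)) • (a • v i1 + b • v i2) + a • z := by
        have : (-(d2 * b)) • (a • v i1 + b • v i2) + a • z =
            (-(1 * a ^ 2 + d2 * b ^ 2)) • v i2 := by
          rw [hzdef]
          module
        rw [this, hab, neg_neg, one_smul]
      rw [hi2, e]
      exact W.add_mem (W.smul_mem _ ht) (W.smul_mem _ hWz)
    -- the remaining basis vectors
    have hxi : oc_B hm x (v i) = 0 := by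
      rw [hxdef]
      exact oc_B_comb_right hm (hO i0 i (Ne.symm hi0)) (hO i1 i (Ne.symm hi1))
        (hO i2 i (Ne.symm hi2)) _ _ _
    have hyi : oc_B hm y (v i) = 0 := by
      rw [hydef]
      exact oc_B_comb_right hm (hO i0 i (Ne.symm hi0)) (hO i1 i (Ne.symm hi1))
        (hO i2 i (Ne.symm hi2)) _ _ _
    obtain ⟨-, l', hlx', -, hlz'⟩ := ocp_scalar' j hm κ hκ hs h2 hA hxx hyy hxy hxi hyi (hD i)
    have hll : l' = l := by
      have : (l' - l) • (j ∘ x) = 0 := by rw [sub_smul, ← hlx', ← hlx, sub_self]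
      rcases smul_eq_zero.mp this with h' | h'
      · linear_combination h'
      · exact absurd h' hjx0
    rw [hll] at hlz'
    exact hlz'
  have hWtop : ∀ u : Fin (d + 1) → F₀, u ∈ W := by
    intro u
    have hu : u ∈ Submodule.span F₀ (Set.range v) := v.mem_span u
    refine (Submodule.span_le.mpr ?_) hu
    rintro _ ⟨i, rfl⟩
    exact hWv i
  have hkl : k.1 = l • (1 : Matrix (Fin (d + 1)) (Fin (d + 1)) F) := by
    ext i i'
    have hj : κ (j ∘ (Pi.single i' 1 : Fin (d + 1) → F₀)) =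
        l • (j ∘ (Pi.single i' 1 : Fin (d + 1) → F₀)) := hWtop _
    have e0 : j ∘ (Pi.single i' 1 : Fin (d + 1) → F₀) = Pi.single i' 1 := by
      funext t
      simp only [Function.comp_apply, Pi.single_apply]
      split_ifs <;> simp
    have e : (fun t => τ ((Pi.single i' 1 : Fin (d + 1) → F) t)) = Pi.single i' 1 := by
      funext t
      simp only [Pi.single_apply]
      split_ifs <;> simp
    rw [e0, hκdef, oc_kap_apply, e, mulVec_single_one] at hj
    have := congrFun hj i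
    simp only [Matrix.col_apply, Pi.smul_apply, smul_eq_mul] at this
    rw [this, Matrix.smul_apply, Matrix.one_apply, smul_eq_mul, Pi.single_apply]
  refine ⟨hτ, ?_⟩
  rw [Subgroup.mem_center_iff]
  intro m
  apply Units.ext
  rw [Units.val_mul, Units.val_mul, hkl, Matrix.mul_smul, Matrix.smul_mul, Matrix.mul_one,
    Matrix.one_mul]

end mainp

end Cfsg.Agent.Lib.Helper5.Bal
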