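import Cfsg.Agent.Lib.Helper43.ClassifyEven
import Cfsg.Agent.Lib.Helper43.QbarFacts
import Cfsg.Agent.Lib.Helper37.ParabolicBridge

/-!
# Plus / minus dichotomy for a Prelude-style nondegenerate quadratic form `Q : (ι → F) → F` (helper43)
-/

set_option autoImplicit false

namespace Cfsg.Agent.Lib.Helper43.ZeroCount

open Module QuadraticMap

universe u

variable {F : Type u} [Field F] [Fintype F]

/-- plus / minus dichotomy for `Geo.IsNondegenerateQuadraticForm`, with a prescribed anisotropic binary form -/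
theorem classify_even_fun {ι : Type} [Fintype ι] [DecidableEq ι] (a c : F)
    (hac : ∀ z₁ z₂ : F, z₁ ^ 2 + a * z₁ * z₂ + c * z₂ ^ 2 = 0 → z₁ = 0 ∧ z₂ = 0)
    (Q : (ι → F) → F) (hQ : Cfsg.Geo.IsNondegenerateQuadraticForm Q) (M : ℕ)
    (hcard : Fintype.card ι = 2 * M) :
    (∃ Θ : (ι → F) ≃ₗ[F] (Fin M ⊕ Fin M → F), ∀ v, Cfsg.quadFormPlus M F (Θ v) = Q v) ∨
    (∃ M' : ℕ, M = M' + 1 ∧ ∃ Θ : (ι → F) ≃ₗ[F] ((Fin M' ⊕ Fin M') ⊕ Fin 2 → F),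
      ∀ v, Cfsg.quadFormMinus M' F a c (Θ v) = Q v) := by
  have hdim : finrank F (ι → F) = 2 * M := by
    rw [Module.finrank_fintype_fun_eq_card, hcard]
  exact classify_even a c hac (ι → F) (Cfsg.Agent.Lib.Helper37.toQF Q hQ)
    (Cfsg.Agent.Lib.Helper37.toQF_nondeg Q hQ) M hdim

/-- the same with the anisotropic binary form chosen for you -/
theorem classify_even_fun' {ι : Type} [Fintype ι] [DecidableEq ι]
    (Q : (ι → F) → F) (hQ : Cfsg.Geo.IsNondegenerateQuadraticForm Q) (M : ℕ)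
    (hcard : Fintype.card ι = 2 * M) :
    (∃ Θ : (ι → F) ≃ₗ[F] (Fin M ⊕ Fin M → F), ∀ v, Cfsg.quadFormPlus M F (Θ v) = Q v) ∨
    (∃ (M' : ℕ) (a c : F), M = M' + 1 ∧
      (∀ z₁ z₂ : F, z₁ ^ 2 + a * z₁ * z₂ + c * z₂ ^ 2 = 0 → z₁ = 0 ∧ z₂ = 0) ∧
      ∃ Θ : (ι → F) ≃ₗ[F] ((Fin M' ⊕ Fin M') ⊕ Fin 2 → F),
        ∀ v, Cfsg.quadFormMinus M' F a c (Θ v) = Q v) := by
  obtain ⟨a, c, hac⟩ := Cfsg.Agent.Lib.Helper43.OrthGen.exists_aniso F
  rcases classify_even_fun a c hac Q hQ M hcard with h | ⟨M', hM, Θ, hΘ⟩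
  · exact Or.inl h
  · exact Or.inr ⟨M', a, c, hM, hac, Θ, hΘ⟩

end Cfsg.Agent.Lib.Helper43.ZeroCount
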