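import Cfsg.Agent.Lib.Helper37.EfDefs

/-! # Ef hive (S2211, helper37), leaf EF-INTW4: `x^{E6}_{25}(t) * Pm = Pm * x^{F4}_{23}(t)` in characteristic 2.

Every entry of `xMat` is a polynomial in `t` with integer coefficients, given by a list of monomials `(exponent, coefficient)`.
Both sides of the identity are sums of such entries; the lists of monomials are compared modulo 2 by a kernel computation. -/

set_option autoImplicit false

namespace Cfsg.Agent.Lib.Helper37.Ef

open Cfsg Cfsg.Lie Cfsg.Agent.Lib.Helper36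

variable {F : Type*} [Field F]

/-- value of a list of monomials `(k, c) ↦ c t^k` -/
def intw4_ev (t : F) (L : List (ℕ × ℤ)) : F := (L.map fun km => ((km.2 : ℤ) : F) * t ^ km.1).sum

theorem intw4_ev_nil (t : F) : intw4_ev t [] = 0 := by simp [intw4_ev]

theorem intw4_ev_cons (t : F) (p : ℕ × ℤ) (L : List (ℕ × ℤ)) :
    intw4_ev t (p :: L) = ((p.2 : ℤ) : F) * t ^ p.1 + intw4_ev t L := by simp [intw4_ev]

theorem intw4_ev_append (t : F) (L L' : List (ℕ × ℤ)) : intw4_ev t (L ++ L') = intw4_ev t L + intw4_ev t L' := by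
  simp [intw4_ev]

/-- index of the Lie algebra basis, with natural numbers -/
def intw4_enc (D : ChevalleyDatum) (i : D.Idx) : ℕ ⊕ ℕ := Sum.map Fin.val Fin.val i

/-- the monomials of the entry `(row, col)` of `x_r(t)` -/
def intw4_xp (D : ChevalleyDatum) (r : ℕ) (row col : ℕ ⊕ ℕ) : List (ℕ × ℤ) :=
  match col with
  | Sum.inl i =>
    (match row with
     | Sum.inl i' => if i' = i then [(0, 1)] else []
     | Sum.inr u => if u = r then [(1, - ((D.cartanSR.getD i #[]).getD r 0))] else [])
  | Sum.inr s =>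
    if s = r then (match row with | Sum.inr u => if u = r then [(0, 1)] else [] | Sum.inl _ => [])
    else if s = D.negIdx.getD r 0 then
      (match row with
       | Sum.inl i => [(1, (D.coroot.getD r #[]).getD i 0)]
       | Sum.inr u => if u = s then [(0, 1)] else if u = r then [(2, -1)] else [])
    else
      (match row with
       | Sum.inl _ => []
       | Sum.inr u => (if u = s then [(0, 1)] else []) ++ D.chainCoeff r s u)

theorem intw4_xMat_entry (D : ChevalleyDatum) (r : Fin D.nroots) (t : F) (row col : D.Idx) :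
    D.xMat F r t row col = intw4_ev t (intw4_xp D r.val (intw4_enc D row) (intw4_enc D col)) := by
  have hv : ∀ a b : Fin D.nroots, (a = b) = (a.val = b.val) := fun a b => propext Fin.ext_iff
  have hv' : ∀ a b : Fin D.rank, (a = b) = (a.val = b.val) := fun a b => propext Fin.ext_iff
  rcases row with i' | u <;> rcases col with i | s <;>
    simp only [ChevalleyDatum.xMat, intw4_xp, intw4_enc, Matrix.of_apply, Sum.map_inl, Sum.map_inr, hv, hv'] <;>
    generalize D.negIdx.getD r.val 0 = ng <;>
    split_ifs <;> simp [intw4_ev]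

theorem intw4_sum_range (t : F) (h : ℕ → List (ℕ × ℤ)) (n : ℕ) :
    (∑ a ∈ Finset.range n, intw4_ev t (h a)) = intw4_ev t ((List.range n).flatMap h) := by
  induction n with
  | zero => simp [intw4_ev]
  | succ n ih =>
    rw [Finset.sum_range_succ, ih, List.range_succ, List.flatMap_append, intw4_ev_append]
    simp

theorem intw4_sum_idx (D : ChevalleyDatum) (t : F) (g : ℕ ⊕ ℕ → List (ℕ × ℤ)) :
    (∑ l : D.Idx, intw4_ev t (g (intw4_enc D l))) =
      intw4_ev t (((List.range D.rank).flatMap fun a => g (Sum.inl a)) ++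
        ((List.range D.nroots).flatMap fun a => g (Sum.inr a))) := by
  rw [Fintype.sum_sum_type, intw4_ev_append, ← intw4_sum_range, ← intw4_sum_range]
  simp only [intw4_enc, Sum.map_inl, Sum.map_inr]
  rw [Fin.sum_univ_eq_sum_range (fun a => intw4_ev t (g (Sum.inl a))),
    Fin.sum_univ_eq_sum_range (fun a => intw4_ev t (g (Sum.inr a)))]

/-- coefficient sum at exponent `k` -/
def intw4_cs (L : List (ℕ × ℤ)) (k : ℕ) : ℤ := ((L.filter fun km => km.1 = k).map fun km => km.2).sum

theorem intw4_ev_eq (t : F) (L : List (ℕ × ℤ)) (hL : ∀ p ∈ L, p.1 < 3) :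
    intw4_ev t L = ((intw4_cs L 0 : ℤ) : F) + ((intw4_cs L 1 : ℤ) : F) * t + ((intw4_cs L 2 : ℤ) : F) * t ^ 2 := by
  induction L with
  | nil => simp [intw4_ev, intw4_cs]
  | cons p L ih =>
    have h1 : p.1 < 3 := hL p (by simp)
    have ih' := ih (fun q hq => hL q (by simp [hq]))
    rw [intw4_ev_cons, ih']
    obtain ⟨e, c⟩ := p
    simp only at h1 ⊢
    interval_cases e <;> simp [intw4_cs] <;> ring

/-- all exponents `< 3` and all coefficient sums even -/
def intw4_chk0 (L : List (ℕ × ℤ)) : Bool :=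
  L.all (fun p => decide (p.1 < 3)) && decide (intw4_cs L 0 % 2 = 0) && decide (intw4_cs L 1 % 2 = 0) &&
    decide (intw4_cs L 2 % 2 = 0)

theorem intw4_ev_zero [CharP F 2] (t : F) (L : List (ℕ × ℤ)) (h : intw4_chk0 L = true) : intw4_ev t L = 0 := by
  simp only [intw4_chk0, Bool.and_eq_true, List.all_eq_true, decide_eq_true_eq] at h
  obtain ⟨⟨⟨h0, h1⟩, h2⟩, h3⟩ := h
  have hz : ∀ c : ℤ, c % 2 = 0 → ((c : ℤ) : F) = 0 := fun c hc =>
    (CharP.intCast_eq_zero_iff F 2 c).2 (by exact_mod_cast Int.dvd_of_emod_eq_zero hc)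
  rw [intw4_ev_eq t L h0, hz _ h1, hz _ h2, hz _ h3]
  simp

/-- the support of `Pm`, on natural-number indices (row: `E₆` index, column: `F₄` index) -/
def intw4_pmB (l j : ℕ ⊕ ℕ) : Bool :=
  match l, j with
  | Sum.inl a, Sum.inl k => decide (a ∈ horbF.getD k [])
  | Sum.inr a, Sum.inr s => decide (a ∈ orbF.getD s [])
  | _, _ => false

theorem intw4_Pm_entry (l : chevE6.Idx) (j : chevF4.Idx) :
    Pm F l j = if intw4_pmB (intw4_enc chevE6 l) (intw4_enc chevF4 j) = true then 1 else 0 := by
  rcases l with a | a <;> rcases j with k | k <;> simp [Pm, intw4_pmB, intw4_enc]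

/-- monomials of the `(i, j)` entry of `x^{E6}_{r6}(t) * Pm` -/
def intw4_entL (r6 : ℕ) (i j : ℕ ⊕ ℕ) : List (ℕ × ℤ) :=
  ((List.range chevE6.rank).flatMap fun a =>
      if intw4_pmB (Sum.inl a) j = true then intw4_xp chevE6 r6 i (Sum.inl a) else []) ++
    ((List.range chevE6.nroots).flatMap fun a =>
      if intw4_pmB (Sum.inr a) j = true then intw4_xp chevE6 r6 i (Sum.inr a) else [])

/-- monomials of the `(i, j)` entry of `Pm * x^{F4}_{r4}(t)` -/
def intw4_entR (r4 : ℕ) (i j : ℕ ⊕ ℕ) : List (ℕ × ℤ) :=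
  ((List.range chevF4.rank).flatMap fun a =>
      if intw4_pmB i (Sum.inl a) = true then intw4_xp chevF4 r4 (Sum.inl a) j else []) ++
    ((List.range chevF4.nroots).flatMap fun a =>
      if intw4_pmB i (Sum.inr a) = true then intw4_xp chevF4 r4 (Sum.inr a) j else [])

/-- all indices of a datum -/
def intw4_all (D : ChevalleyDatum) : List (ℕ ⊕ ℕ) :=
  (List.range D.rank).map Sum.inl ++ (List.range D.nroots).map Sum.inr

theorem intw4_mem_all (D : ChevalleyDatum) (i : D.Idx) : intw4_enc D i ∈ intw4_all D := by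
  rcases i with a | a <;> simp [intw4_all, intw4_enc]

/-- the check: all entries of the two sides agree modulo 2 -/
def intw4_chk (r6 r4 : ℕ) : Bool :=
  (intw4_all chevE6).all fun i => (intw4_all chevF4).all fun j => intw4_chk0 (intw4_entL r6 i j ++ intw4_entR r4 i j)

theorem intw4_single [CharP F 2] (r6 r4 : ℕ) (h6 : r6 < chevE6.nroots) (h4 : r4 < chevF4.nroots)
    (hc : intw4_chk r6 r4 = true) (t : F) :
    chevE6.x F r6 t * Pm F = Pm F * chevF4.x F r4 t := by
  ext i j
  have hL : (chevE6.x F r6 t * Pm F) i j = intw4_ev t (intw4_entL r6 (intw4_enc chevE6 i) (intw4_enc chevF4 j)) := by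
    rw [Matrix.mul_apply, intw4_entL, ← intw4_sum_idx chevE6 t (fun l =>
      if intw4_pmB l (intw4_enc chevF4 j) = true then intw4_xp chevE6 r6 (intw4_enc chevE6 i) l else [])]
    refine Finset.sum_congr rfl (fun l _ => ?_)
    rw [ChevalleyDatum.x, dif_pos h6, intw4_xMat_entry, intw4_Pm_entry]
    split_ifs <;> simp [intw4_ev]
  have hR : (Pm F * chevF4.x F r4 t) i j = intw4_ev t (intw4_entR r4 (intw4_enc chevE6 i) (intw4_enc chevF4 j)) := by
    rw [Matrix.mul_apply, intw4_entR, ← intw4_sum_idx chevF4 t (fun l =>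
      if intw4_pmB (intw4_enc chevE6 i) l = true then intw4_xp chevF4 r4 l (intw4_enc chevF4 j) else [])]
    refine Finset.sum_congr rfl (fun l _ => ?_)
    rw [ChevalleyDatum.x, dif_pos h4, intw4_xMat_entry, intw4_Pm_entry]
    split_ifs <;> simp [intw4_ev]
  have hz : intw4_chk0 (intw4_entL r6 (intw4_enc chevE6 i) (intw4_enc chevF4 j) ++
      intw4_entR r4 (intw4_enc chevE6 i) (intw4_enc chevF4 j)) = true := by
    simp only [intw4_chk, List.all_eq_true] at hc
    exact hc _ (intw4_mem_all chevE6 i) _ (intw4_mem_all chevF4 j)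
  have h0 := intw4_ev_zero t _ hz
  rw [intw4_ev_append, ← hL, ← hR] at h0
  exact CharTwo.add_eq_zero.1 h0

theorem intw4_chk_25_23 : intw4_chk 25 23 = true := by decide +kernel

theorem intw4 [CharP F 2] (t : F) :
    ((yG F 4 t : GL chevE6.Idx F) : Matrix chevE6.Idx chevE6.Idx F) * Pm F = Pm F * chevF4.x F 23 t := by
  have h : ((yG F 4 t : GL chevE6.Idx F) : Matrix chevE6.Idx chevE6.Idx F) = chevE6.x F 25 t := by
    simp [yG, blk, wordGL, xGL_coe]
  rw [h]
  exact intw4_single 25 23 (by decide) (by decide) intw4_chk_25_23 t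

end Cfsg.Agent.Lib.Helper37.Ef
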