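import Cfsg.Agent.Lib.Helper37.SimIndex

set_option autoImplicit false
set_option linter.unusedSectionVars false
set_option linter.unusedVariables false
set_option linter.style.haveILetI false

/-!
# The image of the conformal group in `Aut(PΩ(Q))` when all multipliers occur
-/

namespace Cfsg.Agent.Lib.Helper43.EvenOrthAut

open Matrix Module
open Cfsg.Agent.Lib.Helper37

universe u

variable {ι : Type} [Fintype ι] [DecidableEq ι] {F : Type u} [Field F]
  (Q : QuadraticForm F (ι → F))

/-- the scalar matrices as similarities (any characteristic) -/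
def scalarSim (c : Fˣ) : ↥(Cfsg.Geo.quadSimilarityGroup (F := F) ⇑Q) :=
  ⟨Units.map (Matrix.scalar ι : F →+* Matrix ι ι F).toMonoidHom c, c * c, fun v => by
    have : ((Units.map (Matrix.scalar ι : F →+* Matrix ι ι F).toMonoidHom c : GL ι F) :
        Matrix ι ι F) *ᵥ v = (c : F) • v := by
      show (Matrix.scalar ι (c : F)) *ᵥ v = _
      rw [Matrix.scalar_apply, ← Matrix.smul_one_eq_diagonal, Matrix.smul_mulVec,
        Matrix.one_mulVec]
    rw [this, QuadraticMap.map_smul, Units.val_mul, smul_eq_mul]⟩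

theorem scalarSim_val (c : Fˣ) :
    ((scalarSim Q c).1 : Matrix ι ι F) = (c : F) • (1 : Matrix ι ι F) := by
  show (Matrix.scalar ι (c : F)) = _
  rw [Matrix.scalar_apply, ← Matrix.smul_one_eq_diagonal]

theorem scalarSim_mulVec (c : Fˣ) (v : ι → F) :
    ((scalarSim Q c).1 : Matrix ι ι F) *ᵥ v = (c : F) • v := by
  rw [scalarSim_val, Matrix.smul_mulVec, Matrix.one_mulVec]

theorem simMult_scalarSim (hne : ∃ v, Q v ≠ 0) (c : Fˣ) :
    simMult ⇑Q (scalarSim Q c) = c * c := by
  apply simMult_unique hne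
  intro v
  rw [scalarSim_mulVec, QuadraticMap.map_smul, Units.val_mul, smul_eq_mul]

variable [Fintype F]

theorem ker_simMultHom (hne : ∃ v, Q v ≠ 0) :
    (simMultHom (Q := ⇑Q) hne).ker = (isoGO (⇑Q : (ι → F) → F)).range := by
  ext g
  rw [MonoidHom.mem_ker, simMultHom_apply]
  constructor
  · intro h
    have hk : g.1 ∈ Cfsg.isometryGroup F ⇑Q := by
      rw [Cfsg.Agent.Lib.Helper94.mem_isom]
      intro v
      rw [simMult_spec ⇑Q g v, h, Units.val_one, one_mul]
    exact ⟨⟨g.1, hk⟩, Subtype.ext rfl⟩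
  · rintro ⟨k, rfl⟩
    exact simMult_isoGO hne k

/-- when every multiplier occurs, the image of the conformal group in `Aut(PΩ(Q))` has the order
of the isometry group -/
theorem card_range_Phi_eq [Nonempty ι] (hne : ∃ v, Q v ≠ 0)
    (hker : ∀ g : ↥(Cfsg.Geo.quadSimilarityGroup (F := F) ⇑Q),
      Phi ⇑Q g = 1 ↔ ∃ c : F, ((g.1 : GL ι F) : Matrix ι ι F) = c • (1 : Matrix ι ι F))
    (hsurj : ∀ c : Fˣ, ∃ g : ↥(Cfsg.Geo.quadSimilarityGroup (F := F) ⇑Q), simMult ⇑Q g = c) :
    Nat.card (Phi (⇑Q : (ι → F) → F)).range = Nat.card ↥(Cfsg.isometryGroup F ⇑Q) := by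
  classical
  haveI : Finite (GL ι F) := Finite.of_fintype _
  have hμsurj : Function.Surjective (simMultHom (Q := ⇑Q) hne) := hsurj
  -- (1), (2)
  have c1 : Nat.card ↥(Cfsg.Geo.quadSimilarityGroup (F := F) ⇑Q) =
      Nat.card Fˣ * Nat.card ↥(Cfsg.isometryGroup F ⇑Q) := by
    rw [Subgroup.card_eq_card_quotient_mul_card_subgroup (simMultHom (Q := ⇑Q) hne).ker,
      Nat.card_congr (QuotientGroup.quotientKerEquivOfSurjective _ hμsurj).toEquiv,
      ker_simMultHom Q hne,
      ← Nat.card_congr (MonoidHom.ofInjective (isoGO_injective (Q := ⇑Q))).toEquiv]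
  -- (3)
  have c3 : Nat.card ↥(Cfsg.Geo.quadSimilarityGroup (F := F) ⇑Q) =
      Nat.card (Phi (⇑Q : (ι → F) → F)).range * Nat.card (Phi (⇑Q : (ι → F) → F)).ker := by
    rw [Subgroup.card_eq_card_quotient_mul_card_subgroup (Phi (⇑Q : (ι → F) → F)).ker,
      Nat.card_congr (QuotientGroup.quotientKerEquivRange (Phi (⇑Q : (ι → F) → F))).toEquiv]
  -- (4)
  have c4 : Nat.card (Phi (⇑Q : (ι → F) → F)).ker = Nat.card Fˣ := by
    symm
    apply Nat.card_congr
    refine Equiv.ofBijective (fun c => ⟨scalarSim Q c, (hker _).2 ⟨c, scalarSim_val Q c⟩⟩) ⟨?_, ?_⟩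
    · intro c c' h
      have h1 : scalarSim Q c = scalarSim Q c' := congrArg Subtype.val h
      have h2 : ((scalarSim Q c).1 : Matrix ι ι F) = ((scalarSim Q c').1 : Matrix ι ι F) := by
        rw [h1]
      rw [scalarSim_val, scalarSim_val] at h2
      obtain ⟨i⟩ := ‹Nonempty ι›
      have h3 := congrFun (congrFun h2 i) i
      simp only [Matrix.smul_apply, Matrix.one_apply_eq, smul_eq_mul, mul_one] at h3
      exact Units.ext h3
    · rintro ⟨g, hg⟩
      obtain ⟨c, hc⟩ := (hker g).1 hg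
      obtain ⟨v, hv⟩ := hne
      have hc0 : c ≠ 0 := by
        rintro rfl
        have h1 := simMult_spec ⇑Q g v
        rw [hc, zero_smul, Matrix.zero_mulVec, map_zero] at h1
        exact mul_ne_zero (simMult ⇑Q g).ne_zero hv h1.symm
      refine ⟨Units.mk0 c hc0, ?_⟩
      apply Subtype.ext
      apply Subtype.ext
      apply Units.ext
      rw [hc]
      exact scalarSim_val Q (Units.mk0 c hc0)
  rw [c4, c1, mul_comm] at c3
  have hpos : 0 < Nat.card Fˣ := Nat.card_pos
  exact (Nat.eq_of_mul_eq_mul_right hpos c3).symm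

end Cfsg.Agent.Lib.Helper43.EvenOrthAut
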