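import Mathlib

set_option autoImplicit false

namespace Cfsg.Agent.Lib.Helper43

open Matrix

section wt

variable {X : Type*} [Fintype X]

/-- Hamming weight of a vector over the field of two elements -/
def wt (v : X → ZMod 2) : ℕ := ∑ x, (v x).val

theorem wt_cast (v : X → ZMod 2) : ((wt v : ℕ) : ZMod 2) = ∑ x, v x := by
  simp [wt, Nat.cast_sum]

theorem even_wt_iff (v : X → ZMod 2) : Even (wt v) ↔ ∑ x, v x = 0 := by
  rw [← wt_cast, ZMod.natCast_eq_zero_iff, even_iff_two_dvd]

theorem val_add_two (a b : ZMod 2) : (a + b).val + 2 * (a.val * b.val) = a.val + b.val := by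
  revert a b
  decide

theorem val_add_one (a : ZMod 2) : (a + 1).val + a.val = 1 := by
  revert a
  decide

theorem wt_add (u v : X → ZMod 2) :
    wt (u + v) + 2 * ∑ x, (u x).val * (v x).val = wt u + wt v := by
  simp only [wt, Finset.mul_sum, ← Finset.sum_add_distrib, Pi.add_apply]
  exact Finset.sum_congr rfl (fun x _ => val_add_two _ _)

theorem cast_inter (u v : X → ZMod 2) :
    ((∑ x, (u x).val * (v x).val : ℕ) : ZMod 2) = u ⬝ᵥ v := by
  simp [dotProduct, Nat.cast_sum]

theorem wt_zero : wt (0 : X → ZMod 2) = 0 := by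
  simp [wt]

theorem wt_perm (σ : X ≃ X) (v : X → ZMod 2) : wt (fun x => v (σ x)) = wt v :=
  Equiv.sum_comp σ (fun x => (v x).val)

theorem wt_add_one (v : X → ZMod 2) : wt (v + 1) + wt v = Fintype.card X := by
  simp only [wt, ← Finset.sum_add_distrib, Pi.add_apply, Pi.one_apply]
  rw [Finset.sum_congr rfl (fun x _ => val_add_one (v x))]
  simp

/-- half the weight, modulo two -/
def qE (v : X → ZMod 2) : ZMod 2 := ((wt v / 2 : ℕ) : ZMod 2)

theorem qE_zero : qE (0 : X → ZMod 2) = 0 := by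
  simp [qE, wt_zero]

theorem qE_perm (σ : X ≃ X) (v : X → ZMod 2) : qE (fun x => v (σ x)) = qE v := by
  simp only [qE, wt_perm]

theorem qE_add (u v : X → ZMod 2) (hu : Even (wt u)) (hv : Even (wt v)) :
    qE (u + v) = qE u + qE v + u ⬝ᵥ v := by
  have h := wt_add u v
  obtain ⟨a, ha⟩ := hu
  obtain ⟨b, hb⟩ := hv
  have h2 : wt (u + v) / 2 + ∑ x, (u x).val * (v x).val = wt u / 2 + wt v / 2 := by omega
  have h3 := congrArg (fun n : ℕ => (n : ZMod 2)) h2
  simp only [Nat.cast_add] at h3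
  rw [cast_inter] at h3
  show ((wt (u + v) / 2 : ℕ) : ZMod 2) = ((wt u / 2 : ℕ) : ZMod 2) + ((wt v / 2 : ℕ) : ZMod 2) + _
  rw [← h3, add_assoc, CharTwo.add_self_eq_zero, add_zero]

theorem qE_add_one (hn : Fintype.card X % 4 = 0) (v : X → ZMod 2) (hv : Even (wt v)) :
    qE (v + 1) = qE v := by
  have h := wt_add_one v
  obtain ⟨a, ha⟩ := hv
  have h2 : wt (v + 1) / 2 + wt v / 2 = 2 * (Fintype.card X / 4) := by omega
  have h3 := congrArg (fun n : ℕ => (n : ZMod 2)) h2
  simp only [Nat.cast_add, Nat.cast_mul, Nat.cast_ofNat] at h3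
  have h4 : (2 : ZMod 2) = 0 := by decide
  rw [h4, zero_mul] at h3
  show ((wt (v + 1) / 2 : ℕ) : ZMod 2) = ((wt v / 2 : ℕ) : ZMod 2)
  exact CharTwo.add_eq_zero.mp h3

end wt

section model

variable (m : ℕ)

/-- the lift of a vector of the model space to an even-weight vector on `m + 2` points -/
def evLift : (Fin m → ZMod 2) →ₗ[ZMod 2] (Fin m ⊕ Fin 2 → ZMod 2) where
  toFun u := Sum.elim u ![∑ i, u i, 0]
  map_add' := by
    intro u v
    funext x
    rcases x with i | t
    · simp
    · fin_cases t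
      · simp [Finset.sum_add_distrib]
      · simp
  map_smul' := by
    intro c u
    funext x
    rcases x with i | t
    · simp
    · fin_cases t
      · simp [Finset.mul_sum]
      · simp

theorem evLift_inl (u : Fin m → ZMod 2) (i : Fin m) : evLift m u (Sum.inl i) = u i := rfl

theorem evLift_inr_zero (u : Fin m → ZMod 2) : evLift m u (Sum.inr 0) = ∑ i, u i := rfl

theorem evLift_inr_one (u : Fin m → ZMod 2) : evLift m u (Sum.inr 1) = 0 := rfl

/-- the projection killing the all-ones vector -/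
def evProj : (Fin m ⊕ Fin 2 → ZMod 2) →ₗ[ZMod 2] (Fin m → ZMod 2) where
  toFun v i := v (Sum.inl i) + v (Sum.inr 1)
  map_add' := by
    intro u v
    funext i
    simp only [Pi.add_apply]
    ring
  map_smul' := by
    intro c u
    funext i
    simp only [Pi.smul_apply, smul_eq_mul, RingHom.id_apply]
    ring

theorem evProj_apply (v : Fin m ⊕ Fin 2 → ZMod 2) (i : Fin m) :
    evProj m v i = v (Sum.inl i) + v (Sum.inr 1) := rfl

theorem sum_evLift (u : Fin m → ZMod 2) : ∑ x, evLift m u x = 0 := by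
  rw [Fintype.sum_sum_type, Fin.sum_univ_two]
  simp only [evLift_inl, evLift_inr_zero, evLift_inr_one, add_zero]
  exact CharTwo.add_self_eq_zero _

theorem even_wt_evLift (u : Fin m → ZMod 2) : Even (wt (evLift m u)) :=
  (even_wt_iff _).mpr (sum_evLift m u)

theorem evProj_evLift (u : Fin m → ZMod 2) : evProj m (evLift m u) = u := by
  funext i
  rw [evProj_apply, evLift_inl, evLift_inr_one, add_zero]

theorem evProj_one : evProj m (1 : Fin m ⊕ Fin 2 → ZMod 2) = 0 := by
  funext i
  rw [evProj_apply]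
  simp only [Pi.one_apply, Pi.zero_apply]
  decide

theorem evLift_evProj (hm : Even m) (v : Fin m ⊕ Fin 2 → ZMod 2) (hv : ∑ x, v x = 0) :
    evLift m (evProj m v) = v + v (Sum.inr 1) • (1 : Fin m ⊕ Fin 2 → ZMod 2) := by
  rw [Fintype.sum_sum_type, Fin.sum_univ_two] at hv
  funext x
  rcases x with i | t
  · simp [evLift_inl, evProj_apply]
  · fin_cases t
    · show evLift m (evProj m v) (Sum.inr 0) = _
      rw [evLift_inr_zero]
      simp only [evProj_apply, Finset.sum_add_distrib, Finset.sum_const, Finset.card_univ,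
        Fintype.card_fin, Pi.add_apply, Pi.smul_apply, Pi.one_apply, smul_eq_mul, mul_one]
      obtain ⟨t, rfl⟩ := hm
      have h0 : (t + t) • v (Sum.inr 1) = 0 := by
        rw [add_smul]
        exact CharTwo.add_self_eq_zero _
      rw [h0, add_zero]
      have h1 : ∑ i, v (Sum.inl i) = v (Sum.inr 0) + v (Sum.inr 1) := by
        have : ∑ i, v (Sum.inl i) + (v (Sum.inr 0) + v (Sum.inr 1)) = 0 := hv
        exact CharTwo.add_eq_zero.mp this
      exact h1
    · show evLift m (evProj m v) (Sum.inr 1) = _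
      rw [evLift_inr_one]
      simp only [Pi.add_apply, Pi.smul_apply, Pi.one_apply, smul_eq_mul, mul_one]
      exact (CharTwo.add_self_eq_zero _).symm

/-- the permutation action on coordinates -/
def evPerm (σ : Equiv.Perm (Fin m ⊕ Fin 2)) :
    (Fin m ⊕ Fin 2 → ZMod 2) →ₗ[ZMod 2] (Fin m ⊕ Fin 2 → ZMod 2) :=
  LinearMap.funLeft (ZMod 2) (ZMod 2) σ.symm

theorem evPerm_apply (σ : Equiv.Perm (Fin m ⊕ Fin 2)) (v : Fin m ⊕ Fin 2 → ZMod 2)
    (x : Fin m ⊕ Fin 2) : evPerm m σ v x = v (σ.symm x) := rfl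

theorem evPerm_one (σ : Equiv.Perm (Fin m ⊕ Fin 2)) :
    evPerm m σ (1 : Fin m ⊕ Fin 2 → ZMod 2) = 1 := by
  funext x
  rfl

theorem evPerm_mul (σ τ : Equiv.Perm (Fin m ⊕ Fin 2)) (v : Fin m ⊕ Fin 2 → ZMod 2) :
    evPerm m (σ * τ) v = evPerm m σ (evPerm m τ v) := by
  funext x
  rfl

theorem sum_evPerm (σ : Equiv.Perm (Fin m ⊕ Fin 2)) (v : Fin m ⊕ Fin 2 → ZMod 2) :
    ∑ x, evPerm m σ v x = ∑ x, v x :=
  Equiv.sum_comp σ.symm v

theorem wt_evPerm (σ : Equiv.Perm (Fin m ⊕ Fin 2)) (v : Fin m ⊕ Fin 2 → ZMod 2) :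
    wt (evPerm m σ v) = wt v :=
  wt_perm σ.symm v

theorem qE_evPerm (σ : Equiv.Perm (Fin m ⊕ Fin 2)) (v : Fin m ⊕ Fin 2 → ZMod 2) :
    qE (evPerm m σ v) = qE v :=
  qE_perm σ.symm v

/-- the action on the model space -/
def evRho (σ : Equiv.Perm (Fin m ⊕ Fin 2)) : Module.End (ZMod 2) (Fin m → ZMod 2) :=
  evProj m ∘ₗ evPerm m σ ∘ₗ evLift m

theorem evRho_apply (σ : Equiv.Perm (Fin m ⊕ Fin 2)) (u : Fin m → ZMod 2) :
    evRho m σ u = evProj m (evPerm m σ (evLift m u)) := rfl

theorem evLift_evRho (hm : Even m) (σ : Equiv.Perm (Fin m ⊕ Fin 2)) (u : Fin m → ZMod 2) :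
    ∃ c : ZMod 2, evLift m (evRho m σ u) =
      evPerm m σ (evLift m u) + c • (1 : Fin m ⊕ Fin 2 → ZMod 2) := by
  refine ⟨evPerm m σ (evLift m u) (Sum.inr 1), ?_⟩
  rw [evRho_apply, evLift_evProj m hm]
  rw [sum_evPerm, sum_evLift]

theorem evRho_one : evRho m 1 = 1 := by
  apply LinearMap.ext
  intro u
  rw [evRho_apply]
  have : evPerm m 1 (evLift m u) = evLift m u := rfl
  rw [this, evProj_evLift]
  rfl

theorem evRho_mul (hm : Even m) (σ τ : Equiv.Perm (Fin m ⊕ Fin 2)) :
    evRho m (σ * τ) = evRho m σ * evRho m τ := by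
  apply LinearMap.ext
  intro u
  show evRho m (σ * τ) u = evRho m σ (evRho m τ u)
  obtain ⟨c, hc⟩ := evLift_evRho m hm τ u
  rw [evRho_apply m σ, hc, map_add, map_smul, evPerm_one, map_add, map_smul, evProj_one,
    smul_zero, add_zero, evRho_apply, evPerm_mul]

/-- the action as a monoid homomorphism -/
def evRhoHom (hm : Even m) : Equiv.Perm (Fin m ⊕ Fin 2) →* Module.End (ZMod 2) (Fin m → ZMod 2) where
  toFun := evRho m
  map_one' := evRho_one m
  map_mul' := evRho_mul m hm

theorem qE_evLift_evRho (hm : m % 4 = 2) (σ : Equiv.Perm (Fin m ⊕ Fin 2)) (u : Fin m → ZMod 2) :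
    qE (evLift m (evRho m σ u)) = qE (evLift m u) := by
  have hm2 : Even m := by
    rw [Nat.even_iff]; omega
  obtain ⟨c, hc⟩ := evLift_evRho m hm2 σ u
  rw [hc]
  have hcard : Fintype.card (Fin m ⊕ Fin 2) % 4 = 0 := by
    simp only [Fintype.card_sum, Fintype.card_fin]
    omega
  have hev : Even (wt (evPerm m σ (evLift m u))) := by
    rw [wt_evPerm]
    exact even_wt_evLift m u
  have hc' : ∀ c : ZMod 2, c = 0 ∨ c = 1 := by decide
  have hc' := hc' c
  rcases hc' with rfl | rfl
  · rw [zero_smul, add_zero, qE_evPerm]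
  · rw [one_smul, qE_add_one hcard _ hev, qE_evPerm]

/-- the companion bilinear form of the weight form -/
def evBil : LinearMap.BilinMap (ZMod 2) (Fin m → ZMod 2) (ZMod 2) :=
  LinearMap.mk₂ (ZMod 2) (fun u v => evLift m u ⬝ᵥ evLift m v)
    (fun u u' v => by rw [map_add, add_dotProduct])
    (fun c u v => by rw [map_smul, smul_dotProduct])
    (fun u v v' => by rw [map_add, dotProduct_add])
    (fun c u v => by rw [map_smul, dotProduct_smul])

/-- the weight form on the model space: half the weight of the lift, modulo two -/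
def evForm : QuadraticForm (ZMod 2) (Fin m → ZMod 2) where
  toFun u := qE (evLift m u)
  toFun_smul := by
    intro a u
    have ha : ∀ a : ZMod 2, a = 0 ∨ a = 1 := by decide
    rcases ha a with rfl | rfl
    · simp [qE_zero]
    · simp
  exists_companion' := ⟨evBil m, fun u v => by
    show qE (evLift m (u + v)) = qE (evLift m u) + qE (evLift m v) + evLift m u ⬝ᵥ evLift m v
    rw [map_add]
    exact qE_add _ _ (even_wt_evLift m u) (even_wt_evLift m v)⟩

theorem evForm_apply (u : Fin m → ZMod 2) : evForm m u = qE (evLift m u) := rfl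

theorem polar_evForm (u v : Fin m → ZMod 2) :
    QuadraticMap.polar (⇑(evForm m)) u v = u ⬝ᵥ v + (∑ i, u i) * (∑ i, v i) := by
  have h : evForm m (u + v) = evForm m u + evForm m v + evLift m u ⬝ᵥ evLift m v := by
    show qE (evLift m (u + v)) = qE (evLift m u) + qE (evLift m v) + evLift m u ⬝ᵥ evLift m v
    rw [map_add]
    exact qE_add _ _ (even_wt_evLift m u) (even_wt_evLift m v)
  rw [QuadraticMap.polar, h]
  have h2 : evLift m u ⬝ᵥ evLift m v = u ⬝ᵥ v + (∑ i, u i) * (∑ i, v i) := by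
    simp only [dotProduct]
    rw [Fintype.sum_sum_type, Fin.sum_univ_two]
    simp only [evLift_inl, evLift_inr_zero, evLift_inr_one, mul_zero, add_zero]
  rw [h2]
  ring

theorem evForm_nondegenerate (hm : Even m) :
    (QuadraticMap.polarBilin (evForm m)).Nondegenerate := by
  classical
  have key : ∀ u : Fin m → ZMod 2,
      (∀ v, QuadraticMap.polar (⇑(evForm m)) u v = 0) → u = 0 := by
    intro u hu
    have h1 : ∀ i, u i = ∑ j, u j := by
      intro i
      have := hu (Pi.single i 1)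
      rw [polar_evForm] at this
      simp only [dotProduct_single, mul_one, Finset.sum_pi_single', Finset.mem_univ,
        if_true] at this
      exact CharTwo.add_eq_zero.mp this
    have h2 : ∑ j, u j = 0 := by
      have : ∑ j, u j = ∑ _j : Fin m, ∑ j, u j := Finset.sum_congr rfl (fun i _ => h1 i)
      rw [Finset.sum_const, Finset.card_univ, Fintype.card_fin] at this
      rw [this]
      obtain ⟨t, ht⟩ := hm
      generalize (∑ j, u j) = s
      rw [ht, add_smul]
      exact CharTwo.add_self_eq_zero _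
    funext i
    rw [h1 i, h2]
    rfl
  constructor
  · intro u hu
    exact key u hu
  · intro u hu
    apply key u
    intro v
    rw [QuadraticMap.polar_comm]
    exact hu v

theorem evForm_evRho (hm : m % 4 = 2) (σ : Equiv.Perm (Fin m ⊕ Fin 2)) (u : Fin m → ZMod 2) :
    evForm m (evRho m σ u) = evForm m u :=
  qE_evLift_evRho m hm σ u

theorem evPerm_eq_of_evRho_eq_one (hm : Even m) (σ : Equiv.Perm (Fin m ⊕ Fin 2))
    (h : evRho m σ = 1) (v : Fin m ⊕ Fin 2 → ZMod 2) (hv : ∑ x, v x = 0) :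
    ∃ c : ZMod 2, evPerm m σ v = v + c • (1 : Fin m ⊕ Fin 2 → ZMod 2) := by
  obtain ⟨c, hc⟩ := evLift_evRho m hm σ (evProj m v)
  rw [h] at hc
  have h1 : (1 : Module.End (ZMod 2) (Fin m → ZMod 2)) (evProj m v) = evProj m v := rfl
  rw [h1, evLift_evProj m hm v hv, map_add, map_smul, evPerm_one] at hc
  refine ⟨c, ?_⟩
  funext x
  have := congrFun hc x
  simp only [Pi.add_apply, Pi.smul_apply, Pi.one_apply, smul_eq_mul, mul_one] at this ⊢
  have h2 : (2 : ZMod 2) = 0 := by decide
  linear_combination (-1 : ZMod 2) * this - c * h2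

theorem evRho_faithful (hm : Even m) (h3 : 3 ≤ m) (σ : Equiv.Perm (Fin m ⊕ Fin 2))
    (h : evRho m σ = 1) : σ = 1 := by
  classical
  by_contra hne
  obtain ⟨x, hx⟩ : ∃ x, σ x ≠ x := by
    by_contra hall
    push Not at hall
    exact hne (Equiv.ext hall)
  have hcard : Fintype.card (Fin m ⊕ Fin 2) = m + 2 := by
    simp only [Fintype.card_sum, Fintype.card_fin]
  obtain ⟨w, -, hw⟩ := Finset.exists_mem_notMem_of_card_lt_card
    (s := ({x, σ x} : Finset (Fin m ⊕ Fin 2))) (t := Finset.univ) (by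
      rw [Finset.card_univ, hcard]
      exact lt_of_le_of_lt Finset.card_le_two (by omega))
  obtain ⟨z, -, hz⟩ := Finset.exists_mem_notMem_of_card_lt_card
    (s := ({x, w, σ x, σ w} : Finset (Fin m ⊕ Fin 2))) (t := Finset.univ) (by
      rw [Finset.card_univ, hcard]
      exact lt_of_le_of_lt Finset.card_le_four (by omega))
  simp only [Finset.mem_insert, Finset.mem_singleton, not_or] at hw hz
  obtain ⟨hwx, hwy⟩ := hw
  obtain ⟨hzx, hzw, hzy, hzσw⟩ := hz
  let v : Fin m ⊕ Fin 2 → ZMod 2 := Pi.single x 1 + Pi.single w 1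
  have hv : ∑ t, v t = 0 := by
    simp only [v, Pi.add_apply, Finset.sum_add_distrib, Finset.sum_pi_single', Finset.mem_univ,
      if_true]
    decide
  obtain ⟨c, hc⟩ := evPerm_eq_of_evRho_eq_one m hm σ h v hv
  have e1 := congrFun hc (σ x)
  have e2 := congrFun hc z
  rw [evPerm_apply] at e1 e2
  rw [Equiv.symm_apply_apply] at e1
  have hσz : σ.symm z ≠ x := by
    intro h'
    apply hzy
    rw [← h', Equiv.apply_symm_apply]
  have hσz' : σ.symm z ≠ w := by
    intro h'
    apply hzσw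
    rw [← h', Equiv.apply_symm_apply]
  simp only [v, Pi.add_apply, Pi.smul_apply, Pi.one_apply, smul_eq_mul, mul_one,
    Pi.single_apply, if_true, if_neg hx, if_neg (Ne.symm hwy), if_neg hzx,
    if_neg hzw, if_neg hσz, if_neg hσz', if_neg (Ne.symm hwx)] at e1 e2
  simp only [add_zero, zero_add] at e1 e2
  rw [← e1] at e2
  revert e2
  decide

end model

end Cfsg.Agent.Lib.Helper43
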