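import Mathlib
import Cfsg.Agent.Lib.Helper43.EvenWt

set_option autoImplicit false

namespace Cfsg.Agent.Lib.Helper43

open Matrix

/-- number of vectors of length `m` with weight congruent to `r` modulo four -/
noncomputable def wtCount (m r : ℕ) : ℕ := Nat.card {u : Fin m → ZMod 2 // wt u % 4 = r}

theorem wt_cons (m : ℕ) (a : ZMod 2) (u : Fin m → ZMod 2) :
    wt (Fin.cons a u : Fin (m + 1) → ZMod 2) = a.val + wt u := by
  simp [wt, Fin.sum_univ_succ]

theorem wtCount_succ (m r : ℕ) (hr : r < 4) :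
    wtCount (m + 1) r = wtCount m r + wtCount m ((r + 3) % 4) := by
  unfold wtCount
  have e1 : {u : Fin (m + 1) → ZMod 2 // wt u % 4 = r} ≃
      {p : ZMod 2 × (Fin m → ZMod 2) // (p.1.val + wt p.2) % 4 = r} :=
    ((Fin.consEquiv (fun _ : Fin (m + 1) => ZMod 2)).symm).subtypeEquiv (by
      intro u
      show wt u % 4 = r ↔ ((u 0).val + wt (Fin.tail u)) % 4 = r
      rw [← wt_cons, Fin.cons_self_tail])
  have e2 : {p : ZMod 2 × (Fin m → ZMod 2) // (p.1.val + wt p.2) % 4 = r} ≃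
      Σ a : ZMod 2, {u : Fin m → ZMod 2 // (a.val + wt u) % 4 = r} :=
    Equiv.subtypeProdEquivSigmaSubtype (fun (a : ZMod 2) (u : Fin m → ZMod 2) =>
      (a.val + wt u) % 4 = r)
  rw [Nat.card_congr (e1.trans e2), Nat.card_sigma]
  have h2 : ∀ f : ZMod 2 → ℕ, ∑ a, f a = f 0 + f 1 := fun f => Fin.sum_univ_two f
  rw [h2]
  congr 1
  · apply Nat.card_congr
    apply Equiv.subtypeEquivRight
    intro u
    show (0 + wt u) % 4 = r ↔ wt u % 4 = r
    rw [zero_add]
  · apply Nat.card_congr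
    apply Equiv.subtypeEquivRight
    intro u
    show (1 + wt u) % 4 = r ↔ wt u % 4 = (r + 3) % 4
    omega

theorem wtCount_zero_zero : wtCount 0 0 = 1 := by
  unfold wtCount
  rw [Nat.card_eq_one_iff_unique]
  refine ⟨⟨fun x y => Subtype.ext (Subsingleton.elim _ _)⟩, ⟨⟨0, by simp [wt]⟩⟩⟩

theorem wtCount_zero_pos (r : ℕ) (hr : r ≠ 0) : wtCount 0 r = 0 := by
  unfold wtCount
  rw [Nat.card_eq_zero]
  left
  constructor
  rintro ⟨u, hu⟩
  apply hr
  rw [← hu]
  simp [wt]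

theorem wtCount_closed (k : ℕ) :
    ((wtCount (4 * k + 2) 0 : ℕ) : ℤ) = 16 ^ k ∧
    ((wtCount (4 * k + 2) 1 : ℕ) : ℤ) = 16 ^ k + (-4) ^ k ∧
    ((wtCount (4 * k + 2) 2 : ℕ) : ℤ) = 16 ^ k ∧
    ((wtCount (4 * k + 2) 3 : ℕ) : ℤ) = 16 ^ k - (-4) ^ k := by
  have s0 : ∀ m, wtCount (m + 1) 0 = wtCount m 0 + wtCount m 3 :=
    fun m => wtCount_succ m 0 (by norm_num)
  have s1 : ∀ m, wtCount (m + 1) 1 = wtCount m 1 + wtCount m 0 :=
    fun m => wtCount_succ m 1 (by norm_num)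
  have s2 : ∀ m, wtCount (m + 1) 2 = wtCount m 2 + wtCount m 1 :=
    fun m => wtCount_succ m 2 (by norm_num)
  have s3 : ∀ m, wtCount (m + 1) 3 = wtCount m 3 + wtCount m 2 :=
    fun m => wtCount_succ m 3 (by norm_num)
  induction k with
  | zero =>
    have h2 : 4 * 0 + 2 = 0 + 1 + 1 := by norm_num
    rw [h2]
    simp only [s0, s1, s2, s3, wtCount_zero_zero, wtCount_zero_pos 1 (by norm_num),
      wtCount_zero_pos 2 (by norm_num), wtCount_zero_pos 3 (by norm_num)]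
    norm_num
  | succ k ih =>
    obtain ⟨h0, h1, h2, h3⟩ := ih
    have h4 : 4 * (k + 1) + 2 = (4 * k + 2) + 1 + 1 + 1 + 1 := by ring
    rw [h4]
    generalize 4 * k + 2 = N at *
    simp only [s0, s1, s2, s3]
    push_cast
    rw [h0, h1, h2, h3]
    refine ⟨by ring, by ring, by ring, by ring⟩

theorem wt_evLift (m : ℕ) (u : Fin m → ZMod 2) : wt (evLift m u) = wt u + wt u % 2 := by
  have h : (∑ i, u i).val = wt u % 2 := by
    rw [← wt_cast, ZMod.val_natCast]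
  show ∑ x, (evLift m u x).val = _
  rw [Fintype.sum_sum_type, Fin.sum_univ_two]
  simp only [evLift_inl, evLift_inr_zero, evLift_inr_one, h]
  simp [wt]

theorem evForm_eq_zero_iff (m : ℕ) (u : Fin m → ZMod 2) :
    evForm m u = 0 ↔ wt u % 4 = 0 ∨ wt u % 4 = 3 := by
  rw [evForm_apply, qE, ZMod.natCast_eq_zero_iff, wt_evLift]
  omega

theorem card_zeros_evForm_eq (m : ℕ) :
    Nat.card {u : Fin m → ZMod 2 // evForm m u = 0} = wtCount m 0 + wtCount m 3 := by
  classical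
  unfold wtCount
  rw [Nat.card_congr (Equiv.subtypeEquivRight (evForm_eq_zero_iff m))]
  rw [Nat.card_eq_fintype_card, Nat.card_eq_fintype_card, Nat.card_eq_fintype_card]
  apply Fintype.card_subtype_or_disjoint
  rw [Pi.disjoint_iff]
  intro u
  show Disjoint (wt u % 4 = 0) (wt u % 4 = 3)
  rw [disjoint_iff]
  show (wt u % 4 = 0 ∧ wt u % 4 = 3) = False
  simp only [eq_iff_iff, iff_false]
  omega

theorem card_zeros_evForm (k : ℕ) :
    ((Nat.card {u : Fin (4 * k + 2) → ZMod 2 // evForm (4 * k + 2) u = 0} : ℕ) : ℤ) =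
      2 * 16 ^ k - (-4) ^ k := by
  obtain ⟨h0, -, -, h3⟩ := wtCount_closed k
  rw [card_zeros_evForm_eq]
  push_cast
  rw [h0, h3]
  ring

end Cfsg.Agent.Lib.Helper43
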