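import Mathlib
import Cfsg.Agent.Lib.Helper43.WtCount
import Cfsg.Agent.Lib.Helper43.WittClass

set_option autoImplicit false

namespace Cfsg.Agent.Lib.Helper43

open Module QuadraticMap

theorem card_zeros_evForm_odd (k : ℕ) (hk : Odd k) :
    Nat.card {u : Fin (4 * k + 2) → ZMod 2 // evForm (4 * k + 2) u = 0} =
      ZZ 2 0 1 (2 * k + 1) := by
  apply Nat.cast_injective (R := ℤ)
  rw [card_zeros_evForm, ZZ_plus 2 (by norm_num) (2 * k), hk.neg_pow]
  have h1 : 1 ≤ 2 ^ (2 * k + 1) := Nat.one_le_pow _ _ (by norm_num)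
  push_cast [Nat.cast_sub h1]
  have e1 : (2 : ℤ) ^ (2 * k + 1) = 2 * 4 ^ k := by
    rw [pow_succ, pow_mul]; norm_num; ring
  have e2 : (2 : ℤ) ^ (2 * k) = 4 ^ k := by
    rw [pow_mul]; norm_num
  have e3 : (16 : ℤ) ^ k = 4 ^ k * 4 ^ k := by
    rw [← mul_pow]; norm_num
  rw [e1, e2, e3]
  ring

theorem card_zeros_evForm_even (k : ℕ) (hk : Even k) :
    Nat.card {u : Fin (4 * k + 2) → ZMod 2 // evForm (4 * k + 2) u = 0} =
      ZZ 2 2 1 (2 * k) := by
  apply Nat.cast_injective (R := ℤ)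
  rw [card_zeros_evForm, ZZ_minus 2 (by norm_num) (2 * k), hk.neg_pow]
  have h1 : 1 ≤ 2 ^ (2 * k) := Nat.one_le_pow _ _ (by norm_num)
  push_cast [Nat.cast_sub h1]
  have e1 : (2 : ℤ) ^ (2 * k + 1) = 2 * 4 ^ k := by
    rw [pow_succ, pow_mul]; norm_num; ring
  have e2 : (2 : ℤ) ^ (2 * k) = 4 ^ k := by
    rw [pow_mul]; norm_num
  have e3 : (16 : ℤ) ^ k = 4 ^ k * 4 ^ k := by
    rw [← mul_pow]; norm_num
  rw [e1, e2, e3]
  ring

theorem evRhoHom_injective (m : ℕ) (hm : Even m) (h3 : 3 ≤ m) :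
    Function.Injective (evRhoHom m hm) := by
  rw [injective_iff_map_eq_one]
  intro σ hσ
  exact evRho_faithful m hm h3 σ hσ

/-- the symmetric group of degree `4k+4` embeds in the orthogonal group of plus type, `k` odd -/
theorem exists_embedding_plus (k : ℕ) (hk : Odd k) :
    ∃ φ : Equiv.Perm (Fin (4 * k + 2) ⊕ Fin 2) →*
      ↥(Cfsg.isometryGroup (ZMod 2) (Cfsg.quadFormPlus (2 * k + 1) (ZMod 2))),
      Function.Injective φ := by
  have hm : Even (4 * k + 2) := ⟨2 * k + 1, by ring⟩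
  have hm4 : (4 * k + 2) % 4 = 2 := by omega
  have hk1 : 1 ≤ k := by
    rcases hk with ⟨t, rfl⟩
    omega
  obtain ⟨Θ, hΘ⟩ := classify_plus (Fin (4 * k + 2) → ZMod 2) (evForm (4 * k + 2))
    (evForm_nondegenerate _ hm) (2 * k + 1)
    (by rw [Module.finrank_fintype_fun_eq_card, Fintype.card_fin]; ring)
    (by rw [ZMod.card]; exact card_zeros_evForm_odd k hk)
  exact Cfsg.Agent.Lib.Helper44.exists_hom_to_isometryGroup
    (Cfsg.quadFormPlus (2 * k + 1) (ZMod 2)) (⇑(evForm (4 * k + 2))) Θ hΘ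
    (evRhoHom (4 * k + 2) hm) (fun σ u => evForm_evRho _ hm4 σ u)
    (evRhoHom_injective _ hm (by omega))

/-- the symmetric group of degree `4k+4` embeds in the orthogonal group of minus type,
`k` even and positive -/
theorem exists_embedding_minus (k : ℕ) (hk1 : 1 ≤ k) (hk : Even k) :
    ∃ φ : Equiv.Perm (Fin (4 * k + 2) ⊕ Fin 2) →*
      ↥(Cfsg.isometryGroup (ZMod 2) (Cfsg.quadFormMinus (2 * k) (ZMod 2) 1 1)),
      Function.Injective φ := by
  have hm : Even (4 * k + 2) := ⟨2 * k + 1, by ring⟩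
  have hm4 : (4 * k + 2) % 4 = 2 := by omega
  obtain ⟨Θ, hΘ⟩ := classify_minus (Fin (4 * k + 2) → ZMod 2) (evForm (4 * k + 2))
    (evForm_nondegenerate _ hm) (2 * k)
    (by rw [Module.finrank_fintype_fun_eq_card, Fintype.card_fin]; ring)
    (card_zeros_evForm_even k hk)
  exact Cfsg.Agent.Lib.Helper44.exists_hom_to_isometryGroup
    (Cfsg.quadFormMinus (2 * k) (ZMod 2) 1 1) (⇑(evForm (4 * k + 2))) Θ hΘ
    (evRhoHom (4 * k + 2) hm) (fun σ u => evForm_evRho _ hm4 σ u)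
    (evRhoHom_injective _ hm (by omega))

end Cfsg.Agent.Lib.Helper43
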