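import Cfsg.Agent.Lib.Helper83.EzDefs
import Cfsg.Agent.Lib.Helper18.StCenter
import Cfsg.Agent.Lib.Helper18.StTorus

/-! # Ez hive (S1079, S2106, S2105; owner helper83), leaf EZ-FIN: the Steinberg group over a finite field is finite -/

set_option autoImplicit false

universe u v

namespace Cfsg.Agent.Lib.Helper83.Ez

open Cfsg Cfsg.Lie Cfsg.Agent.Lib.Helper36 Cfsg.Agent.Lib.Helper18 Cfsg.Agent.Lib.Helper76.E8m

/-- a Steinberg system satisfying (R3) over a finite field lives in a finite group: the kernel of `π` lies in the image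
of the finite torus, the image of `π` in the finite group `GL`. -/
theorem fin_core {D : ChevalleyDatum} {hD : D ∈ [chevG2, chevB2, chevD4, chevF4, chevE6, chevE7, chevE8]}
    {K : Type*} [Field K] [Fintype K] {Γ : Type*} [Group Γ] (S : StSys D hD K Γ) (hmul : R3Simple S) :
    Finite Γ := by
  classical
  have hker : (S.π.ker : Set Γ).Finite :=
    (Set.finite_range (torusLift S hmul)).subset
      (fun g hg => Hb_le_range S hmul (ker_le_Hb S g (MonoidHom.mem_ker.mp hg)))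
  have : Finite S.π.ker := hker.to_subtype
  have : Finite (Γ ⧸ S.π.ker) :=
    Finite.of_equiv _ (QuotientGroup.quotientKerEquivRange S.π).symm.toEquiv
  have h := Subgroup.card_eq_card_quotient_mul_card_subgroup S.π.ker
  have h1 : 0 < Nat.card (Γ ⧸ S.π.ker) := Nat.card_pos
  have h2 : 0 < Nat.card S.π.ker := Nat.card_pos
  exact Nat.finite_of_card_ne_zero (by rw [h]; positivity)

/-- EZ-FIN. -/
theorem finite_steinbergGroup (D : ChevalleyDatum) (hD : D ∈ [chevG2, chevB2, chevD4, chevF4, chevE6, chevE7, chevE8])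
    (K : Type*) [Field K] [Fintype K] : Finite (D.SteinbergGroup K) := by
  have hrel : ∀ r ∈ D.steinbergRels K, FreeGroup.lift (genMap D hD K) r = 1 := by
    rintro _ ((⟨r, t₁, t₂, -, rfl⟩ | ⟨r, s, t, u, hr, hs, hsr, hsn, rfl⟩) | ⟨r, t₁, t₂, hr, h1, h2, rfl⟩)
    · exact lift_R1 D hD K r t₁ t₂
    · exact lift_R2 D hD K r s hr hs hsr hsn t u
    · exact lift_R3 D hD K r hr t₁ t₂ h1 h2
  set θ : D.SteinbergGroup K →* ↥(D.group K) := PresentedGroup.toGroup hrel with hθ_def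
  have hθ : ∀ (r : ℕ) (t : K), θ (PresentedGroup.mk (D.steinbergRels K) (D.stX r t)) = xGr D hD K r t := by
    intro r t
    exact lift_stX D hD K r t
  have hθ' : ∀ (r : ℕ) (t : K), r < D.nroots →
      ((θ (PresentedGroup.mk (D.steinbergRels K) (D.stX r t)) : GL D.Idx K) : Matrix D.Idx D.Idx K) = D.x K r t := by
    intro r t _
    rw [hθ r t]
    rfl
  have h1 : ∀ (r : ℕ) (t₁ t₂ : K), r < D.nroots →
      D.stX r t₁ * D.stX r t₂ * (D.stX r (t₁ + t₂))⁻¹ ∈ D.steinbergRels K :=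
    fun r t₁ t₂ hr => Or.inl (Or.inl ⟨r, t₁, t₂, hr, rfl⟩)
  have h2 : ∀ (r s : ℕ) (t u : K), r < D.nroots → s < D.nroots → s ≠ r → s ≠ D.neg r →
      (D.stX s u)⁻¹ * (D.stX r t)⁻¹ * D.stX s u * D.stX r t * (D.stWord (D.commWord K r s t u))⁻¹ ∈
        D.steinbergRels K :=
    fun r s t u hr hs hsr hsn => Or.inl (Or.inr ⟨r, s, t, u, hr, hs, hsr, hsn, rfl⟩)
  let S := presSys D hD K (D.steinbergRels K) h1 h2 θ hθ'
  have hmul : R3Simple S := by
    intro i hi t₁ t₂ ht₁ ht₂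
    have hr : D.simple i < D.nroots := (isPosRoot_simple D hD i hi).1
    have hmem : D.stH (D.simple i) t₁ * D.stH (D.simple i) t₂ * (D.stH (D.simple i) (t₁ * t₂))⁻¹ ∈
        D.steinbergRels K := Or.inr ⟨D.simple i, t₁, t₂, hr, ht₁, ht₂, rfl⟩
    have h := PresentedGroup.one_of_mem hmem
    rw [map_mul, map_mul, map_inv, mul_inv_eq_one] at h
    rw [← mk_stH D hD K _ h1 h2 θ hθ' i t₁, ← mk_stH D hD K _ h1 h2 θ hθ' i t₂,
      ← mk_stH D hD K _ h1 h2 θ hθ' i (t₁ * t₂)]
    exact h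
  exact fin_core S hmul

end Cfsg.Agent.Lib.Helper83.Ez
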