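import Mathlib
import Cfsg.Agent.Lib.Helper99.JordanInv
import Cfsg.Agent.Lib.Helper36.AltEven

set_option autoImplicit false

/-!
Isometries of non-degenerate alternating or symmetric forms: the multiplicity of the Jordan blocks
of size `j` of the part `u - 1` is even for odd `j` (alternating forms) respectively for even `j`
(symmetric forms, characteristic not two).
-/

namespace Cfsg.Agent.Lib.Helper43

open Module Cfsg.Agent.Lib.Helper99

section general

variable {F : Type*} [Field F] {V : Type*} [AddCommGroup V] [Module F V]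

theorem ker_pow_le_succ (N : Module.End F V) (a : ℕ) :
    LinearMap.ker (N ^ a) ≤ LinearMap.ker (N ^ (a + 1)) := by
  intro x hx
  rw [LinearMap.mem_ker] at hx ⊢
  rw [pow_succ', Module.End.mul_apply, hx, map_zero]

/-- the image of `ker N^(a+1)` under `N^a` -/
theorem map_pow_ker_succ (N : Module.End F V) (a : ℕ) :
    (LinearMap.ker (N ^ (a + 1))).map (N ^ a) = LinearMap.ker N ⊓ LinearMap.range (N ^ a) := by
  ext z
  constructor
  · rintro ⟨y, hy, rfl⟩
    refine ⟨?_, ⟨y, rfl⟩⟩
    show N ((N ^ a) y) = 0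
    have : (N ^ (a + 1)) y = 0 := hy
    rw [pow_succ', Module.End.mul_apply] at this
    exact this
  · rintro ⟨hz, ⟨w, rfl⟩⟩
    refine ⟨w, ?_, rfl⟩
    show (N ^ (a + 1)) w = 0
    rw [pow_succ', Module.End.mul_apply]
    exact hz

variable [FiniteDimensional F V]

theorem finrank_ker_inf_range_pow (N : Module.End F V) (a : ℕ) :
    finrank F (LinearMap.ker N ⊓ LinearMap.range (N ^ a) : Submodule F V) + dker N a = dker N (a + 1) := by
  have h := finrank_eq_map_add_inf_ker (N ^ a) (LinearMap.ker (N ^ (a + 1)))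
  rw [map_pow_ker_succ] at h
  have : (LinearMap.ker (N ^ (a + 1)) ⊓ LinearMap.ker (N ^ a) : Submodule F V) = LinearMap.ker (N ^ a) :=
    inf_eq_right.2 (ker_pow_le_succ N a)
  rw [this] at h
  unfold dker
  rw [h]

/-- the radical of the form `(x, y) ↦ B x (N^a y)` on `ker N^(a+1)`, as computed below -/
def jrad (N : Module.End F V) (a : ℕ) : Submodule F V :=
  LinearMap.ker (N ^ (a + 1)) ⊓ (LinearMap.range (N ^ (a + 1))).comap (N ^ a)

theorem finrank_jrad (N : Module.End F V) (a : ℕ) :
    finrank F (jrad N a) + dker N (a + 1) = dker N (a + 2) + dker N a := by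
  have h := finrank_eq_map_add_inf_ker (N ^ a) (jrad N a)
  have h1 : (jrad N a ⊓ LinearMap.ker (N ^ a) : Submodule F V) = LinearMap.ker (N ^ a) := by
    apply inf_eq_right.2
    intro y hy
    refine ⟨ker_pow_le_succ N a hy, ?_⟩
    show (N ^ a) y ∈ LinearMap.range (N ^ (a + 1))
    rw [LinearMap.mem_ker] at hy
    rw [hy]
    exact Submodule.zero_mem _
  have h2 : (jrad N a).map (N ^ a) = LinearMap.ker N ⊓ LinearMap.range (N ^ (a + 1)) := by
    ext z
    constructor
    · rintro ⟨y, ⟨hy1, hy2⟩, rfl⟩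
      refine ⟨?_, hy2⟩
      show N ((N ^ a) y) = 0
      have : (N ^ (a + 1)) y = 0 := hy1
      rw [pow_succ', Module.End.mul_apply] at this
      exact this
    · rintro ⟨hz, ⟨w, rfl⟩⟩
      have hz' : N ((N ^ (a + 1)) w) = 0 := hz
      refine ⟨N w, ⟨?_, ?_⟩, ?_⟩
      · show (N ^ (a + 1)) (N w) = 0
        rw [← Module.End.mul_apply, ← pow_succ, pow_succ', Module.End.mul_apply]
        exact hz'
      · show (N ^ a) (N w) ∈ LinearMap.range (N ^ (a + 1))
        refine ⟨w, ?_⟩
        rw [← Module.End.mul_apply, ← pow_succ]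
      · rw [← Module.End.mul_apply, ← pow_succ]
  rw [h1, h2] at h
  have h3 := finrank_ker_inf_range_pow N (a + 1)
  have e2 : a + 1 + 1 = a + 2 := rfl
  rw [e2] at h3
  unfold dker at h3 ⊢
  omega

end general

section evenrank

variable {F : Type*} [Field F] {W : Type*} [AddCommGroup W] [Module F W] [FiniteDimensional F W]

/-- the rank of an alternating form is even -/
theorem even_finrank_sub_of_isAlt (β : LinearMap.BilinForm F W) (hβ : β.IsAlt) (R : Submodule F W)
    (hR : ∀ y, y ∈ R ↔ ∀ x, β x y = 0) : ∃ c, finrank F W = finrank F R + 2 * c := by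
  obtain ⟨C, hC⟩ := Submodule.exists_isCompl R
  have hdim : finrank F R + finrank F C = finrank F W := Submodule.finrank_add_eq_of_isCompl hC
  have hneg : ∀ x y, β x y = - β y x := fun x y => (LinearMap.IsAlt.neg hβ y x).symm
  have key : ∀ y ∈ C, (∀ x ∈ C, β x y = 0) → y = 0 := by
    intro y hy h
    have hyR : y ∈ R := by
      rw [hR]
      intro x
      have hx : x ∈ R ⊔ C := by rw [hC.sup_eq_top]; trivial
      obtain ⟨r, hr, c, hc, rfl⟩ := Submodule.mem_sup.1 hx
      rw [map_add, LinearMap.add_apply, h c hc, add_zero, hneg]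
      rw [(hR r).1 hr y, neg_zero]
    have : y ∈ R ⊓ C := ⟨hyR, hy⟩
    rw [hC.inf_eq_bot] at this
    exact (Submodule.mem_bot F).1 this
  have hnd : (β.restrict C).Nondegenerate := by
    constructor
    · intro x hx
      apply Subtype.ext
      apply key x.1 x.2
      intro y hy
      have h' : β x.1 y = 0 := hx ⟨y, hy⟩
      rw [hneg, h', neg_zero]
    · intro y hy
      apply Subtype.ext
      apply key y.1 y.2
      intro x hx
      have h' : β x y.1 = 0 := hy ⟨x, hx⟩
      exact h'
  have halt : (β.restrict C).IsAlt := fun x => hβ x.1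
  obtain ⟨c, hc⟩ := Cfsg.Agent.Lib.Helper36.even_finrank_of_isAlt_nondegenerate _ halt hnd
  exact ⟨c, by omega⟩

end evenrank

section form

variable {F : Type*} [Field F] {V : Type*} [AddCommGroup V] [Module F V]
variable (B : LinearMap.BilinForm F V) (u : Module.End F V)

theorem adj_right (hu : ∀ x y, B (u x) (u y) = B x y) (x y : V) :
    B x ((u - 1) y) = - B ((u - 1) x) (u y) := by
  simp only [LinearMap.sub_apply, Module.End.one_apply, map_sub]
  rw [← hu x y]
  abel

theorem commute_sub_one : Commute u (u - 1) := by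
  unfold Commute SemiconjBy
  rw [mul_sub, sub_mul, mul_one, one_mul]

theorem adj_pow (hu : ∀ x y, B (u x) (u y) = B x y) (a : ℕ) (x y : V) :
    B x (((u - 1) ^ a) y) = (-1) ^ a * B (((u - 1) ^ a) x) ((u ^ a) y) := by
  induction a generalizing x y with
  | zero => simp
  | succ a ih =>
    have hc : u (((u - 1) ^ a) y) = ((u - 1) ^ a) (u y) := by
      have := ((commute_sub_one u).pow_right a).eq
      rw [← Module.End.mul_apply, this, Module.End.mul_apply]
    have e1 : ((u - 1) ^ (a + 1)) x = ((u - 1) ^ a) ((u - 1) x) := by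
      rw [pow_succ, Module.End.mul_apply]
    have e2 : ((u - 1) ^ (a + 1)) y = (u - 1) (((u - 1) ^ a) y) := by
      rw [pow_succ', Module.End.mul_apply]
    have e3 : (u ^ (a + 1)) y = (u ^ a) (u y) := by
      rw [pow_succ, Module.End.mul_apply]
    rw [e2, adj_right B u hu, hc, ih, e1, e3]
    ring

/-- vanishing of the form on high powers -/
theorem form_pow_pow_eq_zero (hu : ∀ x y, B (u x) (u y) = B x y) (a b : ℕ) (x z : V)
    (hx : ((u - 1) ^ (a + b)) x = 0) : B (((u - 1) ^ a) x) (((u - 1) ^ b) z) = 0 := by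
  rw [adj_pow B u hu, ← Module.End.mul_apply, ← pow_add, add_comm b a, hx]
  simp

variable [FiniteDimensional F V]

/-- the right orthogonal of `ker N^j` is `range N^j` -/
theorem mem_range_of_orthogonal_ker (hB : B.Nondegenerate) (hu : ∀ x y, B (u x) (u y) = B x y)
    (j : ℕ) (w : V) (hw : ∀ x, ((u - 1) ^ j) x = 0 → B x w = 0) : w ∈ LinearMap.range ((u - 1) ^ j) := by
  have hle : LinearMap.range ((u - 1) ^ j) ≤ B.orthogonal (LinearMap.ker ((u - 1) ^ j)) := by
    rintro _ ⟨z, rfl⟩
    rw [LinearMap.BilinForm.mem_orthogonal_iff]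
    intro x hx
    have := form_pow_pow_eq_zero B u hu 0 j x z (by rw [zero_add]; exact hx)
    simpa using this
  have hdim : finrank F (B.orthogonal (LinearMap.ker ((u - 1) ^ j))) ≤
      finrank F (LinearMap.range ((u - 1) ^ j)) := by
    rw [LinearMap.BilinForm.finrank_orthogonal hB]
    have := LinearMap.finrank_range_add_finrank_ker ((u - 1) ^ j)
    omega
  have heq := Submodule.eq_of_le_of_finrank_le hle hdim
  rw [heq, LinearMap.BilinForm.mem_orthogonal_iff]
  intro x hx
  exact hw x hx

/-- the main parity statement: if the form `(x, y) ↦ B x (N^a y)` is alternating on `ker N^(a+1)`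
then the number of Jordan blocks of size `a + 1` is even -/
theorem even_jmult_of_alt (hB : B.Nondegenerate) (hu : ∀ x y, B (u x) (u y) = B x y) (a : ℕ)
    (halt : ∀ x, ((u - 1) ^ (a + 1)) x = 0 → B x (((u - 1) ^ a) x) = 0) :
    ∃ c, 2 * dker (u - 1) (a + 1) = dker (u - 1) a + dker (u - 1) (a + 2) + 2 * c := by
  set N := u - 1 with hN
  set K := LinearMap.ker (N ^ (a + 1)) with hK
  let β : LinearMap.BilinForm F K := (B.compRight (N ^ a)).restrict K
  have hβ : ∀ x y : K, β x y = B x.1 ((N ^ a) y.1) := fun x y => rfl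
  have hβalt : β.IsAlt := by
    intro x
    rw [hβ]
    exact halt x.1 x.2
  have hjle : jrad N a ≤ K := inf_le_left
  let R : Submodule F K := (jrad N a).comap K.subtype
  have hRdim : finrank F R = finrank F (jrad N a) :=
    LinearEquiv.finrank_eq (Submodule.comapSubtypeEquivOfLe hjle)
  have hR : ∀ y, y ∈ R ↔ ∀ x, β x y = 0 := by
    intro y
    constructor
    · intro hy x
      have hy' : y.1 ∈ jrad N a := hy
      obtain ⟨z, hz⟩ := hy'.2
      rw [hβ, ← hz]
      have := form_pow_pow_eq_zero B u hu 0 (a + 1) x.1 z (by rw [zero_add]; exact x.2)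
      simpa using this
    · intro h
      show y.1 ∈ jrad N a
      refine ⟨y.2, ?_⟩
      show (N ^ a) y.1 ∈ LinearMap.range (N ^ (a + 1))
      apply mem_range_of_orthogonal_ker B u hB hu
      intro x hx
      exact h ⟨x, hx⟩
  obtain ⟨c, hc⟩ := even_finrank_sub_of_isAlt β hβalt R hR
  have h1 := finrank_jrad N a
  have h2 : finrank F K = dker N (a + 1) := rfl
  refine ⟨c, ?_⟩
  omega

omit [FiniteDimensional F V] in
theorem pow_comm_apply (a c : ℕ) (x : V) : (u ^ c) (((u - 1) ^ a) x) = ((u - 1) ^ a) ((u ^ c) x) := by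
  have := ((commute_sub_one u).pow_pow c a).eq
  rw [← Module.End.mul_apply, this, Module.End.mul_apply]

omit [FiniteDimensional F V] in
/-- alternating forms: the form `(x, y) ↦ B x (N^(2i) y)` is alternating on `ker N^(2i+1)` -/
theorem alt_of_isAlt (hBalt : B.IsAlt) (hu : ∀ x y, B (u x) (u y) = B x y) (i : ℕ) (x : V)
    (hx : ((u - 1) ^ (2 * i + 1)) x = 0) : B x (((u - 1) ^ (2 * i)) x) = 0 := by
  have key : ∀ c : ℕ, B (((u - 1) ^ i) x) ((u ^ c) (((u - 1) ^ i) x)) = 0 := by
    intro c
    induction c with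
    | zero => simpa using hBalt _
    | succ c ih =>
      have e1 : (u ^ (c + 1)) (((u - 1) ^ i) x) =
          (u ^ c) (((u - 1) ^ i) x) + ((u - 1) ^ (i + 1)) ((u ^ c) x) := by
        rw [pow_succ', Module.End.mul_apply, pow_comm_apply u i c x]
        rw [pow_succ' (u - 1) i, Module.End.mul_apply]
        simp only [LinearMap.sub_apply, Module.End.one_apply]
        abel
      rw [e1, map_add, ih, zero_add]
      apply form_pow_pow_eq_zero B u hu
      rw [show i + (i + 1) = 2 * i + 1 by ring]
      exact hx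
  rw [two_mul, pow_add, Module.End.mul_apply, adj_pow B u hu, key, mul_zero]

omit [FiniteDimensional F V] in
/-- symmetric forms in characteristic not two: the form `(x, y) ↦ B x (N^(2i+1) y)` is alternating
on `ker N^(2i+2)` -/
theorem alt_of_isSymm (hBsymm : ∀ x y, B x y = B y x) (h2 : (2 : F) ≠ 0)
    (hu : ∀ x y, B (u x) (u y) = B x y) (i : ℕ) (x : V)
    (hx : ((u - 1) ^ (2 * i + 2)) x = 0) : B x (((u - 1) ^ (2 * i + 1)) x) = 0 := by
  have e1 : (u ^ (2 * i + 1)) x = x + ((u - 1) ^ 1 : Module.End F V) ((∑ l ∈ Finset.range (2 * i + 1), u ^ l : Module.End F V) x) := by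
    rw [pow_one, ← Module.End.mul_apply, mul_geom_sum]
    simp
  have e2 : B x (((u - 1) ^ (2 * i + 1)) x) = - B x (((u - 1) ^ (2 * i + 1)) x) := by
    conv_lhs => rw [adj_pow B u hu, e1, map_add]
    rw [form_pow_pow_eq_zero B u hu (2 * i + 1) 1 x _ hx, add_zero, hBsymm]
    rw [Odd.neg_one_pow ⟨i, rfl⟩]
    ring
  have e3 : (2 : F) * B x (((u - 1) ^ (2 * i + 1)) x) = 0 := by
    rw [two_mul]
    nth_rewrite 1 [e2]
    ring
  rcases mul_eq_zero.1 e3 with h | h
  · exact absurd h h2
  · exact h

/-- isometries of alternating forms: odd block sizes have even multiplicity -/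
theorem even_jmult_symplectic (hB : B.Nondegenerate) (hBalt : B.IsAlt)
    (hu : ∀ x y, B (u x) (u y) = B x y) (i : ℕ) :
    ∃ c, 2 * dker (u - 1) (2 * i + 1) = dker (u - 1) (2 * i) + dker (u - 1) (2 * i + 2) + 2 * c :=
  even_jmult_of_alt B u hB hu (2 * i) (fun x hx => alt_of_isAlt B u hBalt hu i x hx)

/-- isometries of symmetric forms in characteristic not two: even block sizes have even
multiplicity -/
theorem even_jmult_orthogonal (hB : B.Nondegenerate) (hBsymm : ∀ x y, B x y = B y x)
    (h2 : (2 : F) ≠ 0) (hu : ∀ x y, B (u x) (u y) = B x y) (i : ℕ) :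
    ∃ c, 2 * dker (u - 1) (2 * i + 2) = dker (u - 1) (2 * i + 1) + dker (u - 1) (2 * i + 3) + 2 * c :=
  even_jmult_of_alt B u hB hu (2 * i + 1) (fun x hx => alt_of_isSymm B u hBsymm h2 hu i x hx)

end form

end Cfsg.Agent.Lib.Helper43
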