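import Mathlib
import Cfsg.Agent.Lib.Helper43.JordanType

set_option autoImplicit false

/-!
Realisation of Jordan types by isometries of non-degenerate `ε`-symmetric forms: the definition,
orthogonal sums and the combinatorial induction.
-/

namespace Cfsg.Agent.Lib.Helper43

open Module Cfsg.Agent.Lib.Helper99

universe u

section realizes

variable (F : Type u) [Field F]

/-- the Jordan type `μ` is realised by an isometry of a non-degenerate `ε`-symmetric form
(alternating if `ε = -1`) -/
def Realizes (ε : F) (μ : Multiset ℕ) : Prop :=
  ∃ (V : Type u) (_ : AddCommGroup V) (_ : Module F V) (_ : FiniteDimensional F V)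
    (B : LinearMap.BilinForm F V) (T : Module.End F V),
    B.Nondegenerate ∧ (∀ x y, B x y = ε * B y x) ∧ (ε = -1 → B.IsAlt) ∧
    (∀ x y, B (T x) (T y) = B x y) ∧ IsNilpotent (T - 1) ∧ ∀ k, dker (T - 1) k = smin μ k

variable {F}

theorem smin_add (μ ν : Multiset ℕ) (k : ℕ) : smin (μ + ν) k = smin μ k + smin ν k := by
  unfold smin
  rw [Multiset.map_add, Multiset.sum_add]

theorem realizes_zero (ε : F) : Realizes F ε 0 := by
  refine ⟨PUnit.{u + 1}, inferInstance, inferInstance, inferInstance, 0, 1, ?_, ?_, ?_, ?_, ?_, ?_⟩
  · exact ⟨fun x _ => Subsingleton.elim _ _, fun x _ => Subsingleton.elim _ _⟩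
  · intro x y; simp
  · intro _ x; simp
  · intro x y; simp
  · rw [sub_self]; exact IsNilpotent.zero
  · intro k
    rw [smin_zero]
    unfold dker
    have : finrank F (PUnit.{u + 1}) = 0 := finrank_zero_of_subsingleton
    have h := Submodule.finrank_le (LinearMap.ker (((1 : Module.End F PUnit.{u + 1}) - 1) ^ k))
    omega

theorem realizes_add {ε : F} {μ ν : Multiset ℕ} (h1 : Realizes F ε μ) (h2 : Realizes F ε ν) :
    Realizes F ε (μ + ν) := by
  obtain ⟨V₁, _, _, _, B₁, T₁, hB₁, hs₁, ha₁, hi₁, hn₁, hd₁⟩ := h1
  obtain ⟨V₂, _, _, _, B₂, T₂, hB₂, hs₂, ha₂, hi₂, hn₂, hd₂⟩ := h2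
  let B : LinearMap.BilinForm F (V₁ × V₂) :=
    B₁.compl₁₂ (LinearMap.fst F V₁ V₂) (LinearMap.fst F V₁ V₂) +
      B₂.compl₁₂ (LinearMap.snd F V₁ V₂) (LinearMap.snd F V₁ V₂)
  have hBa : ∀ x y : V₁ × V₂, B x y = B₁ x.1 y.1 + B₂ x.2 y.2 := fun x y => rfl
  have hsub : (T₁.prodMap T₂ : Module.End F (V₁ × V₂)) - 1 = (T₁ - 1).prodMap (T₂ - 1) := by
    apply LinearMap.ext
    intro x
    rfl
  refine ⟨V₁ × V₂, inferInstance, inferInstance, inferInstance, B, T₁.prodMap T₂, ?_, ?_, ?_, ?_, ?_, ?_⟩
  · constructor
    · intro x hx
      have e1 : x.1 = 0 := by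
        apply hB₁.1
        intro y
        have := hx (y, 0)
        rw [hBa] at this
        simpa using this
      have e2 : x.2 = 0 := by
        apply hB₂.1
        intro y
        have := hx (0, y)
        rw [hBa] at this
        simpa using this
      exact Prod.ext e1 e2
    · intro y hy
      have e1 : y.1 = 0 := by
        apply hB₁.2
        intro x
        have := hy (x, 0)
        rw [hBa] at this
        simpa using this
      have e2 : y.2 = 0 := by
        apply hB₂.2
        intro x
        have := hy (0, x)
        rw [hBa] at this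
        simpa using this
      exact Prod.ext e1 e2
  · intro x y
    rw [hBa, hBa, hs₁, hs₂]
    ring
  · intro h x
    rw [hBa, ha₁ h, ha₂ h, add_zero]
  · intro x y
    rw [hBa, hBa]
    simp only [LinearMap.prodMap_apply]
    rw [hi₁, hi₂]
  · rw [hsub]
    obtain ⟨a, ha⟩ := hn₁
    obtain ⟨b, hb⟩ := hn₂
    refine ⟨a + b, ?_⟩
    rw [prodMap_pow', pow_add, ha, zero_mul, pow_add, hb, mul_zero]
    apply LinearMap.ext
    intro x
    rfl
  · intro k
    rw [hsub, dker_prodMap, hd₁, hd₂, smin_add]

end realizes

section induction

variable {F : Type u} [Field F]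

/-- the combinatorial induction: if single blocks of the sizes in `P` and all doubled types are
realised, then so is every type in which the sizes outside `P` have even multiplicity -/
theorem realizes_of_parity (ε : F) (P : ℕ → Prop)
    (hsingle : ∀ b, 1 ≤ b → P b → Realizes F ε {b})
    (hpair : ∀ b, 1 ≤ b → Realizes F ε ({b} + {b})) :
    ∀ (n : ℕ) (μ : Multiset ℕ), Multiset.card μ = n → (∀ b ∈ μ, 1 ≤ b) →
      (∀ j, ¬ P j → Even (μ.count j)) → Realizes F ε μ := by
  intro n
  induction n using Nat.strong_induction_on with
  | _ n ih =>
    intro μ hcard h1 hpar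
    rcases Multiset.empty_or_exists_mem μ with h0 | ⟨b, hb⟩
    · rw [h0]
      exact realizes_zero ε
    · obtain ⟨μ', rfl⟩ := Multiset.exists_cons_of_mem hb
      have hb1 : 1 ≤ b := h1 b (Multiset.mem_cons_self b μ')
      by_cases hP : P b
      · have hμ' : Realizes F ε μ' := by
          apply ih (Multiset.card μ') (by rw [← hcard, Multiset.card_cons]; omega) μ' rfl
          · intro c hc
            exact h1 c (Multiset.mem_cons_of_mem hc)
          · intro j hj
            have := hpar j hj
            rw [Multiset.count_cons_of_ne] at this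
            · exact this
            · intro hjb
              rw [hjb] at hj
              exact hj hP
        have := realizes_add (hsingle b hb1 hP) hμ'
        rwa [Multiset.singleton_add] at this
      · have hev := hpar b hP
        rw [Multiset.count_cons_self] at hev
        have hpos : 0 < μ'.count b := by
          rcases Nat.eq_zero_or_pos (μ'.count b) with h | h
          · rw [h] at hev
            exact absurd hev (by decide)
          · exact h
        have hb' : b ∈ μ' := Multiset.count_pos.1 hpos
        obtain ⟨μ'', rfl⟩ := Multiset.exists_cons_of_mem hb'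
        have hμ'' : Realizes F ε μ'' := by
          apply ih (Multiset.card μ'') (by rw [← hcard, Multiset.card_cons, Multiset.card_cons]; omega) μ'' rfl
          · intro c hc
            exact h1 c (Multiset.mem_cons_of_mem (Multiset.mem_cons_of_mem hc))
          · intro j hj
            have := hpar j hj
            by_cases hjb : j = b
            · rw [hjb] at this ⊢
              rw [Multiset.count_cons_self, Multiset.count_cons_self] at this
              rcases this with ⟨c, hc⟩
              exact ⟨c - 1, by omega⟩
            · rw [Multiset.count_cons_of_ne hjb, Multiset.count_cons_of_ne hjb] at this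
              exact this
        have := realizes_add (hpair b hb1) hμ''
        rw [Multiset.singleton_add, Multiset.cons_add, Multiset.singleton_add] at this
        exact this

end induction

end Cfsg.Agent.Lib.Helper43
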