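import Mathlib
import Cfsg.Prelude.Def_JordanBlocks
import Cfsg.Agent.Lib.Helper43.JordanType

set_option autoImplicit false

/-!
The nilpotent part of `jordanTypeMatrix d F`: its action on vectors, the kernels of its powers and
their dimensions.
-/

namespace Cfsg.Agent.Lib.Helper43

open Module Cfsg.Agent.Lib.Helper99 Matrix

section jt

variable {F : Type*} [Field F] {t : ℕ} (d : Fin t → ℕ)

/-- action of the unipotent Jordan type matrix on a vector -/
theorem jt_mulVec (v : ((k : Fin t) × Fin (d k)) → F) (k : Fin t) (i : Fin (d k)) :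
    (Cfsg.jordanTypeMatrix d F *ᵥ v) ⟨k, i⟩ =
      v ⟨k, i⟩ + (if h : 0 < (i : ℕ) then v ⟨k, ⟨(i : ℕ) - 1, by omega⟩⟩ else 0) := by
  unfold Cfsg.jordanTypeMatrix
  rw [Matrix.mulVec, dotProduct, Fintype.sum_sigma]
  rw [Finset.sum_eq_single k]
  · simp only [Matrix.blockDiagonal'_apply_eq]
    unfold Cfsg.jordanBlock
    simp only [Matrix.of_apply]
    have : ∀ j : Fin (d k), (if (i : ℕ) = (j : ℕ) then (1 : F) else if (i : ℕ) = (j : ℕ) + 1 then 1 else 0) * v ⟨k, j⟩
        = (if i = j then v ⟨k, j⟩ else 0) + (if (i : ℕ) = (j : ℕ) + 1 then v ⟨k, j⟩ else 0) := by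
      intro j
      by_cases h1 : i = j
      · subst h1
        simp
      · have h1' : (i : ℕ) ≠ (j : ℕ) := fun h => h1 (Fin.ext h)
        simp only [h1, h1', if_false, zero_add]
        split_ifs <;> simp
    simp only [this]
    rw [Finset.sum_add_distrib]
    congr 1
    · simp
    · split_ifs with h
      · rw [Finset.sum_eq_single (⟨(i : ℕ) - 1, by omega⟩ : Fin (d k))]
        · simp only
          rw [if_pos (by omega)]
        · intro b _ hb
          rw [if_neg]
          intro hh
          apply hb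
          apply Fin.ext
          simp only
          omega
        · intro h'
          exact absurd (Finset.mem_univ _) h'
      · apply Finset.sum_eq_zero
        intro j _
        rw [if_neg]
        omega
  · intro b _ hb
    apply Finset.sum_eq_zero
    intro j _
    rw [Matrix.blockDiagonal'_apply_ne _ _ _ (Ne.symm hb), zero_mul]
  · intro h'
    exact absurd (Finset.mem_univ _) h'

/-- the nilpotent part of the Jordan type matrix, as an endomorphism -/
noncomputable def jtN (F : Type*) [Field F] {t : ℕ} (d : Fin t → ℕ) :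
    Module.End F (((k : Fin t) × Fin (d k)) → F) :=
  Matrix.toLin' (Cfsg.jordanTypeMatrix d F - 1)

theorem jtN_apply (v : ((k : Fin t) × Fin (d k)) → F) (k : Fin t) (i : Fin (d k)) :
    jtN F d v ⟨k, i⟩ = if h : 0 < (i : ℕ) then v ⟨k, ⟨(i : ℕ) - 1, by omega⟩⟩ else 0 := by
  unfold jtN
  rw [Matrix.toLin'_apply, Matrix.sub_mulVec, Pi.sub_apply, jt_mulVec, Matrix.one_mulVec]
  ring

theorem jtN_pow_apply (j : ℕ) (v : ((k : Fin t) × Fin (d k)) → F) (k : Fin t) (i : Fin (d k)) :
    ((jtN F d) ^ j) v ⟨k, i⟩ = if h : j ≤ (i : ℕ) then v ⟨k, ⟨(i : ℕ) - j, by omega⟩⟩ else 0 := by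
  induction j generalizing i with
  | zero => simp
  | succ j ih =>
    rw [pow_succ', Module.End.mul_apply, jtN_apply]
    split_ifs with h1 h2 h2
    · rw [ih, dif_pos (by simp only; omega)]
      congr 2
      apply Fin.ext
      simp only
      omega
    · rw [ih, dif_neg (by simp only; omega)]
    · omega
    · rfl

theorem mem_ker_jtN_pow (j : ℕ) (v : ((k : Fin t) × Fin (d k)) → F) :
    v ∈ LinearMap.ker ((jtN F d) ^ j) ↔ ∀ x : (k : Fin t) × Fin (d k), (x.2 : ℕ) + j < d x.1 → v x = 0 := by
  rw [LinearMap.mem_ker]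
  constructor
  · intro h x hx
    obtain ⟨k, s⟩ := x
    have := congrFun h ⟨k, ⟨(s : ℕ) + j, hx⟩⟩
    rw [jtN_pow_apply, dif_pos (by simp)] at this
    simp only [Pi.zero_apply] at this
    rw [← this]
    congr 2
    apply Fin.ext
    simp
  · intro h
    funext x
    obtain ⟨k, i⟩ := x
    rw [jtN_pow_apply]
    split_ifs with h1
    · apply h
      simp only
      have := i.2
      omega
    · rfl

/-- the kernel of a power as functions on a subtype -/
noncomputable def kerJtNEquiv (j : ℕ) :
    LinearMap.ker ((jtN F d) ^ j) ≃ₗ[F] ({x : (k : Fin t) × Fin (d k) // d x.1 ≤ (x.2 : ℕ) + j} → F) where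
  toFun v := fun x => v.1 x.1
  map_add' _ _ := rfl
  map_smul' _ _ := rfl
  invFun w := ⟨fun x => if h : d x.1 ≤ (x.2 : ℕ) + j then w ⟨x, h⟩ else 0, by
    rw [mem_ker_jtN_pow]
    intro x hx
    rw [dif_neg (by omega)]⟩
  left_inv v := by
    apply Subtype.ext
    funext x
    simp only
    split_ifs with h
    · rfl
    · symm
      exact (mem_ker_jtN_pow d j v.1).1 v.2 x (by omega)
  right_inv w := by
    funext x
    simp only
    rw [dif_pos x.2]

theorem sum_fin_ite_le (n j : ℕ) : (∑ s : Fin n, if n ≤ (s : ℕ) + j then 1 else 0) = min n j := by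
  rw [Fin.sum_univ_eq_sum_range (fun s => if n ≤ s + j then 1 else 0) n]
  rw [Finset.sum_ite, Finset.sum_const_zero, add_zero, Finset.sum_const, smul_eq_mul, mul_one]
  have : (Finset.range n).filter (fun s => n ≤ s + j) = Finset.Ico (n - j) n := by
    ext s
    simp only [Finset.mem_filter, Finset.mem_range, Finset.mem_Ico]
    omega
  rw [this, Nat.card_Ico]
  omega

/-- the kernel dimensions of the nilpotent part of the Jordan type matrix -/
theorem dker_jtN (j : ℕ) : dker (jtN F d) j = ∑ k, min (d k) j := by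
  unfold dker
  rw [LinearEquiv.finrank_eq (kerJtNEquiv d j), Module.finrank_fintype_fun_eq_card, Fintype.card_subtype]
  rw [Finset.card_filter, Fintype.sum_sigma]
  apply Finset.sum_congr rfl
  intro k _
  exact sum_fin_ite_le (d k) j

theorem dker_jtN_eq_smin (j : ℕ) :
    dker (jtN F d) j = smin ((Finset.univ : Finset (Fin t)).val.map d) j := by
  rw [dker_jtN]
  unfold smin
  rw [Multiset.map_map]
  rfl

theorem jtN_isNilpotent : IsNilpotent (jtN F d) := by
  refine ⟨∑ k, d k, ?_⟩
  apply LinearMap.ext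
  intro v
  funext x
  obtain ⟨k, i⟩ := x
  rw [jtN_pow_apply, dif_neg]
  · rfl
  · have := i.2
    have : d k ≤ ∑ k, d k := Finset.single_le_sum (f := d) (fun _ _ => Nat.zero_le _) (Finset.mem_univ k)
    omega

end jt

section conj

universe u

variable {F : Type u} [Field F] {ι κ : Type} [Fintype ι] [DecidableEq ι] [Fintype κ] [DecidableEq κ]

/-- the nilpotent part `M - 1` of a matrix, as an endomorphism -/
noncomputable def nilPart (M : Matrix ι ι F) : Module.End F (ι → F) := Matrix.toLin' (M - 1)

theorem nilPart_apply (M : Matrix ι ι F) (v : ι → F) : nilPart M v = M *ᵥ v - v := by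
  unfold nilPart
  rw [Matrix.toLin'_apply, Matrix.sub_mulVec, Matrix.one_mulVec]

theorem dker_nilPart_reindex (e : ι ≃ κ) (M : Matrix ι ι F) (j : ℕ) :
    dker (nilPart (Matrix.reindex e e M)) j = dker (nilPart M) j := by
  apply dker_conj (LinearEquiv.funCongrLeft F F e.symm) (nilPart M) (nilPart (Matrix.reindex e e M))
  intro w
  rw [nilPart_apply, nilPart_apply, map_sub]
  congr 1
  funext x
  rw [Matrix.reindex_apply, Matrix.submatrix_mulVec_equiv]
  have : ((LinearEquiv.funCongrLeft F F e.symm) w) ∘ ⇑e.symm.symm = w := by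
    funext y
    simp [LinearEquiv.funCongrLeft_apply, LinearMap.funLeft_apply]
  rw [this]
  simp [LinearEquiv.funCongrLeft_apply, LinearMap.funLeft_apply]

theorem isConj_of_dker_eq (M M' : Matrix κ κ F) (hM : IsNilpotent (nilPart M))
    (hM' : IsNilpotent (nilPart M')) (h : ∀ j, dker (nilPart M) j = dker (nilPart M') j) :
    IsConj M M' := by
  obtain ⟨A, hA⟩ := exists_conj_of_dker_eq (K := F) (finrank F (κ → F)) (κ → F) (κ → F) (nilPart M)
    (nilPart M') rfl hM hM' h
  set P := LinearMap.toMatrix' A.toLinearMap with hP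
  set P' := LinearMap.toMatrix' A.symm.toLinearMap with hP'
  have h1 : P * P' = 1 := by
    rw [hP, hP', ← LinearMap.toMatrix'_comp]
    have : A.toLinearMap ∘ₗ A.symm.toLinearMap = LinearMap.id := by
      ext x; simp
    rw [this, LinearMap.toMatrix'_id]
  have h2 : P' * P = 1 := by
    rw [hP, hP', ← LinearMap.toMatrix'_comp]
    have : A.symm.toLinearMap ∘ₗ A.toLinearMap = LinearMap.id := by
      ext x; simp
    rw [this, LinearMap.toMatrix'_id]
  have h3 : P * (M - 1) = (M' - 1) * P := by
    have e1 : A.toLinearMap ∘ₗ nilPart M = nilPart M' ∘ₗ A.toLinearMap := by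
      apply LinearMap.ext
      intro x
      exact hA x
    have := congrArg LinearMap.toMatrix' e1
    rw [LinearMap.toMatrix'_comp, LinearMap.toMatrix'_comp] at this
    unfold nilPart at this
    rw [LinearMap.toMatrix'_toLin', LinearMap.toMatrix'_toLin'] at this
    exact this
  refine ⟨⟨P, P', h1, h2⟩, ?_⟩
  show P * M = M' * P
  rw [mul_sub, sub_mul, mul_one, one_mul] at h3
  exact sub_left_injective h3

theorem dker_eq_of_isConj (M M' : Matrix κ κ F) (h : IsConj M M') (j : ℕ) :
    dker (nilPart M') j = dker (nilPart M) j := by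
  obtain ⟨c, hc⟩ := h
  have hc' : (c : Matrix κ κ F) * M = M' * c := hc
  let A : (κ → F) ≃ₗ[F] (κ → F) := LinearEquiv.ofLinearMap (Matrix.toLin' (c : Matrix κ κ F))
    (Matrix.toLin' ((c⁻¹ : (Matrix κ κ F)ˣ) : Matrix κ κ F))
    (by rw [← Matrix.toLin'_mul, Units.mul_inv, Matrix.toLin'_one])
    (by rw [← Matrix.toLin'_mul, Units.inv_mul, Matrix.toLin'_one])
  apply dker_conj A
  intro w
  show nilPart M' (Matrix.toLin' (c : Matrix κ κ F) w) = Matrix.toLin' (c : Matrix κ κ F) (nilPart M w)
  rw [nilPart_apply, nilPart_apply, map_sub, Matrix.toLin'_apply, Matrix.toLin'_apply,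
    Matrix.mulVec_mulVec, Matrix.mulVec_mulVec, hc']

theorem nilPart_jt {t : ℕ} (d : Fin t → ℕ) : nilPart (Cfsg.jordanTypeMatrix d F) = jtN F d := rfl

end conj

end Cfsg.Agent.Lib.Helper43
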