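import Mathlib
import Cfsg.Agent.Lib.Helper43.JTMatrix
import Cfsg.Agent.Lib.Helper43.FormJordanSum

set_option autoImplicit false

/-!
Doubled Jordan types `μ + μ` are realised on hyperbolic spaces, for symmetric and for alternating
forms alike.
-/

namespace Cfsg.Agent.Lib.Helper43

open Module Cfsg.Agent.Lib.Helper99 Matrix

universe u

section lemmas

variable {F : Type u} [Field F]

theorem dker_unit_mul {V : Type*} [AddCommGroup V] [Module F V] (E T : Module.End F V)
    (hE : IsUnit E) (hc : Commute E T) (k : ℕ) : dker (E * T) k = dker T k := by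
  unfold dker
  rw [hc.mul_pow]
  have hEk : IsUnit (E ^ k) := hE.pow k
  have : LinearMap.ker (E ^ k * T ^ k) = LinearMap.ker (T ^ k) := by
    ext x
    rw [LinearMap.mem_ker, LinearMap.mem_ker, Module.End.mul_apply]
    constructor
    · intro h
      obtain ⟨e, he⟩ := hEk
      have : (e⁻¹ : (Module.End F V)ˣ).1 ((E ^ k) ((T ^ k) x)) = 0 := by rw [h, map_zero]
      rw [← he, ← Module.End.mul_apply, Units.inv_mul, Module.End.one_apply] at this
      exact this
    · intro h
      rw [h, map_zero]
  rw [this]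

variable {ι : Type} [Fintype ι] [DecidableEq ι]

theorem dker_nilPart_transpose (M : Matrix ι ι F) (k : ℕ) :
    dker (nilPart Mᵀ) k = dker (nilPart M) k := by
  have key : ∀ A : Matrix ι ι F, finrank F (LinearMap.ker (Matrix.toLin' A)) + A.rank = Fintype.card ι := by
    intro A
    have := LinearMap.finrank_range_add_finrank_ker (Matrix.toLin' A)
    rw [Module.finrank_fintype_fun_eq_card] at this
    unfold Matrix.rank
    rw [← Matrix.toLin'_apply']
    omega
  unfold dker nilPart
  rw [← Matrix.toLin'_pow, ← Matrix.toLin'_pow]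
  have h1 := key (((M - 1) ^ k)ᵀ)
  have h2 := key ((M - 1) ^ k)
  have : (Mᵀ - 1) ^ k = ((M - 1) ^ k)ᵀ := by
    rw [Matrix.transpose_pow, Matrix.transpose_sub, Matrix.transpose_one]
  rw [Matrix.rank_transpose] at h1
  rw [this]
  omega

theorem dker_nilPart_inv (M M' : Matrix ι ι F) (h1 : M * M' = 1) (k : ℕ) :
    dker (nilPart M') k = dker (nilPart M) k := by
  have h2 : M' * M = 1 := mul_eq_one_comm.1 h1
  have e1 : nilPart M' = Matrix.toLin' (-M') * nilPart M := by
    unfold nilPart
    rw [Module.End.mul_eq_comp, ← Matrix.toLin'_mul]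
    congr 1
    rw [mul_sub, neg_mul, h2, mul_one]
    abel
  rw [e1]
  apply dker_unit_mul
  · refine ⟨⟨Matrix.toLin' (-M'), Matrix.toLin' (-M), ?_, ?_⟩, rfl⟩
    · rw [Module.End.mul_eq_comp, ← Matrix.toLin'_mul, neg_mul_neg, h2, Matrix.toLin'_one]
      rfl
    · rw [Module.End.mul_eq_comp, ← Matrix.toLin'_mul, neg_mul_neg, h1, Matrix.toLin'_one]
      rfl
  · unfold Commute SemiconjBy nilPart
    rw [Module.End.mul_eq_comp, Module.End.mul_eq_comp, ← Matrix.toLin'_mul, ← Matrix.toLin'_mul]
    congr 1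
    rw [neg_mul, mul_neg, mul_sub, sub_mul, h1, h2, mul_one, one_mul]

theorem mulVec_dotProduct_transpose (A : Matrix ι ι F) (x y : ι → F) :
    (A *ᵥ x) ⬝ᵥ y = x ⬝ᵥ (Aᵀ *ᵥ y) := by
  rw [Matrix.dotProduct_mulVec, Matrix.vecMul_transpose]

end lemmas

section pair

variable {F : Type u} [Field F]

/-- the hyperbolic form on a double space -/
noncomputable def hypForm (F : Type u) [Field F] (n : ℕ) (ε : F) :
    LinearMap.BilinForm F ((Fin n → F) × (Fin n → F)) :=
  (Matrix.toBilin' (1 : Matrix (Fin n) (Fin n) F)).compl₁₂ (LinearMap.fst F _ _) (LinearMap.snd F _ _) +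
    ε • (Matrix.toBilin' (1 : Matrix (Fin n) (Fin n) F)).compl₁₂ (LinearMap.snd F _ _) (LinearMap.fst F _ _)

theorem hypForm_apply (n : ℕ) (ε : F) (x y : (Fin n → F) × (Fin n → F)) :
    hypForm F n ε x y = x.1 ⬝ᵥ y.2 + ε * (x.2 ⬝ᵥ y.1) := by
  unfold hypForm
  simp [Matrix.toBilin'_apply']

theorem hypForm_nondegenerate (n : ℕ) (ε : F) (hε : ε ≠ 0) : (hypForm F n ε).Nondegenerate := by
  constructor
  · intro x hx
    have e1 : x.1 = 0 := by
      funext i
      have := hx (0, Pi.single i 1)
      rw [hypForm_apply] at this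
      simpa using this
    have e2 : x.2 = 0 := by
      funext i
      have := hx (Pi.single i 1, 0)
      rw [hypForm_apply] at this
      simpa [hε] using this
    exact Prod.ext e1 e2
  · intro y hy
    have e1 : y.1 = 0 := by
      funext i
      have := hy (0, Pi.single i 1)
      rw [hypForm_apply] at this
      simpa [hε] using this
    have e2 : y.2 = 0 := by
      funext i
      have := hy (Pi.single i 1, 0)
      rw [hypForm_apply] at this
      simpa using this
    exact Prod.ext e1 e2

/-- doubled types are realised -/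
theorem realizes_double (ε : F) (hε : ε * ε = 1) (μ : Multiset ℕ) : Realizes F ε (μ + μ) := by
  obtain ⟨n, hn⟩ : ∃ n, n = μ.sum := ⟨_, rfl⟩
  obtain ⟨T₀, hT₀⟩ := exists_end_of_multiset (F := F) μ n hn.symm
  have hT₀' : ∀ k, dker T₀ k = smin μ k := hT₀
  have hfin : finrank F (Fin n → F) = n := by simp
  have hnil₀ : T₀ ^ n = 0 := by
    rw [pow_eq_zero_iff_dker, hT₀', hfin]
    have : smin μ n = μ.sum := by
      rw [smin_eq_sum_iff]
      intro b hb
      rw [hn]
      exact Multiset.le_sum_of_mem hb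
    rw [this, hn]
  set N := LinearMap.toMatrix' T₀ with hN
  have hNn : N ^ n = 0 := by
    have := congrArg LinearMap.toMatrix' hnil₀
    rw [map_zero] at this
    rw [← this, hN]
    exact (map_pow (LinearMap.toMatrixAlgEquiv' (R := F) (n := Fin n)) T₀ n).symm
  have hunit : IsUnit (1 + N) := IsNilpotent.isUnit_one_add ⟨n, hNn⟩
  obtain ⟨M, hM⟩ := hunit
  set M' : Matrix (Fin n) (Fin n) F := (M⁻¹ : (Matrix (Fin n) (Fin n) F)ˣ).1 with hM'
  have h1 : M.1 * M' = 1 := M.mul_inv
  have h2 : M' * M.1 = 1 := M.inv_mul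
  have hnilM : nilPart M.1 = T₀ := by
    unfold nilPart
    rw [hM, add_sub_cancel_left, hN, Matrix.toLin'_toMatrix']
  have hd1 : ∀ k, dker (nilPart M.1) k = smin μ k := by
    intro k; rw [hnilM, hT₀']
  have hd2 : ∀ k, dker (nilPart M'ᵀ) k = smin μ k := by
    intro k
    rw [dker_nilPart_transpose, dker_nilPart_inv M.1 M' h1, hd1]
  have hε0 : ε ≠ 0 := by
    intro h
    rw [h, mul_zero] at hε
    exact zero_ne_one hε
  let T : Module.End F ((Fin n → F) × (Fin n → F)) := (Matrix.toLin' M.1).prodMap (Matrix.toLin' M'ᵀ)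
  have hsub : T - 1 = (nilPart M.1).prodMap (nilPart M'ᵀ) := by
    apply LinearMap.ext
    intro x
    apply Prod.ext
    · simp [T, nilPart_apply, Matrix.toLin'_apply]
    · simp [T, nilPart_apply, Matrix.toLin'_apply]
  refine ⟨(Fin n → F) × (Fin n → F), inferInstance, inferInstance, inferInstance, hypForm F n ε, T,
    hypForm_nondegenerate n ε hε0, ?_, ?_, ?_, ?_, ?_⟩
  · intro x y
    rw [hypForm_apply, hypForm_apply, mul_add, ← mul_assoc, hε, one_mul, dotProduct_comm y.1 x.2,
      dotProduct_comm y.2 x.1]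
    ring
  · intro h x
    rw [hypForm_apply, h, dotProduct_comm x.2 x.1]
    ring
  · intro x y
    rw [hypForm_apply, hypForm_apply]
    simp only [T, LinearMap.prodMap_apply, Matrix.toLin'_apply]
    rw [mulVec_dotProduct_transpose, Matrix.mulVec_mulVec, ← Matrix.transpose_mul, h2,
      Matrix.transpose_one, Matrix.one_mulVec]
    rw [mulVec_dotProduct_transpose, Matrix.transpose_transpose, Matrix.mulVec_mulVec, h2,
      Matrix.one_mulVec]
  · rw [hsub]
    refine ⟨n + n, ?_⟩
    rw [prodMap_pow']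
    have e1 : (nilPart M.1) ^ (n + n) = 0 := by
      rw [hnilM, pow_add, hnil₀, zero_mul]
    have e2 : (nilPart M'ᵀ) ^ (n + n) = 0 := by
      rw [pow_eq_zero_iff_dker, hd2, hfin]
      have : smin μ (n + n) = μ.sum := by
        rw [smin_eq_sum_iff]
        intro b hb
        have := Multiset.le_sum_of_mem hb
        omega
      rw [this, hn]
    rw [e1, e2]
    apply LinearMap.ext
    intro x
    rfl
  · intro k
    rw [hsub, dker_prodMap, hd1, hd2, smin_add]

end pair

end Cfsg.Agent.Lib.Helper43
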