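import Mathlib
import Cfsg.Agent.Lib.Helper13.Symp
import Cfsg.Agent.Lib.Helper43.SpRegExists
import Cfsg.Agent.Lib.Helper43.JTMatrix
import Cfsg.Agent.Lib.Helper43.FormJordanSum
import Cfsg.Agent.Lib.Helper43.FormJordanPair

set_option autoImplicit false

/-!
Single Jordan blocks: even sizes are realised by symplectic isometries (all characteristics), odd
sizes by isometries of symmetric forms (characteristic not two).
-/

namespace Cfsg.Agent.Lib.Helper43

open Module Cfsg.Agent.Lib.Helper99 Matrix

universe u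

section regular

variable {F : Type*} [Field F] {V : Type*} [AddCommGroup V] [Module F V] [FiniteDimensional F V]

theorem smin_singleton (n k : ℕ) : smin {n} k = min n k := by
  unfold smin
  rw [Multiset.map_singleton, Multiset.sum_singleton]

theorem dker_of_regular (T : Module.End F V) (n : ℕ) (hn : finrank F V = n) (hTn : T ^ n = 0)
    (hker : finrank F (LinearMap.ker T) ≤ 1) (k : ℕ) : dker T k = smin {n} k := by
  rw [smin_singleton]
  by_cases hk : k ≤ n
  · rw [min_eq_right hk]
    exact finrank_ker_pow_eq T n hn hTn hker k hk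
  · rw [min_eq_left (by omega), dker_eq_of_pow_eq_zero T hTn k (by omega), hn]

end regular

section geom

variable (F : Type u) [Field F] (m : ℕ)

/-- the geometric sum of the shift matrix, inverse to `1 - shiftM` -/
def geomL : Matrix (Fin m) (Fin m) F := ∑ i ∈ Finset.range m, shiftM F m ^ i

variable {F m}

theorem geomL_mul : geomL F m * (1 - shiftM F m) = 1 := by
  unfold geomL
  rw [geom_sum_mul_neg, shiftM_pow_eq_zero, sub_zero]

theorem mul_geomL : (1 - shiftM F m) * geomL F m = 1 := by
  unfold geomL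
  rw [mul_neg_geom_sum, shiftM_pow_eq_zero, sub_zero]

theorem geomL_comm : Commute (geomL F m) (shiftM F m) := by
  unfold geomL
  apply Commute.sum_left
  intro i _
  exact (Commute.refl _).pow_left i

theorem geomL_mul_shiftM : geomL F m * shiftM F m = geomL F m - 1 := by
  have := geomL_mul (F := F) (m := m)
  rw [mul_sub, mul_one] at this
  rw [← this]
  abel

theorem geomL_mul_shiftM_pow : (geomL F m * shiftM F m) ^ m = 0 := by
  rw [geomL_comm.mul_pow, shiftM_pow_eq_zero, mul_zero]

/-- powers of block triangular matrices -/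
theorem fromBlocks_triangular_pow {n : ℕ} (A B D : Matrix (Fin n) (Fin n) F) (k : ℕ) :
    ∃ X : Matrix (Fin n) (Fin n) F, (fromBlocks A B 0 D) ^ k = fromBlocks (A ^ k) X 0 (D ^ k) := by
  induction k with
  | zero => exact ⟨0, by rw [pow_zero, pow_zero, pow_zero, fromBlocks_one]⟩
  | succ k ih =>
    obtain ⟨X, hX⟩ := ih
    refine ⟨A ^ k * B + X * D, ?_⟩
    rw [pow_succ, hX, fromBlocks_multiply]
    simp [pow_succ]

theorem ker_toLin'_mul_le {ι : Type*} [Fintype ι] [DecidableEq ι] (A A' N : Matrix ι ι F)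
    (h : A' * A = 1) : LinearMap.ker (Matrix.toLin' (A * N)) ≤ LinearMap.ker (Matrix.toLin' N) := by
  intro x hx
  rw [LinearMap.mem_ker, Matrix.toLin'_apply] at hx ⊢
  have := congrArg (fun y => A' *ᵥ y) hx
  simp only [Matrix.mulVec_zero] at this
  rw [Matrix.mulVec_mulVec, ← Matrix.mul_assoc, h, Matrix.one_mul] at this
  exact this

end geom

section sp

variable (F : Type u) [Field F] (m : ℕ)

/-- a regular unipotent symplectic matrix, in every characteristic -/
def spRegU : Matrix (Fin m ⊕ Fin m) (Fin m ⊕ Fin m) F :=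
  fromBlocks (geomL F m) (geomL F m * cornerM F m) 0 (1 - (shiftM F m)ᵀ)

variable {F m}

theorem spRegU_mem : spRegU F m ∈ Matrix.symplecticGroup (Fin m) F := by
  rw [SymplecticGroup.mem_iff]
  unfold spRegU Matrix.J
  rw [fromBlocks_transpose, fromBlocks_multiply, fromBlocks_multiply]
  have h1 : geomL F m * (1 - shiftM F m) = 1 := geomL_mul
  have h2 : (1 - (shiftM F m)ᵀ) * (geomL F m)ᵀ = 1 := by
    have := congrArg Matrix.transpose h1
    rw [Matrix.transpose_mul, Matrix.transpose_sub, Matrix.transpose_one] at this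
    exact this
  have h3 : (1 - (shiftM F m)ᵀ)ᵀ = 1 - shiftM F m := by
    rw [Matrix.transpose_sub, Matrix.transpose_one, Matrix.transpose_transpose]
  rw [h3]
  simp only [Matrix.mul_zero, Matrix.zero_mul, Matrix.mul_one, Matrix.mul_neg, zero_add, add_zero,
    Matrix.neg_mul, Matrix.transpose_zero, Matrix.transpose_mul, cornerM_transpose, h2]
  rw [h1]
  congr 1
  · rw [Matrix.mul_assoc]
    abel
  · simp
  · simp

theorem spRegU_sub_one :
    spRegU F m - 1 = fromBlocks (geomL F m) 0 0 1 * spNil F m := by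
  unfold spRegU spNil
  rw [fromBlocks_multiply, ← fromBlocks_one, sub_eq_add_neg, fromBlocks_neg, fromBlocks_add]
  simp only [Matrix.zero_mul, Matrix.mul_zero, add_zero, zero_add, Matrix.one_mul, neg_zero,
    geomL_mul_shiftM]
  congr 1 <;> abel

theorem spRegU_sub_one_pow : (spRegU F m - 1) ^ (2 * m) = 0 := by
  have e : spRegU F m - 1 =
      fromBlocks (geomL F m * shiftM F m) (geomL F m * cornerM F m) 0 (-(shiftM F m)ᵀ) := by
    rw [spRegU_sub_one]
    unfold spNil
    rw [fromBlocks_multiply]
    simp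
  obtain ⟨X, hX⟩ := fromBlocks_triangular_pow (geomL F m * shiftM F m) (geomL F m * cornerM F m)
    (-(shiftM F m)ᵀ) m
  have h1 : (-(shiftM F m)ᵀ) ^ m = 0 := by
    rw [neg_pow, ← Matrix.transpose_pow, shiftM_pow_eq_zero, transpose_zero, mul_zero]
  rw [geomL_mul_shiftM_pow, h1] at hX
  rw [e, mul_comm, pow_mul, hX, pow_two, fromBlocks_multiply]
  simp

theorem spRegU_finrank_ker (k : ℕ) :
    finrank F (LinearMap.ker (nilPart (spRegU F (k + 1)))) ≤ 1 := by
  unfold nilPart
  rw [spRegU_sub_one]
  have hle := ker_toLin'_mul_le (fromBlocks (geomL F (k + 1)) 0 0 1)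
    (fromBlocks (1 - shiftM F (k + 1)) 0 0 1) (spNil F (k + 1)) (by
      rw [fromBlocks_multiply]
      simp [mul_geomL, fromBlocks_one])
  exact le_trans (Submodule.finrank_mono hle) (spNil_isRegNilp k).finrank_ker_le

/-- the standard symplectic form -/
noncomputable def stdSp (F : Type u) [Field F] (m : ℕ) : LinearMap.BilinForm F (Fin m ⊕ Fin m → F) :=
  Matrix.toBilin' (Matrix.J (Fin m) F)

theorem stdSp_apply (x y : Fin m ⊕ Fin m → F) : stdSp F m x y = Cfsg.sympForm m F x y := by
  unfold stdSp
  rw [Matrix.toBilin'_apply']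
  rfl

theorem stdSp_nondegenerate : (stdSp F m).Nondegenerate := by
  unfold stdSp
  apply Matrix.Nondegenerate.toBilin'
  apply Matrix.nondegenerate_of_det_ne_zero
  exact (Matrix.isUnit_det_J (Fin m) F).ne_zero

theorem stdSp_isAlt : (stdSp F m).IsAlt := by
  intro x
  rw [stdSp_apply, Cfsg.Agent.Lib.Helper13.sympForm_self]

theorem stdSp_preserved {A : Matrix (Fin m ⊕ Fin m) (Fin m ⊕ Fin m) F}
    (hA : A ∈ Matrix.symplecticGroup (Fin m) F) (x y : Fin m ⊕ Fin m → F) :
    stdSp F m (Matrix.toLin' A x) (Matrix.toLin' A y) = stdSp F m x y := by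
  rw [stdSp_apply, stdSp_apply, Matrix.toLin'_apply, Matrix.toLin'_apply,
    Cfsg.Agent.Lib.Helper13.preserves_of_mem_symplectic m A hA]

theorem toLin'_sub_one {ι : Type} [Fintype ι] [DecidableEq ι] (A : Matrix ι ι F) :
    (Matrix.toLin' A : Module.End F (ι → F)) - 1 = nilPart A := by
  unfold nilPart
  rw [map_sub, Matrix.toLin'_one]
  rfl

/-- a single Jordan block of even size is realised by a symplectic isometry -/
theorem realizes_sp_single (k : ℕ) : Realizes F (-1 : F) {2 * (k + 1)} := by
  refine ⟨Fin (k + 1) ⊕ Fin (k + 1) → F, inferInstance, inferInstance, inferInstance,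
    stdSp F (k + 1), Matrix.toLin' (spRegU F (k + 1)), stdSp_nondegenerate, ?_, ?_, ?_, ?_, ?_⟩
  · intro x y
    rw [stdSp_apply, stdSp_apply, Cfsg.Agent.Lib.Helper13.sympForm_swap]
    ring
  · intro _
    exact stdSp_isAlt
  · exact stdSp_preserved spRegU_mem
  · rw [toLin'_sub_one]
    refine ⟨2 * (k + 1), ?_⟩
    unfold nilPart
    rw [← Matrix.toLin'_pow, spRegU_sub_one_pow, map_zero]
  · intro j
    rw [toLin'_sub_one]
    apply dker_of_regular
    · rw [Module.finrank_fintype_fun_eq_card, Fintype.card_sum, Fintype.card_fin]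
      ring
    · unfold nilPart
      rw [← Matrix.toLin'_pow, spRegU_sub_one_pow, map_zero]
    · exact spRegU_finrank_ker k

end sp

section orth

variable (F : Type u) [Field F] (n : ℕ)

/-- the Gram matrix of the symmetric form for which the shift is skew-adjoint -/
def gramO : Matrix (Fin n) (Fin n) F :=
  Matrix.of fun i j => if (i : ℕ) + (j : ℕ) + 1 = n then (-1 : F) ^ (i : ℕ) else 0

variable {F n}

theorem gramO_mul_apply (A : Matrix (Fin n) (Fin n) F) (i j : Fin n) :
    (gramO F n * A) i j = (-1 : F) ^ (i : ℕ) * A (Fin.rev i) j := by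
  rw [Matrix.mul_apply, Finset.sum_eq_single (Fin.rev i)]
  · unfold gramO
    rw [Matrix.of_apply, if_pos]
    rw [Fin.val_rev]
    have := i.2
    omega
  · intro l _ hl
    unfold gramO
    rw [Matrix.of_apply, if_neg, zero_mul]
    intro h
    apply hl
    apply Fin.ext
    rw [Fin.val_rev]
    omega
  · intro h
    exact absurd (Finset.mem_univ _) h

theorem mul_gramO_apply (A : Matrix (Fin n) (Fin n) F) (i j : Fin n) :
    (A * gramO F n) i j = A i (Fin.rev j) * (-1 : F) ^ ((Fin.rev j : Fin n) : ℕ) := by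
  rw [Matrix.mul_apply, Finset.sum_eq_single (Fin.rev j)]
  · unfold gramO
    rw [Matrix.of_apply, if_pos]
    rw [Fin.val_rev]
    have := j.2
    omega
  · intro l _ hl
    unfold gramO
    rw [Matrix.of_apply, if_neg, mul_zero]
    intro h
    apply hl
    apply Fin.ext
    rw [Fin.val_rev]
    omega
  · intro h
    exact absurd (Finset.mem_univ _) h

theorem neg_one_pow_eq_of_even_add (a b : ℕ) (h : Even (a + b)) : (-1 : F) ^ a = (-1 : F) ^ b := by
  have h1 : (-1 : F) ^ (a + b) = 1 := h.neg_one_pow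
  have h2 : (-1 : F) ^ b * (-1 : F) ^ b = 1 := by
    rw [← pow_add]
    exact (Even.add_self b).neg_one_pow
  calc (-1 : F) ^ a = (-1 : F) ^ a * ((-1 : F) ^ b * (-1 : F) ^ b) := by rw [h2, mul_one]
    _ = (-1 : F) ^ (a + b) * (-1 : F) ^ b := by rw [pow_add]; ring
    _ = (-1 : F) ^ b := by rw [h1, one_mul]

theorem gramO_transpose (hn : Odd n) : (gramO F n)ᵀ = gramO F n := by
  ext i j
  rw [Matrix.transpose_apply]
  unfold gramO
  rw [Matrix.of_apply, Matrix.of_apply]
  by_cases h : (i : ℕ) + (j : ℕ) + 1 = n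
  · rw [if_pos h, if_pos (by omega)]
    apply neg_one_pow_eq_of_even_add
    obtain ⟨c, hc⟩ := hn
    exact ⟨c, by omega⟩
  · rw [if_neg h, if_neg (by omega)]

theorem gramO_mul_self (hn : Odd n) : gramO F n * gramO F n = 1 := by
  ext i j
  rw [gramO_mul_apply]
  unfold gramO
  rw [Matrix.of_apply, Fin.val_rev, Matrix.one_apply]
  by_cases h : i = j
  · subst h
    have := i.2
    rw [if_pos (by omega), if_pos rfl, ← pow_add]
    apply Even.neg_one_pow
    obtain ⟨c, hc⟩ := hn
    exact ⟨c, by omega⟩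
  · have h' : (i : ℕ) ≠ (j : ℕ) := fun hh => h (Fin.ext hh)
    have := i.2
    rw [if_neg (by omega), if_neg h, mul_zero]

theorem shiftM_transpose_mul_gramO :
    (shiftM F n)ᵀ * gramO F n = -(gramO F n * shiftM F n) := by
  ext i j
  rw [mul_gramO_apply, Matrix.neg_apply, gramO_mul_apply, Matrix.transpose_apply]
  unfold shiftM
  rw [Matrix.of_apply, Matrix.of_apply, Fin.val_rev, Fin.val_rev]
  have hi := i.2
  have hj := j.2
  by_cases h : (i : ℕ) + (j : ℕ) = n
  · rw [if_pos (by omega), if_pos (by omega)]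
    have e : n - ((j : ℕ) + 1) + 1 = (i : ℕ) := by omega
    rw [← e, pow_succ]
    ring
  · rw [if_neg (by omega), if_neg (by omega)]
    simp

/-- the Cayley transform of the shift -/
def cayT (F : Type u) [Field F] (n : ℕ) : Matrix (Fin n) (Fin n) F := (1 + shiftM F n) * geomL F n

theorem cayT_isometry : (cayT F n)ᵀ * gramO F n * cayT F n = gramO F n := by
  have h3 := shiftM_transpose_mul_gramO (F := F) (n := n)
  have e1 : (1 + (shiftM F n)ᵀ) * gramO F n = gramO F n * (1 - shiftM F n) := by
    rw [add_mul, one_mul, h3, mul_sub, mul_one]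
    abel
  have e2 : (1 - (shiftM F n)ᵀ) * gramO F n = gramO F n * (1 + shiftM F n) := by
    rw [sub_mul, one_mul, h3, mul_add, mul_one]
    abel
  have e3 : (geomL F n)ᵀ * (1 - (shiftM F n)ᵀ) = 1 := by
    have := congrArg Matrix.transpose (mul_geomL (F := F) (m := n))
    rw [Matrix.transpose_mul, Matrix.transpose_sub, Matrix.transpose_one] at this
    exact this
  have e4 : (1 - shiftM F n) * (1 + shiftM F n) = (1 + shiftM F n) * (1 - shiftM F n) := by
    noncomm_ring
  unfold cayT
  rw [Matrix.transpose_mul, Matrix.transpose_add, Matrix.transpose_one]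
  calc (geomL F n)ᵀ * (1 + (shiftM F n)ᵀ) * gramO F n * ((1 + shiftM F n) * geomL F n)
      = (geomL F n)ᵀ * ((1 + (shiftM F n)ᵀ) * gramO F n) * ((1 + shiftM F n) * geomL F n) := by
        simp only [Matrix.mul_assoc]
    _ = (geomL F n)ᵀ * gramO F n * ((1 - shiftM F n) * (1 + shiftM F n)) * geomL F n := by
        rw [e1]; simp only [Matrix.mul_assoc]
    _ = (geomL F n)ᵀ * gramO F n * (1 + shiftM F n) * ((1 - shiftM F n) * geomL F n) := by
        rw [e4]; simp only [Matrix.mul_assoc]
    _ = (geomL F n)ᵀ * (gramO F n * (1 + shiftM F n)) := by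
        rw [mul_geomL, Matrix.mul_one, Matrix.mul_assoc]
    _ = (geomL F n)ᵀ * (1 - (shiftM F n)ᵀ) * gramO F n := by
        rw [← e2, Matrix.mul_assoc]
    _ = gramO F n := by rw [e3, Matrix.one_mul]

theorem cayT_sub_one : cayT F n - 1 = ((2 : F) • geomL F n) * shiftM F n := by
  unfold cayT
  have h := mul_geomL (F := F) (m := n)
  have hc := (geomL_comm (F := F) (m := n)).eq
  rw [Matrix.smul_mul, hc, two_smul, add_mul, one_mul]
  rw [sub_mul, one_mul] at h
  rw [← h]
  abel

theorem cayT_sub_one_pow : (cayT F n - 1) ^ n = 0 := by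
  rw [cayT_sub_one, Matrix.smul_mul, smul_pow, geomL_mul_shiftM_pow, smul_zero]

theorem finrank_ker_shiftM (k : ℕ) :
    finrank F (LinearMap.ker (Matrix.toLin' (shiftM F (k + 1)))) ≤ 1 := by
  have hle : LinearMap.ker (Matrix.toLin' (shiftM F (k + 1))) ≤
      F ∙ (Pi.single 0 1 : Fin (k + 1) → F) := by
    intro x hx
    rw [LinearMap.mem_ker, Matrix.toLin'_apply] at hx
    have : x = x 0 • (Pi.single 0 1 : Fin (k + 1) → F) := by
      funext j
      by_cases hj : j = 0
      · subst hj
        simp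
      · have hj' : (j : ℕ) ≠ 0 := fun h => hj (Fin.ext h)
        have hlt : ((j : ℕ) - 1) + 1 < k + 1 := by have := j.2; omega
        have := congrFun hx ⟨(j : ℕ) - 1, by omega⟩
        rw [shiftM_mulVec_of_lt _ _ hlt] at this
        have e : (⟨(j : ℕ) - 1 + 1, hlt⟩ : Fin (k + 1)) = j := Fin.ext (by simp; omega)
        rw [e] at this
        rw [this]
        simp [hj]
    rw [this]
    exact Submodule.smul_mem _ _ (Submodule.mem_span_singleton_self _)
  refine le_trans (Submodule.finrank_mono hle) ?_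
  have := finrank_span_le_card (R := F) ({(Pi.single 0 1 : Fin (k + 1) → F)} : Set (Fin (k + 1) → F))
  simpa using this

theorem cayT_finrank_ker (h2 : (2 : F) ≠ 0) (k : ℕ) :
    finrank F (LinearMap.ker (nilPart (cayT F (k + 1)))) ≤ 1 := by
  unfold nilPart
  rw [cayT_sub_one]
  have hle := ker_toLin'_mul_le ((2 : F) • geomL F (k + 1)) ((2 : F)⁻¹ • (1 - shiftM F (k + 1)))
    (shiftM F (k + 1)) (by
      rw [Matrix.smul_mul, Matrix.mul_smul, smul_smul, inv_mul_cancel₀ h2, one_smul, mul_geomL])
  exact le_trans (Submodule.finrank_mono hle) (finrank_ker_shiftM k)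

/-- a single Jordan block of odd size is realised by an isometry of a symmetric form, in
characteristic not two -/
theorem realizes_orth_single (h2 : (2 : F) ≠ 0) (k : ℕ) : Realizes F (1 : F) {2 * k + 1} := by
  have hodd : Odd (2 * k + 1) := ⟨k, rfl⟩
  refine ⟨Fin (2 * k + 1) → F, inferInstance, inferInstance, inferInstance,
    Matrix.toBilin' (gramO F (2 * k + 1)), Matrix.toLin' (cayT F (2 * k + 1)), ?_, ?_, ?_, ?_, ?_, ?_⟩
  · apply Matrix.Nondegenerate.toBilin'
    apply Matrix.nondegenerate_of_det_ne_zero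
    intro h
    have := congrArg Matrix.det (gramO_mul_self (F := F) hodd)
    rw [Matrix.det_mul, h, mul_zero, Matrix.det_one] at this
    exact zero_ne_one this
  · intro x y
    rw [one_mul, Matrix.toBilin'_apply', Matrix.toBilin'_apply', dotProduct_comm,
      mulVec_dotProduct_transpose, gramO_transpose hodd]
  · intro h
    exfalso
    apply h2
    have : (1 : F) + 1 = 0 := by
      nth_rewrite 1 [h]
      ring
    rw [← this]
    norm_num
  · intro x y
    rw [Matrix.toBilin'_apply', Matrix.toBilin'_apply', Matrix.toLin'_apply, Matrix.toLin'_apply,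
      mulVec_dotProduct_transpose, Matrix.mulVec_mulVec, Matrix.mulVec_mulVec, cayT_isometry]
  · rw [toLin'_sub_one]
    refine ⟨2 * k + 1, ?_⟩
    unfold nilPart
    rw [← Matrix.toLin'_pow, cayT_sub_one_pow, map_zero]
  · intro j
    rw [toLin'_sub_one]
    apply dker_of_regular
    · rw [Module.finrank_fintype_fun_eq_card, Fintype.card_fin]
    · unfold nilPart
      rw [← Matrix.toLin'_pow, cayT_sub_one_pow, map_zero]
    · exact cayT_finrank_ker h2 (2 * k)

end orth

end Cfsg.Agent.Lib.Helper43
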