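import Mathlib
import Cfsg.Agent.Lib.Helper43.FormJordanSingle
import Cfsg.Agent.Lib.Helper43.FormJordan

set_option autoImplicit false

/-!
Which Jordan types are realised by symplectic and by orthogonal isometries: the existence half and
auxiliary glue.
-/

namespace Cfsg.Agent.Lib.Helper43

open Module Cfsg.Agent.Lib.Helper99 Matrix

universe u

section main

variable {F : Type u} [Field F]

theorem realizes_sp (μ : Multiset ℕ) (h1 : ∀ b ∈ μ, 1 ≤ b)
    (hpar : ∀ j, Odd j → Even (μ.count j)) : Realizes F (-1 : F) μ := by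
  apply realizes_of_parity (-1 : F) Even ?_ ?_ (Multiset.card μ) μ rfl h1
  · intro j hj
    exact hpar j (Nat.not_even_iff_odd.1 hj)
  · intro b hb1 hb
    obtain ⟨c, hc⟩ := hb
    have : b = 2 * ((c - 1) + 1) := by omega
    rw [this]
    exact realizes_sp_single (c - 1)
  · intro b _
    exact realizes_double (-1 : F) (by ring) {b}

theorem realizes_orth (h2 : (2 : F) ≠ 0) (μ : Multiset ℕ) (h1 : ∀ b ∈ μ, 1 ≤ b)
    (hpar : ∀ j, Even j → 0 < j → Even (μ.count j)) : Realizes F (1 : F) μ := by
  apply realizes_of_parity (1 : F) Odd ?_ ?_ (Multiset.card μ) μ rfl h1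
  · intro j hj
    have hj' : Even j := Nat.not_odd_iff_even.1 hj
    rcases Nat.eq_zero_or_pos j with h0 | hpos
    · subst h0
      have : μ.count 0 = 0 := by
        rw [Multiset.count_eq_zero]
        intro h
        have := h1 0 h
        omega
      rw [this]
      exact Even.zero
    · exact hpar j hj' hpos
  · intro b _ hb
    obtain ⟨c, hc⟩ := hb
    rw [hc]
    exact realizes_orth_single h2 c
  · intro b _
    exact realizes_double (1 : F) (by ring) {b}

theorem isNilpotent_of_dker {V : Type*} [AddCommGroup V] [Module F V] [FiniteDimensional F V]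
    (T : Module.End F V) (μ : Multiset ℕ) (h : ∀ k, dker T k = smin μ k)
    (hfin : finrank F V = μ.sum) : IsNilpotent T := by
  refine ⟨μ.sum, ?_⟩
  rw [pow_eq_zero_iff_dker, h, hfin, smin_eq_sum_iff]
  intro b hb
  exact Multiset.le_sum_of_mem hb

theorem count_map_univ {t : ℕ} (d : Fin t → ℕ) (j : ℕ) :
    ((Finset.univ : Finset (Fin t)).val.map d).count j =
      (Finset.univ.filter (fun k : Fin t => d k = j)).card := by
  rw [Multiset.count_map, Finset.card_def, Finset.filter_val]
  congr 1
  apply Multiset.filter_congr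
  intro x _
  exact eq_comm

theorem sum_map_univ {t : ℕ} (d : Fin t → ℕ) :
    ((Finset.univ : Finset (Fin t)).val.map d).sum = ∑ k, d k := rfl

theorem mem_map_univ {t : ℕ} (d : Fin t → ℕ) (hd : ∀ k, 1 ≤ d k) :
    ∀ b ∈ (Finset.univ : Finset (Fin t)).val.map d, 1 ≤ b := by
  intro b hb
  rw [Multiset.mem_map] at hb
  obtain ⟨k, _, rfl⟩ := hb
  exact hd k

/-- multiplicities from the kernel dimensions -/
theorem count_of_smin (μ : Multiset ℕ) (j c : ℕ) (hj : 1 ≤ j)
    (h : 2 * smin μ j = smin μ (j - 1) + smin μ (j + 1) + 2 * c) : μ.count j = 2 * c := by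
  have := sum_min_identity μ j hj
  unfold smin at h
  omega

theorem dker_nilPart_toMatrix {V : Type*} [AddCommGroup V] [Module F V] {ι : Type} [Fintype ι]
    [DecidableEq ι] (b : Basis ι F V) (T : Module.End F V) (k : ℕ) :
    dker (nilPart (LinearMap.toMatrix b b T)) k = dker (T - 1) k := by
  apply dker_conj b.equivFun (T - 1) (nilPart (LinearMap.toMatrix b b T))
  intro w
  rw [nilPart_apply]
  have := LinearMap.toMatrix_mulVec_repr b b T w
  simp only [Basis.equivFun_apply, LinearMap.sub_apply, Module.End.one_apply, map_sub]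
  rw [this]

end main

end Cfsg.Agent.Lib.Helper43
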