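import Mathlib
import Cfsg.Agent.Lib.Helper43.FormJordanMain

set_option autoImplicit false

/-!
Realisation of Jordan types by isometries of quadratic forms with non-degenerate polar form; in
characteristic two every type whose odd block sizes have even multiplicity is realised.
-/

namespace Cfsg.Agent.Lib.Helper43

open Module Cfsg.Agent.Lib.Helper99 Matrix

universe u

section induction

/-- the combinatorial induction for an additive family of realisable types -/
theorem parity_induction (R : Multiset ℕ → Prop) (h0 : R 0)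
    (hadd : ∀ μ ν, R μ → R ν → R (μ + ν)) (P : ℕ → Prop)
    (hsingle : ∀ b, 1 ≤ b → P b → R {b})
    (hpair : ∀ b, 1 ≤ b → R ({b} + {b})) :
    ∀ (n : ℕ) (μ : Multiset ℕ), Multiset.card μ = n → (∀ b ∈ μ, 1 ≤ b) →
      (∀ j, ¬ P j → Even (μ.count j)) → R μ := by
  intro n
  induction n using Nat.strong_induction_on with
  | _ n ih =>
    intro μ hcard h1 hpar
    rcases Multiset.empty_or_exists_mem μ with hz | ⟨b, hb⟩
    · rw [hz]
      exact h0
    · obtain ⟨μ', rfl⟩ := Multiset.exists_cons_of_mem hb
      have hb1 : 1 ≤ b := h1 b (Multiset.mem_cons_self b μ')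
      by_cases hP : P b
      · have hμ' : R μ' := by
          apply ih (Multiset.card μ') (by rw [← hcard, Multiset.card_cons]; omega) μ' rfl
          · intro c hc
            exact h1 c (Multiset.mem_cons_of_mem hc)
          · intro j hj
            have := hpar j hj
            rw [Multiset.count_cons_of_ne] at this
            · exact this
            · intro hjb
              rw [hjb] at hj
              exact hj hP
        have := hadd _ _ (hsingle b hb1 hP) hμ'
        rwa [Multiset.singleton_add] at this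
      · have hev := hpar b hP
        rw [Multiset.count_cons_self] at hev
        have hpos : 0 < μ'.count b := by
          rcases Nat.eq_zero_or_pos (μ'.count b) with h | h
          · rw [h] at hev
            exact absurd hev (by decide)
          · exact h
        have hb' : b ∈ μ' := Multiset.count_pos.1 hpos
        obtain ⟨μ'', rfl⟩ := Multiset.exists_cons_of_mem hb'
        have hμ'' : R μ'' := by
          apply ih (Multiset.card μ'') (by rw [← hcard, Multiset.card_cons, Multiset.card_cons]; omega) μ'' rfl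
          · intro c hc
            exact h1 c (Multiset.mem_cons_of_mem (Multiset.mem_cons_of_mem hc))
          · intro j hj
            have := hpar j hj
            by_cases hjb : j = b
            · rw [hjb] at this ⊢
              rw [Multiset.count_cons_self, Multiset.count_cons_self] at this
              rcases this with ⟨c, hc⟩
              exact ⟨c - 1, by omega⟩
            · rw [Multiset.count_cons_of_ne hjb, Multiset.count_cons_of_ne hjb] at this
              exact this
        have := hadd _ _ (hpair b hb1) hμ''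
        rw [Multiset.singleton_add, Multiset.cons_add, Multiset.singleton_add] at this
        exact this

end induction

section quad

variable (F : Type u) [Field F]

/-- the Jordan type `μ` is realised by an isometry of a quadratic form with non-degenerate polar
form -/
def QRealizes (μ : Multiset ℕ) : Prop :=
  ∃ (V : Type u) (_ : AddCommGroup V) (_ : Module F V) (_ : FiniteDimensional F V)
    (Q : QuadraticForm F V) (T : Module.End F V),
    (QuadraticMap.polarBilin Q).Nondegenerate ∧ (∀ x, Q (T x) = Q x) ∧ IsNilpotent (T - 1) ∧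
      ∀ k, dker (T - 1) k = smin μ k

variable {F}

theorem qrealizes_zero : QRealizes F 0 := by
  refine ⟨PUnit.{u + 1}, inferInstance, inferInstance, inferInstance, 0, 1, ?_, ?_, ?_, ?_⟩
  · exact ⟨fun x _ => Subsingleton.elim _ _, fun x _ => Subsingleton.elim _ _⟩
  · intro x; simp
  · rw [sub_self]; exact IsNilpotent.zero
  · intro k
    rw [smin_zero]
    unfold dker
    have : finrank F (PUnit.{u + 1}) = 0 := finrank_zero_of_subsingleton
    have h := Submodule.finrank_le (LinearMap.ker (((1 : Module.End F PUnit.{u + 1}) - 1) ^ k))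
    omega

theorem qrealizes_add {μ ν : Multiset ℕ} (h1 : QRealizes F μ) (h2 : QRealizes F ν) :
    QRealizes F (μ + ν) := by
  obtain ⟨V₁, _, _, _, Q₁, T₁, hB₁, hi₁, hn₁, hd₁⟩ := h1
  obtain ⟨V₂, _, _, _, Q₂, T₂, hB₂, hi₂, hn₂, hd₂⟩ := h2
  have hBa : ∀ x y : V₁ × V₂, QuadraticMap.polarBilin (Q₁.prod Q₂) x y =
      QuadraticMap.polarBilin Q₁ x.1 y.1 + QuadraticMap.polarBilin Q₂ x.2 y.2 := by
    intro x y
    simp only [QuadraticMap.polarBilin_apply_apply, QuadraticMap.polar_prod]
  have hsub : (T₁.prodMap T₂ : Module.End F (V₁ × V₂)) - 1 = (T₁ - 1).prodMap (T₂ - 1) := by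
    apply LinearMap.ext
    intro x
    rfl
  refine ⟨V₁ × V₂, inferInstance, inferInstance, inferInstance, Q₁.prod Q₂, T₁.prodMap T₂, ?_, ?_, ?_, ?_⟩
  · constructor
    · intro x hx
      have e1 : x.1 = 0 := by
        apply hB₁.1
        intro y
        have := hx (y, 0)
        rw [hBa] at this
        simpa using this
      have e2 : x.2 = 0 := by
        apply hB₂.1
        intro y
        have := hx (0, y)
        rw [hBa] at this
        simpa using this
      exact Prod.ext e1 e2
    · intro y hy
      have e1 : y.1 = 0 := by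
        apply hB₁.2
        intro x
        have := hy (x, 0)
        rw [hBa] at this
        simpa using this
      have e2 : y.2 = 0 := by
        apply hB₂.2
        intro x
        have := hy (0, x)
        rw [hBa] at this
        simpa using this
      exact Prod.ext e1 e2
  · intro x
    rw [QuadraticMap.prod_apply, QuadraticMap.prod_apply]
    simp only [LinearMap.prodMap_apply]
    rw [hi₁, hi₂]
  · rw [hsub]
    obtain ⟨a, ha⟩ := hn₁
    obtain ⟨b, hb⟩ := hn₂
    refine ⟨a + b, ?_⟩
    rw [prodMap_pow', pow_add, ha, zero_mul, pow_add, hb, mul_zero]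
    apply LinearMap.ext
    intro x
    rfl
  · intro k
    rw [hsub, dker_prodMap, hd₁, hd₂, smin_add]

/-- a form realisation with a quadratic refinement gives a quadratic realisation -/
theorem qrealizes_of_form {V : Type u} [AddCommGroup V] [Module F V] [FiniteDimensional F V]
    (β : LinearMap.BilinForm F V) (T : Module.End F V) (μ : Multiset ℕ)
    (hnd : (β + β.flip).Nondegenerate) (hiso : ∀ x, β (T x) (T x) = β x x)
    (hnil : IsNilpotent (T - 1)) (hd : ∀ k, dker (T - 1) k = smin μ k) : QRealizes F μ := by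
  refine ⟨V, inferInstance, inferInstance, inferInstance, LinearMap.BilinMap.toQuadraticMap β, T,
    ?_, ?_, hnil, hd⟩
  · rw [LinearMap.BilinMap.polarBilin_toQuadraticMap]
    exact hnd
  · intro x
    rw [LinearMap.BilinMap.toQuadraticMap_apply, LinearMap.BilinMap.toQuadraticMap_apply]
    exact hiso x

/-- unipotent matrices of a given type together with their inverse -/
theorem exists_double_data (μ : Multiset ℕ) :
    ∃ (n : ℕ) (M M' : Matrix (Fin n) (Fin n) F), M * M' = 1 ∧ M' * M = 1 ∧
      (∀ k, dker (nilPart M) k = smin μ k) ∧ (∀ k, dker (nilPart M'ᵀ) k = smin μ k) ∧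
      IsNilpotent (nilPart M) ∧ IsNilpotent (nilPart M'ᵀ) := by
  obtain ⟨n, hn⟩ : ∃ n, n = μ.sum := ⟨_, rfl⟩
  obtain ⟨T₀, hT₀⟩ := exists_end_of_multiset (F := F) μ n hn.symm
  have hT₀' : ∀ k, dker T₀ k = smin μ k := hT₀
  have hfin : finrank F (Fin n → F) = μ.sum := by simp [hn]
  have hnil₀ : IsNilpotent T₀ := isNilpotent_of_dker T₀ μ hT₀' hfin
  set N := LinearMap.toMatrix' T₀ with hN
  have hNn : IsNilpotent N := by
    obtain ⟨a, ha⟩ := hnil₀
    refine ⟨a, ?_⟩
    have := congrArg LinearMap.toMatrix' ha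
    rw [map_zero] at this
    rw [← this, hN]
    exact (map_pow (LinearMap.toMatrixAlgEquiv' (R := F) (n := Fin n)) T₀ a).symm
  obtain ⟨M, hM⟩ := hNn.isUnit_one_add
  set M' : Matrix (Fin n) (Fin n) F := (M⁻¹ : (Matrix (Fin n) (Fin n) F)ˣ).1 with hM'
  have h1 : M.1 * M' = 1 := M.mul_inv
  have h2 : M' * M.1 = 1 := M.inv_mul
  have hnilM : nilPart M.1 = T₀ := by
    unfold nilPart
    rw [hM, add_sub_cancel_left, hN, Matrix.toLin'_toMatrix']
  have hd1 : ∀ k, dker (nilPart M.1) k = smin μ k := by
    intro k; rw [hnilM, hT₀']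
  have hd2 : ∀ k, dker (nilPart M'ᵀ) k = smin μ k := by
    intro k
    rw [dker_nilPart_transpose, dker_nilPart_inv M.1 M' h1, hd1]
  exact ⟨n, M.1, M', h1, h2, hd1, hd2, by rw [hnilM]; exact hnil₀,
    isNilpotent_of_dker _ μ hd2 hfin⟩

/-- doubled types are realised by isometries of hyperbolic quadratic forms -/
theorem qrealizes_double (μ : Multiset ℕ) : QRealizes F (μ + μ) := by
  obtain ⟨n, M, M', h1, h2, hd1, hd2, hn1, hn2⟩ := exists_double_data (F := F) μ
  let β : LinearMap.BilinForm F ((Fin n → F) × (Fin n → F)) :=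
    (Matrix.toBilin' (1 : Matrix (Fin n) (Fin n) F)).compl₁₂ (LinearMap.fst F _ _) (LinearMap.snd F _ _)
  have hβ : ∀ x y : (Fin n → F) × (Fin n → F), β x y = x.1 ⬝ᵥ y.2 := by
    intro x y
    simp [β, Matrix.toBilin'_apply']
  let T : Module.End F ((Fin n → F) × (Fin n → F)) := (Matrix.toLin' M).prodMap (Matrix.toLin' M'ᵀ)
  have hsub : T - 1 = (nilPart M).prodMap (nilPart M'ᵀ) := by
    apply LinearMap.ext
    intro x
    apply Prod.ext
    · simp [T, nilPart_apply, Matrix.toLin'_apply]
    · simp [T, nilPart_apply, Matrix.toLin'_apply]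
  apply qrealizes_of_form β T (μ + μ)
  · have : β + β.flip = hypForm F n 1 := by
      apply LinearMap.ext
      intro x
      apply LinearMap.ext
      intro y
      rw [LinearMap.add_apply, LinearMap.add_apply]
      show β x y + β y x = _
      rw [hβ, hβ, hypForm_apply, one_mul, dotProduct_comm y.1 x.2]
    rw [this]
    exact hypForm_nondegenerate n 1 one_ne_zero
  · intro x
    rw [hβ, hβ]
    simp only [T, LinearMap.prodMap_apply, Matrix.toLin'_apply]
    rw [mulVec_dotProduct_transpose, Matrix.mulVec_mulVec, ← Matrix.transpose_mul, h2,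
      Matrix.transpose_one, Matrix.one_mulVec]
  · rw [hsub]
    obtain ⟨a, ha⟩ := hn1
    obtain ⟨b, hb⟩ := hn2
    refine ⟨a + b, ?_⟩
    rw [prodMap_pow', pow_add, ha, zero_mul, pow_add, hb, mul_zero]
    apply LinearMap.ext
    intro x
    rfl
  · intro k
    rw [hsub, dker_prodMap, hd1, hd2, smin_add]

end quad

section chartwo

variable {F : Type u} [Field F]

/-- the Gram matrix of a bilinear form whose quadratic form is preserved by `spRegU` in
characteristic two -/
def quadG (F : Type u) [Field F] (m : ℕ) : Matrix (Fin m ⊕ Fin m) (Fin m ⊕ Fin m) F :=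
  fromBlocks (cornerM F m) 1 0 0

theorem cornerM_mulVec_of_ne {m : ℕ} (y : Fin m → F) (i : Fin m) (h : (i : ℕ) + 1 ≠ m) :
    (cornerM F m *ᵥ y) i = 0 := by
  rw [Matrix.mulVec, dotProduct]
  apply Finset.sum_eq_zero
  intro l _
  simp [cornerM, h]

theorem dotProduct_cornerM_mulVec (k : ℕ) (y z : Fin (k + 1) → F) :
    y ⬝ᵥ (cornerM F (k + 1) *ᵥ z) = y (Fin.last k) * z (Fin.last k) := by
  rw [dotProduct, Finset.sum_eq_single (Fin.last k)]
  · rw [cornerM_mulVec_last _ _ (by simp)]
  · intro i _ hi
    rw [cornerM_mulVec_of_ne, mul_zero]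
    intro h
    apply hi
    apply Fin.ext
    simp only [Fin.val_last]
    omega
  · intro h
    exact absurd (Finset.mem_univ _) h

theorem geomL_mulVec_last (k : ℕ) (y : Fin (k + 1) → F) :
    (geomL F (k + 1) *ᵥ y) (Fin.last k) = y (Fin.last k) := by
  unfold geomL
  rw [Matrix.sum_mulVec, Finset.sum_apply, Finset.sum_eq_single 0]
  · simp
  · intro i _ hi
    rw [shiftM_pow_mulVec, dif_neg]
    simp only [Fin.val_last]
    omega
  · intro h
    simp at h

theorem quadG_form (k : ℕ) (x : Fin (k + 1) ⊕ Fin (k + 1) → F) :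
    x ⬝ᵥ (quadG F (k + 1) *ᵥ x) =
      x (Sum.inl (Fin.last k)) * x (Sum.inl (Fin.last k)) + (x ∘ Sum.inl) ⬝ᵥ (x ∘ Sum.inr) := by
  unfold quadG
  rw [fromBlocks_mulVec]
  simp only [Matrix.one_mulVec, Matrix.zero_mulVec, add_zero]
  rw [dotProduct, Fintype.sum_sum_type]
  simp only [Sum.elim_inl, Sum.elim_inr, Pi.zero_apply, mul_zero, Finset.sum_const_zero, add_zero]
  have : ∑ i, x (Sum.inl i) * (cornerM F (k + 1) *ᵥ (x ∘ Sum.inl) + x ∘ Sum.inr) i =
      (x ∘ Sum.inl) ⬝ᵥ (cornerM F (k + 1) *ᵥ (x ∘ Sum.inl)) + (x ∘ Sum.inl) ⬝ᵥ (x ∘ Sum.inr) := by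
    rw [← dotProduct_add]
    rfl
  rw [this, dotProduct_cornerM_mulVec]
  rfl

theorem quadG_spRegU [CharP F 2] (k : ℕ) (x : Fin (k + 1) ⊕ Fin (k + 1) → F) :
    (spRegU F (k + 1) *ᵥ x) ⬝ᵥ (quadG F (k + 1) *ᵥ (spRegU F (k + 1) *ᵥ x)) =
      x ⬝ᵥ (quadG F (k + 1) *ᵥ x) := by
  rw [quadG_form, quadG_form]
  set a := x ∘ Sum.inl with ha
  set c := x ∘ Sum.inr with hc
  have hu : spRegU F (k + 1) *ᵥ x = Sum.elim (geomL F (k + 1) *ᵥ (a + cornerM F (k + 1) *ᵥ c))
      ((1 - shiftM F (k + 1))ᵀ *ᵥ c) := by
    unfold spRegU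
    rw [fromBlocks_mulVec, Matrix.zero_mulVec, zero_add, Matrix.mulVec_add, Matrix.mulVec_mulVec,
      Matrix.transpose_sub, Matrix.transpose_one]
  rw [hu]
  have e1 : (Sum.elim (geomL F (k + 1) *ᵥ (a + cornerM F (k + 1) *ᵥ c))
      ((1 - shiftM F (k + 1))ᵀ *ᵥ c) : Fin (k + 1) ⊕ Fin (k + 1) → F) ∘ Sum.inl =
      geomL F (k + 1) *ᵥ (a + cornerM F (k + 1) *ᵥ c) := rfl
  have e2 : (Sum.elim (geomL F (k + 1) *ᵥ (a + cornerM F (k + 1) *ᵥ c))
      ((1 - shiftM F (k + 1))ᵀ *ᵥ c) : Fin (k + 1) ⊕ Fin (k + 1) → F) ∘ Sum.inr =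
      (1 - shiftM F (k + 1))ᵀ *ᵥ c := rfl
  rw [e1, e2, Sum.elim_inl, geomL_mulVec_last]
  rw [mulVec_dotProduct_transpose, Matrix.mulVec_mulVec, ← Matrix.transpose_mul, mul_geomL,
    Matrix.transpose_one, Matrix.one_mulVec, add_dotProduct]
  rw [dotProduct_comm (cornerM F (k + 1) *ᵥ c) c, dotProduct_cornerM_mulVec]
  simp only [Pi.add_apply]
  rw [cornerM_mulVec_last _ _ (by simp)]
  have h2 : (2 : F) = 0 := CharTwo.two_eq_zero
  have hal : x (Sum.inl (Fin.last k)) = a (Fin.last k) := rfl
  rw [hal]
  linear_combination (a (Fin.last k) * c (Fin.last k) + c (Fin.last k) * c (Fin.last k)) * h2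

theorem quadG_add_transpose [CharP F 2] (m : ℕ) : quadG F m + (quadG F m)ᵀ = Matrix.J (Fin m) F := by
  unfold quadG Matrix.J
  rw [fromBlocks_transpose, fromBlocks_add]
  have h2 : (2 : F) = 0 := CharTwo.two_eq_zero
  have h1 : (-1 : Matrix (Fin m) (Fin m) F) = 1 := by
    rw [neg_eq_iff_add_eq_zero]
    ext i j
    simp only [Matrix.add_apply, Matrix.zero_apply]
    rw [← two_mul, h2, zero_mul]
  congr 1
  · rw [cornerM_transpose]
    ext i j
    simp only [Matrix.add_apply, Matrix.zero_apply]
    rw [← two_mul, h2, zero_mul]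
  · rw [Matrix.transpose_zero, add_zero, h1]
  · rw [Matrix.transpose_one, zero_add]
  · rw [Matrix.transpose_zero, add_zero]

/-- in characteristic two a single Jordan block of even size is realised by an isometry of a
quadratic form with non-degenerate polar form -/
theorem qrealizes_single [CharP F 2] (k : ℕ) : QRealizes F {2 * (k + 1)} := by
  apply qrealizes_of_form (Matrix.toBilin' (quadG F (k + 1))) (Matrix.toLin' (spRegU F (k + 1)))
  · have : Matrix.toBilin' (quadG F (k + 1)) + (Matrix.toBilin' (quadG F (k + 1))).flip =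
        stdSp F (k + 1) := by
      unfold stdSp
      rw [← quadG_add_transpose, map_add]
      congr 1
      apply LinearMap.ext
      intro x
      apply LinearMap.ext
      intro y
      show Matrix.toBilin' (quadG F (k + 1)) y x = _
      rw [Matrix.toBilin'_apply', Matrix.toBilin'_apply', dotProduct_comm,
        mulVec_dotProduct_transpose]
    rw [this]
    exact stdSp_nondegenerate
  · intro x
    rw [Matrix.toBilin'_apply', Matrix.toBilin'_apply', Matrix.toLin'_apply, quadG_spRegU]
  · rw [toLin'_sub_one]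
    refine ⟨2 * (k + 1), ?_⟩
    unfold nilPart
    rw [← Matrix.toLin'_pow, spRegU_sub_one_pow, map_zero]
  · intro j
    rw [toLin'_sub_one]
    apply dker_of_regular
    · rw [Module.finrank_fintype_fun_eq_card, Fintype.card_sum, Fintype.card_fin]
      ring
    · unfold nilPart
      rw [← Matrix.toLin'_pow, spRegU_sub_one_pow, map_zero]
    · exact spRegU_finrank_ker k

theorem qrealizes_char_two [CharP F 2] (μ : Multiset ℕ) (h1 : ∀ b ∈ μ, 1 ≤ b)
    (hpar : ∀ j, Odd j → Even (μ.count j)) : QRealizes F μ := by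
  apply parity_induction (QRealizes F) qrealizes_zero (fun _ _ => qrealizes_add) Even ?_ ?_
    (Multiset.card μ) μ rfl h1
  · intro j hj
    exact hpar j (Nat.not_even_iff_odd.1 hj)
  · intro b hb1 hb
    obtain ⟨c, hc⟩ := hb
    have : b = 2 * ((c - 1) + 1) := by omega
    rw [this]
    exact qrealizes_single (c - 1)
  · intro b _
    exact qrealizes_double {b}

end chartwo

end Cfsg.Agent.Lib.Helper43
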