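import Mathlib

set_option autoImplicit false

namespace Cfsg.Agent.Lib.Helper43

open Polynomial

variable {K : Type*} [Field K]

open Classical in
/-- the top-coefficient functional on `K[X]/(g)` -/
noncomputable def topCoeff (g : K[X]) : AdjoinRoot g →ₗ[K] K :=
  if h : g ≠ 0 ∧ 0 < g.natDegree then
    (AdjoinRoot.powerBasis h.1).basis.coord ⟨g.natDegree - 1, by
      rw [AdjoinRoot.powerBasis_dim]; omega⟩
  else 0

theorem coord_powerBasis_mk_aux (g : K[X]) (pb : PowerBasis K (AdjoinRoot g))
    (hgen : pb.gen = AdjoinRoot.root g) (hdim : pb.dim = g.natDegree) (s : K[X])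
    (hs : s.natDegree < g.natDegree) (idx : Fin pb.dim) :
    pb.basis.coord idx (AdjoinRoot.mk g s) = s.coeff (idx : ℕ) := by
  classical
  have hs' : AdjoinRoot.mk g s = ∑ i : Fin pb.dim, s.coeff (i : ℕ) • pb.basis i := by
    conv_lhs => rw [Polynomial.as_sum_range' s g.natDegree hs]
    rw [map_sum, ← hdim, Finset.sum_range]
    apply Finset.sum_congr rfl
    intro i _
    rw [PowerBasis.coe_basis, ← C_mul_X_pow_eq_monomial, map_mul, map_pow, AdjoinRoot.mk_C,
      AdjoinRoot.mk_X, Algebra.smul_def, AdjoinRoot.algebraMap_eq, hgen]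
  rw [hs', Module.Basis.coord_apply, map_sum]
  simp only [map_smul, Module.Basis.repr_self, Finsupp.coe_finset_sum, Finset.sum_apply,
    Finsupp.smul_apply, Finsupp.single_apply, smul_eq_mul, mul_ite, mul_one, mul_zero]
  rw [Finset.sum_eq_single idx]
  · simp
  · intro j _ hj
    rw [if_neg hj]
  · intro h
    exact absurd (Finset.mem_univ _) h

theorem coord_powerBasis_mk (g : K[X]) (hg : g ≠ 0) (s : K[X])
    (hs : s.natDegree < g.natDegree) (idx : Fin (AdjoinRoot.powerBasis hg).dim) :
    (AdjoinRoot.powerBasis hg).basis.coord idx (AdjoinRoot.mk g s) = s.coeff (idx : ℕ) :=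
  coord_powerBasis_mk_aux g _ (AdjoinRoot.powerBasis_gen hg) (AdjoinRoot.powerBasis_dim hg) s hs idx

theorem topCoeff_mk (g : K[X]) (hg : g ≠ 0) (hd : 0 < g.natDegree) (s : K[X])
    (hs : s.natDegree < g.natDegree) :
    topCoeff g (AdjoinRoot.mk g s) = s.coeff (g.natDegree - 1) := by
  unfold topCoeff
  rw [dif_pos ⟨hg, hd⟩]
  exact coord_powerBasis_mk g hg s hs _

theorem topCoeff_nondeg (g : K[X]) (hg : g ≠ 0) (a : AdjoinRoot g)
    (ha : ∀ b : AdjoinRoot g, topCoeff g (a * b) = 0) : a = 0 := by
  obtain ⟨s₀, rfl⟩ := AdjoinRoot.mk_surjective a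
  by_cases hd : 0 < g.natDegree
  · set s := s₀ % g with hsdef
    have hmk : AdjoinRoot.mk g s₀ = AdjoinRoot.mk g s := by
      rw [AdjoinRoot.mk_eq_mk, hsdef, EuclideanDomain.mod_eq_sub_mul_div]
      simp
    rw [hmk] at ha ⊢
    by_contra hne
    have hs0 : s ≠ 0 := by
      rintro h
      rw [h, map_zero] at hne
      exact hne rfl
    have hdeg : s.degree < g.degree := Polynomial.degree_mod_lt s₀ hg
    have hnat : s.natDegree < g.natDegree := Polynomial.natDegree_lt_natDegree hs0 hdeg
    obtain ⟨k, hk⟩ : ∃ k, g.natDegree - 1 = s.natDegree + k :=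
      ⟨g.natDegree - 1 - s.natDegree, by omega⟩
    have h1 := ha (AdjoinRoot.mk g (X ^ k))
    rw [← map_mul, topCoeff_mk g hg hd] at h1
    · rw [hk, Polynomial.coeff_mul_X_pow] at h1
      exact hs0 (Polynomial.leadingCoeff_eq_zero.mp h1)
    · rw [Polynomial.natDegree_mul_X_pow _ hs0]
      omega
  · have hunit : IsUnit g := by
      rw [Polynomial.isUnit_iff]
      have h0 : g.natDegree = 0 := by omega
      rw [Polynomial.natDegree_eq_zero] at h0
      obtain ⟨c, rfl⟩ := h0
      refine ⟨c, ?_, rfl⟩
      rw [isUnit_iff_ne_zero]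
      rintro rfl
      simp at hg
    rw [AdjoinRoot.mk_eq_zero]
    exact hunit.dvd

open scoped DirectSum

/-- every endomorphism is self-adjoint for some nondegenerate symmetric bilinear form -/
theorem exists_selfadjoint_form {V : Type*} [AddCommGroup V] [Module K V]
    [FiniteDimensional K V] (φ : V →ₗ[K] V) :
    ∃ B : LinearMap.BilinForm K V, B.Nondegenerate ∧ (∀ v w, B v w = B w v) ∧
      ∀ v w, B (φ v) w = B v (φ w) := by
  classical
  have htors : Module.IsTorsion K[X] (Module.AEval' φ) :=
    Module.AEval.isTorsion_of_finiteDimensional K V φ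
  obtain ⟨ι, _, p, hp, e, ⟨E⟩⟩ := Module.equiv_directSum_of_isTorsion htors
  have hg : ∀ i, p i ^ e i ≠ 0 := fun i => pow_ne_zero _ (hp i).ne_zero
  let T : V → ∀ i, AdjoinRoot (p i ^ e i) := fun v i => (E (Module.AEval'.of φ v)) i
  have T_add : ∀ v w i, T (v + w) i = T v i + T w i := by
    intro v w i
    show (E (Module.AEval'.of φ (v + w))) i = _
    rw [map_add, map_add, DirectSum.add_apply]
    rfl
  have T_smul : ∀ (c : K) v i, T (c • v) i = c • T v i := by
    intro c v i
    show (E (Module.AEval'.of φ (c • v))) i = _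
    rw [map_smul, ← algebraMap_smul K[X] c (Module.AEval'.of φ v), map_smul, DirectSum.smul_apply,
      algebraMap_smul]
    rfl
  have T_X : ∀ v i, T (φ v) i = AdjoinRoot.root (p i ^ e i) * T v i := by
    intro v i
    simp only [T]
    rw [← Module.AEval'.X_smul_of, map_smul, DirectSum.smul_apply, Algebra.smul_def]
    rfl
  have T_inj : ∀ v, (∀ i, T v i = 0) → v = 0 := by
    intro v hv
    have h1 : E (Module.AEval'.of φ v) = 0 := by
      apply DFinsupp.ext
      intro i
      exact hv i
    have h2 := E.injective (h1.trans (map_zero E).symm)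
    exact (Module.AEval'.of φ).injective (h2.trans (map_zero _).symm)
  have T_single : ∀ i (b : AdjoinRoot (p i ^ e i)), ∃ w, T w i = b ∧ ∀ j, j ≠ i → T w j = 0 := by
    intro i b
    refine ⟨(Module.AEval'.of φ).symm (E.symm
      (DirectSum.of (fun i => K[X] ⧸ K[X] ∙ p i ^ e i) i b)), ?_, ?_⟩
    · simp only [T, LinearEquiv.apply_symm_apply]
      exact DirectSum.of_eq_same (β := fun i => K[X] ⧸ K[X] ∙ p i ^ e i) i b
    · intro j hj
      simp only [T, LinearEquiv.apply_symm_apply]
      exact DirectSum.of_eq_of_ne (β := fun i => K[X] ⧸ K[X] ∙ p i ^ e i) i j b hj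
  let f : V → V → K := fun v w => ∑ i, topCoeff (p i ^ e i) (T v i * T w i)
  let B : LinearMap.BilinForm K V := LinearMap.mk₂ K f
    (by
      intro v v' w
      simp only [f, T_add, add_mul, map_add, Finset.sum_add_distrib])
    (by
      intro c v w
      simp only [f, T_smul, smul_mul_assoc, map_smul, Finset.smul_sum])
    (by
      intro v w w'
      simp only [f, T_add, mul_add, map_add, Finset.sum_add_distrib])
    (by
      intro c v w
      simp only [f, T_smul, mul_smul_comm, map_smul, Finset.smul_sum])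
  have hB : ∀ v w, B v w = ∑ i, topCoeff (p i ^ e i) (T v i * T w i) := fun v w => rfl
  have hsymm : ∀ v w, B v w = B w v := by
    intro v w
    rw [hB, hB]
    apply Finset.sum_congr rfl
    intro i _
    rw [mul_comm]
  have hleft : ∀ v, (∀ w, B v w = 0) → v = 0 := by
    intro v hv
    apply T_inj
    intro i
    apply topCoeff_nondeg _ (hg i)
    intro b
    obtain ⟨w, hw1, hw2⟩ := T_single i b
    have := hv w
    rw [hB, Finset.sum_eq_single i] at this
    · rw [hw1] at this
      exact this
    · intro j _ hj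
      rw [hw2 j hj, mul_zero, map_zero]
    · intro h
      exact absurd (Finset.mem_univ _) h
  refine ⟨B, ⟨hleft, ?_⟩, hsymm, ?_⟩
  · intro w hw
    apply hleft
    intro v
    rw [hsymm]
    exact hw v
  · intro v w
    rw [hB, hB]
    apply Finset.sum_congr rfl
    intro i _
    rw [T_X, T_X]
    congr 1
    ring

end Cfsg.Agent.Lib.Helper43
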