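import Cfsg.Agent.Lib.Helper43.FwDefs
import Cfsg.Agent.Lib.Helper35.FwSETUP
import Cfsg.Agent.Lib.Helper29.FwT0
import Cfsg.Agent.Lib.Helper25.FwRHO
import Cfsg.Agent.Lib.Helper97.FwCONJ
import Cfsg.Agent.Lib.Helper27.FwCOUNTcore
import Cfsg.Agent.Lib.Helper70.FwOUT
import Cfsg.Agent.Lib.Helper5.FwZIN
import Cfsg.Agent.Lib.Helper65.FwNOUT
import Cfsg.Agent.Lib.Helper69.FwTOP

/-! # Fw hive (S3211): assembly.  `j` is isolated (counting square roots), then Glauberman's Z*-theorem. -/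

set_option autoImplicit false

namespace Cfsg.Agent.Lib.Helper43.Fw

variable {G : Type*} [Group G] {L₁ L₂ : Subgroup G} {j n : G}

/-- FW-COUNT, assembled from helper27's core and the leaves OUT, ZIN, NOUT, T0 -/
theorem fwmain_count_lt [Finite G] (h : Setup L₁ L₂ j n) (x₁ : G) (hx : x₁ ∈ L₁) (hxx : x₁ * x₁ = j) :
    Nat.card {y : G // y * y = t0 n x₁ ∧ y * j = j * y} <
      Nat.card {y : G // y * y = j ∧ y * t0 n x₁ = t0 n x₁ * y} :=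
  fwcount_core h x₁ hx hxx (t0_props h x₁ hx hxx)
    (fun y hy hyY hyy => out_rel h x₁ hx hxx y hy hyY hyy)
    (fun y y' hy hy' hyy hyy' => zin h x₁ hx hxx y y' hy hy' hyy hyy')
    (n_not_mem h)

theorem isolated [Finite G] (h : Setup L₁ L₂ j n) (hj : orderOf j = 2) : Cfsg.IsIsolatedInvolution j := by
  refine ⟨hj, ?_⟩
  intro g hcomm
  by_contra hne
  obtain ⟨x₁, hx, hxx⟩ := h.ex1
  obtain ⟨hT1, hT2, hT3, hT4, hT5, hT6, hT7, hT8, hT9, hT10⟩ := t0_props h x₁ hx hxx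
  obtain ⟨ρ, hρ1, hρ2⟩ := exists_rho (j := j) (t0 n x₁) hT6.symm hT4 h.jsq h.jne
    (fun s hs hss hs1 hsj => conj_t0 h x₁ hx hxx s hs hss hs1 hsj) g hcomm hne
  have hlt := fwmain_count_lt h x₁ hx hxx
  have hle : Nat.card {y : G // y * y = j ∧ y * t0 n x₁ = t0 n x₁ * y} ≤
      Nat.card {y : G // y * y = t0 n x₁ ∧ y * j = j * y} := by
    apply Nat.card_le_card_of_injective
      (fun y : {y : G // y * y = j ∧ y * t0 n x₁ = t0 n x₁ * y} =>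
        (⟨ρ * y.1 * ρ⁻¹, by
          obtain ⟨y, hy1, hy2⟩ := y
          constructor
          · calc ρ * y * ρ⁻¹ * (ρ * y * ρ⁻¹) = ρ * (y * y) * ρ⁻¹ := by group
              _ = t0 n x₁ := by rw [hy1, hρ1]
          · calc ρ * y * ρ⁻¹ * j = ρ * y * ρ⁻¹ * (ρ * t0 n x₁ * ρ⁻¹) := by rw [hρ2]
              _ = ρ * (y * t0 n x₁) * ρ⁻¹ := by group
              _ = ρ * (t0 n x₁ * y) * ρ⁻¹ := by rw [hy2]
              _ = (ρ * t0 n x₁ * ρ⁻¹) * (ρ * y * ρ⁻¹) := by group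
              _ = j * (ρ * y * ρ⁻¹) := by rw [hρ2]⟩ :
          {y : G // y * y = t0 n x₁ ∧ y * j = j * y}))
    intro y y' hyy'
    have := congrArg Subtype.val hyy'
    simp only at this
    apply Subtype.ext
    have h2 : ρ⁻¹ * (ρ * y.1 * ρ⁻¹) * ρ = ρ⁻¹ * (ρ * y'.1 * ρ⁻¹) * ρ := by rw [this]
    simpa [mul_assoc] using h2
  omega

theorem main [Finite G] {F₁ : Type*} [Field F₁] [Fintype F₁] {F₂ : Type*} [Field F₂] [Fintype F₂]
    (hF₁ : Odd (Fintype.card F₁)) (hF₂ : Odd (Fintype.card F₂)) (L₁ L₂ : Subgroup G)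
    (e₁ : ↥L₁ ≃* Matrix.SpecialLinearGroup (Fin 2) F₁) (e₂ : ↥L₂ ≃* Matrix.SpecialLinearGroup (Fin 2) F₂)
    (hc : ∀ x ∈ L₁, ∀ y ∈ L₂, x * y = y * x) (j : G) (hj : orderOf j = 2) (hm : L₁ ⊓ L₂ = Subgroup.zpowers j)
    (hle : L₁ ⊔ L₂ ≤ Subgroup.centralizer ({j} : Set G))
    (hi : (L₁ ⊔ L₂).relIndex (Subgroup.centralizer ({j} : Set G)) = 2) (n : G)
    (hn : n ∈ Subgroup.centralizer ({j} : Set G)) (hn2 : n ^ 2 = j)
    (hswap : L₁.map (MulAut.conj n).toMonoidHom = L₂) :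
    Subgroup.centralizer ({j} : Set G) ⊔ Cfsg.oddCore G = ⊤ :=
  top_of_isolated j (isolated (setup_of_hyps hF₁ hF₂ L₁ L₂ e₁ e₂ hc j hj hm hle hi n hn hn2 hswap) hj)

end Cfsg.Agent.Lib.Helper43.Fw
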