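import Cfsg.Agent.Lib.Helper43.InvolAdjoin
import Cfsg.Agent.Lib.Helper13.GU

/-!
# Square roots of Hermitian matrices over a finite field, and the unitary group

`cT σ X = (X.map σ)ᵀ` (conjugate transpose).  For an invertible `S` with `cT σ S = S` there is
`x ∈ K[S]` with `cT σ x * x = S`.
-/

set_option autoImplicit false

namespace Cfsg.Agent.Lib.Helper43.HermSqrt

open Matrix Cfsg.Agent.Lib.Helper43.InvolRing

variable {K : Type*} [Field K] {n : Type*} [Fintype n] [DecidableEq n]

/-- conjugate transpose with respect to `σ` -/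
def cT (σ : K →+* K) (X : Matrix n n K) : Matrix n n K := (X.map σ)ᵀ

theorem cT_apply (σ : K →+* K) (X : Matrix n n K) (i j : n) : cT σ X i j = σ (X j i) := rfl

theorem cT_mul (σ : K →+* K) (X Y : Matrix n n K) : cT σ (X * Y) = cT σ Y * cT σ X := by
  unfold cT
  rw [Matrix.map_mul, Matrix.transpose_mul]

theorem cT_add (σ : K →+* K) (X Y : Matrix n n K) : cT σ (X + Y) = cT σ X + cT σ Y := by
  ext i j
  simp [cT_apply]

theorem cT_one (σ : K →+* K) : cT σ (1 : Matrix n n K) = 1 := by
  ext i j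
  rw [cT_apply, Matrix.one_apply, Matrix.one_apply]
  by_cases h : i = j
  · subst h
    simp
  · rw [if_neg h, if_neg (fun h' => h h'.symm), map_zero]

theorem cT_smul (σ : K →+* K) (a : K) (X : Matrix n n K) : cT σ (a • X) = σ a • cT σ X := by
  ext i j
  simp [cT_apply]

theorem cT_cT (σ : K →+* K) (hσ : ∀ a, σ (σ a) = a) (X : Matrix n n K) : cT σ (cT σ X) = X := by
  ext i j
  rw [cT_apply, cT_apply, hσ]

theorem semiAnti_cT (σ : K →+* K) : SemiAnti σ (cT σ : Matrix n n K → Matrix n n K) where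
  one := cT_one σ
  add := cT_add σ
  mul := cT_mul σ
  smul := cT_smul σ

theorem det_cT (σ : K →+* K) (X : Matrix n n K) : (cT σ X).det = σ X.det := by
  unfold cT
  rw [Matrix.det_transpose]
  exact (RingHom.map_det σ X).symm

/-- twisted version `X ↦ c⁻¹ X⋆ c` -/
theorem semiAnti_twist (σ : K →+* K) (c d : Matrix n n K) (hcd : c * d = 1) (hdc : d * c = 1) :
    SemiAnti σ (fun X : Matrix n n K => d * cT σ X * c) where
  one := by
    show d * cT σ 1 * c = 1
    rw [cT_one, mul_one, hdc]
  add := fun X Y => by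
    show d * cT σ (X + Y) * c = d * cT σ X * c + d * cT σ Y * c
    rw [cT_add, mul_add, add_mul]
  mul := fun X Y => by
    show d * cT σ (X * Y) * c = (d * cT σ Y * c) * (d * cT σ X * c)
    rw [cT_mul]
    calc d * (cT σ Y * cT σ X) * c = d * cT σ Y * 1 * (cT σ X * c) := by
          rw [mul_one]; simp only [mul_assoc]
      _ = (d * cT σ Y * c) * (d * cT σ X * c) := by
          rw [← hcd]; simp only [mul_assoc]
  smul := fun a X => by
    show d * cT σ (a • X) * c = σ a • (d * cT σ X * c)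
    rw [cT_smul, Matrix.mul_smul, Matrix.smul_mul]

variable [Fintype K]

/-- square root of a Hermitian invertible matrix, inside `K[S]` -/
theorem herm_sqrt (σ : K →+* K) (hσ : ∀ a, σ (σ a) = a) (c₀ : K) (hc₀ : c₀ - σ c₀ ≠ 0)
    (S : Matrix n n K) (hS : cT σ S = S) (hSu : IsUnit S) :
    ∃ x : Matrix n n K, x * cT σ x = S ∧ cT σ x * x = S ∧
      ∀ g : Matrix n n K, g * S = S * g → g * x = x * g := by
  have hs : cT σ S ∈ Algebra.adjoin K {S} := by
    rw [hS]
    exact Algebra.subset_adjoin (Set.mem_singleton S)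
  have hTT : cT σ (cT σ S) = S := cT_cT σ hσ S
  obtain ⟨x, hx, hxS⟩ := (exists_both (semiAnti_cT σ) hσ c₀ hc₀ S hs hTT).1 S
    (Algebra.subset_adjoin (Set.mem_singleton S)) hSu hS
  refine ⟨x, hxS, ?_, ?_⟩
  · rw [← adjoin_comm S x (cT σ x) hx ((semiAnti_cT σ).mem_adjoin S hs x hx)]
    exact hxS
  · intro g hg
    exact commute_adjoin S g hg x hx

end Cfsg.Agent.Lib.Helper43.HermSqrt
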