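import Cfsg.Agent.Lib.Helper43.InvolRing

/-!
# Norm surjectivity and Hilbert 90 inside `K[s]`

`R` a finite `K`-algebra, `T` a `σ`-semilinear anti-automorphism with `T s ∈ K[s]`, `T (T s) = s`,
`σ` an involution of `K` that is not the identity.
-/

set_option autoImplicit false

namespace Cfsg.Agent.Lib.Helper43.InvolRing

variable {K : Type*} [Field K] {R : Type*} [Ring R] [Algebra K R]

/-- a `σ`-semilinear ring anti-endomorphism -/
structure SemiAnti (σ : K →+* K) (T : R → R) : Prop where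
  one : T 1 = 1
  add : ∀ x y, T (x + y) = T x + T y
  mul : ∀ x y, T (x * y) = T y * T x
  smul : ∀ (a : K) (x : R), T (a • x) = σ a • T x

variable {σ : K →+* K} {T : R → R}

theorem SemiAnti.algebraMap (hT : SemiAnti σ T) (a : K) :
    T (algebraMap K R a) = algebraMap K R (σ a) := by
  rw [Algebra.algebraMap_eq_smul_one, hT.smul, hT.one, Algebra.algebraMap_eq_smul_one]

theorem SemiAnti.mem_adjoin (hT : SemiAnti σ T) (s : R) (hs : T s ∈ Algebra.adjoin K {s})
    (x : R) (hx : x ∈ Algebra.adjoin K {s}) : T x ∈ Algebra.adjoin K {s} := by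
  induction hx using Algebra.adjoin_induction with
  | mem y hy =>
    rw [Set.mem_singleton_iff] at hy
    rw [hy]
    exact hs
  | algebraMap r =>
    rw [hT.algebraMap]
    exact Subalgebra.algebraMap_mem _ _
  | add x y _ _ hx hy =>
    rw [hT.add]
    exact add_mem hx hy
  | mul x y _ _ hx hy =>
    rw [hT.mul]
    exact mul_mem hy hx

theorem SemiAnti.invol_adjoin (hT : SemiAnti σ T) (hσ : ∀ a, σ (σ a) = a) (s : R)
    (hTT : T (T s) = s) (x : R) (hx : x ∈ Algebra.adjoin K {s}) : T (T x) = x := by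
  induction hx using Algebra.adjoin_induction with
  | mem y hy =>
    rw [Set.mem_singleton_iff] at hy
    rw [hy]
    exact hTT
  | algebraMap r =>
    rw [hT.algebraMap, hT.algebraMap, hσ]
  | add x y _ _ hx hy =>
    rw [hT.add, hT.add, hx, hy]
  | mul x y _ _ hx hy =>
    rw [hT.mul, hT.mul, hx, hy]

theorem adjoin_comm (s : R) (x y : R) (hx : x ∈ Algebra.adjoin K {s})
    (hy : y ∈ Algebra.adjoin K {s}) : x * y = y * x := by
  letI : CommRing (Algebra.adjoin K {s}) := Algebra.adjoinCommRingOfComm K (by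
    intro a ha b hb
    rw [Set.mem_singleton_iff] at ha hb
    rw [ha, hb])
  have := mul_comm (⟨x, hx⟩ : Algebra.adjoin K {s}) ⟨y, hy⟩
  exact congrArg Subtype.val this

/-- anything commuting with `s` commutes with `K[s]` -/
theorem commute_adjoin (s g : R) (hg : g * s = s * g) (x : R) (hx : x ∈ Algebra.adjoin K {s}) :
    g * x = x * g := by
  induction hx using Algebra.adjoin_induction with
  | mem y hy =>
    rw [Set.mem_singleton_iff] at hy
    rw [hy]
    exact hg
  | algebraMap r =>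
    exact (Algebra.commutes r g).symm
  | add x y _ _ hx hy =>
    rw [mul_add, add_mul, hx, hy]
  | mul x y _ _ hx hy =>
    rw [← mul_assoc, hx, mul_assoc, hy, mul_assoc]

theorem exists_inv_mem [Finite R] (S : Subalgebra K R) (z : R) (hz : z ∈ S) (hzu : IsUnit z) :
    ∃ w ∈ S, z * w = 1 ∧ w * z = 1 := by
  obtain ⟨u, rfl⟩ := hzu
  have hfin : IsOfFinOrder u := isOfFinOrder_of_finite u
  have hpos : 0 < orderOf u := hfin.orderOf_pos
  have hpow : u ^ orderOf u = 1 := pow_orderOf_eq_one u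
  have hpow' : (u : R) ^ orderOf u = 1 := by
    rw [← Units.val_pow_eq_pow_val, hpow, Units.val_one]
  refine ⟨(u : R) ^ (orderOf u - 1), pow_mem hz _, ?_, ?_⟩
  · rw [← pow_succ', Nat.sub_add_cancel hpos, hpow']
  · rw [← pow_succ, Nat.sub_add_cancel hpos, hpow']

section main

variable [Finite R] (hT : SemiAnti σ T) (hσ : ∀ a, σ (σ a) = a) (c₀ : K) (hc₀ : c₀ - σ c₀ ≠ 0)
  (s : R) (hs : T s ∈ Algebra.adjoin K {s}) (hTT : T (T s) = s)

include hT hσ hc₀ hs hTT

theorem exists_both :
    (∀ z ∈ Algebra.adjoin K {s}, IsUnit z → T z = z →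
      ∃ x ∈ Algebra.adjoin K {s}, x * T x = z) ∧
    (∀ z ∈ Algebra.adjoin K {s}, z * T z = 1 →
      ∃ y ∈ Algebra.adjoin K {s}, IsUnit y ∧ z * T y = y) := by
  letI : CommRing (Algebra.adjoin K {s}) := Algebra.adjoinCommRingOfComm K (by
    intro a ha b hb
    rw [Set.mem_singleton_iff] at ha hb
    rw [ha, hb])
  have hmem := hT.mem_adjoin s hs
  have hinv := hT.invol_adjoin hσ s hTT
  let τ : Algebra.adjoin K {s} →+* Algebra.adjoin K {s} :=
    { toFun := fun x => ⟨T x.1, hmem x.1 x.2⟩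
      map_one' := Subtype.ext hT.one
      map_mul' := fun x y => by
        apply Subtype.ext
        show T (x.1 * y.1) = T x.1 * T y.1
        rw [hT.mul]
        exact adjoin_comm s _ _ (hmem y.1 y.2) (hmem x.1 x.2)
      map_zero' := by
        apply Subtype.ext
        show T 0 = 0
        have := hT.add 0 0
        rw [add_zero] at this
        exact left_eq_add.mp this
      map_add' := fun x y => Subtype.ext (hT.add x.1 y.1) }
  have hτval : ∀ x : Algebra.adjoin K {s}, ((τ x : Algebra.adjoin K {s}) : R) = T x.1 := fun _ => rfl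
  have hττ : ∀ x, τ (τ x) = x := fun x => Subtype.ext (hinv x.1 x.2)
  let c : Algebra.adjoin K {s} := ⟨algebraMap K R c₀, Subalgebra.algebraMap_mem _ _⟩
  have hc : IsUnit (c - τ c) := by
    let d : Algebra.adjoin K {s} := ⟨algebraMap K R (c₀ - σ c₀)⁻¹, Subalgebra.algebraMap_mem _ _⟩
    have h1 : (c - τ c) * d = 1 := by
      apply Subtype.ext
      show (algebraMap K R c₀ - T (algebraMap K R c₀)) * algebraMap K R (c₀ - σ c₀)⁻¹ = 1
      rw [hT.algebraMap, ← map_sub, ← map_mul, mul_inv_cancel₀ hc₀, map_one]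
    exact IsUnit.of_mul_eq_one _ h1
  constructor
  · intro z hz hzu hzT
    obtain ⟨w, hw, hzw, hwz⟩ := exists_inv_mem (Algebra.adjoin K {s}) z hz hzu
    have hzu' : IsUnit (⟨z, hz⟩ : Algebra.adjoin K {s}) := by
      have h1 : (⟨z, hz⟩ : Algebra.adjoin K {s}) * ⟨w, hw⟩ = 1 := Subtype.ext hzw
      exact IsUnit.of_mul_eq_one _ h1
    obtain ⟨x, _, hx⟩ := norm_surjective τ hττ c hc ⟨z, hz⟩ hzu' (Subtype.ext hzT)
    refine ⟨x.1, x.2, ?_⟩
    exact congrArg Subtype.val hx
  · intro z hz hzN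
    obtain ⟨y, hyu, hy⟩ := hilbert90 τ hττ c hc ⟨z, hz⟩ (Subtype.ext hzN)
    refine ⟨y.1, y.2, ?_, congrArg Subtype.val hy⟩
    exact hyu.map (Algebra.adjoin K {s}).val

end main

end Cfsg.Agent.Lib.Helper43.InvolRing
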