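import Cfsg.Agent.Lib.Helper43.InvolAdjoin

/-!
# Idempotent version of norm surjectivity, and the version for several commuting generators
-/

set_option autoImplicit false

namespace Cfsg.Agent.Lib.Helper43.InvolRing

section abstract

variable {E : Type*} [CommRing E] [Finite E]

/-- the annihilator of an element, as an ideal -/
def annIdeal (e : E) : Ideal E where
  carrier := {x | x * e = 0}
  add_mem' := fun {x y} hx hy => by
    show (x + y) * e = 0
    rw [add_mul, hx, hy, add_zero]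
  zero_mem' := zero_mul e
  smul_mem' := fun r x hx => by
    show (r • x) * e = 0
    rw [smul_eq_mul, mul_assoc, hx, mul_zero]

theorem mem_annIdeal (e x : E) : x ∈ annIdeal e ↔ x * e = 0 := Iff.rfl

/-- norm surjectivity on the part cut out by a fixed idempotent -/
theorem norm_surjective_idem (τ : E →+* E) (hτ : ∀ x, τ (τ x) = x) (e : E) (he : e * e = e)
    (hτe : τ e = e) (c d : E) (hcd : (c - τ c) * d = e) (s : E) (hs : IsUnit s)
    (hfix : τ s = s) : ∃ x : E, IsUnit x ∧ x * τ x * e = s * e := by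
  haveI : Finite (E ⧸ annIdeal e) :=
    Finite.of_surjective (Ideal.Quotient.mk (annIdeal e)) Ideal.Quotient.mk_surjective
  have hI : annIdeal e ≤ (annIdeal e).comap τ := by
    intro x hx
    rw [Ideal.mem_comap, mem_annIdeal]
    rw [mem_annIdeal] at hx
    rw [← hτe, ← map_mul, hx, map_zero]
  let τ' : E ⧸ annIdeal e →+* E ⧸ annIdeal e := Ideal.quotientMap (annIdeal e) τ hI
  have hτ'mk : ∀ x : E, τ' (Ideal.Quotient.mk (annIdeal e) x) =
      Ideal.Quotient.mk (annIdeal e) (τ x) := fun x => Ideal.quotientMap_mk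
  have hτ' : ∀ y, τ' (τ' y) = y := by
    intro y
    obtain ⟨x, rfl⟩ := Ideal.Quotient.mk_surjective y
    rw [hτ'mk, hτ'mk, hτ]
  have hmke : Ideal.Quotient.mk (annIdeal e) e = 1 := by
    rw [← map_one (Ideal.Quotient.mk (annIdeal e)), Ideal.Quotient.eq, mem_annIdeal, sub_mul,
      he, one_mul, sub_self]
  have hc' : IsUnit (Ideal.Quotient.mk (annIdeal e) c - τ' (Ideal.Quotient.mk (annIdeal e) c)) := by
    have h1 : (Ideal.Quotient.mk (annIdeal e) c - τ' (Ideal.Quotient.mk (annIdeal e) c)) *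
        Ideal.Quotient.mk (annIdeal e) d = 1 := by
      rw [hτ'mk, ← map_sub, ← map_mul, hcd, hmke]
    exact IsUnit.of_mul_eq_one _ h1
  have hs' : IsUnit (Ideal.Quotient.mk (annIdeal e) s) := hs.map _
  have hfix' : τ' (Ideal.Quotient.mk (annIdeal e) s) = Ideal.Quotient.mk (annIdeal e) s := by
    rw [hτ'mk, hfix]
  obtain ⟨x', hx'u, hx'⟩ := norm_surjective τ' hτ' _ hc' _ hs' hfix'
  obtain ⟨x₀, rfl⟩ := Ideal.Quotient.mk_surjective x'
  obtain ⟨y', hy'⟩ := hx'u.exists_right_inv
  obtain ⟨y₀, rfl⟩ := Ideal.Quotient.mk_surjective y'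
  have h1 : x₀ * y₀ * e = e := by
    rw [← map_mul, ← map_one (Ideal.Quotient.mk (annIdeal e)), Ideal.Quotient.eq, mem_annIdeal,
      sub_mul, one_mul] at hy'
    exact sub_eq_zero.1 hy'
  have h2 : x₀ * τ x₀ * e = s * e := by
    rw [hτ'mk, ← map_mul, Ideal.Quotient.eq, mem_annIdeal, sub_mul] at hx'
    exact sub_eq_zero.1 hx'
  refine ⟨x₀ * e + (1 - e), ?_, ?_⟩
  · have : (x₀ * e + (1 - e)) * (y₀ * e + (1 - e)) = 1 := by
      linear_combination (x₀ * y₀ - x₀ - y₀ + 1) * he + h1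
    exact IsUnit.of_mul_eq_one _ this
  · rw [map_add, map_mul, map_sub, map_one, hτe]
    linear_combination (x₀ * τ x₀ * (e + 1) - x₀ * e - τ x₀ * e + e - 1) * he + h2

end abstract

section adjoinSet

variable {K : Type*} [Field K] {R : Type*} [Ring R] [Algebra K R]
variable {σ : K →+* K} {T : R → R}

theorem SemiAnti.mem_adjoin_set (hT : SemiAnti σ T) (s : Set R)
    (hs : ∀ a ∈ s, T a ∈ Algebra.adjoin K s)
    (x : R) (hx : x ∈ Algebra.adjoin K s) : T x ∈ Algebra.adjoin K s := by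
  induction hx using Algebra.adjoin_induction with
  | mem y hy => exact hs y hy
  | algebraMap r =>
    rw [hT.algebraMap]
    exact Subalgebra.algebraMap_mem _ _
  | add x y _ _ hx hy =>
    rw [hT.add]
    exact add_mem hx hy
  | mul x y _ _ hx hy =>
    rw [hT.mul]
    exact mul_mem hy hx

theorem SemiAnti.invol_adjoin_set (hT : SemiAnti σ T) (hσ : ∀ a, σ (σ a) = a) (s : Set R)
    (hTT : ∀ a ∈ s, T (T a) = a) (x : R) (hx : x ∈ Algebra.adjoin K s) : T (T x) = x := by
  induction hx using Algebra.adjoin_induction with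
  | mem y hy => exact hTT y hy
  | algebraMap r =>
    rw [hT.algebraMap, hT.algebraMap, hσ]
  | add x y _ _ hx hy =>
    rw [hT.add, hT.add, hx, hy]
  | mul x y _ _ hx hy =>
    rw [hT.mul, hT.mul, hx, hy]

theorem adjoin_comm_set (s : Set R) (hcomm : ∀ a ∈ s, ∀ b ∈ s, a * b = b * a) (x y : R)
    (hx : x ∈ Algebra.adjoin K s) (hy : y ∈ Algebra.adjoin K s) : x * y = y * x := by
  letI : CommRing (Algebra.adjoin K s) := Algebra.adjoinCommRingOfComm K hcomm
  have := mul_comm (⟨x, hx⟩ : Algebra.adjoin K s) ⟨y, hy⟩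
  exact congrArg Subtype.val this

theorem commute_adjoin_set (s : Set R) (g : R) (hg : ∀ a ∈ s, g * a = a * g) (x : R)
    (hx : x ∈ Algebra.adjoin K s) : g * x = x * g := by
  induction hx using Algebra.adjoin_induction with
  | mem y hy => exact hg y hy
  | algebraMap r =>
    exact (Algebra.commutes r g).symm
  | add x y _ _ hx hy =>
    rw [mul_add, add_mul, hx, hy]
  | mul x y _ _ hx hy =>
    rw [← mul_assoc, hx, mul_assoc, hy, mul_assoc]

theorem exists_norm_idem [Finite R] (hT : SemiAnti σ T) (hσ : ∀ a, σ (σ a) = a) (s : Set R)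
    (hcomm : ∀ a ∈ s, ∀ b ∈ s, a * b = b * a) (hs : ∀ a ∈ s, T a ∈ Algebra.adjoin K s)
    (hTT : ∀ a ∈ s, T (T a) = a) (e c d : R) (he : e ∈ Algebra.adjoin K s)
    (hc : c ∈ Algebra.adjoin K s) (hd : d ∈ Algebra.adjoin K s) (hee : e * e = e)
    (hTe : T e = e) (hcd : (c - T c) * d = e) (z : R) (hz : z ∈ Algebra.adjoin K s)
    (hzu : IsUnit z) (hzT : T z = z) :
    ∃ x ∈ Algebra.adjoin K s, IsUnit x ∧ x * T x * e = z * e := by
  letI : CommRing (Algebra.adjoin K s) := Algebra.adjoinCommRingOfComm K hcomm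
  have hmem := hT.mem_adjoin_set s hs
  have hinv := hT.invol_adjoin_set hσ s hTT
  let τ : Algebra.adjoin K s →+* Algebra.adjoin K s :=
    { toFun := fun x => ⟨T x.1, hmem x.1 x.2⟩
      map_one' := Subtype.ext hT.one
      map_mul' := fun x y => by
        apply Subtype.ext
        show T (x.1 * y.1) = T x.1 * T y.1
        rw [hT.mul]
        exact adjoin_comm_set s hcomm _ _ (hmem y.1 y.2) (hmem x.1 x.2)
      map_zero' := by
        apply Subtype.ext
        show T 0 = 0
        have := hT.add 0 0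
        rw [add_zero] at this
        exact left_eq_add.mp this
      map_add' := fun x y => Subtype.ext (hT.add x.1 y.1) }
  have hττ : ∀ x, τ (τ x) = x := fun x => Subtype.ext (hinv x.1 x.2)
  obtain ⟨w, hw, hzw, hwz⟩ := exists_inv_mem (Algebra.adjoin K s) z hz hzu
  have hzu' : IsUnit (⟨z, hz⟩ : Algebra.adjoin K s) := by
    have h1 : (⟨z, hz⟩ : Algebra.adjoin K s) * ⟨w, hw⟩ = 1 := Subtype.ext hzw
    exact IsUnit.of_mul_eq_one _ h1
  obtain ⟨x, hxu, hx⟩ := norm_surjective_idem τ hττ (⟨e, he⟩ : Algebra.adjoin K s)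
    (Subtype.ext hee) (Subtype.ext hTe) ⟨c, hc⟩ ⟨d, hd⟩ (Subtype.ext hcd) ⟨z, hz⟩ hzu'
    (Subtype.ext hzT)
  exact ⟨x.1, x.2, hxu.map (Algebra.adjoin K s).val, congrArg Subtype.val hx⟩

end adjoinSet

end Cfsg.Agent.Lib.Helper43.InvolRing
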