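import Mathlib

/-!
# Finite commutative rings with an involution of the second kind

`E` a finite commutative ring, `τ` an involutive ring endomorphism such that `c - τ c` is a unit for
some `c`.  Then Hilbert 90 holds (`u * τ u = 1 → u = y / τ y` with `y` a unit) and the norm
`x ↦ x * τ x` maps the units onto the `τ`-fixed units.
-/

set_option autoImplicit false

namespace Cfsg.Agent.Lib.Helper43.InvolRing

variable {E : Type*} [CommRing E] [Finite E]

theorem finite_maximal : Finite {m : Ideal E // m.IsMaximal} := by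
  have : Finite (Ideal E) := Finite.of_injective (fun I : Ideal E => (I : Set E)) SetLike.coe_injective
  infer_instance

theorem comap_isMaximal (τ : E →+* E) (hτ : ∀ x, τ (τ x) = x) (m : Ideal E) (hm : m.IsMaximal) :
    (m.comap τ).IsMaximal := by
  have hsurj : Function.Surjective τ := fun x => ⟨τ x, hτ x⟩
  exact Ideal.comap_isMaximal_of_surjective τ hsurj

/-- Hilbert 90 -/
theorem hilbert90 (τ : E →+* E) (hτ : ∀ x, τ (τ x) = x) (c : E) (hc : IsUnit (c - τ c))
    (u : E) (hu : u * τ u = 1) : ∃ y : E, IsUnit y ∧ u * τ y = y := by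
  classical
  have hfin : Finite {m : Ideal E // m.IsMaximal} := finite_maximal
  let r : {m : Ideal E // m.IsMaximal} → E := fun m => if 1 + u ∈ m.1 then c else 1
  have hcop : Pairwise (Function.onFun IsCoprime (fun m : {m : Ideal E // m.IsMaximal} => m.1)) := by
    intro m m' hne
    show IsCoprime m.1 m'.1
    rw [Ideal.isCoprime_iff_sup_eq]
    exact Ideal.IsMaximal.coprime_of_ne m.2 m'.2 (fun h => hne (Subtype.ext h))
  obtain ⟨a, ha⟩ := Ideal.exists_forall_sub_mem_ideal hcop r
  refine ⟨a + u * τ a, ?_, ?_⟩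
  · by_contra hnu
    obtain ⟨m, hm, hmem⟩ := exists_max_ideal_of_mem_nonunits hnu
    have hm' : (m.comap τ).IsMaximal := comap_isMaximal τ hτ m hm
    -- the two congruences
    have h1 : a - r ⟨m, hm⟩ ∈ m := ha ⟨m, hm⟩
    have h2 : a - r ⟨m.comap τ, hm'⟩ ∈ m.comap τ := ha ⟨m.comap τ, hm'⟩
    have hiff : (1 + u ∈ m.comap τ) ↔ (1 + u ∈ m) := by
      rw [Ideal.mem_comap, map_add, map_one]
      have e1 : u * (1 + τ u) = 1 + u := by rw [mul_add, hu, mul_one, add_comm]
      have e2 : τ u * (1 + u) = 1 + τ u := by rw [mul_add, mul_comm (τ u) u, hu, mul_one, add_comm]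
      constructor
      · intro h
        rw [← e1]
        exact m.mul_mem_left u h
      · intro h
        rw [← e2]
        exact m.mul_mem_left (τ u) h
    have hr : r ⟨m.comap τ, hm'⟩ = r ⟨m, hm⟩ := by
      show (if 1 + u ∈ m.comap τ then c else 1) = (if 1 + u ∈ m then c else 1)
      by_cases h : 1 + u ∈ m
      · rw [if_pos h, if_pos (hiff.2 h)]
      · rw [if_neg h, if_neg (fun h' => h (hiff.1 h'))]
    rw [hr, Ideal.mem_comap, map_sub] at h2
    -- so `a + u τ a ≡ r + u τ r`
    have h3 : (r ⟨m, hm⟩ + u * τ (r ⟨m, hm⟩)) ∈ m := by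
      have : r ⟨m, hm⟩ + u * τ (r ⟨m, hm⟩) =
          (a + u * τ a) - (a - r ⟨m, hm⟩) - u * (τ a - τ (r ⟨m, hm⟩)) := by ring
      rw [this]
      exact m.sub_mem (m.sub_mem hmem h1) (m.mul_mem_left u h2)
    by_cases h : 1 + u ∈ m
    · have hrc : r ⟨m, hm⟩ = c := if_pos h
      rw [hrc] at h3
      have : c - τ c ∈ m := by
        have e : c - τ c = (c + u * τ c) - (1 + u) * τ c := by ring
        rw [e]
        exact m.sub_mem h3 (m.mul_mem_right _ h)
      exact hm.ne_top (Ideal.eq_top_of_isUnit_mem m this hc)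
    · have hr1 : r ⟨m, hm⟩ = 1 := if_neg h
      rw [hr1, map_one, mul_one] at h3
      exact h h3
  · rw [map_add, map_mul, hτ, mul_add, ← mul_assoc, hu, one_mul, add_comm]

/-- the norm is onto the fixed units -/
theorem norm_surjective (τ : E →+* E) (hτ : ∀ x, τ (τ x) = x) (c : E) (hc : IsUnit (c - τ c))
    (s : E) (hs : IsUnit s) (hfix : τ s = s) : ∃ x : E, IsUnit x ∧ x * τ x = s := by
  classical
  let T : Eˣ →* Eˣ := Units.map (τ : E →* E)
  have hT : ∀ x : Eˣ, ((T x : Eˣ) : E) = τ x := fun x => rfl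
  have hTT : ∀ x : Eˣ, T (T x) = x := by
    intro x
    apply Units.ext
    rw [hT, hT, hτ]
  -- the two homs
  let N : Eˣ →* Eˣ :=
    { toFun := fun x => x * T x
      map_one' := by rw [map_one, one_mul]
      map_mul' := fun x y => by rw [map_mul]; exact mul_mul_mul_comm x y (T x) (T y) }
  let P : Eˣ →* Eˣ :=
    { toFun := fun x => x * (T x)⁻¹
      map_one' := by rw [map_one, inv_one, one_mul]
      map_mul' := fun x y => by rw [map_mul, mul_inv]; exact mul_mul_mul_comm x y (T x)⁻¹ (T y)⁻¹ }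
  let F₀ : Subgroup Eˣ :=
    { carrier := {x | T x = x}
      one_mem' := map_one T
      mul_mem' := fun {x y} hx hy => by
        show T (x * y) = x * y
        rw [map_mul, hx, hy]
      inv_mem' := fun {x} hx => by
        show T x⁻¹ = x⁻¹
        rw [map_inv, hx] }
  have hkerP : P.ker = F₀ := by
    ext x
    rw [MonoidHom.mem_ker]
    show x * (T x)⁻¹ = 1 ↔ T x = x
    rw [mul_inv_eq_one]
    exact eq_comm
  have hrangeP : P.range = N.ker := by
    ext x
    rw [MonoidHom.mem_ker, MonoidHom.mem_range]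
    constructor
    · rintro ⟨y, rfl⟩
      show (y * (T y)⁻¹) * T (y * (T y)⁻¹) = 1
      rw [map_mul, map_inv, hTT]
      rw [mul_assoc, inv_mul_cancel_left, mul_inv_cancel]
    · intro hx
      have hx' : (x : E) * τ x = 1 := by
        have := congrArg (fun z : Eˣ => (z : E)) hx
        exact this
      obtain ⟨y, hy, hyu⟩ := hilbert90 τ hτ c hc (x : E) hx'
      refine ⟨hy.unit, ?_⟩
      show hy.unit * (T hy.unit)⁻¹ = x
      rw [mul_inv_eq_iff_eq_mul]
      apply Units.ext
      rw [Units.val_mul, hT, IsUnit.unit_spec, hyu]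
  have hrangeN : N.range ≤ F₀ := by
    rintro x ⟨y, rfl⟩
    show T (y * T y) = y * T y
    rw [map_mul, hTT, mul_comm]
  -- counting
  have c1 : Nat.card P.ker * Nat.card P.range = Nat.card Eˣ := by
    rw [← Subgroup.index_ker]
    exact Subgroup.card_mul_index _
  have c2 : Nat.card N.ker * Nat.card N.range = Nat.card Eˣ := by
    rw [← Subgroup.index_ker]
    exact Subgroup.card_mul_index _
  rw [hkerP, hrangeP] at c1
  have hpos : 0 < Nat.card N.ker := Nat.card_pos
  have c3 : Nat.card F₀ = Nat.card N.range := by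
    have : Nat.card N.ker * Nat.card F₀ = Nat.card N.ker * Nat.card N.range := by
      rw [c2, mul_comm, c1]
    exact Nat.eq_of_mul_eq_mul_left hpos this
  have heq : N.range = F₀ := Subgroup.eq_of_le_of_card_ge hrangeN (le_of_eq c3)
  have hsF : hs.unit ∈ F₀ := by
    show T hs.unit = hs.unit
    apply Units.ext
    rw [hT, IsUnit.unit_spec, hfix]
  rw [← heq] at hsF
  obtain ⟨x, hx⟩ := hsF
  refine ⟨(x : E), x.isUnit, ?_⟩
  have := congrArg (fun z : Eˣ => (z : E)) hx
  exact this

end Cfsg.Agent.Lib.Helper43.InvolRing
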