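import Mathlib
import Cfsg.Agent.Lib.Helper43.JTMatrix

set_option autoImplicit false

/-!
The centraliser of the Jordan type matrix: endomorphisms commuting with `jtN` correspond to
families of vectors `v k ∈ ker (jtN ^ d k)`, and such an endomorphism is invertible iff the
"top-diagonal" blocks of the family are invertible.
-/

namespace Cfsg.Agent.Lib.Helper43

open Module Cfsg.Agent.Lib.Helper99 Matrix

section basic

variable {F : Type*} [Field F] {t : ℕ} (d : Fin t → ℕ)

theorem sigma_fin_eq_iff {k l : Fin t} (r : Fin (d k)) (s : Fin (d l)) :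
    (⟨l, s⟩ : (k : Fin t) × Fin (d k)) = ⟨k, r⟩ ↔ l = k ∧ (s : ℕ) = (r : ℕ) := by
  constructor
  · intro h
    have h1 : l = k := congrArg Sigma.fst h
    subst h1
    have h2 := eq_of_heq (Sigma.mk.inj h).2
    exact ⟨rfl, by rw [h2]⟩
  · rintro ⟨rfl, h⟩
    have : s = r := Fin.ext h
    rw [this]

theorem single_apply' (k : Fin t) (r : Fin (d k)) (c : F) (l : Fin t) (s : Fin (d l)) :
    (Pi.single (⟨k, r⟩ : (k : Fin t) × Fin (d k)) c : ((k : Fin t) × Fin (d k)) → F) ⟨l, s⟩ =
      if l = k ∧ (s : ℕ) = (r : ℕ) then c else 0 := by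
  rw [Pi.single_apply]
  by_cases h : l = k ∧ (s : ℕ) = (r : ℕ)
  · rw [if_pos h, if_pos ((sigma_fin_eq_iff d r s).2 h)]
  · rw [if_neg h, if_neg (fun h' => h ((sigma_fin_eq_iff d r s).1 h'))]

theorem jtN_pow_single (k : Fin t) (r : Fin (d k)) (c : F) (j : ℕ) :
    ((jtN F d) ^ j) (Pi.single ⟨k, r⟩ c) =
      if h : (r : ℕ) + j < d k then Pi.single ⟨k, ⟨(r : ℕ) + j, h⟩⟩ c else 0 := by
  funext x
  obtain ⟨l, s⟩ := x
  rw [jtN_pow_apply]
  by_cases h : (r : ℕ) + j < d k
  · rw [dif_pos h, single_apply']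
    by_cases h1 : j ≤ (s : ℕ)
    · rw [dif_pos h1, single_apply']
      simp only
      by_cases h2 : l = k ∧ (s : ℕ) = (r : ℕ) + j
      · rw [if_pos h2, if_pos ⟨h2.1, by omega⟩]
      · rw [if_neg h2, if_neg]
        rintro ⟨h3, h4⟩
        exact h2 ⟨h3, by omega⟩
    · rw [dif_neg h1, if_neg]
      rintro ⟨_, h4⟩
      simp only at h4
      omega
  · rw [dif_neg h, Pi.zero_apply]
    by_cases h1 : j ≤ (s : ℕ)
    · rw [dif_pos h1, single_apply', if_neg]
      rintro ⟨h3, h4⟩
      subst h3
      simp only at h4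
      have := s.2
      omega
    · rw [dif_neg h1]

/-- the top vector of the block `k` -/
def topVec (F : Type*) [Field F] {t : ℕ} (d : Fin t → ℕ) (hd : ∀ k, 1 ≤ d k) (k : Fin t) :
    ((k : Fin t) × Fin (d k)) → F :=
  Pi.single ⟨k, ⟨0, hd k⟩⟩ 1

theorem jtN_pow_topVec (hd : ∀ k, 1 ≤ d k) (k : Fin t) (r : Fin (d k)) :
    ((jtN F d) ^ (r : ℕ)) (topVec F d hd k) = Pi.single ⟨k, r⟩ 1 := by
  unfold topVec
  rw [jtN_pow_single, dif_pos (by simp)]
  congr 2
  apply Fin.ext
  simp

theorem jtN_pow_topVec_eq_zero (hd : ∀ k, 1 ≤ d k) (k : Fin t) :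
    ((jtN F d) ^ (d k)) (topVec F d hd k) = 0 := by
  unfold topVec
  rw [jtN_pow_single, dif_neg (by simp)]

end basic

section param

variable {F : Type*} [Field F] {t : ℕ} (d : Fin t → ℕ) (hd : ∀ k, 1 ≤ d k)

/-- families of vectors `v k ∈ ker (jtN ^ d k)` -/
abbrev CentFam (F : Type*) [Field F] {t : ℕ} (d : Fin t → ℕ) : Type _ :=
  (k : Fin t) → LinearMap.ker ((jtN F d) ^ (d k))

/-- the endomorphism attached to a family -/
noncomputable def famEnd (v : CentFam F d) : Module.End F (((k : Fin t) × Fin (d k)) → F) :=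
  (Pi.basisFun F ((k : Fin t) × Fin (d k))).constr F
    (fun x => ((jtN F d) ^ (x.2 : ℕ)) (v x.1).1)

theorem famEnd_single (v : CentFam F d) (x : (k : Fin t) × Fin (d k)) :
    famEnd d v (Pi.single x 1) = ((jtN F d) ^ (x.2 : ℕ)) (v x.1).1 := by
  unfold famEnd
  have := (Pi.basisFun F ((k : Fin t) × Fin (d k))).constr_basis F
    (fun x => ((jtN F d) ^ (x.2 : ℕ)) (v x.1).1) x
  rw [Pi.basisFun_apply] at this
  exact this

theorem famEnd_comm (v : CentFam F d) : famEnd d v ∘ₗ jtN F d = jtN F d ∘ₗ famEnd d v := by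
  apply (Pi.basisFun F ((k : Fin t) × Fin (d k))).ext
  intro x
  obtain ⟨k, r⟩ := x
  rw [Pi.basisFun_apply, LinearMap.comp_apply, LinearMap.comp_apply, famEnd_single]
  have h1 := jtN_pow_single (F := F) d k r 1 1
  rw [pow_one] at h1
  rw [h1]
  by_cases h : (r : ℕ) + 1 < d k
  · rw [dif_pos h, famEnd_single]
    simp only
    rw [pow_succ', Module.End.mul_apply]
  · rw [dif_neg h, map_zero]
    have hr : (r : ℕ) + 1 = d k := by have := r.2; omega
    have hv : ((jtN F d) ^ (d k)) (v k).1 = 0 := LinearMap.mem_ker.1 (v k).2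
    simp only
    rw [← Module.End.mul_apply, ← pow_succ', hr]
    exact hv.symm

theorem famEnd_topVec (v : CentFam F d) (k : Fin t) : famEnd d v (topVec F d hd k) = (v k).1 := by
  unfold topVec
  rw [famEnd_single]
  simp

theorem comm_topVec_mem (f : Module.End F (((k : Fin t) × Fin (d k)) → F))
    (hf : f ∘ₗ jtN F d = jtN F d ∘ₗ f) (k : Fin t) :
    f (topVec F d hd k) ∈ LinearMap.ker ((jtN F d) ^ (d k)) := by
  rw [LinearMap.mem_ker]
  have := commute_pow_apply (jtN F d) f hf (d k) (topVec F d hd k)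
  rw [← this, jtN_pow_topVec_eq_zero, map_zero]

/-- the family attached to a commuting endomorphism -/
def centFam (f : Module.End F (((k : Fin t) × Fin (d k)) → F))
    (hf : f ∘ₗ jtN F d = jtN F d ∘ₗ f) : CentFam F d :=
  fun k => ⟨f (topVec F d hd k), comm_topVec_mem d hd f hf k⟩

theorem famEnd_centFam (f : Module.End F (((k : Fin t) × Fin (d k)) → F))
    (hf : f ∘ₗ jtN F d = jtN F d ∘ₗ f) : famEnd d (centFam d hd f hf) = f := by
  apply (Pi.basisFun F ((k : Fin t) × Fin (d k))).ext
  intro x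
  rw [Pi.basisFun_apply, famEnd_single]
  have h1 : ((centFam d hd f hf) x.1).1 = f (topVec F d hd x.1) := rfl
  rw [h1, ← commute_pow_apply (jtN F d) f hf, jtN_pow_topVec]

theorem centFam_famEnd (v : CentFam F d) : centFam d hd (famEnd d v) (famEnd_comm d v) = v := by
  funext k
  apply Subtype.ext
  exact famEnd_topVec d hd v k

/-- the commutant of `jtN` is parametrised by the families -/
noncomputable def centEquiv :
    {f : Module.End F (((k : Fin t) × Fin (d k)) → F) // f ∘ₗ jtN F d = jtN F d ∘ₗ f} ≃ CentFam F d where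
  toFun f := centFam d hd f.1 f.2
  invFun v := ⟨famEnd d v, famEnd_comm d v⟩
  left_inv f := Subtype.ext (famEnd_centFam d hd f.1 f.2)
  right_inv v := centFam_famEnd d hd v

end param

section inj

variable {F : Type*} [Field F] {V : Type*} [AddCommGroup V] [Module F V] [FiniteDimensional F V]

theorem injective_of_injOn_ker (N f : Module.End F V) (hN : IsNilpotent N)
    (hf : f ∘ₗ N = N ∘ₗ f) (h : ∀ y, N y = 0 → f y = 0 → y = 0) : Function.Injective f := by
  classical
  rw [← LinearMap.ker_eq_bot, LinearMap.ker_eq_bot']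
  intro x hx
  by_contra hx0
  obtain ⟨n, hn⟩ := hN
  have hex : ∃ j, (N ^ j) x = 0 := ⟨n, by rw [hn]; rfl⟩
  have hj0 : Nat.find hex ≠ 0 := by
    intro h0
    have := Nat.find_spec hex
    rw [h0, pow_zero] at this
    exact hx0 this
  obtain ⟨j, hj⟩ := Nat.exists_eq_succ_of_ne_zero hj0
  have h1 : (N ^ j) x ≠ 0 := Nat.find_min hex (by omega)
  apply h1
  apply h
  · have := Nat.find_spec hex
    rw [hj, pow_succ', Module.End.mul_apply] at this
    exact this
  · rw [commute_pow_apply N f hf, hx, map_zero]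

end inj

section bottom

variable {F : Type*} [Field F] {t : ℕ} (d : Fin t → ℕ) (hd : ∀ k, 1 ≤ d k)

/-- the last index of the block `k` -/
def lastIdx (k : Fin t) : Fin (d k) := ⟨d k - 1, by have := hd k; omega⟩

/-- the embedding of the socle -/
noncomputable def socEmb (w : Fin t → F) : ((k : Fin t) × Fin (d k)) → F :=
  ∑ l, w l • (Pi.single ⟨l, lastIdx d hd l⟩ 1 : ((k : Fin t) × Fin (d k)) → F)

theorem socEmb_apply (w : Fin t → F) (x : (k : Fin t) × Fin (d k)) :
    socEmb d hd w x = if (x.2 : ℕ) + 1 = d x.1 then w x.1 else 0 := by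
  obtain ⟨m, s⟩ := x
  unfold socEmb
  rw [Finset.sum_apply, Finset.sum_eq_single m]
  · rw [Pi.smul_apply, single_apply']
    simp only [lastIdx, true_and, smul_eq_mul]
    have := hd m
    by_cases h : (s : ℕ) + 1 = d m
    · rw [if_pos h, if_pos (by omega), mul_one]
    · rw [if_neg h, if_neg (by omega), mul_zero]
  · intro l _ hl
    rw [Pi.smul_apply, single_apply', if_neg, smul_zero]
    rintro ⟨h, _⟩
    exact hl h.symm
  · intro h
    exact absurd (Finset.mem_univ _) h

theorem socEmb_last (w : Fin t → F) (m : Fin t) : socEmb d hd w ⟨m, lastIdx d hd m⟩ = w m := by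
  rw [socEmb_apply, if_pos]
  simp only [lastIdx]
  have := hd m
  omega

theorem socEmb_injective : Function.Injective (socEmb (F := F) d hd) := by
  intro w w' h
  funext m
  rw [← socEmb_last d hd w m, h, socEmb_last]

theorem jtN_socEmb (w : Fin t → F) : jtN F d (socEmb d hd w) = 0 := by
  have : socEmb d hd w ∈ LinearMap.ker ((jtN F d) ^ 1) := by
    rw [mem_ker_jtN_pow]
    intro x hx
    rw [socEmb_apply, if_neg (by omega)]
  rw [pow_one] at this
  exact this

theorem eq_socEmb_of_jtN_eq_zero (u : ((k : Fin t) × Fin (d k)) → F) (hu : jtN F d u = 0) :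
    u = socEmb d hd (fun m => u ⟨m, lastIdx d hd m⟩) := by
  have h1 : u ∈ LinearMap.ker ((jtN F d) ^ 1) := by
    rw [pow_one]; exact hu
  rw [mem_ker_jtN_pow] at h1
  funext x
  rw [socEmb_apply]
  obtain ⟨m, s⟩ := x
  by_cases h : (s : ℕ) + 1 = d m
  · rw [if_pos h]
    simp only
    congr 2
    apply Fin.ext
    simp only [lastIdx]
    omega
  · rw [if_neg h]
    apply h1
    have := s.2
    simp only at h ⊢
    omega

/-- the matrix of a commuting endomorphism on the socle -/
noncomputable def botMat (f : Module.End F (((k : Fin t) × Fin (d k)) → F)) :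
    Matrix (Fin t) (Fin t) F :=
  Matrix.of fun m l => f (Pi.single ⟨l, lastIdx d hd l⟩ 1) ⟨m, lastIdx d hd m⟩

theorem map_socEmb (f : Module.End F (((k : Fin t) × Fin (d k)) → F))
    (hf : f ∘ₗ jtN F d = jtN F d ∘ₗ f) (w : Fin t → F) :
    f (socEmb d hd w) = socEmb d hd (botMat d hd f *ᵥ w) := by
  have h1 : jtN F d (f (socEmb d hd w)) = 0 := by
    have := LinearMap.congr_fun hf (socEmb d hd w)
    rw [LinearMap.comp_apply, LinearMap.comp_apply, jtN_socEmb, map_zero] at this
    exact this.symm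
  rw [eq_socEmb_of_jtN_eq_zero d hd _ h1]
  congr 1
  funext m
  unfold socEmb
  rw [map_sum, Finset.sum_apply, Matrix.mulVec, dotProduct]
  apply Finset.sum_congr rfl
  intro l _
  rw [map_smul, Pi.smul_apply, smul_eq_mul, mul_comm]
  rfl

theorem injective_iff_botMat (f : Module.End F (((k : Fin t) × Fin (d k)) → F))
    (hf : f ∘ₗ jtN F d = jtN F d ∘ₗ f) :
    Function.Injective f ↔ IsUnit (botMat d hd f) := by
  rw [← Matrix.mulVec_injective_iff_isUnit]
  constructor
  · intro h w w' hw
    apply socEmb_injective d hd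
    apply h
    rw [map_socEmb d hd f hf, map_socEmb d hd f hf]
    show socEmb d hd ((botMat d hd f).mulVec w) = socEmb d hd ((botMat d hd f).mulVec w')
    rw [hw]
  · intro h
    apply injective_of_injOn_ker (jtN F d) f (jtN_isNilpotent d) hf
    intro y hy hfy
    rw [eq_socEmb_of_jtN_eq_zero d hd y hy] at hfy ⊢
    rw [map_socEmb d hd f hf] at hfy
    have h0 : socEmb (F := F) d hd 0 = 0 := by
      funext x
      rw [socEmb_apply]
      simp
    rw [← h0] at hfy
    have h2 := socEmb_injective d hd hfy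
    have h3 : (fun m => y ⟨m, lastIdx d hd m⟩) = 0 := by
      apply h
      show (botMat d hd f).mulVec _ = (botMat d hd f).mulVec 0
      rw [Matrix.mulVec_zero]
      exact h2
    rw [h3]
    exact h0

theorem botMat_famEnd (v : CentFam F d) (m l : Fin t) :
    botMat d hd (famEnd d v) m l =
      if h : d l ≤ d m then (v l).1 ⟨m, ⟨d m - d l, by have := hd l; have := hd m; omega⟩⟩ else 0 := by
  unfold botMat
  rw [Matrix.of_apply, famEnd_single, jtN_pow_apply]
  have h1 := hd l
  have h2 := hd m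
  by_cases h : d l ≤ d m
  · rw [dif_pos h, dif_pos (show ((lastIdx d hd l : Fin (d l)) : ℕ) ≤ ((lastIdx d hd m : Fin (d m)) : ℕ) by
      simp only [lastIdx]; omega)]
    have e0 : ((lastIdx d hd m : Fin (d m)) : ℕ) - ((lastIdx d hd l : Fin (d l)) : ℕ) = d m - d l := by
      simp only [lastIdx]; omega
    simp only [e0]
  · rw [dif_neg h, dif_neg (show ¬ ((lastIdx d hd l : Fin (d l)) : ℕ) ≤ ((lastIdx d hd m : Fin (d m)) : ℕ) by
      simp only [lastIdx]; omega)]

/-- the diagonal blocks of a family -/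
def famBlk (i : ℕ) (v : CentFam F d) : Matrix {k : Fin t // d k = i} {k : Fin t // d k = i} F :=
  Matrix.of fun m l => (v l.1).1 ⟨m.1, ⟨0, hd m.1⟩⟩

theorem botMat_blockTriangular (v : CentFam F d) :
    Matrix.BlockTriangular (botMat d hd (famEnd d v)) (fun k => OrderDual.toDual (d k)) := by
  intro m l hlt
  have h : d m < d l := OrderDual.toDual_lt_toDual.1 hlt
  rw [botMat_famEnd, dif_neg (by omega)]

theorem toSquareBlock_botMat (v : CentFam F d) (i : ℕ) :
    ((botMat d hd (famEnd d v)).toSquareBlock (fun k => OrderDual.toDual (d k))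
      (OrderDual.toDual i)).det = (famBlk d hd i v).det := by
  let e : {k : Fin t // OrderDual.toDual (d k) = OrderDual.toDual i} ≃ {k : Fin t // d k = i} :=
    Equiv.subtypeEquivRight (fun k => OrderDual.toDual_inj)
  have : (botMat d hd (famEnd d v)).toSquareBlock (fun k => OrderDual.toDual (d k))
      (OrderDual.toDual i) = (famBlk d hd i v).submatrix e e := by
    ext m l
    rw [Matrix.toSquareBlock_def, Matrix.of_apply, Matrix.submatrix_apply, botMat_famEnd]
    have hm : d m.1 = i := OrderDual.toDual_inj.1 m.2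
    have hl : d l.1 = i := OrderDual.toDual_inj.1 l.2
    rw [dif_pos (by omega)]
    unfold famBlk
    rw [Matrix.of_apply]
    show _ = (v l.1).1 ⟨m.1, ⟨0, hd m.1⟩⟩
    have e0 : d m.1 - d l.1 = 0 := by omega
    simp only [e0]
  rw [this, Matrix.det_submatrix_equiv_self]

theorem isUnit_botMat_iff (v : CentFam F d) :
    IsUnit (botMat d hd (famEnd d v)) ↔ ∀ i : ℕ, IsUnit (famBlk d hd i v).det := by
  rw [Matrix.isUnit_iff_isUnit_det, (botMat_blockTriangular d hd v).det, isUnit_iff_ne_zero,
    Finset.prod_ne_zero_iff]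
  constructor
  · intro h i
    by_cases hi : ∃ k, d k = i
    · obtain ⟨k, hk⟩ := hi
      rw [isUnit_iff_ne_zero, ← toSquareBlock_botMat]
      apply h
      rw [Finset.mem_image]
      exact ⟨k, Finset.mem_univ _, by rw [hk]⟩
    · have : IsEmpty {k : Fin t // d k = i} := ⟨fun k => hi ⟨k.1, k.2⟩⟩
      rw [Matrix.det_isEmpty]
      exact isUnit_one
  · intro h a _
    have := h (OrderDual.ofDual a)
    rw [isUnit_iff_ne_zero, ← toSquareBlock_botMat] at this
    exact this

/-- invertibility criterion for commuting endomorphisms -/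
theorem isUnit_famEnd_iff (v : CentFam F d) :
    IsUnit (famEnd d v) ↔ ∀ i : ℕ, IsUnit (famBlk d hd i v).det := by
  rw [← isUnit_botMat_iff, ← injective_iff_botMat d hd _ (famEnd_comm d v)]
  rw [Module.End.isUnit_iff]
  constructor
  · intro h
    exact h.1
  · intro h
    exact ⟨h, LinearMap.injective_iff_surjective.1 h⟩

end bottom

end Cfsg.Agent.Lib.Helper43
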