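import Mathlib
import Cfsg.Agent.Lib.Helper43.JTCent

set_option autoImplicit false

/-!
Counting the invertible elements of the centraliser of the Jordan type matrix.
-/

namespace Cfsg.Agent.Lib.Helper43

open Module Cfsg.Agent.Lib.Helper99 Matrix

section abstract

variable {F : Type*} [Field F] [Finite F]
variable {X Y : Type*} [AddCommGroup X] [Module F X] [AddCommGroup Y] [Module F Y]
variable [Module.Finite F X] [Module.Finite F Y]

/-- counting the preimage of a set under a split surjective linear map -/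
theorem card_preimage_of_section (top : X →ₗ[F] Y) (σ : Y →ₗ[F] X) (h : ∀ a, top (σ a) = a)
    (C : Y → Prop) :
    Nat.card {x : X // C (top x)} =
      Nat.card {a : Y // C a} * Nat.card F ^ (finrank F X - finrank F Y) := by
  let e : X ≃ Y × LinearMap.ker top :=
    { toFun := fun x => (top x, ⟨x - σ (top x), by
        rw [LinearMap.mem_ker, map_sub, h, sub_self]⟩)
      invFun := fun p => σ p.1 + p.2.1
      left_inv := fun x => by simp
      right_inv := fun p => by
        obtain ⟨a, z, hz⟩ := p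
        rw [LinearMap.mem_ker] at hz
        apply Prod.ext
        · simp [h, hz]
        · apply Subtype.ext
          simp [h, hz] }
  have he : ∀ x, (e x).1 = top x := fun x => rfl
  have e2 : {x : X // C (top x)} ≃ {a : Y // C a} × LinearMap.ker top :=
    (Equiv.subtypeEquiv e (fun x => by rw [he])).trans Equiv.prodSubtypeFstEquivSubtypeProd
  rw [Nat.card_congr e2, Nat.card_prod]
  congr 1
  rw [Module.natCard_eq_pow_finrank (K := F) (V := LinearMap.ker top)]
  congr 1
  have hsurj : Function.Surjective top := fun a => ⟨σ a, h a⟩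
  have h1 := LinearMap.finrank_range_add_finrank_ker top
  rw [LinearMap.range_eq_top.2 hsurj, finrank_top] at h1
  omega

end abstract

section units

variable {F : Type*} [Field F] [Finite F]

theorem card_isUnit_det (n : Type*) [Fintype n] [DecidableEq n] :
    Nat.card {A : Matrix n n F // IsUnit A.det} =
      ∏ j : Fin (Fintype.card n), (Nat.card F ^ Fintype.card n - Nat.card F ^ (j : ℕ)) := by
  have : Fintype F := Fintype.ofFinite F
  have e1 : {A : Matrix n n F // IsUnit A.det} ≃ GL n F :=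
    { toFun := fun A => ((Matrix.isUnit_iff_isUnit_det A.1).2 A.2).unit
      invFun := fun g => ⟨g.1, (Matrix.isUnit_iff_isUnit_det g.1).1 g.isUnit⟩
      left_inv := fun A => by
        apply Subtype.ext
        simp
      right_inv := fun g => by
        apply Units.ext
        simp }
  have e2 : GL n F ≃ GL (Fin (Fintype.card n)) F :=
    (Units.mapEquiv (Matrix.reindexAlgEquiv F F (Fintype.equivFin n)).toMulEquiv).toEquiv
  rw [Nat.card_congr (e1.trans e2), Matrix.card_GL_field, Nat.card_eq_fintype_card]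

end units

section topmap

variable {F : Type*} [Field F] {t : ℕ} (d : Fin t → ℕ) (hd : ∀ k, 1 ≤ d k)

/-- pairs of blocks of equal size -/
abbrev EqPairs {t : ℕ} (d : Fin t → ℕ) : Type := {p : Fin t × Fin t // d p.1 = d p.2}

/-- the top-diagonal entries of a family -/
def topMap : CentFam F d →ₗ[F] (EqPairs d → F) where
  toFun v := fun p => (v p.1.2).1 ⟨p.1.1, ⟨0, hd p.1.1⟩⟩
  map_add' _ _ := rfl
  map_smul' _ _ := rfl

theorem secMap_mem (a : EqPairs d → F) (l : Fin t) :
    (fun x : (k : Fin t) × Fin (d k) =>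
      if h : (x.2 : ℕ) = 0 ∧ d x.1 = d l then a ⟨(x.1, l), h.2⟩ else 0) ∈
      LinearMap.ker ((jtN F d) ^ (d l)) := by
  rw [mem_ker_jtN_pow]
  intro x hx
  rw [dif_neg]
  rintro ⟨h1, h2⟩
  omega

/-- a linear section of `topMap` -/
def secMap : (EqPairs d → F) →ₗ[F] CentFam F d where
  toFun a := fun l => ⟨fun x => if h : (x.2 : ℕ) = 0 ∧ d x.1 = d l then a ⟨(x.1, l), h.2⟩ else 0,
    secMap_mem d a l⟩
  map_add' a b := by
    funext l
    apply Subtype.ext
    funext x
    show (if h : (x.2 : ℕ) = 0 ∧ d x.1 = d l then (a + b) ⟨(x.1, l), h.2⟩ else 0) =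
      (if h : (x.2 : ℕ) = 0 ∧ d x.1 = d l then a ⟨(x.1, l), h.2⟩ else 0) +
      (if h : (x.2 : ℕ) = 0 ∧ d x.1 = d l then b ⟨(x.1, l), h.2⟩ else 0)
    split_ifs
    · rfl
    · simp
  map_smul' c a := by
    funext l
    apply Subtype.ext
    funext x
    show (if h : (x.2 : ℕ) = 0 ∧ d x.1 = d l then (c • a) ⟨(x.1, l), h.2⟩ else 0) =
      c • (if h : (x.2 : ℕ) = 0 ∧ d x.1 = d l then a ⟨(x.1, l), h.2⟩ else 0)
    split_ifs
    · rfl
    · simp

theorem topMap_secMap (a : EqPairs d → F) : topMap d hd (secMap d a) = a := by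
  funext p
  show (if h : ((⟨0, hd p.1.1⟩ : Fin (d p.1.1)) : ℕ) = 0 ∧ d p.1.1 = d p.1.2 then
    a ⟨(p.1.1, p.1.2), h.2⟩ else 0) = a p
  rw [dif_pos ⟨rfl, p.2⟩]

/-- the diagonal blocks of a function on pairs -/
def pairBlk (i : ℕ) (a : EqPairs d → F) : Matrix {k : Fin t // d k = i} {k : Fin t // d k = i} F :=
  Matrix.of fun m l => a ⟨(m.1, l.1), by rw [m.2, l.2]⟩

theorem famBlk_eq (i : ℕ) (v : CentFam F d) : famBlk d hd i v = pairBlk d i (topMap d hd v) := rfl

/-- the number of top-diagonal entries -/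
def supD : ℕ := Finset.univ.sup d

theorem lt_supD (k : Fin t) : d k < supD d + 1 := by
  have : d k ≤ supD d := Finset.le_sup (f := d) (Finset.mem_univ k)
  omega

/-- functions on pairs are families of square matrices -/
def pairsEquiv : (EqPairs d → F) ≃
    ((i : Fin (supD d + 1)) → Matrix {k : Fin t // d k = (i : ℕ)} {k : Fin t // d k = (i : ℕ)} F) where
  toFun a := fun i => pairBlk d (i : ℕ) a
  invFun A := fun p => A ⟨d p.1.2, lt_supD d p.1.2⟩ ⟨p.1.1, p.2⟩ ⟨p.1.2, rfl⟩
  left_inv a := by
    funext p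
    rfl
  right_inv A := by
    funext i
    ext m l
    obtain ⟨i, hi⟩ := i
    obtain ⟨l, hl⟩ := l
    obtain ⟨m, hm⟩ := m
    simp only at hl hm
    subst hl
    rfl

theorem forall_pairBlk_iff (a : EqPairs d → F) :
    (∀ i : ℕ, IsUnit (pairBlk d i a).det) ↔
      ∀ i : Fin (supD d + 1), IsUnit (pairsEquiv d a i).det := by
  constructor
  · intro h i
    exact h i
  · intro h i
    by_cases hi : i < supD d + 1
    · exact h ⟨i, hi⟩
    · have : IsEmpty {k : Fin t // d k = i} := ⟨fun k => hi (by rw [← k.2]; exact lt_supD d k.1)⟩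
      rw [Matrix.det_isEmpty]
      exact isUnit_one

variable [Finite F]

theorem card_pairs_units :
    Nat.card {a : EqPairs d → F // ∀ i : ℕ, IsUnit (pairBlk d i a).det} =
      ∏ i : Fin (supD d + 1), ∏ j : Fin (Fintype.card {k : Fin t // d k = (i : ℕ)}),
        (Nat.card F ^ Fintype.card {k : Fin t // d k = (i : ℕ)} - Nat.card F ^ (j : ℕ)) := by
  have e1 : {a : EqPairs d → F // ∀ i : ℕ, IsUnit (pairBlk d i a).det} ≃
      {A : (i : Fin (supD d + 1)) → Matrix {k : Fin t // d k = (i : ℕ)} {k : Fin t // d k = (i : ℕ)} F //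
        ∀ i, IsUnit (A i).det} :=
    Equiv.subtypeEquiv (pairsEquiv d) (fun a => forall_pairBlk_iff d a)
  have e2 := Equiv.subtypePiEquivPi (β := fun i : Fin (supD d + 1) =>
      Matrix {k : Fin t // d k = (i : ℕ)} {k : Fin t // d k = (i : ℕ)} F)
      (p := fun i A => IsUnit A.det)
  rw [Nat.card_congr (e1.trans e2), Nat.card_pi]
  apply Finset.prod_congr rfl
  intro i _
  exact card_isUnit_det _

theorem card_fam_units :
    Nat.card {v : CentFam F d // ∀ i : ℕ, IsUnit (famBlk d hd i v).det} =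
      (∏ i : Fin (supD d + 1), ∏ j : Fin (Fintype.card {k : Fin t // d k = (i : ℕ)}),
        (Nat.card F ^ Fintype.card {k : Fin t // d k = (i : ℕ)} - Nat.card F ^ (j : ℕ))) *
      Nat.card F ^ (finrank F (CentFam F d) - finrank F (EqPairs d → F)) := by
  rw [← card_pairs_units]
  exact card_preimage_of_section (F := F) (X := CentFam F d) (Y := EqPairs d → F) (topMap d hd)
    (secMap d) (topMap_secMap d hd) (fun a => ∀ i : ℕ, IsUnit (pairBlk d i a).det)

omit [Finite F] in
theorem finrank_centFam : finrank F (CentFam F d) = ∑ k, ∑ l, min (d l) (d k) := by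
  rw [Module.finrank_pi_fintype]
  apply Finset.sum_congr rfl
  intro k _
  exact dker_jtN d (d k)

omit [Finite F] in
theorem finrank_eqPairs : finrank F (EqPairs d → F) = ∑ k : Fin t, ∑ l : Fin t, if d k = d l then 1 else 0 := by
  rw [Module.finrank_fintype_fun_eq_card, Fintype.card_subtype, Finset.card_filter,
    Fintype.sum_prod_type]

end topmap

section glue

variable {F : Type*} [Field F] {t : ℕ} (d : Fin t → ℕ) (hd : ∀ k, 1 ≤ d k)

theorem toLin'_comm_of_comm (M : Matrix ((k : Fin t) × Fin (d k)) ((k : Fin t) × Fin (d k)) F)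
    (h : M * Cfsg.jordanTypeMatrix d F = Cfsg.jordanTypeMatrix d F * M) :
    Matrix.toLin' M ∘ₗ jtN F d = jtN F d ∘ₗ Matrix.toLin' M := by
  unfold jtN
  rw [← Matrix.toLin'_mul, ← Matrix.toLin'_mul, mul_sub, sub_mul, h, mul_one, one_mul]

theorem comm_of_toLin'_comm (M : Matrix ((k : Fin t) × Fin (d k)) ((k : Fin t) × Fin (d k)) F)
    (h : Matrix.toLin' M ∘ₗ jtN F d = jtN F d ∘ₗ Matrix.toLin' M) :
    M * Cfsg.jordanTypeMatrix d F = Cfsg.jordanTypeMatrix d F * M := by
  unfold jtN at h
  rw [← Matrix.toLin'_mul, ← Matrix.toLin'_mul] at h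
  have := Matrix.toLin'.injective h
  rw [mul_sub, sub_mul, mul_one, one_mul] at this
  exact sub_left_injective this

theorem isUnit_toLin' {ι : Type*} [Fintype ι] [DecidableEq ι] (g : GL ι F) :
    IsUnit (Matrix.toLin' (g : Matrix ι ι F)) := by
  refine ⟨⟨Matrix.toLin' (g : Matrix ι ι F), Matrix.toLin' ((g⁻¹ : GL ι F) : Matrix ι ι F), ?_, ?_⟩, rfl⟩
  · rw [Module.End.mul_eq_comp, ← Matrix.toLin'_mul, ← Units.val_mul, mul_inv_cancel, Units.val_one,
      Matrix.toLin'_one]
    rfl
  · rw [Module.End.mul_eq_comp, ← Matrix.toLin'_mul, ← Units.val_mul, inv_mul_cancel, Units.val_one,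
      Matrix.toLin'_one]
    rfl

/-- the family attached to an invertible commuting matrix -/
noncomputable def toFam
    (g : {g : GL ((k : Fin t) × Fin (d k)) F //
      (g : Matrix ((k : Fin t) × Fin (d k)) ((k : Fin t) × Fin (d k)) F) * Cfsg.jordanTypeMatrix d F =
        Cfsg.jordanTypeMatrix d F * (g : Matrix ((k : Fin t) × Fin (d k)) ((k : Fin t) × Fin (d k)) F)}) :
    {v : CentFam F d // ∀ i : ℕ, IsUnit (famBlk d hd i v).det} :=
  ⟨centFam d hd (Matrix.toLin' (g.1 : Matrix ((k : Fin t) × Fin (d k)) ((k : Fin t) × Fin (d k)) F))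
    (toLin'_comm_of_comm d _ g.2), by
    rw [← isUnit_famEnd_iff, famEnd_centFam]
    exact isUnit_toLin' g.1⟩

theorem toFam_bijective : Function.Bijective (toFam (F := F) d hd) := by
  constructor
  · intro g g' h
    have h1 := congrArg Subtype.val h
    have h2 := congrArg (famEnd d) h1
    simp only [toFam] at h2
    rw [famEnd_centFam, famEnd_centFam] at h2
    apply Subtype.ext
    apply Units.ext
    exact Matrix.toLin'.injective h2
  · intro v
    have hunit : IsUnit (famEnd d v.1) := (isUnit_famEnd_iff d hd v.1).2 v.2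
    obtain ⟨u, hu⟩ := hunit
    set M := LinearMap.toMatrix' (famEnd d v.1) with hM
    set M' := LinearMap.toMatrix' ((u⁻¹ : (Module.End F _)ˣ).1) with hM'
    have h1 : M * M' = 1 := by
      rw [hM, hM', ← hu, ← LinearMap.toMatrix'_mul, Units.mul_inv, LinearMap.toMatrix'_one]
    have h2 : M' * M = 1 := by
      rw [hM, hM', ← hu, ← LinearMap.toMatrix'_mul, Units.inv_mul, LinearMap.toMatrix'_one]
    have hlin : Matrix.toLin' M = famEnd d v.1 := by
      rw [hM, Matrix.toLin'_toMatrix']
    have hcomm : M * Cfsg.jordanTypeMatrix d F = Cfsg.jordanTypeMatrix d F * M := by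
      apply comm_of_toLin'_comm
      rw [hlin]
      exact famEnd_comm d v.1
    refine ⟨⟨⟨M, M', h1, h2⟩, hcomm⟩, ?_⟩
    apply Subtype.ext
    simp only [toFam]
    have : centFam d hd (Matrix.toLin' M) (toLin'_comm_of_comm d M hcomm) =
        centFam d hd (famEnd d v.1) (famEnd_comm d v.1) := by
      congr 1
    rw [this, centFam_famEnd]

end glue

end Cfsg.Agent.Lib.Helper43
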