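import Mathlib
import Cfsg.Agent.Lib.Helper71.LbA1Defs

/-!
# Lb hive (S1301), leaf LB-A1, sub-leaf A1-S1 (`lba1_step1`): Step 1 and the two strict inequalities
-/

set_option autoImplicit false

namespace Cfsg.Agent.Lib.Helper22.Lb

open Subgroup

section lba1

variable {H : Type*} [Group H] [Finite H]

theorem lba1s1x_card_lt {X Y : Subgroup H} (hXY : X ≤ Y) (y : H) (hyY : y ∈ Y) (hyX : y ∉ X) :
    Nat.card ↥X < Nat.card ↥Y := by
  have hlt : X < Y := lt_of_le_of_ne hXY (fun h => hyX (h ▸ hyY))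
  exact Set.card_strictMono (α := H) (SetLike.coe_ssubset_coe.mpr hlt)

theorem lba1s1x_mem_map_conj (P : Subgroup H) (g x : H) :
    x ∈ P.map (MulAut.conj g).toMonoidHom ↔ g⁻¹ * x * g ∈ P := by
  constructor
  · rintro ⟨y, hy, rfl⟩
    simpa [MulAut.conj_apply, mul_assoc] using hy
  · intro h
    exact ⟨g⁻¹ * x * g, h, by simp [MulAut.conj_apply, mul_assoc]⟩

/-- `P ⊓ M` normalizes `R ⊓ M` when `R = P ⊓ K` with `K` normal. -/
theorem lba1s1x_le_normalizer {K P R M : Subgroup H} [K.Normal] (hPK : P ⊓ K = R) :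
    P ⊓ M ≤ normalizer ((R ⊓ M : Subgroup H) : Set H) := by
  have hcl : ∀ d ∈ P ⊓ M, ∀ x ∈ R ⊓ M, d * x * d⁻¹ ∈ R ⊓ M := by
    intro d hd x hx
    have hxP : x ∈ P := by
      have : x ∈ P ⊓ K := by rw [hPK]; exact hx.1
      exact this.1
    have hxK : x ∈ K := by
      have : x ∈ P ⊓ K := by rw [hPK]; exact hx.1
      exact this.2
    refine Subgroup.mem_inf.mpr ⟨?_, ?_⟩
    · rw [← hPK]
      exact Subgroup.mem_inf.mpr
        ⟨P.mul_mem (P.mul_mem hd.1 hxP) (P.inv_mem hd.1), Subgroup.Normal.conj_mem ‹_› x hxK d⟩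
    · exact M.mul_mem (M.mul_mem hd.2 hx.2) (M.inv_mem hd.2)
  intro d hd
  rw [Subgroup.mem_normalizer_iff]
  intro x
  constructor
  · intro hx
    exact hcl d hd x hx
  · intro hx
    have hd' : d⁻¹ ∈ P ⊓ M := (P ⊓ M).inv_mem hd
    have := hcl d⁻¹ hd' _ hx
    simpa [mul_assoc] using this

/-- SUB-LEAF A1-S1 (Step 1 + the two strict inequalities; no maximality of `v` needed). -/
theorem lba1_step1 {K P R : Subgroup H} [K.Normal] {u : H} (hyp : lba1_Hyp K P R u)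
    (v : H) (hvP : v ∈ P) (hvc : ∃ g : H, g * u * g⁻¹ = v)
    (hcase : ¬ R ≤ centralizer ({v} : Set H)) :
    ∃ g : H, g * u * g⁻¹ = v ∧ (∀ d ∈ P ⊓ centralizer ({v} : Set H), g⁻¹ * d * g ∈ P) ∧
      Nat.card ↥(P ⊓ centralizer ({v} : Set H)) <
        Nat.card ↥(P ⊓ normalizer ((R ⊓ centralizer ({v} : Set H) : Subgroup H) : Set H)) ∧
      Nat.card ↥(P ⊓ centralizer ({v} : Set H)) <
        Nat.card ↥(P.map (MulAut.conj g).toMonoidHom ⊓
          normalizer ((R ⊓ centralizer ({v} : Set H) : Subgroup H) : Set H)) := by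
  obtain ⟨g0, hg0⟩ := hvc
  have hRP : R ≤ P := by rw [← hyp.hPK]; exact inf_le_left
  have hRK : R ≤ K := by rw [← hyp.hPK]; exact inf_le_right
  have hR2 : IsPGroup 2 R := hyp.hP2.to_le hRP
  have hmemR : ∀ x, x ∈ R ↔ x ∈ P ∧ x ∈ K := by
    intro x; rw [← hyp.hPK, Subgroup.mem_inf]
  set M : Subgroup H := centralizer ({v} : Set H) with hM
  -- the conjugate `A = g0 P g0⁻¹` lies in `M`
  have hA2 : IsPGroup 2 (P.map (MulAut.conj g0).toMonoidHom) := hyp.hP2.map _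
  have hAM : P.map (MulAut.conj g0).toMonoidHom ≤ M := by
    intro x hx
    rw [lba1s1x_mem_map_conj] at hx
    rw [hM, mem_centralizer_singleton_iff]
    have hc := hyp.hcen _ hx
    rw [← hg0]
    calc x * (g0 * u * g0⁻¹) = g0 * ((g0⁻¹ * x * g0) * u) * g0⁻¹ := by group
      _ = g0 * (u * (g0⁻¹ * x * g0)) * g0⁻¹ := by rw [hc]
      _ = g0 * u * g0⁻¹ * x := by group
  obtain ⟨S, hAS, hSM, hS2, hSconj⟩ := lba1_sylow 2 M _ hAM hA2
  have hSA : S ≤ P.map (MulAut.conj g0).toMonoidHom := by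
    have hQ2 : IsPGroup 2 (S.map (MulAut.conj g0⁻¹).toMonoidHom) := hS2.map _
    have hPQ : P ≤ S.map (MulAut.conj g0⁻¹).toMonoidHom := by
      intro x hx
      rw [lba1s1x_mem_map_conj]
      apply hAS
      rw [lba1s1x_mem_map_conj]
      simpa [mul_assoc] using hx
    have hQP := hyp.hPmax _ hQ2 hPQ
    intro s hs
    rw [lba1s1x_mem_map_conj]
    apply hQP
    rw [lba1s1x_mem_map_conj]
    simpa [mul_assoc] using hs
  obtain ⟨c, hcM, hc⟩ := hSconj (P ⊓ M) inf_le_right (hyp.hP2.to_le inf_le_left)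
  have hcv : c * v = v * c := mem_centralizer_singleton_iff.mp hcM
  -- the element `g = c * g0`
  have hg : (c * g0) * u * (c * g0)⁻¹ = v := by
    calc (c * g0) * u * (c * g0)⁻¹ = c * (g0 * u * g0⁻¹) * c⁻¹ := by group
      _ = c * v * c⁻¹ := by rw [hg0]
      _ = v := by rw [hcv]; group
  have hD1g : ∀ d ∈ P ⊓ M, (c * g0)⁻¹ * d * (c * g0) ∈ P := by
    intro d hd
    have h1 := hSA (hc d hd)
    rw [lba1s1x_mem_map_conj] at h1
    have h2 : (c * g0)⁻¹ * d * (c * g0) = g0⁻¹ * (c⁻¹ * d * c) * g0 := by group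
    rw [h2]; exact h1
  have hD1N : P ⊓ M ≤ normalizer ((R ⊓ M : Subgroup H) : Set H) :=
    lba1s1x_le_normalizer hyp.hPK
  have hne : R ⊓ M ≠ R := fun h => hcase (by rw [← h]; exact inf_le_right)
  obtain ⟨y, hyR, hyN, hyD⟩ := lba1_norm_growth 2 R (R ⊓ M) hR2 inf_le_left hne
  refine ⟨c * g0, hg, hD1g, ?_, ?_⟩
  · refine lba1s1x_card_lt (fun d hd => Subgroup.mem_inf.mpr ⟨hd.1, hD1N hd⟩) y
      (Subgroup.mem_inf.mpr ⟨hRP hyR, hyN⟩) ?_
    intro hy
    exact hyD (Subgroup.mem_inf.mpr ⟨hyR, hy.2⟩)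
  · -- the conjugate `R' = g R g⁻¹`
    have hR'2 : IsPGroup 2 (R.map (MulAut.conj (c * g0)).toMonoidHom) := hR2.map _
    have hDR' : R ⊓ M ≤ R.map (MulAut.conj (c * g0)).toMonoidHom := by
      intro d hd
      rw [lba1s1x_mem_map_conj, hmemR]
      refine ⟨hD1g d (Subgroup.mem_inf.mpr ⟨hRP hd.1, hd.2⟩), ?_⟩
      have := Subgroup.Normal.conj_mem ‹K.Normal› d (hRK hd.1) (c * g0)⁻¹
      simpa using this
    have hcardR' : Nat.card ↥(R.map (MulAut.conj (c * g0)).toMonoidHom) = Nat.card ↥R :=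
      Subgroup.card_map_of_injective (MulAut.conj (c * g0)).injective
    have hcardD : Nat.card ↥(R ⊓ M : Subgroup H) < Nat.card ↥R :=
      lba1s1x_card_lt inf_le_left y hyR hyD
    have hne' : R ⊓ M ≠ R.map (MulAut.conj (c * g0)).toMonoidHom := by
      intro h
      rw [← h] at hcardR'
      omega
    obtain ⟨y', hy'R, hy'N, hy'D⟩ :=
      lba1_norm_growth 2 (R.map (MulAut.conj (c * g0)).toMonoidHom) (R ⊓ M) hR'2 hDR' hne'
    have hy'K : y' ∈ K := by
      rw [lba1s1x_mem_map_conj] at hy'R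
      have := Subgroup.Normal.conj_mem ‹K.Normal› _ (hRK hy'R) (c * g0)
      simpa [mul_assoc] using this
    refine lba1s1x_card_lt (fun d hd => Subgroup.mem_inf.mpr ⟨?_, hD1N hd⟩) y'
      (Subgroup.mem_inf.mpr ⟨Subgroup.map_mono hRP hy'R, hy'N⟩) ?_
    · rw [lba1s1x_mem_map_conj]
      exact hD1g d hd
    · intro hy
      exact hy'D (Subgroup.mem_inf.mpr ⟨(hmemR y').mpr ⟨hy.1, hy'K⟩, hy.2⟩)

end lba1

end Cfsg.Agent.Lib.Helper22.Lb
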