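import Mathlib
import Cfsg.Agent.Lib.Helper75.LoCountDefs

/-! # LO-COUNT sub-split (helper75; Lo sub-hive of helper21, We hive S2347), sub-leaf COUNT-FAM. -/

set_option autoImplicit false

namespace Cfsg.Agent.Lib.Helper21.Lo

open Matrix

/-- COUNT-FAM (E/M, abstract group theory). If `f g = f h` forces `g⁻¹ * h ∈ S`, then `k ≤ |G : S|` gives a family
`Fin k → G` with pairwise distinct `f`-values. -/
theorem count_family {G : Type*} [Group G] [Finite G] {α : Type*} (S : Subgroup G) (f : G → α)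
    (hf : ∀ g h : G, f g = f h → g⁻¹ * h ∈ S) (k : ℕ) (hk : k * Nat.card S ≤ Nat.card G) :
    ∃ y : Fin k → G, ∀ i j, i ≠ j → f (y i) ≠ f (y j) := by
  classical
  have hcard : Nat.card G = Nat.card (G ⧸ S) * Nat.card S :=
    Subgroup.card_eq_card_quotient_mul_card_subgroup S
  have hS : 0 < Nat.card S := Nat.card_pos
  rw [hcard] at hk
  have hk' : k ≤ Nat.card (G ⧸ S) := Nat.le_of_mul_le_mul_right hk hS
  haveI : Fintype (G ⧸ S) := Fintype.ofFinite _
  have hk'' : Fintype.card (Fin k) ≤ Fintype.card (G ⧸ S) := by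
    rw [Fintype.card_fin, ← Nat.card_eq_fintype_card]
    exact hk'
  obtain ⟨e⟩ := Function.Embedding.nonempty_of_card_le hk''
  refine ⟨fun i => Quotient.out (e i), ?_⟩
  intro i j hij hfe
  apply hij
  apply e.injective
  have h1 := hf _ _ hfe
  have h2 : (QuotientGroup.mk (Quotient.out (e i)) : G ⧸ S) = QuotientGroup.mk (Quotient.out (e j)) :=
    QuotientGroup.eq.mpr h1
  have h3 : (QuotientGroup.mk (Quotient.out (e i)) : G ⧸ S) = e i := Quotient.out_eq (e i)
  have h4 : (QuotientGroup.mk (Quotient.out (e j)) : G ⧸ S) = e j := Quotient.out_eq (e j)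
  rw [← h3, ← h4, h2]

end Cfsg.Agent.Lib.Helper21.Lo
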