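import Mathlib
import Cfsg.Prelude.Def_LieTypeDatum
import Cfsg.Agent.Lib.Helper43.RingAutFin

set_option autoImplicit false
set_option linter.style.haveILetI false
set_option linter.unusedSimpArgs false

/-!
# Field automorphisms and the minus-type quadratic form: an explicit semisimilarity pair
-/

namespace Cfsg.Agent.Lib.Helper43.MinusFrob

open Matrix

/-- every automorphism of a finite field is a power of the Frobenius map -/
theorem exists_pow_eq {F : Type*} [Field F] [Fintype F] (p : ℕ) [Fact p.Prime] [CharP F p]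
    (σ : F ≃+* F) : ∃ n : ℕ, ∀ x : F, σ x = x ^ (p ^ n) := by
  letI : Algebra (ZMod p) F := ZMod.algebra F p
  obtain ⟨e, he⟩ := (Cfsg.Agent.Lib.Helper43.RingAutFin.algEquivRingAut (F := F) p).surjective σ
  obtain ⟨⟨n, hn⟩, h⟩ := (FiniteField.bijective_frobeniusAlgEquivOfAlgebraic_pow (ZMod p) F).2 e
  refine ⟨n, fun x => ?_⟩
  have h1 : σ x = e x := by rw [← he]; rfl
  have h2 : e x = (FiniteField.frobeniusAlgEquivOfAlgebraic (ZMod p) F ^ n) x := by
    rw [← h]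
  rw [h1, h2, AlgEquiv.coe_pow, FiniteField.coe_frobeniusAlgEquivOfAlgebraic_iterate, ZMod.card]

variable {F : Type*} [Field F]

/-- the binary identity behind the Frobenius semisimilarity of the norm form -/
theorem exists_binary_frob (p : ℕ) [Fact p.Prime] [CharP F p] (a b : F) (n : ℕ) :
    ∃ α β : F, ∀ z₁ z₂ : F,
      (z₁ ^ (p ^ n) + α * z₂ ^ (p ^ n)) ^ 2 +
          a * (z₁ ^ (p ^ n) + α * z₂ ^ (p ^ n)) * (β * z₂ ^ (p ^ n)) +
          b * (β * z₂ ^ (p ^ n)) ^ 2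
        = (z₁ ^ 2 + a * z₁ * z₂ + b * z₂ ^ 2) ^ (p ^ n) := by
  haveI : CharP (QuadraticAlgebra F (-b) a) p :=
    charP_of_injective_algebraMap (QuadraticAlgebra.algebraMap_injective) p
  set W : QuadraticAlgebra F (-b) a := (QuadraticAlgebra.omega) ^ (p ^ n) with hW
  refine ⟨W.re, W.im, fun z₁ z₂ => ?_⟩
  set y : QuadraticAlgebra F (-b) a := ⟨z₁, z₂⟩ with hy
  have hy' : y = algebraMap F _ z₁ + algebraMap F _ z₂ * QuadraticAlgebra.omega := by
    ext <;> simp [hy]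
  have hpow : y ^ (p ^ n) = algebraMap F _ (z₁ ^ (p ^ n)) + algebraMap F _ (z₂ ^ (p ^ n)) * W := by
    rw [hy', add_pow_char_pow, mul_pow, ← map_pow, ← map_pow]
  have hre : (y ^ (p ^ n)).re = z₁ ^ (p ^ n) + W.re * z₂ ^ (p ^ n) := by
    rw [hpow]
    simp only [QuadraticAlgebra.re_add, QuadraticAlgebra.re_mul, QuadraticAlgebra.algebraMap_re,
      QuadraticAlgebra.algebraMap_im]
    ring
  have him : (y ^ (p ^ n)).im = W.im * z₂ ^ (p ^ n) := by
    rw [hpow]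
    simp only [QuadraticAlgebra.im_add, QuadraticAlgebra.im_mul, QuadraticAlgebra.algebraMap_re,
      QuadraticAlgebra.algebraMap_im]
    ring
  have hnorm : QuadraticAlgebra.norm (y ^ (p ^ n)) = (QuadraticAlgebra.norm y) ^ (p ^ n) :=
    map_pow _ _ _
  rw [QuadraticAlgebra.norm_def, QuadraticAlgebra.norm_def, hre, him] at hnorm
  have hy1 : y.re = z₁ := rfl
  have hy2 : y.im = z₂ := rfl
  rw [hy1, hy2] at hnorm
  have e2 : z₁ * z₁ + a * z₁ * z₂ - -b * z₂ * z₂ = z₁ ^ 2 + a * z₁ * z₂ + b * z₂ ^ 2 := by ring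
  rw [e2] at hnorm
  rw [← hnorm]
  ring

variable [Fintype F]

/-- every field automorphism occurs in a semisimilarity pair of the minus-type form -/
theorem exists_pair_minus (m : ℕ) (a b : F)
    (hab : ∀ z₁ z₂ : F, z₁ ^ 2 + a * z₁ * z₂ + b * z₂ ^ 2 = 0 → z₁ = 0 ∧ z₂ = 0)
    (σ : F ≃+* F) :
    ∃ g : GL ((Fin m ⊕ Fin m) ⊕ Fin 2) F,
      Cfsg.IsSemisimilarityPair (Cfsg.quadFormMinus m F a b) g σ := by
  obtain ⟨p, hp⟩ := CharP.exists F
  haveI := hp
  haveI : Fact p.Prime := ⟨CharP.char_is_prime F p⟩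
  obtain ⟨n, hn⟩ := exists_pow_eq p σ
  obtain ⟨α, β, hαβ⟩ := exists_binary_frob p a b n
  have hβ : β ≠ 0 := by
    intro hβ0
    have h1 := hαβ (σ.symm (-α)) 1
    rw [← hn, σ.apply_symm_apply, hβ0] at h1
    have h2 : (σ.symm (-α) ^ 2 + a * σ.symm (-α) * 1 + b * 1 ^ 2) ^ (p ^ n) = 0 := by
      rw [← h1]; ring
    have hpn : p ^ n ≠ 0 := pow_ne_zero n (Fact.out : p.Prime).ne_zero
    have h3 := (pow_eq_zero_iff hpn).1 h2
    exact one_ne_zero (hab _ _ h3).2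
  set g₀ : Matrix (Fin 2) (Fin 2) F := !![1, α; 0, β] with hg₀
  set M : Matrix ((Fin m ⊕ Fin m) ⊕ Fin 2) ((Fin m ⊕ Fin m) ⊕ Fin 2) F :=
    Matrix.fromBlocks 1 0 0 g₀ with hM
  have hdet : M.det ≠ 0 := by
    rw [hM, Matrix.det_fromBlocks_zero₂₁, Matrix.det_one, one_mul, hg₀, Matrix.det_fin_two_of]
    simpa using hβ
  refine ⟨Matrix.GeneralLinearGroup.mkOfDetNeZero M hdet, 1, fun v => ?_⟩
  have hval : ((Matrix.GeneralLinearGroup.mkOfDetNeZero M hdet :
      GL ((Fin m ⊕ Fin m) ⊕ Fin 2) F) : Matrix _ _ F) = M := rfl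
  rw [hval, Units.val_one, one_mul]
  set w : (Fin m ⊕ Fin m) ⊕ Fin 2 → F := fun i => σ (v i) with hw
  have e1 : ∀ x : Fin m ⊕ Fin m, (M *ᵥ w) (Sum.inl x) = w (Sum.inl x) := by
    intro x
    rw [hM, Matrix.fromBlocks_mulVec]
    simp
  have e2 : (M *ᵥ w) (Sum.inr 0) = w (Sum.inr 0) + α * w (Sum.inr 1) := by
    rw [hM, Matrix.fromBlocks_mulVec]
    simp [hg₀, Matrix.mulVec, dotProduct, Fin.sum_univ_two]
  have e3 : (M *ᵥ w) (Sum.inr 1) = β * w (Sum.inr 1) := by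
    rw [hM, Matrix.fromBlocks_mulVec]
    simp [hg₀, Matrix.mulVec, dotProduct, Fin.sum_univ_two]
  unfold Cfsg.quadFormMinus
  simp only [e1, e2, e3]
  rw [map_add, map_sum]
  congr 1
  · apply Finset.sum_congr rfl
    intro i _
    rw [map_mul]
  · have h1 := hαβ (v (Sum.inr 0)) (v (Sum.inr 1))
    simp only [hw]
    rw [hn (v (Sum.inr 0)), hn (v (Sum.inr 1)), hn, h1]

end Cfsg.Agent.Lib.Helper43.MinusFrob
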