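import Cfsg.Agent.Lib.Helper43.OrthField
import Cfsg.Agent.Lib.Helper37.AutPOmegaKer

set_option autoImplicit false
set_option linter.unusedSectionVars false
set_option linter.unusedVariables false

/-!
# A semilinear map commuting with `Ω(Q)` modulo the centre is linear
-/

namespace Cfsg.Agent.Lib.Helper43.OrthField

open Matrix Module QuadraticMap
open Cfsg.Agent.Lib.Helper8 Cfsg.Agent.Lib.Helper13 Cfsg.Agent.Lib.Helper37

universe u

variable {ι : Type} [Fintype ι] [DecidableEq ι] {F : Type u} [Field F]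

/-- a vector fixed by all Eichler transformations `E(u, v)`, `v ⊥ u`, lies on the line of `u` -/
theorem mem_span_of_fixed_eichler (Q : QuadraticForm F (ι → F))
    (hQ : (QuadraticMap.polarBilin Q).Nondegenerate) (hn5 : 5 ≤ finrank F (ι → F))
    (u y : ι → F) (hu : Q u = 0) (hu0 : u ≠ 0)
    (hfix : ∀ (v : ι → F) (huv : polar ⇑Q u v = 0),
      (((eichlerElt Q hQ u v hu huv : ↥(Cfsg.isometryGroup F ⇑Q)) : GL ι F) : Matrix ι ι F) *ᵥ y
        = y) : ∃ c : F, y = c • u := by
  have hfix' : ∀ (v : ι → F) (huv : polar ⇑Q u v = 0),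
      polar ⇑Q u y • v - polar ⇑Q v y • u - (Q v * polar ⇑Q u y) • u = 0 := by
    intro v huv
    have h1 := hfix v huv
    rw [eichlerElt_mulVec] at h1
    have h3 : y + polar ⇑Q u y • v - polar ⇑Q v y • u - (Q v * polar ⇑Q u y) • u - y = 0 :=
      sub_eq_zero.2 h1
    calc polar ⇑Q u y • v - polar ⇑Q v y • u - (Q v * polar ⇑Q u y) • u
        = y + polar ⇑Q u y • v - polar ⇑Q v y • u - (Q v * polar ⇑Q u y) • u - y := by abel
      _ = 0 := h3
  obtain ⟨v0, hv0, hv0u⟩ := exists_nonsingular_orth_family Q hQ ![u] (by omega)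
  have hv0u' : polar ⇑Q u v0 = 0 := by rw [polar_comm]; exact hv0u 0
  have huy : polar ⇑Q u y = 0 := by
    by_contra hne
    have h1 := hfix' v0 hv0u'
    have h2 : v0 = ((polar ⇑Q u y)⁻¹ * (polar ⇑Q v0 y + Q v0 * polar ⇑Q u y)) • u := by
      have h3 : polar ⇑Q u y • v0 = (polar ⇑Q v0 y + Q v0 * polar ⇑Q u y) • u := by
        rw [add_smul]
        linear_combination (exp := 1) h1
      rw [mul_smul, ← h3, smul_smul, inv_mul_cancel₀ hne, one_smul]
    apply hv0
    rw [h2, QuadraticMap.map_smul, hu, smul_zero]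
  by_contra hcon
  push Not at hcon
  have hyu : y ∉ Submodule.span F {u} := by
    intro h
    obtain ⟨c, hc⟩ := Submodule.mem_span_singleton.1 h
    exact hcon c hc.symm
  obtain ⟨w, hwu, hwy⟩ := exists_orth_of_notMem Q hQ (Submodule.span F {u}) y hyu
  have huw : polar ⇑Q u w = 0 := by
    rw [polar_comm]; exact hwu u (Submodule.mem_span_singleton_self u)
  have h1 := hfix' w huw
  rw [huy, zero_smul, mul_zero, zero_smul, zero_sub, sub_zero, neg_eq_zero] at h1
  rcases smul_eq_zero.1 h1 with h | h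
  · exact hwy h
  · exact hu0 h

section kernel

variable [Fintype F] (Q : QuadraticForm F (ι → F))
  (hQ : (QuadraticMap.polarBilin Q).Nondegenerate) {k : ℕ} {e f : Fin k → ι → F}
  (hfam : HypFam Q k e f) (hk : 3 ≤ k)
  (hn5 : 5 ≤ finrank F (ι → F)) (hn2 : (2 : F) = 0 → 7 ≤ finrank F (ι → F))

include hQ hfam hk hn5 hn2

/-- **kernel lemma**: if the automorphism of `PΩ(Q)` induced by the semilinear map `v ↦ g σ(v)`
is trivial, then `σ = 1`. -/
theorem sigma_eq_one_of_trivial (hE : FieldEquivariant ⇑Q)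
    (g : ↥(Cfsg.Geo.quadSimilarityGroup (F := F) ⇑Q)) (σ : F ≃+* F)
    (h : Phi ⇑Q g * PhiF hE σ = 1) : σ = 1 := by
  -- the automorphism of `Ω` is the identity
  have hσ : ∀ s : ↥(Cfsg.Omega F ⇑Q),
      (MulAut.characteristic (Cfsg.Omega F ⇑Q) (simConjHom ⇑Q g * fieldIso hE σ)) s = s := by
    apply aut_eq_id_of_perfect (commutator_omega_eq_top Q hQ hn5 hn2)
    intro s
    have h1 : (Phi ⇑Q g * PhiF hE σ) (QuotientGroup.mk s) = QuotientGroup.mk s := by rw [h]; rfl
    have h2 : (Phi ⇑Q g * PhiF hE σ) (QuotientGroup.mk s) =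
        QuotientGroup.mk
          ((MulAut.characteristic (Cfsg.Omega F ⇑Q) (simConjHom ⇑Q g * fieldIso hE σ)) s) := rfl
    rw [h2] at h1
    exact QuotientGroup.eq.1 h1
  -- the semilinear map
  set T : (ι → F) → (ι → F) := fun x => (g.1 : Matrix ι ι F) *ᵥ (fun i => σ (x i)) with hT
  have hTadd : ∀ x y, T (x + y) = T x + T y := by
    intro x y
    simp only [hT]
    rw [← Matrix.mulVec_add]
    congr 1
    ext i
    simp
  have hTsmul : ∀ (c : F) x, T (c • x) = σ c • T x := by
    intro c x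
    simp only [hT]
    rw [← Matrix.mulVec_smul]
    congr 1
    ext i
    simp
  have hTinj : ∀ x, T x = 0 → x = 0 := by
    intro x hx
    have h1 : (fun i => σ (x i)) = 0 := by
      have := congrArg (fun w => ((g.1⁻¹ : GL ι F) : Matrix ι ι F) *ᵥ w) hx
      simp only [hT, Matrix.mulVec_mulVec, Matrix.mulVec_zero] at this
      rw [← Units.val_mul, inv_mul_cancel, Units.val_one, Matrix.one_mulVec] at this
      exact this
    ext i
    have := congrFun h1 i
    simpa using this
  -- `T` commutes with the Eichler transformations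
  have hcomm : ∀ (u v : ι → F) (hu : Q u = 0) (huv : polar ⇑Q u v = 0) (x : ι → F),
      T ((((eichlerElt Q hQ u v hu huv : ↥(Cfsg.isometryGroup F ⇑Q)) : GL ι F) :
        Matrix ι ι F) *ᵥ x) =
      (((eichlerElt Q hQ u v hu huv : ↥(Cfsg.isometryGroup F ⇑Q)) : GL ι F) :
        Matrix ι ι F) *ᵥ T x := by
    intro u v hu huv x
    have h1 := hσ ⟨eichlerElt Q hQ u v hu huv, eichlerElt_mem_omega Q hQ hn5 hn2 u v hu huv⟩
    have h2 := congrArg (fun s : ↥(Cfsg.Omega F ⇑Q) => ((s.1 : GL ι F))) h1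
    have h3 : g.1 * glMap σ (eichlerElt Q hQ u v hu huv).1 * g.1⁻¹ =
        (eichlerElt Q hQ u v hu huv).1 := h2
    have h4 : g.1 * glMap σ (eichlerElt Q hQ u v hu huv).1 =
        (eichlerElt Q hQ u v hu huv).1 * g.1 := by
      conv_rhs => rw [← h3]
      group
    have h5 := congrArg (fun x : GL ι F => (x : Matrix ι ι F)) h4
    simp only [Units.val_mul, glMap_val] at h5
    simp only [hT]
    rw [sigma_mulVec, Matrix.mulVec_mulVec, h5, Matrix.mulVec_mulVec]
  -- `T` fixes every singular point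
  have hsing : ∀ u : ι → F, Q u = 0 → u ≠ 0 → ∃ c : F, T u = c • u := by
    intro u hu hu0
    apply mem_span_of_fixed_eichler Q hQ hn5 u (T u) hu hu0
    intro v huv
    rw [← hcomm u v hu huv u]
    congr 1
    rw [eichlerElt_mulVec, polar_self, hu, polar_comm ⇑Q v u, huv]
    simp
  -- a totally singular plane
  set i0 : Fin k := ⟨0, by omega⟩ with hi0
  set i1 : Fin k := ⟨1, by omega⟩ with hi1
  have h01 : i0 ≠ i1 := by
    intro h
    have := congrArg Fin.val h
    simp [hi0, hi1] at this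
  have hQcomb : ∀ t : F, Q (e i0 + t • e i1) = 0 := by
    intro t
    rw [QuadraticMap.map_add Q, QuadraticMap.map_smul, hfam.qe, hfam.qe, polar_smul_right,
      hfam.ee]
    simp
  have hcomb0 : ∀ t : F, e i0 + t • e i1 ≠ 0 := by
    intro t h0
    have := congrArg (fun w => polar ⇑Q w (f i0)) h0
    simp only [polar_add_left, polar_smul_left, hfam.ef, if_true, if_neg h01.symm] at this
    simp [polar] at this
  obtain ⟨c0, hc0⟩ := hsing (e i0) (hfam.qe i0) (hfam.e_ne_zero i0)
  obtain ⟨c1, hc1⟩ := hsing (e i1) (hfam.qe i1) (hfam.e_ne_zero i1)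
  have hc0ne : c0 ≠ 0 := by
    rintro rfl
    rw [zero_smul] at hc0
    exact hfam.e_ne_zero i0 (hTinj _ hc0)
  have key : ∀ t : F, σ t * c1 = c0 * t := by
    intro t
    obtain ⟨d, hd⟩ := hsing _ (hQcomb t) (hcomb0 t)
    rw [hTadd, hTsmul, hc0, hc1, smul_add] at hd
    have e0 := congrArg (fun w => polar ⇑Q w (f i0)) hd
    have e1 := congrArg (fun w => polar ⇑Q w (f i1)) hd
    simp only [polar_add_left, polar_smul_left, hfam.ef, if_true, if_neg h01.symm,
      if_neg h01, smul_eq_mul, mul_one, mul_zero, add_zero, zero_add] at e0 e1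
    rw [e0]
    exact e1
  have h1 := key 1
  rw [map_one, one_mul, mul_one] at h1
  ext t
  have h2 := key t
  rw [h1] at h2
  have h3 : σ t = t := by
    have : c0 * σ t = c0 * t := by rw [mul_comm]; exact h2
    exact mul_left_cancel₀ hc0ne this
  exact h3

end kernel

end Cfsg.Agent.Lib.Helper43.OrthField
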