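import Cfsg.Agent.Lib.Helper43.OrthPair
import Cfsg.Agent.Lib.Helper43.OrthFieldKer

set_option autoImplicit false
set_option linter.unusedSectionVars false
set_option linter.unusedVariables false

/-!
# The kernel of the action of semisimilarity pairs on `PΩ(Q)`
-/

namespace Cfsg.Agent.Lib.Helper43.OrthPair

open Matrix Module QuadraticMap
open Cfsg.Agent.Lib.Helper8 Cfsg.Agent.Lib.Helper13 Cfsg.Agent.Lib.Helper37
open Cfsg.Agent.Lib.Helper5.AutOrth Cfsg.Agent.Lib.Helper43.OrthField

universe u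

variable {ι : Type} [Fintype ι] [DecidableEq ι] {F : Type u} [Field F]

section kernel

variable [Fintype F] (Q : QuadraticForm F (ι → F))
  (hQ : (QuadraticMap.polarBilin Q).Nondegenerate) {k : ℕ} {e f : Fin k → ι → F}
  (hfam : HypFam Q k e f) (hk : 3 ≤ k)
  (hn5 : 5 ≤ finrank F (ι → F))

include hQ hfam hk hn5

/-- a semilinear map `v ↦ g σ(v)` commuting with all Eichler transformations is linear -/
theorem sigma_eq_one_of_commute (g : GL ι F) (σ : F ≃+* F)
    (hcomm0 : ∀ (u v : ι → F) (hu : Q u = 0) (huv : polar ⇑Q u v = 0),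
      g * glMap σ (eichlerElt Q hQ u v hu huv).1 = (eichlerElt Q hQ u v hu huv).1 * g) :
    σ = 1 := by
  set T : (ι → F) → (ι → F) := fun x => (g : Matrix ι ι F) *ᵥ (fun i => σ (x i)) with hT
  have hTadd : ∀ x y, T (x + y) = T x + T y := by
    intro x y
    simp only [hT]
    rw [← Matrix.mulVec_add]
    congr 1
    ext i
    simp
  have hTsmul : ∀ (c : F) x, T (c • x) = σ c • T x := by
    intro c x
    simp only [hT]
    rw [← Matrix.mulVec_smul]
    congr 1
    ext i
    simp
  have hTinj : ∀ x, T x = 0 → x = 0 := by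
    intro x hx
    have h1 : (fun i => σ (x i)) = 0 := by
      have := congrArg (fun w => ((g⁻¹ : GL ι F) : Matrix ι ι F) *ᵥ w) hx
      simp only [hT, Matrix.mulVec_mulVec, Matrix.mulVec_zero] at this
      rw [← Units.val_mul, inv_mul_cancel, Units.val_one, Matrix.one_mulVec] at this
      exact this
    ext i
    have := congrFun h1 i
    simpa using this
  have hcomm : ∀ (u v : ι → F) (hu : Q u = 0) (huv : polar ⇑Q u v = 0) (x : ι → F),
      T ((((eichlerElt Q hQ u v hu huv : ↥(Cfsg.isometryGroup F ⇑Q)) : GL ι F) :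
        Matrix ι ι F) *ᵥ x) =
      (((eichlerElt Q hQ u v hu huv : ↥(Cfsg.isometryGroup F ⇑Q)) : GL ι F) :
        Matrix ι ι F) *ᵥ T x := by
    intro u v hu huv x
    have h5 := congrArg (fun x : GL ι F => (x : Matrix ι ι F)) (hcomm0 u v hu huv)
    simp only [Units.val_mul, glMap_val] at h5
    simp only [hT]
    rw [sigma_mulVec, Matrix.mulVec_mulVec, h5, Matrix.mulVec_mulVec]
  have hsing : ∀ u : ι → F, Q u = 0 → u ≠ 0 → ∃ c : F, T u = c • u := by
    intro u hu hu0
    apply mem_span_of_fixed_eichler Q hQ hn5 u (T u) hu hu0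
    intro v huv
    rw [← hcomm u v hu huv u]
    congr 1
    rw [eichlerElt_mulVec, polar_self, hu, polar_comm ⇑Q v u, huv]
    simp
  set i0 : Fin k := ⟨0, by omega⟩ with hi0
  set i1 : Fin k := ⟨1, by omega⟩ with hi1
  have h01 : i0 ≠ i1 := by
    intro h
    have := congrArg Fin.val h
    simp [hi0, hi1] at this
  have hQcomb : ∀ t : F, Q (e i0 + t • e i1) = 0 := by
    intro t
    rw [QuadraticMap.map_add Q, QuadraticMap.map_smul, hfam.qe, hfam.qe, polar_smul_right,
      hfam.ee]
    simp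
  have hcomb0 : ∀ t : F, e i0 + t • e i1 ≠ 0 := by
    intro t h0
    have := congrArg (fun w => polar ⇑Q w (f i0)) h0
    simp only [polar_add_left, polar_smul_left, hfam.ef, if_true, if_neg h01.symm] at this
    simp [polar] at this
  obtain ⟨c0, hc0⟩ := hsing (e i0) (hfam.qe i0) (hfam.e_ne_zero i0)
  obtain ⟨c1, hc1⟩ := hsing (e i1) (hfam.qe i1) (hfam.e_ne_zero i1)
  have hc0ne : c0 ≠ 0 := by
    rintro rfl
    rw [zero_smul] at hc0
    exact hfam.e_ne_zero i0 (hTinj _ hc0)
  have key : ∀ t : F, σ t * c1 = c0 * t := by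
    intro t
    obtain ⟨d, hd⟩ := hsing _ (hQcomb t) (hcomb0 t)
    rw [hTadd, hTsmul, hc0, hc1, smul_add] at hd
    have e0 := congrArg (fun w => polar ⇑Q w (f i0)) hd
    have e1 := congrArg (fun w => polar ⇑Q w (f i1)) hd
    simp only [polar_add_left, polar_smul_left, hfam.ef, if_true, if_neg h01.symm,
      if_neg h01, smul_eq_mul, mul_one, mul_zero, add_zero, zero_add] at e0 e1
    rw [e0]
    exact e1
  have h1 := key 1
  rw [map_one, one_mul, mul_one] at h1
  ext t
  have h2 := key t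
  rw [h1] at h2
  have h3 : σ t = t := by
    have : c0 * σ t = c0 * t := by rw [mul_comm]; exact h2
    exact mul_left_cancel₀ hc0ne this
  exact h3

/-- **kernel lemma**: a semisimilarity pair acting trivially on `PΩ(Q)` has trivial field
automorphism -/
theorem sigma_eq_one_of_semiAut_eq_one (hn2 : (2 : F) = 0 → 7 ≤ finrank F (ι → F))
    {g : GL ι F} {σ : F ≃+* F} (h : Cfsg.IsSemisimilarityPair ⇑Q g σ)
    (h1 : semiAut h = 1) : σ = 1 := by
  have hσ : ∀ s : ↥(Cfsg.Omega F ⇑Q), twAutOmega h s = s := by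
    apply aut_eq_id_of_perfect (commutator_omega_eq_top Q hQ hn5 hn2)
    intro s
    have h2 : semiAut h (QuotientGroup.mk s) = QuotientGroup.mk s := by rw [h1]; rfl
    rw [semiAut_mk] at h2
    exact QuotientGroup.eq.1 h2
  apply sigma_eq_one_of_commute Q hQ hfam hk hn5 g σ
  intro u v hu huv
  have h2 := hσ ⟨eichlerElt Q hQ u v hu huv, eichlerElt_mem_omega Q hQ hn5 hn2 u v hu huv⟩
  have h3 := congrArg (fun s : ↥(Cfsg.Omega F ⇑Q) => ((s.1 : GL ι F))) h2
  have h4 : g * glMap σ (eichlerElt Q hQ u v hu huv).1 * g⁻¹ =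
      (eichlerElt Q hQ u v hu huv).1 := h3
  conv_rhs => rw [← h4]
  group

end kernel

end Cfsg.Agent.Lib.Helper43.OrthPair
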