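import Cfsg.Agent.Lib.Helper43.OrthPair

set_option autoImplicit false
set_option linter.unusedSectionVars false

/-!
# The field-automorphism quotient of `Aut(PΩ(Q))`, general forms
-/

namespace Cfsg.Agent.Lib.Helper43.OrthPair

open Matrix
open Cfsg.Agent.Lib.Helper37 Cfsg.Agent.Lib.Helper5.AutOrth Cfsg.Agent.Lib.Helper43.OrthField

universe u

variable {ι : Type} [Fintype ι] [DecidableEq ι] {F : Type u} [Field F] [Fintype F]

/-- the data needed to map `Aut(PΩ(Q))` onto a group of field automorphisms -/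
structure PairData (Q : (ι → F) → F) : Prop where
  hker : ∀ {g : GL ι F} {σ : F ≃+* F} (h : Cfsg.IsSemisimilarityPair Q g σ),
    semiAut h = 1 → σ = 1
  hAll : Cfsg.gammaPOmega F Q = ⊤

namespace PairData

variable {Q : (ι → F) → F} (D : PairData Q)

include D

theorem exists_pair (β : MulAut (Cfsg.POmega F Q)) :
    ∃ (σ : F ≃+* F) (g : GL ι F) (h : Cfsg.IsSemisimilarityPair Q g σ), β = semiAut h := by
  have hβ : β ∈ Cfsg.gammaPOmega F Q := by rw [D.hAll]; exact Subgroup.mem_top β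
  obtain ⟨g, σ, h, e⟩ := (mem_gamma_iff β).1 hβ
  exact ⟨σ, g, h, e⟩

theorem sigma_unique {g g' : GL ι F} {σ σ' : F ≃+* F} (h : Cfsg.IsSemisimilarityPair Q g σ)
    (h' : Cfsg.IsSemisimilarityPair Q g' σ') (e : semiAut h = semiAut h') : σ = σ' := by
  have h1 : semiAut (pair_mul (pair_inv h') h) = 1 := by
    rw [← semiAut_mul (pair_inv h') h, ← semiAut_inv h', e, inv_mul_cancel]
  have := D.hker _ h1
  exact inv_mul_eq_one.1 this |>.symm

/-- the field automorphism attached to an automorphism of `PΩ(Q)` -/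
noncomputable def thetaFun (β : MulAut (Cfsg.POmega F Q)) : F ≃+* F :=
  (D.exists_pair β).choose

theorem thetaFun_spec (β : MulAut (Cfsg.POmega F Q)) :
    ∃ (g : GL ι F) (h : Cfsg.IsSemisimilarityPair Q g (D.thetaFun β)), β = semiAut h :=
  (D.exists_pair β).choose_spec

theorem thetaFun_semiAut {g : GL ι F} {σ : F ≃+* F} (h : Cfsg.IsSemisimilarityPair Q g σ) :
    D.thetaFun (semiAut h) = σ := by
  obtain ⟨g', h', e⟩ := D.thetaFun_spec (semiAut h)
  exact (D.sigma_unique h h' e).symm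

/-- the homomorphism `Aut(PΩ(Q)) → Aut(F)` -/
noncomputable def Theta : MulAut (Cfsg.POmega F Q) →* (F ≃+* F) where
  toFun := D.thetaFun
  map_one' := by
    rw [← semiAut_one]
    exact D.thetaFun_semiAut pair_one
  map_mul' α β := by
    obtain ⟨g, hg, e1⟩ := D.thetaFun_spec α
    obtain ⟨g', hg', e2⟩ := D.thetaFun_spec β
    conv_lhs => rw [e1, e2, semiAut_mul]
    exact D.thetaFun_semiAut _

theorem Theta_semiAut {g : GL ι F} {σ : F ≃+* F} (h : Cfsg.IsSemisimilarityPair Q g σ) :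
    D.Theta (semiAut h) = σ := D.thetaFun_semiAut h

theorem Theta_Phi (g : ↥(Cfsg.Geo.quadSimilarityGroup (F := F) Q)) : D.Theta (Phi Q g) = 1 := by
  have h : Cfsg.IsSemisimilarityPair Q g.1 (1 : F ≃+* F) := (pair_refl_iff g.1).2 g.2
  have := D.Theta_semiAut h
  rwa [semiAut_eq_Phi] at this

theorem Theta_ker : D.Theta.ker = (Phi Q).range := by
  ext α
  rw [MonoidHom.mem_ker]
  constructor
  · intro h
    obtain ⟨g, hg, e⟩ := D.thetaFun_spec α
    have h' : D.thetaFun α = 1 := h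
    have hg' : Cfsg.IsSemisimilarityPair Q g (1 : F ≃+* F) := h' ▸ hg
    have e' : α = semiAut hg' := by
      rw [e]
      exact semiAut_congr _ _ rfl h'
    rw [e', semiAut_eq_Phi]
    exact ⟨_, rfl⟩
  · rintro ⟨g, rfl⟩
    exact D.Theta_Phi g

theorem mem_Theta_range (σ : F ≃+* F) :
    σ ∈ D.Theta.range ↔ ∃ g : GL ι F, Cfsg.IsSemisimilarityPair Q g σ := by
  constructor
  · rintro ⟨α, rfl⟩
    obtain ⟨g, hg, -⟩ := D.thetaFun_spec α
    exact ⟨g, hg⟩
  · rintro ⟨g, h⟩
    exact ⟨semiAut h, D.Theta_semiAut h⟩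

theorem inn_le_ker : Cfsg.Inn (Cfsg.POmega F Q) ≤ D.Theta.ker := by
  rw [D.Theta_ker, inn_eq]
  exact Subgroup.map_le_range _ _

end PairData

end Cfsg.Agent.Lib.Helper43.OrthPair
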