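import Cfsg.Agent.S2696
import Cfsg.Agent.Lib.Helper43.EvenOrthAut
import Cfsg.Agent.Lib.Helper43.OrthPairKer
import Cfsg.Agent.Lib.Helper43.OrthPairStruct
import Cfsg.Agent.Lib.Helper43.MinusFrob
import Cfsg.Agent.Lib.Helper43.RingAutFin
import Cfsg.Agent.Lib.Helper37.MinusAut

set_option autoImplicit false
set_option linter.unusedSectionVars false
set_option linter.unusedVariables false
set_option linter.style.haveILetI false

/-!
# The order of `Aut(PΩ⁻_{2m+2}(q))`
-/

namespace Cfsg.Agent.Lib.Helper43.MinusAutCard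

open Matrix Module
open Cfsg.Agent.Lib.Helper8 Cfsg.Agent.Lib.Helper37 Cfsg.Agent.Lib.Helper43
open Cfsg.Agent.Lib.Helper5.AutOrth Cfsg.Agent.Lib.Helper43.OrthPair

universe u

variable {F : Type u} [Field F] [Fintype F] {m : ℕ} (hm : 3 ≤ m) (a b : F)
  (hab : ∀ z₁ z₂ : F, z₁ ^ 2 + a * z₁ * z₂ + b * z₂ ^ 2 = 0 → z₁ = 0 ∧ z₂ = 0)

include hm hab

theorem minus_nd : (QuadraticMap.polarBilin (minusForm m F a b)).Nondegenerate :=
  (minus_family m F a b).nondegenerate (minusForm_zero_nondegenerate F a b hab)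

theorem pairData_minusForm :
    PairData (⇑(minusForm m F a b) : ((Fin m ⊕ Fin m) ⊕ Fin 2 → F) → F) := by
  have hfr : Module.finrank F ((Fin m ⊕ Fin m) ⊕ Fin 2 → F) = m + m + 2 := by simp
  refine ⟨fun h h1 => sigma_eq_one_of_semiAut_eq_one (minusForm m F a b) (minus_nd hm a b hab)
    (Cfsg.Agent.S2696.minus_hypFam' m F a b) hm (by omega) (fun _ => by omega) h h1, ?_⟩
  rw [← minusForm_coe]
  exact Cfsg.Agent.S2696.result hm a b hab

theorem pairData_minus : PairData (Cfsg.quadFormMinus m F a b) := by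
  rw [minusForm_coe]
  exact pairData_minusForm hm a b hab

theorem theta_surjective : Function.Surjective (pairData_minus hm a b hab).Theta := by
  intro σ
  have := ((pairData_minus hm a b hab).mem_Theta_range σ).2
    (Cfsg.Agent.Lib.Helper43.MinusFrob.exists_pair_minus m a b hab σ)
  exact this

theorem minus_hne : ∃ v, Cfsg.quadFormMinus m F a b v ≠ 0 := by
  refine ⟨Pi.single (Sum.inr 0) 1, ?_⟩
  unfold Cfsg.quadFormMinus
  simp

/-- every scalar is the multiplier of a similarity of the minus-type form -/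
theorem minus_mult_surj (c : Fˣ) :
    ∃ g : ↥(Cfsg.Geo.quadSimilarityGroup (F := F) (Cfsg.quadFormMinus m F a b)),
      simMult (Cfsg.quadFormMinus m F a b) g = c := by
  classical
  have hne := minus_hne hm a b hab
  by_cases h2 : (2 : F) = 0
  · -- every element is a square
    haveI : CharP F 2 := by
      have : ringChar F = 2 := by
        have h3 : ((2 : ℕ) : F) = 0 := by exact_mod_cast h2
        have h4 := ringChar.dvd h3
        have h5 := CharP.char_is_prime F (ringChar F)
        exact ((Nat.prime_dvd_prime_iff_eq h5 Nat.prime_two).1 h4)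
      exact this ▸ ringChar.charP F
    obtain ⟨d, hd⟩ := FiniteField.isSquare_of_char_two (CharP.ringChar_of_prime_eq_zero
      Nat.prime_two (by exact_mod_cast h2)) (c : F)
    have hd0 : d ≠ 0 := by
      rintro rfl
      rw [mul_zero] at hd
      exact c.ne_zero hd
    have key : ∀ v, Cfsg.quadFormMinus m F a b
        (((EvenOrthAut.scalarSim (minusForm m F a b) (Units.mk0 d hd0)).1 : Matrix _ _ F) *ᵥ v) =
        (c : F) * Cfsg.quadFormMinus m F a b v := by
      intro v
      rw [EvenOrthAut.scalarSim_mulVec, minusForm_coe, QuadraticMap.map_smul, Units.val_mk0, hd,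
        smul_eq_mul]
    refine ⟨⟨(EvenOrthAut.scalarSim (minusForm m F a b) (Units.mk0 d hd0)).1, c, key⟩, ?_⟩
    exact simMult_unique hne _ c key
  · obtain ⟨w, hw⟩ := (minus_isGram h2 0 a b).universal (gramM_det_ne_zero h2 0 a b hab)
      (by rw [minus_card_two_mul]) (c : F)
    have hw' : w (.inr 0) ^ 2 + a * w (.inr 0) * w (.inr 1) + b * w (.inr 1) ^ 2 = (c : F) := by
      rw [← hw]
      unfold Cfsg.quadFormMinus
      simp
    have hw0 : w (.inr 0) ^ 2 + a * w (.inr 0) * w (.inr 1) + b * w (.inr 1) ^ 2 ≠ 0 := by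
      rw [hw']; exact c.ne_zero
    refine ⟨minusSim m a b (w (.inr 0)) (w (.inr 1)) hw0, ?_⟩
    apply simMult_unique hne
    intro v
    rw [← hw']
    exact minusSimMat_Q m a b _ _ v

/-- the image of the conformal group in `Aut(PΩ⁻)` has the order of the orthogonal group -/
theorem card_range_Phi_minus :
    Nat.card (Phi (Cfsg.quadFormMinus m F a b)).range =
      Nat.card ↥(Cfsg.isometryGroup F (Cfsg.quadFormMinus m F a b)) := by
  have h1 := minus_hne hm a b hab
  have h2 := minus_hker hm a b hab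
  have h3 := minus_mult_surj hm a b hab
  rw [minusForm_coe] at h1 h2 h3 ⊢
  exact EvenOrthAut.card_range_Phi_eq (minusForm m F a b) h1 h2 h3

/-- `|Aut(PΩ⁻)| = f |O⁻|` -/
theorem card_mulAut_minus {p f : ℕ} [Fact p.Prime] (hF : Fintype.card F = p ^ f) :
    Nat.card (MulAut (Cfsg.POmega F (Cfsg.quadFormMinus m F a b))) =
      f * Nat.card ↥(Cfsg.isometryGroup F (Cfsg.quadFormMinus m F a b)) := by
  have D := pairData_minus hm a b hab
  rw [Subgroup.card_eq_card_quotient_mul_card_subgroup D.Theta.ker,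
    Nat.card_congr (QuotientGroup.quotientKerEquivOfSurjective D.Theta
      (theta_surjective hm a b hab)).toEquiv,
    Cfsg.Agent.Lib.Helper43.RingAutFin.card_ringAut' hF, D.Theta_ker,
    card_range_Phi_minus hm a b hab]

end Cfsg.Agent.Lib.Helper43.MinusAutCard
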