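import Mathlib
import Cfsg.Prelude.Def_LieTypeDatum
import Cfsg.Agent.Lib.Helper37.AutPOmega

set_option autoImplicit false
set_option linter.unusedSectionVars false

/-!
# Field automorphisms acting on `PΩ(Q)` for forms with prime-field coefficients
-/

namespace Cfsg.Agent.Lib.Helper43.OrthField

open Matrix
open Cfsg.Agent.Lib.Helper37

universe u

variable {ι : Type} [Fintype ι] [DecidableEq ι] {F : Type u} [Field F]

/-- the form commutes with field automorphisms acting on coordinates -/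
def FieldEquivariant (Q : (ι → F) → F) : Prop :=
  ∀ (σ : F ≃+* F) (v : ι → F), Q (fun i => σ (v i)) = σ (Q v)

theorem sigma_mulVec (σ : F ≃+* F) (A : Matrix ι ι F) (v : ι → F) :
    (fun i => σ ((A *ᵥ v) i)) = (A.map σ) *ᵥ (fun i => σ (v i)) := by
  ext i
  simp [Matrix.mulVec, dotProduct, map_sum]

theorem sigma_symm_vec (σ : F ≃+* F) (v : ι → F) :
    (fun i => σ ((fun j => σ.symm (v j)) i)) = v := by
  ext i
  simp

/-- entrywise field automorphism on `GL` -/
def glMap (σ : F ≃+* F) : GL ι F →* GL ι F := Matrix.GeneralLinearGroup.map σ.toRingHom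

theorem glMap_val (σ : F ≃+* F) (g : GL ι F) :
    ((glMap σ g : GL ι F) : Matrix ι ι F) = (g : Matrix ι ι F).map σ := rfl

theorem glMap_one (g : GL ι F) : glMap (1 : F ≃+* F) g = g := by
  apply Units.ext
  rw [glMap_val]
  ext i j
  rfl

theorem glMap_mul (σ τ : F ≃+* F) (g : GL ι F) : glMap (σ * τ) g = glMap σ (glMap τ g) := by
  apply Units.ext
  rw [glMap_val, glMap_val, glMap_val]
  ext i j
  rfl

theorem glMap_inv_glMap (σ : F ≃+* F) (g : GL ι F) : glMap σ⁻¹ (glMap σ g) = g := by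
  rw [← glMap_mul, inv_mul_cancel, glMap_one]

theorem glMap_glMap_inv (σ : F ≃+* F) (g : GL ι F) : glMap σ (glMap σ⁻¹ g) = g := by
  rw [← glMap_mul, mul_inv_cancel, glMap_one]

/-- a field automorphism maps similarities to similarities, twisting the multiplier -/
theorem glMap_sim {Q : (ι → F) → F} (hQ : FieldEquivariant Q) (σ : F ≃+* F) (g : GL ι F) (c : F)
    (hg : ∀ v, Q ((g : Matrix ι ι F) *ᵥ v) = c * Q v) (v : ι → F) :
    Q (((glMap σ g : GL ι F) : Matrix ι ι F) *ᵥ v) = σ c * Q v := by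
  have h1 := sigma_mulVec σ (g : Matrix ι ι F) (fun j => σ.symm (v j))
  rw [sigma_symm_vec] at h1
  rw [glMap_val, ← h1, hQ, hg, map_mul, ← hQ, sigma_symm_vec]

theorem glMap_mem_isom {Q : (ι → F) → F} (hQ : FieldEquivariant Q) (σ : F ≃+* F) (g : GL ι F)
    (hg : g ∈ Cfsg.isometryGroup F Q) : glMap σ g ∈ Cfsg.isometryGroup F Q := by
  rw [Cfsg.Agent.Lib.Helper94.mem_isom] at hg ⊢
  intro v
  have := glMap_sim hQ σ g 1 (fun v => by rw [hg v, one_mul]) v
  rw [this, map_one, one_mul]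

theorem glMap_mem_sim {Q : (ι → F) → F} (hQ : FieldEquivariant Q) (σ : F ≃+* F) (g : GL ι F)
    (hg : g ∈ Cfsg.Geo.quadSimilarityGroup (F := F) Q) :
    glMap σ g ∈ Cfsg.Geo.quadSimilarityGroup (F := F) Q := by
  obtain ⟨c, hc⟩ := hg
  exact ⟨Units.map (σ : F →* F) c, fun v => glMap_sim hQ σ g c hc v⟩

/-- the entrywise action of field automorphisms on the isometry group -/
def fieldIso {Q : (ι → F) → F} (hQ : FieldEquivariant Q) :
    (F ≃+* F) →* MulAut ↥(Cfsg.isometryGroup F Q) where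
  toFun σ :=
    { toFun := fun h => ⟨glMap σ h.1, glMap_mem_isom hQ σ h.1 h.2⟩
      invFun := fun h => ⟨glMap σ⁻¹ h.1, glMap_mem_isom hQ σ⁻¹ h.1 h.2⟩
      left_inv := fun h => Subtype.ext (glMap_inv_glMap σ h.1)
      right_inv := fun h => Subtype.ext (glMap_glMap_inv σ h.1)
      map_mul' := fun a b => Subtype.ext (map_mul (glMap σ) a.1 b.1) }
  map_one' := by
    apply MulEquiv.ext
    intro h
    exact Subtype.ext (glMap_one h.1)
  map_mul' a b := by
    apply MulEquiv.ext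
    intro h
    exact Subtype.ext (glMap_mul a b h.1)

theorem fieldIso_apply {Q : (ι → F) → F} (hQ : FieldEquivariant Q) (σ : F ≃+* F)
    (h : ↥(Cfsg.isometryGroup F Q)) :
    ((fieldIso hQ σ h : ↥(Cfsg.isometryGroup F Q)) : GL ι F) = glMap σ h.1 := rfl

/-- the action of field automorphisms on `PΩ(Q)` -/
def PhiF {Q : (ι → F) → F} (hQ : FieldEquivariant Q) :
    (F ≃+* F) →* MulAut (Cfsg.POmega F Q) :=
  (autQuotCenter ↥(Cfsg.Omega F Q)).comp
    ((MulAut.characteristic (Cfsg.Omega F Q)).comp (fieldIso hQ))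

theorem PhiF_mk {Q : (ι → F) → F} (hQ : FieldEquivariant Q) (σ : F ≃+* F)
    (s : ↥(Cfsg.Omega F Q)) :
    PhiF hQ σ (QuotientGroup.mk s) =
      QuotientGroup.mk (MulAut.characteristic (Cfsg.Omega F Q) (fieldIso hQ σ) s) := rfl

theorem PhiF_mk_val {Q : (ι → F) → F} (hQ : FieldEquivariant Q) (σ : F ≃+* F)
    (s : ↥(Cfsg.Omega F Q)) :
    ((((MulAut.characteristic (Cfsg.Omega F Q) (fieldIso hQ σ) s : ↥(Cfsg.Omega F Q)) :
      ↥(Cfsg.isometryGroup F Q)) : GL ι F) : Matrix ι ι F) = (s.1.1 : Matrix ι ι F).map σ := rfl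

/-- a semisimilarity pair of an equivariant form has a similarity as its linear part -/
theorem sim_of_semisim {Q : (ι → F) → F} (hQ : FieldEquivariant Q) (g : GL ι F) (σ : F ≃+* F)
    (h : Cfsg.IsSemisimilarityPair Q g σ) : g ∈ Cfsg.Geo.quadSimilarityGroup (F := F) Q := by
  obtain ⟨c, hc⟩ := h
  refine ⟨c, fun v => ?_⟩
  have := hc (fun j => σ.symm (v j))
  rw [sigma_symm_vec] at this
  rw [this, ← hQ, sigma_symm_vec]

theorem omega_ext {Q : (ι → F) → F} (x y : ↥(Cfsg.Omega F Q))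
    (h : (((x : ↥(Cfsg.isometryGroup F Q)) : GL ι F) : Matrix ι ι F) =
      (((y : ↥(Cfsg.isometryGroup F Q)) : GL ι F) : Matrix ι ι F)) : x = y :=
  Subtype.ext (Subtype.ext (Units.ext h))

/-- the automorphism induced by the semilinear map `v ↦ g σ(v)` is `Phi g * PhiF σ` -/
theorem isInduced_semi_iff {Q : (ι → F) → F} (hQ : FieldEquivariant Q) (g : GL ι F)
    (hg : g ∈ Cfsg.Geo.quadSimilarityGroup (F := F) Q) (σ : F ≃+* F)
    (β : Cfsg.POmega F Q ≃* Cfsg.POmega F Q) :
    Cfsg.IsInducedBySemilinearPOmega Q g σ β ↔ β = Phi Q ⟨g, hg⟩ * PhiF hQ σ := by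
  constructor
  · intro h
    ext x
    induction x using QuotientGroup.induction_on with
    | H s =>
      rw [MulAut.mul_apply, PhiF_mk, Phi_mk]
      apply h s
      rw [Phi_mk_val, Units.val_mul, Units.val_mul]
      rfl
  · rintro rfl s s' hs
    rw [MulAut.mul_apply, PhiF_mk, Phi_mk]
    congr 1
    apply omega_ext
    rw [hs, Phi_mk_val, Units.val_mul, Units.val_mul]
    rfl

/-- conjugating a similarity-induced automorphism by a field automorphism -/
theorem PhiF_mul_Phi {Q : (ι → F) → F} (hQ : FieldEquivariant Q) (σ : F ≃+* F)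
    (g : ↥(Cfsg.Geo.quadSimilarityGroup (F := F) Q)) :
    PhiF hQ σ * Phi Q g = Phi Q ⟨glMap σ g.1, glMap_mem_sim hQ σ g.1 g.2⟩ * PhiF hQ σ := by
  ext x
  induction x using QuotientGroup.induction_on with
  | H s =>
    rw [MulAut.mul_apply, MulAut.mul_apply, Phi_mk, PhiF_mk, PhiF_mk, Phi_mk]
    congr 1
    apply omega_ext
    rw [PhiF_mk_val, Phi_mk_val, Phi_mk_val, Units.val_mul, Units.val_mul, Units.val_mul,
      Units.val_mul, ← map_inv, glMap_val, glMap_val]
    show ((g.1 : Matrix ι ι F) * _ * _).map σ = _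
    rw [Matrix.map_mul, Matrix.map_mul]
    rfl

end Cfsg.Agent.Lib.Helper43.OrthField
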