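import Cfsg.Agent.Lib.Helper5.AutOrthSemi
import Cfsg.Agent.Lib.Helper43.OrthField

set_option autoImplicit false
set_option linter.unusedSectionVars false

/-!
# The group of semisimilarity pairs acting on `PΩ(Q)`
-/

namespace Cfsg.Agent.Lib.Helper43.OrthPair

open Matrix
open Cfsg.Agent.Lib.Helper37 Cfsg.Agent.Lib.Helper5.AutOrth Cfsg.Agent.Lib.Helper43.OrthField

universe u

variable {ι : Type} [Fintype ι] [DecidableEq ι] {F : Type u} [Field F] [Fintype F]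
  {Q : (ι → F) → F}

theorem pair_one : Cfsg.IsSemisimilarityPair Q (1 : GL ι F) (1 : F ≃+* F) :=
  ⟨1, fun v => by
    rw [Units.val_one, Matrix.one_mulVec, Units.val_one, one_mul]
    rfl⟩

theorem pair_mul {g₁ g₂ : GL ι F} {σ₁ σ₂ : F ≃+* F} (h₁ : Cfsg.IsSemisimilarityPair Q g₁ σ₁)
    (h₂ : Cfsg.IsSemisimilarityPair Q g₂ σ₂) :
    Cfsg.IsSemisimilarityPair Q (g₁ * glMap σ₁ g₂) (σ₁ * σ₂) := by
  obtain ⟨c₁, hc₁⟩ := h₁
  obtain ⟨c₂, hc₂⟩ := h₂
  refine ⟨c₁ * Units.map (σ₁ : F →* F) c₂, fun v => ?_⟩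
  have e1 : ((g₁ * glMap σ₁ g₂ : GL ι F) : Matrix ι ι F) *ᵥ (fun i => (σ₁ * σ₂) (v i)) =
      (g₁ : Matrix ι ι F) *ᵥ (fun i => σ₁ (((g₂ : Matrix ι ι F) *ᵥ (fun j => σ₂ (v j))) i)) := by
    rw [Units.val_mul, ← Matrix.mulVec_mulVec, glMap_val, sigma_mulVec]
    rfl
  rw [e1, hc₁, hc₂, map_mul, Units.val_mul, mul_assoc]
  rfl

theorem pair_inv {g : GL ι F} {σ : F ≃+* F} (h : Cfsg.IsSemisimilarityPair Q g σ) :
    Cfsg.IsSemisimilarityPair Q (glMap σ⁻¹ g⁻¹) σ⁻¹ := by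
  obtain ⟨c, hc⟩ := h
  refine ⟨Units.map ((σ⁻¹ : F ≃+* F) : F →* F) c⁻¹, fun v => ?_⟩
  -- `w = σ⁻¹(g⁻¹ v)`
  have e1 : ((glMap σ⁻¹ g⁻¹ : GL ι F) : Matrix ι ι F) *ᵥ (fun i => σ⁻¹ (v i)) =
      fun i => σ⁻¹ ((((g⁻¹ : GL ι F) : Matrix ι ι F) *ᵥ v) i) := by
    rw [glMap_val, sigma_mulVec]
  rw [e1]
  set w : ι → F := fun i => σ⁻¹ ((((g⁻¹ : GL ι F) : Matrix ι ι F) *ᵥ v) i) with hw
  have e2 : (g : Matrix ι ι F) *ᵥ (fun i => σ (w i)) = v := by
    have : (fun i => σ (w i)) = ((g⁻¹ : GL ι F) : Matrix ι ι F) *ᵥ v := by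
      ext i
      simp only [hw]
      exact σ.apply_symm_apply _
    rw [this]
    exact Cfsg.Agent.Lib.Helper94.mulVec_inv_mulVec g v
  have e3 := hc w
  rw [e2] at e3
  -- `Q v = c σ(Q w)`
  have e4 : Q w = σ⁻¹ ((c⁻¹ : Fˣ) * Q v) := by
    rw [e3, ← mul_assoc, ← Units.val_mul, inv_mul_cancel, Units.val_one, one_mul]
    exact (σ.symm_apply_apply _).symm
  rw [e4, map_mul]
  rfl

theorem semiAut_congr {g g' : GL ι F} {σ σ' : F ≃+* F} (h : Cfsg.IsSemisimilarityPair Q g σ)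
    (h' : Cfsg.IsSemisimilarityPair Q g' σ') (hg : g = g') (hσ : σ = σ') :
    semiAut h = semiAut h' := by
  subst hg
  subst hσ
  rfl

theorem omega_ext' (x y : ↥(Cfsg.Omega F Q))
    (h : ((x : ↥(Cfsg.isometryGroup F Q)) : GL ι F) = ((y : ↥(Cfsg.isometryGroup F Q)) : GL ι F)) :
    x = y :=
  Subtype.ext (Subtype.ext h)

theorem twGL_eq (g : GL ι F) (σ : F ≃+* F) (s : GL ι F) :
    twGL g σ s = g * glMap σ s * g⁻¹ := rfl

theorem semiAut_mul {g₁ g₂ : GL ι F} {σ₁ σ₂ : F ≃+* F} (h₁ : Cfsg.IsSemisimilarityPair Q g₁ σ₁)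
    (h₂ : Cfsg.IsSemisimilarityPair Q g₂ σ₂) :
    semiAut h₁ * semiAut h₂ = semiAut (pair_mul h₁ h₂) := by
  ext x
  induction x using QuotientGroup.induction_on with
  | H s =>
    rw [MulAut.mul_apply, semiAut_mk, semiAut_mk, semiAut_mk]
    congr 1
    apply omega_ext'
    rw [twAutOmega_val, twAutOmega_val, twAutOmega_val, twGL_eq, twGL_eq, twGL_eq, map_mul,
      map_mul, map_inv, glMap_mul]
    group

theorem semiAut_one : semiAut (pair_one (Q := Q)) = 1 := by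
  ext x
  induction x using QuotientGroup.induction_on with
  | H s =>
    rw [semiAut_mk, MulAut.one_apply]
    congr 1
    apply omega_ext'
    rw [twAutOmega_val, twGL_eq, glMap_one]
    group

theorem semiAut_inv {g : GL ι F} {σ : F ≃+* F} (h : Cfsg.IsSemisimilarityPair Q g σ) :
    (semiAut h)⁻¹ = semiAut (pair_inv h) := by
  symm
  apply eq_inv_of_mul_eq_one_right
  rw [semiAut_mul, ← semiAut_one]
  apply semiAut_congr
  · rw [glMap_glMap_inv, mul_inv_cancel]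
  · rw [mul_inv_cancel]

theorem eq_semiAut_of_induced {g : GL ι F} {σ : F ≃+* F} (h : Cfsg.IsSemisimilarityPair Q g σ)
    {β : Cfsg.POmega F Q ≃* Cfsg.POmega F Q}
    (hβ : Cfsg.IsInducedBySemilinearPOmega Q g σ β) : β = semiAut h := by
  ext x
  induction x using QuotientGroup.induction_on with
  | H s =>
    rw [semiAut_mk]
    apply hβ s
    rw [twAutOmega_val, twGL_val]

/-- the subgroup generated by the induced automorphisms is the set of them -/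
theorem mem_gamma_iff (β : MulAut (Cfsg.POmega F Q)) :
    β ∈ Cfsg.gammaPOmega F Q ↔
      ∃ (g : GL ι F) (σ : F ≃+* F) (h : Cfsg.IsSemisimilarityPair Q g σ), β = semiAut h := by
  constructor
  · intro hβ
    unfold Cfsg.gammaPOmega Cfsg.autSubgroupOf at hβ
    induction hβ using Subgroup.closure_induction with
    | mem x hx =>
      obtain ⟨g, σ, h, hi⟩ := hx
      exact ⟨g, σ, h, eq_semiAut_of_induced h hi⟩
    | one => exact ⟨1, 1, pair_one, semiAut_one.symm⟩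
    | mul x y _ _ hx hy =>
      obtain ⟨g₁, σ₁, h₁, rfl⟩ := hx
      obtain ⟨g₂, σ₂, h₂, rfl⟩ := hy
      exact ⟨_, _, pair_mul h₁ h₂, semiAut_mul h₁ h₂⟩
    | inv x _ hx =>
      obtain ⟨g, σ, h, rfl⟩ := hx
      exact ⟨_, _, pair_inv h, semiAut_inv h⟩
  · rintro ⟨g, σ, h, rfl⟩
    exact semiAut_mem_gamma h

/-- a pair with trivial field automorphism is a similarity -/
theorem pair_refl_iff (g : GL ι F) :
    Cfsg.IsSemisimilarityPair Q g (1 : F ≃+* F) ↔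
      g ∈ Cfsg.Geo.quadSimilarityGroup (F := F) Q := Iff.rfl

theorem semiAut_eq_Phi {g : GL ι F} (h : Cfsg.IsSemisimilarityPair Q g (1 : F ≃+* F)) :
    semiAut h = Phi Q ⟨g, (pair_refl_iff g).1 h⟩ := by
  ext x
  induction x using QuotientGroup.induction_on with
  | H s =>
    rw [semiAut_mk, Phi_mk]
    congr 1

end Cfsg.Agent.Lib.Helper43.OrthPair
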