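import Mathlib
import Cfsg.Prelude.Def_LieTypeDatum
import Cfsg.Agent.Lib.Helper43.OrthPair

set_option autoImplicit false
set_option linter.style.haveILetI false
set_option linter.unusedSimpArgs false
set_option linter.unusedSectionVars false

/-!
# Powers of the Frobenius semisimilarity of the minus-type form
-/

namespace Cfsg.Agent.Lib.Helper43.MinusFrobPow

open Matrix

section alg

variable {F : Type*} [Field F] (p : ℕ) [Fact p.Prime] [CharP F p] (a b : F)

/-- `ω ^ (p ^ n)` in the quadratic algebra whose norm form is `z₁² + a z₁ z₂ + b z₂²` -/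
noncomputable def W (n : ℕ) : QuadraticAlgebra F (-b) a := QuadraticAlgebra.omega ^ (p ^ n)

theorem decomp (y : QuadraticAlgebra F (-b) a) :
    y = algebraMap F _ y.re + algebraMap F _ y.im * QuadraticAlgebra.omega := by
  ext <;> simp

theorem pow_decomp (y : QuadraticAlgebra F (-b) a) (n : ℕ) :
    y ^ (p ^ n) =
      algebraMap F _ (y.re ^ (p ^ n)) + algebraMap F _ (y.im ^ (p ^ n)) * W p a b n := by
  haveI : CharP (QuadraticAlgebra F (-b) a) p :=
    charP_of_injective_algebraMap (QuadraticAlgebra.algebraMap_injective) p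
  conv_lhs => rw [decomp a b y]
  rw [add_pow_char_pow, mul_pow, ← map_pow, ← map_pow]
  rfl

theorem pow_re (y : QuadraticAlgebra F (-b) a) (n : ℕ) :
    (y ^ (p ^ n)).re = y.re ^ (p ^ n) + (W p a b n).re * y.im ^ (p ^ n) := by
  rw [pow_decomp]
  simp only [QuadraticAlgebra.re_add, QuadraticAlgebra.re_mul, QuadraticAlgebra.algebraMap_re,
    QuadraticAlgebra.algebraMap_im]
  ring

theorem pow_im (y : QuadraticAlgebra F (-b) a) (n : ℕ) :
    (y ^ (p ^ n)).im = (W p a b n).im * y.im ^ (p ^ n) := by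
  rw [pow_decomp]
  simp only [QuadraticAlgebra.im_add, QuadraticAlgebra.im_mul, QuadraticAlgebra.algebraMap_re,
    QuadraticAlgebra.algebraMap_im]
  ring

theorem W_add (n k : ℕ) : W p a b (n + k) = (W p a b k) ^ (p ^ n) := by
  unfold W
  rw [← pow_mul, ← pow_add, add_comm]

theorem W_add_re (n k : ℕ) :
    (W p a b (n + k)).re = (W p a b k).re ^ (p ^ n) + (W p a b n).re * (W p a b k).im ^ (p ^ n) := by
  rw [W_add, pow_re]

theorem W_add_im (n k : ℕ) :
    (W p a b (n + k)).im = (W p a b n).im * (W p a b k).im ^ (p ^ n) := by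
  rw [W_add, pow_im]

theorem W_zero : W p a b 0 = QuadraticAlgebra.omega := by
  unfold W
  rw [pow_zero, pow_one]

theorem W_zero_re : (W p a b 0).re = 0 := by rw [W_zero]; rfl

theorem W_zero_im : (W p a b 0).im = 1 := by rw [W_zero]; rfl

/-- the norm identity -/
theorem norm_pow (z₁ z₂ : F) (n : ℕ) :
    (z₁ ^ (p ^ n) + (W p a b n).re * z₂ ^ (p ^ n)) ^ 2 +
        a * (z₁ ^ (p ^ n) + (W p a b n).re * z₂ ^ (p ^ n)) * ((W p a b n).im * z₂ ^ (p ^ n)) +
        b * ((W p a b n).im * z₂ ^ (p ^ n)) ^ 2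
      = (z₁ ^ 2 + a * z₁ * z₂ + b * z₂ ^ 2) ^ (p ^ n) := by
  set y : QuadraticAlgebra F (-b) a := ⟨z₁, z₂⟩ with hy
  have hnorm : QuadraticAlgebra.norm (y ^ (p ^ n)) = (QuadraticAlgebra.norm y) ^ (p ^ n) :=
    map_pow _ _ _
  rw [QuadraticAlgebra.norm_def, QuadraticAlgebra.norm_def, pow_re, pow_im] at hnorm
  have hy1 : y.re = z₁ := rfl
  have hy2 : y.im = z₂ := rfl
  rw [hy1, hy2] at hnorm
  have e2 : z₁ * z₁ + a * z₁ * z₂ - -b * z₂ * z₂ = z₁ ^ 2 + a * z₁ * z₂ + b * z₂ ^ 2 := by ring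
  rw [e2] at hnorm
  rw [← hnorm]
  ring

/-- the `2 × 2` block -/
noncomputable def Bmat (n : ℕ) : Matrix (Fin 2) (Fin 2) F :=
  !![1, (W p a b n).re; 0, (W p a b n).im]

/-- the matrix of the Frobenius semisimilarity -/
noncomputable def Mmat (m n : ℕ) :
    Matrix ((Fin m ⊕ Fin m) ⊕ Fin 2) ((Fin m ⊕ Fin m) ⊕ Fin 2) F :=
  Matrix.fromBlocks 1 0 0 (Bmat p a b n)

theorem Bmat_mul (n k : ℕ) :
    Bmat p a b n * (Bmat p a b k).map (fun x => x ^ (p ^ n)) = Bmat p a b (n + k) := by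
  ext i j
  have hp0 : p ≠ 0 := (Fact.out : p.Prime).ne_zero
  fin_cases i <;> fin_cases j <;>
    simp [Bmat, Matrix.mul_apply, Fin.sum_univ_two, W_add_re, W_add_im, hp0]
  all_goals (try ring)

theorem Bmat_zero : Bmat p a b 0 = 1 := by
  ext i j
  fin_cases i <;> fin_cases j <;> simp [Bmat, W_zero_re, W_zero_im]

theorem Mmat_mul (m n k : ℕ) :
    Mmat p a b m n * (Mmat p a b m k).map (fun x => x ^ (p ^ n)) = Mmat p a b m (n + k) := by
  have hpn : p ^ n ≠ 0 := pow_ne_zero n (Fact.out : p.Prime).ne_zero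
  unfold Mmat
  rw [Matrix.fromBlocks_map, Matrix.fromBlocks_multiply]
  have h1 : (1 : Matrix (Fin m ⊕ Fin m) (Fin m ⊕ Fin m) F).map (fun x => x ^ (p ^ n)) = 1 :=
    Matrix.map_one _ (zero_pow hpn) (one_pow _)
  have h2 : (0 : Matrix (Fin m ⊕ Fin m) (Fin 2) F).map (fun x => x ^ (p ^ n)) = 0 :=
    Matrix.map_zero _ (zero_pow hpn)
  have h3 : (0 : Matrix (Fin 2) (Fin m ⊕ Fin m) F).map (fun x => x ^ (p ^ n)) = 0 :=
    Matrix.map_zero _ (zero_pow hpn)
  rw [h1, h2, h3, Bmat_mul]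
  simp

theorem Mmat_zero (m : ℕ) : Mmat p a b m 0 = 1 := by
  unfold Mmat
  rw [Bmat_zero, Matrix.fromBlocks_one]

theorem Mmat_det (m n : ℕ) : (Mmat p a b m n).det = (W p a b n).im := by
  unfold Mmat Bmat
  rw [Matrix.det_fromBlocks_zero₂₁, Matrix.det_one, one_mul, Matrix.det_fin_two_of]
  ring

theorem Mmat_mulVec_inl (m n : ℕ) (w : (Fin m ⊕ Fin m) ⊕ Fin 2 → F) (x : Fin m ⊕ Fin m) :
    (Mmat p a b m n *ᵥ w) (Sum.inl x) = w (Sum.inl x) := by
  unfold Mmat
  rw [Matrix.fromBlocks_mulVec]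
  simp

theorem Mmat_mulVec_inr0 (m n : ℕ) (w : (Fin m ⊕ Fin m) ⊕ Fin 2 → F) :
    (Mmat p a b m n *ᵥ w) (Sum.inr 0) = w (Sum.inr 0) + (W p a b n).re * w (Sum.inr 1) := by
  unfold Mmat Bmat
  rw [Matrix.fromBlocks_mulVec]
  simp [Matrix.mulVec, dotProduct, Fin.sum_univ_two]

theorem Mmat_mulVec_inr1 (m n : ℕ) (w : (Fin m ⊕ Fin m) ⊕ Fin 2 → F) :
    (Mmat p a b m n *ᵥ w) (Sum.inr 1) = (W p a b n).im * w (Sum.inr 1) := by
  unfold Mmat Bmat
  rw [Matrix.fromBlocks_mulVec]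
  simp [Matrix.mulVec, dotProduct, Fin.sum_univ_two]

/-- the Frobenius semisimilarity identity -/
theorem Mmat_form (m n : ℕ) (v : (Fin m ⊕ Fin m) ⊕ Fin 2 → F) :
    Cfsg.quadFormMinus m F a b (Mmat p a b m n *ᵥ fun i => v i ^ (p ^ n)) =
      (Cfsg.quadFormMinus m F a b v) ^ (p ^ n) := by
  unfold Cfsg.quadFormMinus
  simp only [Mmat_mulVec_inl, Mmat_mulVec_inr0, Mmat_mulVec_inr1]
  rw [add_pow_char_pow, sum_pow_char_pow, norm_pow]
  congr 1
  apply Finset.sum_congr rfl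
  intro i _
  rw [mul_pow]

end alg

section fin

variable {F : Type*} [Field F] [Fintype F] (p : ℕ) [Fact p.Prime] [CharP F p] (a b : F)
  (hab : ∀ z₁ z₂ : F, z₁ ^ 2 + a * z₁ * z₂ + b * z₂ ^ 2 = 0 → z₁ = 0 ∧ z₂ = 0)

/-- the `n`-th power of the Frobenius automorphism -/
noncomputable def sig (n : ℕ) : F ≃+* F := iterateFrobeniusEquiv F p n

theorem sig_apply (n : ℕ) (x : F) : sig (F := F) p n x = x ^ (p ^ n) := rfl

theorem sig_mul (n k : ℕ) : sig (F := F) p n * sig p k = sig p (n + k) := by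
  ext x
  rw [RingAut.mul_apply, sig_apply, sig_apply, sig_apply, ← pow_mul, ← pow_add, add_comm]

theorem sig_zero : sig (F := F) p 0 = 1 := by
  ext x
  rw [sig_apply, pow_zero, pow_one]
  rfl

theorem sig_card {f : ℕ} (hF : Fintype.card F = p ^ f) : sig (F := F) p f = 1 := by
  ext x
  rw [sig_apply, ← hF, FiniteField.pow_card]
  rfl

include hab

theorem W_im_ne_zero (n : ℕ) : (W p a b n).im ≠ 0 := by
  intro h0
  have h1 := norm_pow p a b ((sig p n).symm (-(W p a b n).re)) 1 n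
  rw [← sig_apply p n ((sig p n).symm (-(W p a b n).re)), (sig p n).apply_symm_apply, h0] at h1
  have h2 : ((sig p n).symm (-(W p a b n).re) ^ 2 + a * (sig p n).symm (-(W p a b n).re) * 1 +
      b * 1 ^ 2) ^ (p ^ n) = 0 := by
    rw [← h1]; ring
  have hpn : p ^ n ≠ 0 := pow_ne_zero n (Fact.out : p.Prime).ne_zero
  have h3 := (pow_eq_zero_iff hpn).1 h2
  exact one_ne_zero (hab _ _ h3).2

/-- the linear part of the `n`-th Frobenius semisimilarity -/
noncomputable def gF (m n : ℕ) : GL ((Fin m ⊕ Fin m) ⊕ Fin 2) F :=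
  Matrix.GeneralLinearGroup.mkOfDetNeZero (Mmat p a b m n)
    (by rw [Mmat_det]; exact W_im_ne_zero p a b hab n)

theorem gF_val (m n : ℕ) :
    ((gF p a b hab m n : GL ((Fin m ⊕ Fin m) ⊕ Fin 2) F) : Matrix _ _ F) = Mmat p a b m n := rfl

theorem pairF (m n : ℕ) :
    Cfsg.IsSemisimilarityPair (Cfsg.quadFormMinus m F a b) (gF p a b hab m n) (sig p n) :=
  ⟨1, fun v => by
    rw [gF_val, Units.val_one, one_mul, sig_apply]
    exact Mmat_form p a b m n v⟩

theorem gF_mul (m n k : ℕ) :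
    gF p a b hab m n * Cfsg.Agent.Lib.Helper43.OrthField.glMap (sig p n) (gF p a b hab m k) =
      gF p a b hab m (n + k) := by
  apply Units.ext
  rw [Units.val_mul, Cfsg.Agent.Lib.Helper43.OrthField.glMap_val, gF_val, gF_val, gF_val]
  exact Mmat_mul p a b m n k

theorem gF_zero (m : ℕ) : gF p a b hab m 0 = 1 := by
  apply Units.ext
  rw [gF_val, Mmat_zero]
  rfl

open Cfsg.Agent.Lib.Helper5.AutOrth Cfsg.Agent.Lib.Helper43.OrthPair in
/-- powers of the Frobenius automorphism of `PΩ⁻` -/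
theorem semiAut_pow (m k : ℕ) :
    (semiAut (pairF p a b hab m 1)) ^ k = semiAut (pairF p a b hab m k) := by
  induction k with
  | zero =>
    rw [pow_zero, ← semiAut_one]
    exact semiAut_congr _ _ (gF_zero p a b hab m).symm (sig_zero p).symm
  | succ k ih =>
    rw [pow_succ, ih, semiAut_mul]
    exact semiAut_congr _ _ (gF_mul p a b hab m k 1) (sig_mul p k 1)

/-- `ω ^ q ≠ ω` when the norm form is anisotropic -/
theorem W_card_ne {f : ℕ} (hF : Fintype.card F = p ^ f) :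
    W p a b f ≠ QuadraticAlgebra.omega := by
  intro h
  haveI : Fact (∀ r : F, r ^ 2 ≠ -b + a * r) := ⟨fun r hr => by
    have h1 := hab r (-1) (by linear_combination hr)
    have : (-1 : F) = 0 := h1.2
    exact one_ne_zero (neg_eq_zero.1 this)⟩
  have hall : ∀ y : QuadraticAlgebra F (-b) a, y ^ (p ^ f) = y := by
    intro y
    rw [pow_decomp, h, ← hF, FiniteField.pow_card, FiniteField.pow_card]
    exact (decomp a b y).symm
  haveI : Finite (QuadraticAlgebra F (-b) a) :=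
    Finite.of_equiv (F × F) (QuadraticAlgebra.equivProd (-b) a).symm
  have hcardA : Nat.card (QuadraticAlgebra F (-b) a) = (p ^ f) * (p ^ f) := by
    rw [Nat.card_congr (QuadraticAlgebra.equivProd (-b) a), Nat.card_prod,
      Nat.card_eq_fintype_card, hF]
  obtain ⟨ζ, hζ⟩ := IsCyclic.exists_generator (α := (QuadraticAlgebra F (-b) a)ˣ)
  have hord : orderOf ζ = Nat.card (QuadraticAlgebra F (-b) a)ˣ :=
    orderOf_eq_card_of_forall_mem_zpowers hζ
  rw [Nat.card_units, hcardA] at hord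
  have hq : 2 ≤ p ^ f := by
    rw [← hF]
    exact Fintype.one_lt_card
  have h1 : ζ ^ (p ^ f - 1) = 1 := by
    apply Units.ext
    rw [Units.val_pow_eq_pow_val, Units.val_one]
    have h2 := hall (ζ : QuadraticAlgebra F (-b) a)
    have h3 : (ζ : QuadraticAlgebra F (-b) a) ^ (p ^ f - 1) * ζ = 1 * ζ := by
      rw [← pow_succ, Nat.sub_add_cancel (by omega), h2, one_mul]
    exact mul_right_cancel₀ ζ.ne_zero h3
  have h2 := orderOf_dvd_of_pow_eq_one h1
  rw [hord] at h2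
  have h3 := Nat.le_of_dvd (by omega) h2
  have h4 : 2 * p ^ f ≤ p ^ f * p ^ f := Nat.mul_le_mul_right _ hq
  omega

end fin

end Cfsg.Agent.Lib.Helper43.MinusFrobPow
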