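import Cfsg.Agent.Lib.Helper43.MinusFrobPow

set_option autoImplicit false
set_option linter.style.haveILetI false
set_option linter.unusedSimpArgs false
set_option linter.unusedSectionVars false

/-!
# The `f`-th power of the Frobenius semisimilarity is the conjugation of the anisotropic plane
-/

namespace Cfsg.Agent.Lib.Helper43.MinusFrobPow

open Matrix

section fin

variable {F : Type*} [Field F] [Fintype F] (p : ℕ) [Fact p.Prime] [CharP F p] (a b : F)
  (hab : ∀ z₁ z₂ : F, z₁ ^ 2 + a * z₁ * z₂ + b * z₂ ^ 2 = 0 → z₁ = 0 ∧ z₂ = 0)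

include hab

/-- `ω ^ q = a - ω`, the conjugate of `ω` -/
theorem W_card_eq {f : ℕ} (hF : Fintype.card F = p ^ f) :
    W p a b f = algebraMap F _ a - QuadraticAlgebra.omega := by
  haveI : Fact (∀ r : F, r ^ 2 ≠ -b + a * r) := ⟨fun r hr => by
    have h1 := hab r (-1) (by linear_combination hr)
    have : (-1 : F) = 0 := h1.2
    exact one_ne_zero (neg_eq_zero.1 this)⟩
  haveI : CharP (QuadraticAlgebra F (-b) a) p :=
    charP_of_injective_algebraMap (QuadraticAlgebra.algebraMap_injective) p
  have hω : (QuadraticAlgebra.omega : QuadraticAlgebra F (-b) a) * QuadraticAlgebra.omega =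
      algebraMap F _ (-b) + algebraMap F _ a * QuadraticAlgebra.omega := by
    ext <;> simp
  have hyy : W p a b f * W p a b f =
      algebraMap F _ (-b) + algebraMap F _ a * W p a b f := by
    have h1 := congrArg (fun z : QuadraticAlgebra F (-b) a => z ^ (p ^ f)) hω
    beta_reduce at h1
    rw [mul_pow, add_pow_char_pow, mul_pow, ← map_pow, ← map_pow, ← hF, FiniteField.pow_card,
      FiniteField.pow_card, hF] at h1
    exact h1
  have hprod : (W p a b f - QuadraticAlgebra.omega) *
      (W p a b f - (algebraMap F _ a - QuadraticAlgebra.omega)) = 0 := by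
    have e : (W p a b f - QuadraticAlgebra.omega) *
        (W p a b f - (algebraMap F _ a - QuadraticAlgebra.omega)) =
        W p a b f * W p a b f - algebraMap F _ a * W p a b f +
          (algebraMap F _ a * QuadraticAlgebra.omega -
            QuadraticAlgebra.omega * QuadraticAlgebra.omega) := by ring
    rw [e, hyy, hω]
    ring
  rcases mul_eq_zero.1 hprod with h | h
  · exact absurd (sub_eq_zero.1 h) (W_card_ne p a b hab hF)
  · exact sub_eq_zero.1 h

theorem W_card_re {f : ℕ} (hF : Fintype.card F = p ^ f) : (W p a b f).re = a := by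
  rw [W_card_eq p a b hab hF]
  simp

theorem W_card_im {f : ℕ} (hF : Fintype.card F = p ^ f) : (W p a b f).im = -1 := by
  rw [W_card_eq p a b hab hF]
  simp

/-- the matrix of the `f`-th power of the Frobenius semisimilarity: the conjugation
`(z₁, z₂) ↦ (z₁ + a z₂, - z₂)` of the anisotropic plane -/
theorem Mmat_card (m : ℕ) {f : ℕ} (hF : Fintype.card F = p ^ f) :
    Mmat p a b m f = Matrix.fromBlocks 1 0 0 !![1, a; 0, -1] := by
  unfold Mmat Bmat
  rw [W_card_re p a b hab hF, W_card_im p a b hab hF]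

theorem gF_card_val (m : ℕ) {f : ℕ} (hF : Fintype.card F = p ^ f) :
    ((gF p a b hab m f : GL ((Fin m ⊕ Fin m) ⊕ Fin 2) F) :
      Matrix ((Fin m ⊕ Fin m) ⊕ Fin 2) ((Fin m ⊕ Fin m) ⊕ Fin 2) F) =
      Matrix.fromBlocks 1 0 0 !![1, a; 0, -1] := by
  rw [gF_val, Mmat_card p a b hab m hF]

/-- the `f`-th power pair has trivial field automorphism -/
theorem pairF_card (m : ℕ) {f : ℕ} (hF : Fintype.card F = p ^ f) :
    Cfsg.IsSemisimilarityPair (Cfsg.quadFormMinus m F a b) (gF p a b hab m f) (1 : F ≃+* F) := by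
  have := pairF p a b hab m f
  rwa [sig_card p hF] at this

/-- `(semiAut of the Frobenius pair) ^ f = Φ (gF f)` where `gF f` is the conjugation isometry -/
theorem semiAut_pow_card (m : ℕ) {f : ℕ} (hF : Fintype.card F = p ^ f) :
    Cfsg.Agent.Lib.Helper5.AutOrth.semiAut (pairF p a b hab m 1) ^ f =
      Cfsg.Agent.Lib.Helper37.Phi (Cfsg.quadFormMinus m F a b)
        ⟨gF p a b hab m f,
          (Cfsg.Agent.Lib.Helper43.OrthPair.pair_refl_iff _).1 (pairF_card p a b hab m hF)⟩ := by
  rw [semiAut_pow, ← Cfsg.Agent.Lib.Helper43.OrthPair.semiAut_eq_Phi (pairF_card p a b hab m hF)]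
  exact Cfsg.Agent.Lib.Helper43.OrthPair.semiAut_congr _ _ rfl (sig_card p hF)

end fin

end Cfsg.Agent.Lib.Helper43.MinusFrobPow
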