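import Mathlib

set_option autoImplicit false

/-!
# A nonzero matrix supported on one column has odd rank
-/

namespace Cfsg.Agent.Lib.Helper43.RankOne

open Matrix

variable {ι : Type*} [Fintype ι] [DecidableEq ι] {F : Type*} [Field F]

theorem eq_zero_of_rank_eq_zero (R : Matrix ι ι F) (h : R.rank = 0) : R = 0 := by
  unfold Matrix.rank at h
  have h1 : LinearMap.range R.mulVecLin = ⊥ := Submodule.finrank_eq_zero.1 h
  have h2 : R.mulVecLin = 0 := LinearMap.range_eq_bot.1 h1
  ext i j
  have h3 := congrFun (LinearMap.congr_fun h2 (Pi.single j 1)) i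
  rw [Matrix.mulVecLin_apply, Matrix.mulVec_single_one] at h3
  exact h3

theorem not_even_rank_of_col (R : Matrix ι ι F) (j₀ : ι)
    (hcol : ∀ i j, j ≠ j₀ → R i j = 0) (hne : R ≠ 0) : ¬ Even R.rank := by
  have hR : R = Matrix.vecMulVec (fun i => R i j₀) (Pi.single j₀ 1) := by
    ext i j
    rw [Matrix.vecMulVec_apply]
    by_cases hj : j = j₀
    · subst hj
      simp
    · rw [hcol i j hj, Pi.single_apply, if_neg hj, mul_zero]
  have hle : R.rank ≤ 1 := by
    rw [hR]
    exact Matrix.rank_vecMulVec_le _ _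
  intro hev
  have h0 : R.rank = 0 := by
    rcases hev with ⟨k, hk⟩
    omega
  exact hne (eq_zero_of_rank_eq_zero R h0)

end Cfsg.Agent.Lib.Helper43.RankOne
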