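import Cfsg.Agent.Lib.Helper43.MinusFrobPow
import Cfsg.Agent.Lib.Helper43.MinusAutCard
import Cfsg.Agent.Lib.Helper43.RankOne
import Cfsg.Agent.Lib.Helper8.DicksonOmega
import Cfsg.Agent.Lib.Helper37.OmegaCenter3
import Cfsg.Prelude.Def_KGroupFacts

set_option autoImplicit false
set_option linter.unusedSectionVars false
set_option linter.unusedVariables false
set_option linter.style.haveILetI false

/-!
# `Out(PΩ⁻_{2m+2}(q))` is cyclic of order `2f` for `q = 2^f`
-/

namespace Cfsg.Agent.Lib.Helper43.MinusOutChar2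

open Matrix Module
open Cfsg.Agent.Lib.Helper8 Cfsg.Agent.Lib.Helper37 Cfsg.Agent.Lib.Helper43
open Cfsg.Agent.Lib.Helper5.AutOrth Cfsg.Agent.Lib.Helper43.OrthPair
open Cfsg.Agent.Lib.Helper43.MinusFrobPow

universe u

section general

variable {ι : Type} [Fintype ι] [DecidableEq ι] {F : Type u} [Field F] {Q : (ι → F) → F}

theorem center_pomega_of (hc : Subgroup.center ↥(Cfsg.Omega F Q) = ⊥) :
    Subgroup.center (Cfsg.POmega F Q) = ⊥ := by
  rw [eq_bot_iff]
  intro x hx
  rw [Subgroup.mem_bot]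
  induction x using QuotientGroup.induction_on with
  | H s =>
    have hs : s ∈ Subgroup.center ↥(Cfsg.Omega F Q) := by
      rw [Subgroup.mem_center_iff]
      intro t
      have h1 := Subgroup.mem_center_iff.1 hx (QuotientGroup.mk t)
      rw [← QuotientGroup.mk_mul, ← QuotientGroup.mk_mul, QuotientGroup.eq, hc,
        Subgroup.mem_bot] at h1
      have : s * t = (t * s) * ((t * s)⁻¹ * (s * t)) := by group
      rw [this, h1, mul_one]
    exact (QuotientGroup.eq_one_iff s).2 hs

theorem card_inn_of (hc : Subgroup.center ↥(Cfsg.Omega F Q) = ⊥) :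
    Nat.card (Cfsg.Inn (Cfsg.POmega F Q)) = Nat.card (Cfsg.POmega F Q) := by
  have hinj : Function.Injective (MulAut.conj : Cfsg.POmega F Q →* _) := by
    rw [injective_iff_map_eq_one]
    intro x hx
    have : x ∈ Subgroup.center (Cfsg.POmega F Q) := by
      rw [Subgroup.mem_center_iff]
      intro y
      have h1 := congrArg (fun φ : MulAut (Cfsg.POmega F Q) => φ y) hx
      simp only [MulAut.conj_apply, MulAut.one_apply] at h1
      calc y * x = (x * y * x⁻¹) * x := by rw [h1]
        _ = x * y := by group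
    rw [center_pomega_of hc, Subgroup.mem_bot] at this
    exact this
  exact (Nat.card_congr (MonoidHom.ofInjective hinj).toEquiv).symm

theorem card_pomega_of (hc : Subgroup.center ↥(Cfsg.Omega F Q) = ⊥) :
    Nat.card (Cfsg.POmega F Q) = Nat.card ↥(Cfsg.Omega F Q) := by
  have h1 := Subgroup.card_eq_card_quotient_mul_card_subgroup
    (Subgroup.center ↥(Cfsg.Omega F Q))
  have h2 : Nat.card ↥(Subgroup.center ↥(Cfsg.Omega F Q)) = 1 := by
    rw [hc, Subgroup.card_bot]
  rw [h2, mul_one] at h1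
  exact h1.symm

end general

section main

variable {F : Type u} [Field F] [Fintype F] {f : ℕ} (hf : 1 ≤ f) (hF : Fintype.card F = 2 ^ f)
  {m : ℕ} (hm : 3 ≤ m) (a b : F)
  (hab : ∀ z₁ z₂ : F, z₁ ^ 2 + a * z₁ * z₂ + b * z₂ ^ 2 = 0 → z₁ = 0 ∧ z₂ = 0)

include hf hF hm hab

theorem two_eq_zero' : (2 : F) = 0 := by
  haveI : Fact (Nat.Prime 2) := ⟨Nat.prime_two⟩
  haveI : CharP F 2 := charP_of_card_eq_prime_pow hF
  have := CharP.cast_eq_zero F 2
  exact_mod_cast this

theorem center_omega_minus :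
    Subgroup.center ↥(Cfsg.Omega F (Cfsg.quadFormMinus m F a b)) = ⊥ := by
  have h2 := two_eq_zero' hf hF hm a b hab
  have h1 := card_center_omega_one (minusForm m F a b)
    (MinusAutCard.minus_nd hm a b hab) (Cfsg.Agent.S2696.minus_hypFam' m F a b) hm (Or.inl h2)
  rw [← minusForm_coe] at h1
  exact Subgroup.eq_bot_of_card_eq _ h1

theorem index_omega_minus :
    (Cfsg.Omega F (Cfsg.quadFormMinus m F a b)).index = 2 := by
  have h2 := two_eq_zero' hf hF hm a b hab
  have hfr : Module.finrank F ((Fin m ⊕ Fin m) ⊕ Fin 2 → F) = m + m + 2 := by simp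
  have hex := MinusAutCard.minus_hne hm a b hab
  rw [minusForm_coe] at hex ⊢
  exact commutator_index_two_char2 h2 (minusForm m F a b) (MinusAutCard.minus_nd hm a b hab)
    (Or.inr (by omega)) hex

theorem finite_pomega : Finite (Cfsg.POmega F (Cfsg.quadFormMinus m F a b)) := by
  classical
  haveI : Finite (GL ((Fin m ⊕ Fin m) ⊕ Fin 2) F) := Finite.of_fintype _
  exact Quotient.finite _

theorem finite_mulAut : Finite (MulAut (Cfsg.POmega F (Cfsg.quadFormMinus m F a b))) := by
  haveI : Finite (Cfsg.POmega F (Cfsg.quadFormMinus m F a b)) := finite_pomega hf hF hm a b hab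
  exact Finite.of_injective (fun α : MulAut (Cfsg.POmega F (Cfsg.quadFormMinus m F a b)) =>
    (α : Cfsg.POmega F (Cfsg.quadFormMinus m F a b) → Cfsg.POmega F (Cfsg.quadFormMinus m F a b)))
    (fun a b h => MulEquiv.ext (congrFun h))

/-- `|Out(PΩ⁻)| = 2 f` -/
theorem card_out :
    Nat.card (Cfsg.Out (Cfsg.POmega F (Cfsg.quadFormMinus m F a b))) = 2 * f := by
  haveI : Fact (Nat.Prime 2) := ⟨Nat.prime_two⟩
  haveI : Finite (Cfsg.POmega F (Cfsg.quadFormMinus m F a b)) := finite_pomega hf hF hm a b hab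
  have hc := center_omega_minus hf hF hm a b hab
  have c1 := MinusAutCard.card_mulAut_minus hm a b hab hF
  have c2 := Subgroup.card_mul_index (Cfsg.Omega F (Cfsg.quadFormMinus m F a b))
  rw [index_omega_minus hf hF hm a b hab, ← card_pomega_of hc] at c2
  have c3 : Nat.card (MulAut (Cfsg.POmega F (Cfsg.quadFormMinus m F a b))) =
      Nat.card (Cfsg.Out (Cfsg.POmega F (Cfsg.quadFormMinus m F a b))) *
        Nat.card (Cfsg.POmega F (Cfsg.quadFormMinus m F a b)) := by
    rw [Subgroup.card_eq_card_quotient_mul_card_subgroup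
      (Cfsg.Inn (Cfsg.POmega F (Cfsg.quadFormMinus m F a b))), card_inn_of hc]
  have hPpos : 0 < Nat.card (Cfsg.POmega F (Cfsg.quadFormMinus m F a b)) := Nat.card_pos
  rw [c3, ← c2] at c1
  have h1 : Nat.card (Cfsg.Out (Cfsg.POmega F (Cfsg.quadFormMinus m F a b))) *
      Nat.card (Cfsg.POmega F (Cfsg.quadFormMinus m F a b)) =
      (2 * f) * Nat.card (Cfsg.POmega F (Cfsg.quadFormMinus m F a b)) := by
    rw [c1]; ring
  exact Nat.eq_of_mul_eq_mul_right hPpos h1

/-- the Frobenius map generates the automorphism group of `F` -/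
theorem orderOf_sig_one :
    haveI : Fact (Nat.Prime 2) := ⟨Nat.prime_two⟩
    haveI : CharP F 2 := charP_of_card_eq_prime_pow hF
    orderOf (sig (F := F) 2 1) = f := by
  haveI : Fact (Nat.Prime 2) := ⟨Nat.prime_two⟩
  haveI : CharP F 2 := charP_of_card_eq_prime_pow hF
  have hall : ∀ σ : F ≃+* F, σ ∈ Subgroup.zpowers (sig (F := F) 2 1) := by
    intro σ
    obtain ⟨n, hn⟩ := Cfsg.Agent.Lib.Helper43.MinusFrob.exists_pow_eq 2 σ
    refine ⟨(n : ℤ), ?_⟩
    show sig (F := F) 2 1 ^ (n : ℤ) = σ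
    rw [zpow_natCast]
    ext x
    rw [hn x]
    have h1 : (sig (F := F) 2 1) ^ n = sig 2 n := by
      unfold sig
      rw [iterateFrobeniusEquiv_eq_pow, iterateFrobeniusEquiv_eq_pow, pow_one]
    rw [h1, sig_apply]
  rw [orderOf_eq_card_of_forall_mem_zpowers hall,
    Cfsg.Agent.Lib.Helper43.RingAutFin.card_ringAut' hF]

/-- the `f`-th power of the Frobenius semisimilarity is not in `Ω` -/
theorem frob_pow_not_inn :
    haveI : Fact (Nat.Prime 2) := ⟨Nat.prime_two⟩
    haveI : CharP F 2 := charP_of_card_eq_prime_pow hF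
    semiAut (pairF 2 a b hab m f) ∉ Cfsg.Inn (Cfsg.POmega F (Cfsg.quadFormMinus m F a b)) := by
  classical
  haveI : Fact (Nat.Prime 2) := ⟨Nat.prime_two⟩
  haveI : CharP F 2 := charP_of_card_eq_prime_pow hF
  have h2 := two_eq_zero' hf hF hm a b hab
  intro hmem
  -- the pair has trivial field automorphism
  have hp1 : Cfsg.IsSemisimilarityPair (Cfsg.quadFormMinus m F a b) (gF 2 a b hab m f)
      (1 : F ≃+* F) := by
    have := pairF 2 a b hab m f
    rwa [sig_card 2 hF] at this
  have e1 : semiAut (pairF 2 a b hab m f) = semiAut hp1 :=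
    semiAut_congr _ _ rfl (sig_card 2 hF)
  rw [e1, semiAut_eq_Phi] at hmem
  -- `gF f` is an isometry
  have hxq : ∀ x : F, x ^ (2 ^ f) = x := by
    intro x
    rw [← hF, FiniteField.pow_card]
  have hiso : ∀ v, Cfsg.quadFormMinus m F a b (Mmat 2 a b m f *ᵥ v) =
      Cfsg.quadFormMinus m F a b v := by
    intro v
    have := Mmat_form 2 a b m f v
    rw [hxq] at this
    have hv : (fun i => v i ^ (2 ^ f)) = v := by
      funext i
      exact hxq (v i)
    rwa [hv] at this
  have hk0 : gF 2 a b hab m f ∈ Cfsg.isometryGroup F (Cfsg.quadFormMinus m F a b) := by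
    rw [Cfsg.Agent.Lib.Helper94.mem_isom]
    intro v
    rw [gF_val]
    exact hiso v
  -- compare with an element of `Ω`
  obtain ⟨s, hs, hPhi⟩ := (mem_inn_iff _).1 hmem
  have hd : Phi (Cfsg.quadFormMinus m F a b)
      (⟨gF 2 a b hab m f, (pair_refl_iff _).1 hp1⟩ *
        (isoGO (Cfsg.quadFormMinus m F a b) s)⁻¹) = 1 := by
    rw [map_mul, map_inv, hPhi, mul_inv_cancel]
  obtain ⟨c, hc⟩ := (minus_hker hm a b hab _).1 hd
  have hMS : Mmat 2 a b m f = c • ((s.1 : GL _ F) : Matrix _ _ F) := by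
    have h3 : (gF 2 a b hab m f : GL ((Fin m ⊕ Fin m) ⊕ Fin 2) F) =
        ((⟨gF 2 a b hab m f, (pair_refl_iff _).1 hp1⟩ *
          (isoGO (Cfsg.quadFormMinus m F a b) s)⁻¹ :
          ↥(Cfsg.Geo.quadSimilarityGroup (F := F) (Cfsg.quadFormMinus m F a b))) : GL _ F) *
          (s.1 : GL _ F) := by
      rw [Subgroup.coe_mul, Subgroup.coe_inv, isoGO_val]
      group
    have h4 := congrArg (fun x : GL ((Fin m ⊕ Fin m) ⊕ Fin 2) F => Units.val x) h3
    simp only [Units.val_mul] at h4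
    rw [hc, Matrix.smul_mul, Matrix.one_mul] at h4
    rw [← gF_val 2 a b hab m f]
    exact h4
  -- `c = 1`
  have hc1 : c = 1 := by
    have h5 := hiso (Pi.single (Sum.inr 0) 1)
    have hsm : ∀ (c : F) (w : (Fin m ⊕ Fin m) ⊕ Fin 2 → F),
        Cfsg.quadFormMinus m F a b (c • w) = c * c * Cfsg.quadFormMinus m F a b w := by
      intro c w
      have := QuadraticMap.map_smul (minusForm m F a b) c w
      rw [smul_eq_mul] at this
      have e := minusForm_coe m F a b
      rw [e]
      exact this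
    rw [hMS, Matrix.smul_mulVec, hsm,
      (Cfsg.Agent.Lib.Helper94.mem_isom s.1).1 s.2] at h5
    have h6 : Cfsg.quadFormMinus m F a b (Pi.single (Sum.inr 0) 1) = 1 := by
      unfold Cfsg.quadFormMinus
      simp
    rw [h6, mul_one] at h5
    have h7 : (c - 1) ^ 2 = 0 := by
      have : (c - 1) ^ 2 = c * c - 2 * c + 1 := by ring
      rw [this, h5, h2]
      ring_nf
      exact_mod_cast h2
    have h8 := pow_eq_zero_iff (two_ne_zero) |>.1 h7
    exact sub_eq_zero.1 h8
  rw [hc1, one_smul] at hMS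
  -- hence `gF f ∈ Ω`
  have hk0Ω : (⟨gF 2 a b hab m f, hk0⟩ : ↥(Cfsg.isometryGroup F (Cfsg.quadFormMinus m F a b))) ∈
      Cfsg.Omega F (Cfsg.quadFormMinus m F a b) := by
    have : (⟨gF 2 a b hab m f, hk0⟩ : ↥(Cfsg.isometryGroup F (Cfsg.quadFormMinus m F a b))) = s := by
      apply Subtype.ext
      apply Units.ext
      show (gF 2 a b hab m f : GL ((Fin m ⊕ Fin m) ⊕ Fin 2) F).val = _
      rw [gF_val]
      exact hMS
    rw [this]
    exact hs
  have hfr : Module.finrank F ((Fin m ⊕ Fin m) ⊕ Fin 2 → F) = m + m + 2 := by simp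
  have hex := MinusAutCard.minus_hne hm a b hab
  rw [minusForm_coe] at hex
  have hev := (mem_commutator_iff_even_rank_char2' h2 (Cfsg.quadFormMinus m F a b)
    (minusForm m F a b) (minusForm_coe m F a b) (MinusAutCard.minus_nd hm a b hab)
    (Or.inr (by omega)) hex ⟨gF 2 a b hab m f, hk0⟩).1 hk0Ω
  -- but `gF f - 1` has rank one
  have hval : (((⟨gF 2 a b hab m f, hk0⟩ :
      ↥(Cfsg.isometryGroup F (Cfsg.quadFormMinus m F a b))) :
        GL ((Fin m ⊕ Fin m) ⊕ Fin 2) F) :
        Matrix ((Fin m ⊕ Fin m) ⊕ Fin 2) ((Fin m ⊕ Fin m) ⊕ Fin 2) F) =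
      Mmat 2 a b m f := gF_val 2 a b hab m f
  rw [hval] at hev
  refine Cfsg.Agent.Lib.Helper43.RankOne.not_even_rank_of_col (Mmat 2 a b m f - 1) (Sum.inr 1)
    ?_ ?_ hev
  · intro i j hj
    have hcolj : ∀ i, Mmat 2 a b m f i j = (Mmat 2 a b m f *ᵥ Pi.single j 1) i := by
      intro i
      rw [Matrix.mulVec_single_one]
      rfl
    have hj1 : (Pi.single j (1 : F) : (Fin m ⊕ Fin m) ⊕ Fin 2 → F) (Sum.inr 1) = 0 := by
      rw [Pi.single_apply, if_neg (Ne.symm hj)]
    rw [Matrix.sub_apply, hcolj, Matrix.one_apply]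
    rcases i with x | t
    · rw [Mmat_mulVec_inl, Pi.single_apply, sub_self]
    · have ht : t = 0 ∨ t = 1 := by
        fin_cases t
        · exact Or.inl rfl
        · exact Or.inr rfl
      rcases ht with rfl | rfl
      · rw [Mmat_mulVec_inr0, hj1, mul_zero, add_zero, Pi.single_apply, sub_self]
      · rw [Mmat_mulVec_inr1, hj1, mul_zero, if_neg (Ne.symm hj), sub_self]
  · intro h0
    have hM1 : Mmat 2 a b m f = 1 := sub_eq_zero.1 h0
    have hre := Mmat_mulVec_inr0 2 a b m f (Pi.single (Sum.inr 1) 1)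
    have him := Mmat_mulVec_inr1 2 a b m f (Pi.single (Sum.inr 1) 1)
    rw [hM1, Matrix.one_mulVec] at hre him
    simp only [Pi.single_apply, if_true, mul_one] at hre him
    have hne : (Sum.inr 0 : (Fin m ⊕ Fin m) ⊕ Fin 2) ≠ Sum.inr 1 := by
      intro h
      have := Sum.inr.inj h
      exact absurd this (by decide)
    rw [if_neg hne, zero_add] at hre
    apply W_card_ne 2 a b hab hF
    ext
    · rw [← hre]; rfl
    · rw [← him]; rfl

/-- `Out(PΩ⁻)` is cyclic of order `2 f` -/
theorem out_cyclic :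
    IsCyclic (Cfsg.Out (Cfsg.POmega F (Cfsg.quadFormMinus m F a b))) ∧
      Nat.card (Cfsg.Out (Cfsg.POmega F (Cfsg.quadFormMinus m F a b))) = 2 * f := by
  haveI : Fact (Nat.Prime 2) := ⟨Nat.prime_two⟩
  haveI : CharP F 2 := charP_of_card_eq_prime_pow hF
  haveI : Finite (MulAut (Cfsg.POmega F (Cfsg.quadFormMinus m F a b))) :=
    finite_mulAut hf hF hm a b hab
  have hcard := card_out hf hF hm a b hab
  refine ⟨?_, hcard⟩
  have D := MinusAutCard.pairData_minus hm a b hab
  let θ : Cfsg.Out (Cfsg.POmega F (Cfsg.quadFormMinus m F a b)) →* (F ≃+* F) :=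
    QuotientGroup.lift (Cfsg.Inn (Cfsg.POmega F (Cfsg.quadFormMinus m F a b))) D.Theta D.inn_le_ker
  set φ : MulAut (Cfsg.POmega F (Cfsg.quadFormMinus m F a b)) :=
    semiAut (pairF 2 a b hab m 1) with hφ
  set x : Cfsg.Out (Cfsg.POmega F (Cfsg.quadFormMinus m F a b)) := QuotientGroup.mk φ with hx
  have hθx : θ x = sig 2 1 := D.Theta_semiAut _
  have hdiv : orderOf x ∣ 2 * f := by
    rw [← hcard]
    exact orderOf_dvd_natCard x
  have hfdvd : f ∣ orderOf x := by
    have := orderOf_map_dvd θ x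
    rwa [hθx, orderOf_sig_one hf hF hm a b hab] at this
  have hxf : x ^ f ≠ 1 := by
    rw [hx, ← QuotientGroup.mk_pow, Ne, QuotientGroup.eq_one_iff, hφ, semiAut_pow]
    exact frob_pow_not_inn hf hF hm a b hab
  have hord : orderOf x = 2 * f := by
    obtain ⟨t, ht⟩ := hfdvd
    rw [ht] at hdiv
    have hfpos : 0 < f := hf
    have ht2 : t ∣ 2 := by
      have : f * t ∣ f * 2 := by rwa [mul_comm f 2]
      exact (Nat.mul_dvd_mul_iff_left hfpos).1 this
    have ht12 : t = 1 ∨ t = 2 := (Nat.dvd_prime Nat.prime_two).1 ht2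
    rcases ht12 with rfl | rfl
    · exfalso
      apply hxf
      rw [mul_one] at ht
      rw [← ht]
      exact pow_orderOf_eq_one x
    · rw [ht, mul_comm]
  apply isCyclic_of_orderOf_eq_card x
  rw [hord, hcard]

end main

end Cfsg.Agent.Lib.Helper43.MinusOutChar2
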