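import Cfsg.Agent.Lib.Helper40.SympPrimeCount

/-!
# Counting multisets of bounded size with an excluded top layer
-/

set_option autoImplicit false

namespace Cfsg.Agent.Lib.Helper43.OrthGen

open Cfsg.Agent.Lib.Helper40.PrimeOrder

theorem card_multiset_exact (s n : ℕ) (hs : 1 ≤ s) :
    Nat.card {N : Multiset (Fin s) // Multiset.card N = n} = (n + s - 1).choose (s - 1) := by
  have h1 : Nat.card {N : Multiset (Fin s) // Multiset.card N = n} = Nat.card (Sym (Fin s) n) :=
    rfl
  rw [h1, Nat.card_eq_fintype_card, Sym.card_sym_eq_multichoose, Fintype.card_fin,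
    Nat.multichoose_eq]
  have h2 : s + n - 1 = n + s - 1 := by omega
  rw [h2]
  apply Nat.choose_symm_of_eq_add
  omega

theorem card_multiset_pred_sub (s i B : ℕ) (hi : 1 ≤ i) (hs : 1 ≤ s) (hB : 1 ≤ B)
    (Cnd : ℕ → Prop) [DecidablePred Cnd] :
    Nat.card {N : Multiset (Fin s) // N ≠ 0 ∧ i * Multiset.card N ≤ B ∧
      ¬ (i * Multiset.card N = B ∧ Cnd (Multiset.card N))} =
    ((B / i + s).choose s - 1) -
      (if i ∣ B ∧ Cnd (B / i) then (B / i + s - 1).choose (s - 1) else 0) := by
  set S : Set (Multiset (Fin s)) := {N | N ≠ 0 ∧ i * Multiset.card N ≤ B} with hS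
  set Bad : Set (Multiset (Fin s)) := {N | i * Multiset.card N = B ∧ Cnd (Multiset.card N)}
    with hBad
  have hA : ({N | Multiset.card N ≤ B / i} : Set (Multiset (Fin s))).Finite := by
    have h1 := card_multiset_le s (B / i)
    have : Nat.card ↥({N | Multiset.card N ≤ B / i} : Set (Multiset (Fin s))) ≠ 0 := by
      change Nat.card {m : Multiset (Fin s) // Multiset.card m ≤ B / i} ≠ 0
      rw [h1]
      exact (Nat.choose_pos (Nat.le_add_left s (B / i))).ne'
    exact Set.finite_coe_iff.1 (Nat.finite_of_card_ne_zero this)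
  have hSfin : S.Finite := by
    apply hA.subset
    intro N hN
    show Multiset.card N ≤ B / i
    rw [Nat.le_div_iff_mul_le (by omega), mul_comm]
    exact hN.2
  have hBadS : Bad ⊆ S := by
    intro N hN
    have hN1 : i * Multiset.card N = B := hN.1
    refine ⟨?_, hN1.le⟩
    rintro rfl
    rw [Multiset.card_zero, mul_zero] at hN1
    omega
  have hBadfin : Bad.Finite := hSfin.subset hBadS
  have hgood : {N : Multiset (Fin s) | N ≠ 0 ∧ i * Multiset.card N ≤ B ∧
      ¬ (i * Multiset.card N = B ∧ Cnd (Multiset.card N))} = S \ Bad := by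
    ext N
    simp only [Set.mem_ofPred_eq, Set.mem_sdiff, hS, hBad]
    tauto
  change Nat.card ↥{N : Multiset (Fin s) | N ≠ 0 ∧ i * Multiset.card N ≤ B ∧
      ¬ (i * Multiset.card N = B ∧ Cnd (Multiset.card N))} = _
  rw [hgood, Nat.card_coe_set_eq, Set.ncard_sdiff hBadS hBadfin]
  have hScard : S.ncard = (B / i + s).choose s - 1 := by
    rw [← Nat.card_coe_set_eq]
    exact card_multiset_ne_zero_le s i B hi
  rw [hScard]
  congr 1
  by_cases hc : i ∣ B ∧ Cnd (B / i)
  · rw [if_pos hc]
    have hBadeq : Bad = {N | Multiset.card N = B / i} := by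
      ext N
      simp only [hBad, Set.mem_ofPred_eq]
      constructor
      · rintro ⟨h1, -⟩
        rw [← h1, Nat.mul_div_cancel_left _ (by omega)]
      · intro h1
        rw [h1]
        exact ⟨Nat.mul_div_cancel' hc.1, hc.2⟩
    rw [hBadeq, ← Nat.card_coe_set_eq]
    exact card_multiset_exact s (B / i) hs
  · rw [if_neg hc]
    have hBadeq : Bad = ∅ := by
      ext N
      simp only [hBad, Set.mem_ofPred_eq, Set.mem_empty_iff_false, iff_false]
      rintro ⟨h1, h2⟩
      apply hc
      refine ⟨⟨_, h1.symm⟩, ?_⟩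
      rw [← h1, Nat.mul_div_cancel_left _ (by omega)]
      exact h2
    rw [hBadeq, Set.ncard_empty]

end Cfsg.Agent.Lib.Helper43.OrthGen
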