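import Mathlib
import Cfsg.Prelude.Def_ClassicalGeometry
import Cfsg.Agent.Lib.Helper4.NdDefs

/-! S5956 hive (helper4), leaf ND-G2: the orthogonal complement of an invariant subspace is invariant (helper43) -/

set_option autoImplicit false
open Matrix
open Cfsg.Agent.Lib.Helper99 (Nd dker sympB)

namespace Cfsg.Agent.Lib.Helper4.NdH

universe u v

variable {F : Type u} [Field F] {V : Type v} [AddCommGroup V] [Module F V]

/-- an isometry of a nondegenerate form is injective -/
theorem g2_injective (B : V →ₗ[F] V →ₗ[F] F) (hV : Nd B ⊤)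
    (g : V →ₗ[F] V) (hg : Isom B g) : Function.Injective g := by
  rw [← LinearMap.ker_eq_bot, eq_bot_iff]
  intro v hv
  rw [LinearMap.mem_ker] at hv
  rw [Submodule.mem_bot]
  apply hV v Submodule.mem_top
  intro w _
  rw [← hg v w, hv, map_zero, LinearMap.zero_apply]

/-- ND-G2 : an isometry of a nondegenerate form is injective, so `g W = W`; then `g (W^⊥) ⊆ W^⊥`. -/
theorem inv_orth [FiniteDimensional F V] (B : V →ₗ[F] V →ₗ[F] F) (hB : Alt B) (hV : Nd B ⊤)
    (g : V →ₗ[F] V) (hg : Isom B g) (W : Submodule F V) (hW : Inv g W) : Inv g (orth B W) := by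
  have hinj := g2_injective B hV g hg
  -- the restriction of `g` to `W` is surjective
  have hsurj : Function.Surjective (g.restrict hW) := by
    apply LinearMap.surjective_of_injective
    intro x y hxy
    apply Subtype.ext
    apply hinj
    have := congrArg Subtype.val hxy
    exact this
  intro v hv
  rw [mem_orth] at hv ⊢
  intro w hw
  obtain ⟨w', hw'⟩ := hsurj ⟨w, hw⟩
  have h1 : g w'.1 = w := congrArg Subtype.val hw'
  rw [← h1, hg]
  exact hv w'.1 w'.2

end Cfsg.Agent.Lib.Helper4.NdH
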