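import Mathlib
import Cfsg.Prelude.Def_ClassicalGeometry
import Cfsg.Agent.Lib.Helper4.NdDefs
import Cfsg.Agent.Lib.Helper43.NdG1

/-! S5956 hive (helper4), leaf ND-G3: orthogonal sums of nondegenerate invariant subspaces (helper43) -/

set_option autoImplicit false
open Matrix
open Cfsg.Agent.Lib.Helper99 (Nd dker sympB)

namespace Cfsg.Agent.Lib.Helper4.NdH

universe u v

variable {F : Type u} [Field F] {V : Type v} [AddCommGroup V] [Module F V]

/-- orthogonal sum of two nondegenerate subspaces -/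
theorem g3_nd_sup (B : V →ₗ[F] V →ₗ[F] F) (hB : Alt B) (X Y : Submodule F V)
    (hX : Nd B X) (hY : Nd B Y) (hXY : Perp B X Y) : Nd B (X ⊔ Y) := by
  intro u hu h
  obtain ⟨x, hx, y, hy, rfl⟩ := Submodule.mem_sup.mp hu
  have hx0 : x = 0 := by
    apply hX x hx
    intro v hv
    have h1 := h v (Submodule.mem_sup_left hv)
    rw [map_add, LinearMap.add_apply, g1_skew B hB y v, hXY v hv y hy, neg_zero, add_zero] at h1
    exact h1
  have hy0 : y = 0 := by
    apply hY y hy
    intro v hv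
    have h1 := h v (Submodule.mem_sup_right hv)
    rw [map_add, LinearMap.add_apply, hXY x hx v hv, zero_add] at h1
    exact h1
  rw [hx0, hy0, add_zero]

theorem g3_inv_sup (g : V →ₗ[F] V) (X Y : Submodule F V) (hX : Inv g X) (hY : Inv g Y) :
    Inv g (X ⊔ Y) := by
  intro u hu
  obtain ⟨x, hx, y, hy, rfl⟩ := Submodule.mem_sup.mp hu
  rw [map_add]
  exact Submodule.add_mem _ (Submodule.mem_sup_left (hX x hx)) (Submodule.mem_sup_right (hY y hy))

theorem g3_perp_biSup (B : V →ₗ[F] V →ₗ[F] F) {ι : Type*} (P : ι → Submodule F V)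
    (J : Finset ι) (X : Submodule F V) (h : ∀ j ∈ J, Perp B X (P j)) :
    Perp B X (⨆ j ∈ J, P j) := by
  intro x hx y hy
  have hle : (⨆ j ∈ J, P j) ≤ (orth B X) := by
    apply iSup₂_le
    intro j hj z hz
    rw [mem_orth]
    intro w hw
    exact h j hj w hw z hz
  exact (hle hy) x hx

/-- the three properties of `⨆ j ∈ J, P j` -/
theorem g3_main [FiniteDimensional F V] (B : V →ₗ[F] V →ₗ[F] F) (hB : Alt B) (g : V →ₗ[F] V)
    {t : ℕ} (P : Fin t → Submodule F V) (hind : iSupIndep P)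
    (hperp : ∀ j j', j ≠ j' → Perp B (P j) (P j')) (hnd : ∀ j, Nd B (P j)) (hinv : ∀ j, Inv g (P j))
    (J : Finset (Fin t)) :
    Module.finrank F ↥(⨆ j ∈ J, P j) = ∑ j ∈ J, Module.finrank F (P j) ∧
      Nd B (⨆ j ∈ J, P j) ∧ Inv g (⨆ j ∈ J, P j) := by
  classical
  induction J using Finset.induction_on with
  | empty =>
    have hbot : (⨆ j ∈ (∅ : Finset (Fin t)), P j) = ⊥ := by simp
    rw [hbot, Finset.sum_empty]
    refine ⟨finrank_bot F V, ?_, ?_⟩
    · intro u hu _
      exact (Submodule.mem_bot F).mp hu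
    · intro u hu
      rw [(Submodule.mem_bot F).mp hu, map_zero]
      exact Submodule.zero_mem _
  | insert a J ha ih =>
    obtain ⟨ih1, ih2, ih3⟩ := ih
    rw [Finset.iSup_insert, Finset.sum_insert ha]
    have hdisj : Disjoint (P a) (⨆ j ∈ J, P j) := by
      have h1 := hind a
      apply h1.mono_right
      apply iSup₂_le
      intro j hj
      have hja : j ≠ a := fun h => ha (h ▸ hj)
      exact le_iSup₂_of_le j hja le_rfl
    have hp : Perp B (P a) (⨆ j ∈ J, P j) := by
      apply g3_perp_biSup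
      intro j hj
      exact hperp a j (fun h => ha (h ▸ hj))
    refine ⟨?_, g3_nd_sup B hB _ _ (hnd a) ih2 hp, g3_inv_sup g _ _ (hinv a) ih3⟩
    have h1 := Submodule.finrank_sup_add_finrank_inf_eq (P a) (⨆ j ∈ J, P j)
    rw [disjoint_iff.mp hdisj, finrank_bot, add_zero] at h1
    rw [h1, ih1]

/-- ND-G3 : an orthogonal sum of nondegenerate invariant subspaces (`W = ⨆ j ∈ J, P j`). -/
theorem good_iSup [FiniteDimensional F V] (B : V →ₗ[F] V →ₗ[F] F) (hB : Alt B) (g : V →ₗ[F] V)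
    {t : ℕ} (P : Fin t → Submodule F V) (hind : iSupIndep P)
    (hperp : ∀ j j', j ≠ j' → Perp B (P j) (P j')) (hnd : ∀ j, Nd B (P j)) (hinv : ∀ j, Inv g (P j))
    (J : Finset (Fin t)) : Good B g (∑ j ∈ J, Module.finrank F (P j)) := by
  obtain ⟨h1, h2, h3⟩ := g3_main B hB g P hind hperp hnd hinv J
  exact ⟨⨆ j ∈ J, P j, h1, h2, h3⟩

end Cfsg.Agent.Lib.Helper4.NdH
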