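import Mathlib
import Cfsg.Prelude.Def_ClassicalGeometry
import Cfsg.Agent.Lib.Helper4.NdDefs
import Cfsg.Agent.Lib.Helper43.NdG1
import Cfsg.Agent.Lib.Helper43.NdG3

/-! S5956 hive (helper4), leaf ND-G4: nondegenerate subspaces of every even dimension (helper43) -/

set_option autoImplicit false
open Matrix
open Cfsg.Agent.Lib.Helper99 (Nd dker sympB)

namespace Cfsg.Agent.Lib.Helper4.NdH

universe u v

variable {F : Type u} [Field F] {V : Type v} [AddCommGroup V] [Module F V]

/-- the relative orthogonal complement of a nondegenerate `W ≤ X` in a nondegenerate `X` is nondegenerate -/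
theorem g4_nd_rel [FiniteDimensional F V] (B : V →ₗ[F] V →ₗ[F] F) (hB : Alt B)
    (X W : Submodule F V) (hX : Nd B X) (hWX : W ≤ X) (hW : Nd B W) : Nd B (X ⊓ orth B W) := by
  intro u hu h
  rw [Submodule.mem_inf] at hu
  apply hX u hu.1
  intro x hx
  have hc := (isCompl_orth B hB W hW).sup_eq_top
  have hx' : x ∈ W ⊔ orth B W := by rw [hc]; exact Submodule.mem_top
  obtain ⟨w, hw, w', hw', rfl⟩ := Submodule.mem_sup.mp hx'
  have hw'X : w' ∈ X := by
    have : w' = (w + w') - w := by abel
    rw [this]
    exact Submodule.sub_mem _ hx (hWX hw)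
  rw [map_add, h w' (Submodule.mem_inf.mpr ⟨hw'X, hw'⟩), add_zero, g1_skew B hB, hu.2 w hw, neg_zero]

/-- if `W < X` then the relative complement is nonzero -/
theorem g4_rel_ne_bot [FiniteDimensional F V] (B : V →ₗ[F] V →ₗ[F] F) (hB : Alt B)
    (X W : Submodule F V) (hWX : W ≤ X) (hW : Nd B W)
    (hlt : Module.finrank F W < Module.finrank F X) : X ⊓ orth B W ≠ ⊥ := by
  intro hbot
  have hle : X ≤ W := by
    intro x hx
    have hc := (isCompl_orth B hB W hW).sup_eq_top
    have hx' : x ∈ W ⊔ orth B W := by rw [hc]; exact Submodule.mem_top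
    obtain ⟨w, hw, w', hw', rfl⟩ := Submodule.mem_sup.mp hx'
    have hw'X : w' ∈ X := by
      have : w' = (w + w') - w := by abel
      rw [this]
      exact Submodule.sub_mem _ hx (hWX hw)
    have h0 : w' ∈ X ⊓ orth B W := Submodule.mem_inf.mpr ⟨hw'X, hw'⟩
    rw [hbot, Submodule.mem_bot] at h0
    rw [h0, add_zero]
    exact hw
  have := Submodule.finrank_mono hle
  omega

/-- a plane spanned by a non-orthogonal pair is nondegenerate of dimension two -/
theorem g4_plane (B : V →ₗ[F] V →ₗ[F] F) (hB : Alt B) (x y : V) (hxy : B x y ≠ 0) :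
    Nd B (Submodule.span F {x, y}) ∧ Module.finrank F ↥(Submodule.span F {x, y}) = 2 := by
  have hyx : B y x ≠ 0 := by
    rw [g1_skew B hB]
    exact neg_ne_zero.mpr hxy
  constructor
  · intro u hu h
    obtain ⟨a, b, rfl⟩ := Submodule.mem_span_pair.mp hu
    have h1 := h x (Submodule.subset_span (by simp))
    have h2 := h y (Submodule.subset_span (by simp))
    rw [map_add, LinearMap.add_apply, map_smul, map_smul, LinearMap.smul_apply, LinearMap.smul_apply,
      hB x, smul_zero, zero_add, smul_eq_mul] at h1
    rw [map_add, LinearMap.add_apply, map_smul, map_smul, LinearMap.smul_apply, LinearMap.smul_apply,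
      hB y, smul_zero, add_zero, smul_eq_mul] at h2
    have hb : b = 0 := by
      rcases mul_eq_zero.mp h1 with h | h
      · exact h
      · exact absurd h hyx
    have ha : a = 0 := by
      rcases mul_eq_zero.mp h2 with h | h
      · exact h
      · exact absurd h hxy
    rw [ha, hb, zero_smul, zero_smul, add_zero]
  · have hli : LinearIndependent F ![x, y] := by
      rw [LinearIndependent.pair_iff]
      intro s t hst
      have h1 := congrArg (fun v => B v y) hst
      have h2 := congrArg (fun v => B v x) hst
      simp only [map_add, map_smul, LinearMap.add_apply, LinearMap.smul_apply, smul_eq_mul, hB y,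
        mul_zero, add_zero, map_zero, LinearMap.zero_apply] at h1
      simp only [map_add, map_smul, LinearMap.add_apply, LinearMap.smul_apply, smul_eq_mul, hB x,
        mul_zero, zero_add, map_zero, LinearMap.zero_apply] at h2
      constructor
      · rcases mul_eq_zero.mp h1 with h | h
        · exact h
        · exact absurd h hxy
      · rcases mul_eq_zero.mp h2 with h | h
        · exact h
        · exact absurd h hyx
    have h3 := finrank_span_eq_card hli
    have h4 : Set.range ![x, y] = {x, y} := by
      ext v
      simp only [Matrix.range_cons, Matrix.range_empty, Set.union_empty, Set.union_singleton,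
        Set.mem_insert_iff, Set.mem_singleton_iff]
      exact or_comm
    rw [h4] at h3
    rw [h3]
    simp

/-- ND-G4 : a nondegenerate alternating space contains nondegenerate subspaces of every even dimension. -/
theorem exists_nd_le [FiniteDimensional F V] (B : V →ₗ[F] V →ₗ[F] F) (hB : Alt B)
    (X : Submodule F V) (hX : Nd B X) (m : ℕ) (hme : Even m) (hm : m ≤ Module.finrank F X) :
    ∃ W : Submodule F V, W ≤ X ∧ Module.finrank F W = m ∧ Nd B W := by
  obtain ⟨k, rfl⟩ := hme
  induction k with
  | zero =>
    refine ⟨⊥, bot_le, by simp, ?_⟩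
    intro u hu _
    exact (Submodule.mem_bot F).mp hu
  | succ k ih =>
    obtain ⟨W, hWX, hWd, hWnd⟩ := ih (by omega)
    have hlt : Module.finrank F W < Module.finrank F X := by omega
    have hne := g4_rel_ne_bot B hB X W hWX hWnd hlt
    have hrel := g4_nd_rel B hB X W hX hWX hWnd
    obtain ⟨x, hx, hx0⟩ := Submodule.exists_mem_ne_zero_of_ne_bot hne
    have hy : ∃ y ∈ X ⊓ orth B W, B x y ≠ 0 := by
      by_contra hcon
      apply hx0
      apply hrel x hx
      intro v hv
      by_contra hne
      exact hcon ⟨v, hv, hne⟩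
    obtain ⟨y, hy, hxy⟩ := hy
    obtain ⟨hPnd, hPd⟩ := g4_plane B hB x y hxy
    have hPle : Submodule.span F {x, y} ≤ X ⊓ orth B W := by
      rw [Submodule.span_le]
      intro v hv
      rcases hv with rfl | rfl
      · exact hx
      · exact hy
    have hperp : Perp B W (Submodule.span F {x, y}) := by
      intro w hw v hv
      exact (Submodule.mem_inf.mp (hPle hv)).2 w hw
    have hdisj : W ⊓ Submodule.span F {x, y} = ⊥ := by
      rw [eq_bot_iff]
      intro v hv
      rw [Submodule.mem_inf] at hv
      have h1 : v ∈ W ⊓ orth B W :=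
        Submodule.mem_inf.mpr ⟨hv.1, (Submodule.mem_inf.mp (hPle hv.2)).2⟩
      rw [g1_disjoint B hB W hWnd] at h1
      exact h1
    refine ⟨W ⊔ Submodule.span F {x, y}, sup_le hWX (hPle.trans inf_le_left), ?_,
      g3_nd_sup B hB _ _ hWnd hPnd hperp⟩
    have h1 := Submodule.finrank_sup_add_finrank_inf_eq W (Submodule.span F {x, y})
    rw [hdisj, finrank_bot, add_zero] at h1
    rw [h1, hWd, hPd]
    omega

end Cfsg.Agent.Lib.Helper4.NdH
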