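import Mathlib
import Cfsg.Agent.Lib.Helper43.EvenWtMain
import Cfsg.Agent.S0287

set_option autoImplicit false

namespace Cfsg.Agent.Lib.Helper43

/-- the orthogonal group of plus type in dimension six over the field of two elements is the
symmetric group of degree eight -/
theorem oplus6_equiv_perm8 :
    Nonempty (↥(Cfsg.isometryGroup (ZMod 2) (Cfsg.quadFormPlus 3 (ZMod 2))) ≃*
      Equiv.Perm (Fin 8)) := by
  obtain ⟨φ, hφ⟩ := exists_embedding_plus 1 (by decide)
  have hφ' : Function.Injective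
      (φ : Equiv.Perm (Fin 6 ⊕ Fin 2) → ↥(Cfsg.isometryGroup (ZMod 2) (Cfsg.quadFormPlus 3 (ZMod 2)))) := hφ
  have hcardG : Nat.card ↥(Cfsg.isometryGroup (ZMod 2) (Cfsg.quadFormPlus 3 (ZMod 2))) = 40320 := by
    have h := Cfsg.Agent.S0287.result (F := ZMod 2) (q := 2) (ZMod.card 2) 3 (by norm_num)
    rw [h]
    norm_num [Finset.prod_range_succ]
  have hcardP : Nat.card (Equiv.Perm (Fin 6 ⊕ Fin 2)) = 40320 := by
    rw [Nat.card_eq_fintype_card, Fintype.card_perm, Fintype.card_sum, Fintype.card_fin,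
      Fintype.card_fin]
    rfl
  have hbij : Function.Bijective
      (φ : Equiv.Perm (Fin 6 ⊕ Fin 2) → ↥(Cfsg.isometryGroup (ZMod 2) (Cfsg.quadFormPlus 3 (ZMod 2)))) :=
    hφ'.bijective_of_nat_card_le (by rw [hcardG, hcardP])
  exact ⟨(MulEquiv.ofBijective
    (φ : Equiv.Perm (Fin 6 ⊕ Fin 2) →* ↥(Cfsg.isometryGroup (ZMod 2) (Cfsg.quadFormPlus 3 (ZMod 2))))
    hbij).symm.trans (finSumFinEquiv (m := 6) (n := 2)).permCongrHom⟩

end Cfsg.Agent.Lib.Helper43
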