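import Mathlib
import Cfsg.Prelude.Def_GeometricClasses
import Cfsg.Agent.Lib.Helper44.OcDefs
import Cfsg.Agent.Lib.Helper44.OcIdbDefs

set_option autoImplicit false
open Matrix

/-! IDB-QE (helper43; backup route "Idb" of OC-IDX, Oc hive S5977/S5978 of helper44): the diagonal form
`∑ c_j x_j²` with nonzero coefficients is a nondegenerate quadratic form when `2 ≠ 0`. -/

namespace Cfsg.Agent.Lib.Helper44.Oc

universe v w

variable {F : Type v} [Field F] {ι : Type} [Fintype ι] [DecidableEq ι]

theorem idbqe_polar {E : Type w} [Field E] {d : ℕ} (c : Fin d → E) (x y : Fin d → E) :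
    QuadraticMap.polar (idbQE c) x y = ∑ j, 2 * c j * x j * y j := by
  unfold QuadraticMap.polar idbQE
  rw [← Finset.sum_sub_distrib, ← Finset.sum_sub_distrib]
  apply Finset.sum_congr rfl
  intro j _
  simp only [Pi.add_apply]
  ring

/-- IDB-QE : a diagonal form with nonzero coefficients is a nondegenerate quadratic form
(characteristic not two; any field). -/
theorem idb_QE_nondeg {E : Type w} [Field E] (h2E : (2 : E) ≠ 0) {d : ℕ} (c : Fin d → E)
    (hc : ∀ j, c j ≠ 0) :
    Cfsg.Geo.IsNondegenerateQuadraticForm (idbQE c) := by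
  classical
  refine ⟨?_, ⟨?_, ?_, ?_, ?_⟩, ?_⟩
  · intro a v
    unfold idbQE
    rw [Finset.mul_sum]
    apply Finset.sum_congr rfl
    intro j _
    simp only [Pi.smul_apply, smul_eq_mul]
    ring
  · intro x y v
    rw [idbqe_polar, idbqe_polar, idbqe_polar, ← Finset.sum_add_distrib]
    apply Finset.sum_congr rfl
    intro j _
    simp only [Pi.add_apply]
    ring
  · intro a x v
    rw [idbqe_polar, idbqe_polar, Finset.mul_sum]
    apply Finset.sum_congr rfl
    intro j _
    simp only [Pi.smul_apply, smul_eq_mul]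
    ring
  · intro v x y
    rw [idbqe_polar, idbqe_polar, idbqe_polar, ← Finset.sum_add_distrib]
    apply Finset.sum_congr rfl
    intro j _
    simp only [Pi.add_apply]
    ring
  · intro a v x
    rw [idbqe_polar, idbqe_polar, Finset.mul_sum]
    apply Finset.sum_congr rfl
    intro j _
    simp only [Pi.smul_apply, smul_eq_mul]
    ring
  · intro v hv
    obtain ⟨j, hj⟩ : ∃ j, v j ≠ 0 := by
      by_contra hcon
      push Not at hcon
      exact hv (funext hcon)
    have key1 : QuadraticMap.polar (idbQE c) (Pi.single j 1) v = 2 * c j * v j := by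
      rw [idbqe_polar, Finset.sum_eq_single j]
      · rw [Pi.single_eq_same]; ring
      · intro k _ hk
        rw [Pi.single_eq_of_ne hk]; ring
      · intro h; exact absurd (Finset.mem_univ j) h
    have key2 : QuadraticMap.polar (idbQE c) v (Pi.single j 1) = 2 * c j * v j := by
      rw [idbqe_polar, Finset.sum_eq_single j]
      · rw [Pi.single_eq_same]; ring
      · intro k _ hk
        rw [Pi.single_eq_of_ne hk]; ring
      · intro h; exact absurd (Finset.mem_univ j) h
    have hne : 2 * c j * v j ≠ 0 := mul_ne_zero (mul_ne_zero h2E (hc j)) hj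
    exact ⟨⟨Pi.single j 1, by rw [key1]; exact hne⟩, ⟨Pi.single j 1, by rw [key2]; exact hne⟩⟩

end Cfsg.Agent.Lib.Helper44.Oc
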