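import Cfsg.Agent.Lib.Helper37.SimIndex
import Cfsg.Agent.Lib.Helper37.OmegaIndex

set_option autoImplicit false
set_option linter.unusedSectionVars false
set_option linter.unusedVariables false

/-!
# The image of the conformal group in `Aut(PΩ(Q))` in odd dimension
-/

namespace Cfsg.Agent.Lib.Helper43.OddOrthAut

open Matrix Module
open Cfsg.Agent.Lib.Helper37 Cfsg.Agent.Lib.Helper37.IsGram

universe u

variable {κ : Type} [Fintype κ] [DecidableEq κ] {F : Type u} [Field F] [Fintype F] [DecidableEq F]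
  {Q : (κ → F) → F} {G : Matrix κ κ F}

/-- in odd dimension the multiplier of a similarity is a square -/
theorem exists_simMult_eq_sq (h : IsGram Q G) (hdet : G.det ≠ 0) {N : ℕ}
    (hN : Fintype.card κ = 2 * N + 1) (g : ↥(Cfsg.Geo.quadSimilarityGroup (F := F) Q)) :
    ∃ d : Fˣ, simMult Q g = d * d := by
  have h1 := sim_det_sq h hdet g
  rw [hN] at h1
  have hμ : (simMult Q g : F) ≠ 0 := (simMult Q g).ne_zero
  have hdg : (g.1 : Matrix κ κ F).det ≠ 0 := by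
    have := (Matrix.isUnit_iff_isUnit_det _).1 (g.1 : GL κ F).isUnit
    exact this.ne_zero
  have hd0 : (g.1 : Matrix κ κ F).det / (simMult Q g : F) ^ N ≠ 0 :=
    div_ne_zero hdg (pow_ne_zero _ hμ)
  refine ⟨Units.mk0 _ hd0, ?_⟩
  apply Units.ext
  rw [Units.val_mul, Units.val_mk0]
  have hμN : (simMult Q g : F) ^ N ≠ 0 := pow_ne_zero _ hμ
  field_simp
  rw [h1]
  ring

theorem Phi_eq_Phi_iso (h : IsGram Q G) (hdet : G.det ≠ 0) {N : ℕ}
    (hN : Fintype.card κ = 2 * N + 1)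
    (hker : ∀ g : ↥(Cfsg.Geo.quadSimilarityGroup (F := F) Q),
      Phi Q g = 1 ↔ ∃ c : F, ((g.1 : GL κ F) : Matrix κ κ F) = c • (1 : Matrix κ κ F))
    (g : ↥(Cfsg.Geo.quadSimilarityGroup (F := F) Q)) :
    ∃ k : ↥(Cfsg.isometryGroup F Q), Phi Q g = Phi Q (isoGO Q k) := by
  obtain ⟨d, hd⟩ := exists_simMult_eq_sq h hdet hN g
  obtain ⟨k, hk⟩ := exists_scalar_mul_iso h g d hd
  exact ⟨k, by rw [hk, map_mul, Phi_scalarGO h hker, one_mul]⟩

theorem range_Phi_eq (h : IsGram Q G) (hdet : G.det ≠ 0) {N : ℕ}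
    (hN : Fintype.card κ = 2 * N + 1)
    (hker : ∀ g : ↥(Cfsg.Geo.quadSimilarityGroup (F := F) Q),
      Phi Q g = 1 ↔ ∃ c : F, ((g.1 : GL κ F) : Matrix κ κ F) = c • (1 : Matrix κ κ F)) :
    (Phi Q).range = ((Phi Q).comp (isoGO Q)).range := by
  apply le_antisymm
  · rintro _ ⟨g, rfl⟩
    obtain ⟨k, hk⟩ := Phi_eq_Phi_iso h hdet hN hker g
    exact ⟨k, hk.symm⟩
  · rintro _ ⟨k, rfl⟩
    exact ⟨isoGO Q k, rfl⟩

theorem Phi_iso_eq_one_iff (h : IsGram Q G) (hne : ∃ v, Q v ≠ 0)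
    (hker : ∀ g : ↥(Cfsg.Geo.quadSimilarityGroup (F := F) Q),
      Phi Q g = 1 ↔ ∃ c : F, ((g.1 : GL κ F) : Matrix κ κ F) = c • (1 : Matrix κ κ F))
    (k : ↥(Cfsg.isometryGroup F Q)) :
    Phi Q (isoGO Q k) = 1 ↔ k = 1 ∨ k = h.negO := by
  constructor
  · intro hk
    obtain ⟨c, hc⟩ := (hker _).1 hk
    obtain ⟨c', -, hc'⟩ := eq_scalarGO_of_val h hne _ c hc
    have := scalar_iso_cases h hne c' k 1 (by rw [map_one, mul_one]; exact hc')
    rwa [mul_one] at this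
  · rintro (rfl | rfl)
    · rw [map_one, map_one]
    · rw [← scalarGO_neg_one, Phi_scalarGO h hker]

theorem negO_ne_one (h : IsGram Q G) [Nonempty κ] : h.negO ≠ 1 := by
  intro h1
  have h2 := congrArg (toMat Q) h1
  rw [h.toMat_negO, map_one] at h2
  obtain ⟨i⟩ := ‹Nonempty κ›
  have h3 := congrFun (congrFun h2 i) i
  simp only [Matrix.neg_apply, Matrix.one_apply_eq] at h3
  apply h.two_ne
  linear_combination -h3

theorem card_ker_Phi_iso (h : IsGram Q G) (hne : ∃ v, Q v ≠ 0) [Nonempty κ]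
    (hker : ∀ g : ↥(Cfsg.Geo.quadSimilarityGroup (F := F) Q),
      Phi Q g = 1 ↔ ∃ c : F, ((g.1 : GL κ F) : Matrix κ κ F) = c • (1 : Matrix κ κ F)) :
    Nat.card ((Phi Q).comp (isoGO Q)).ker = 2 := by
  rw [Nat.card_eq_two_iff]
  have m1 : (1 : ↥(Cfsg.isometryGroup F Q)) ∈ ((Phi Q).comp (isoGO Q)).ker := Subgroup.one_mem _
  have m2 : h.negO ∈ ((Phi Q).comp (isoGO Q)).ker := by
    rw [MonoidHom.mem_ker, MonoidHom.comp_apply]
    exact (Phi_iso_eq_one_iff h hne hker _).2 (Or.inr rfl)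
  refine ⟨⟨1, m1⟩, ⟨h.negO, m2⟩, ?_, ?_⟩
  · intro e
    exact negO_ne_one h (congrArg Subtype.val e).symm
  · rw [Set.eq_univ_iff_forall]
    rintro ⟨k, hk⟩
    rw [MonoidHom.mem_ker, MonoidHom.comp_apply] at hk
    rcases (Phi_iso_eq_one_iff h hne hker k).1 hk with rfl | rfl
    · left; rfl
    · right; rfl

/-- the order of the image of the conformal group: half the order of the isometry group -/
theorem card_range_Phi (h : IsGram Q G) (hdet : G.det ≠ 0) {N : ℕ}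
    (hN : Fintype.card κ = 2 * N + 1) (hne : ∃ v, Q v ≠ 0)
    (hker : ∀ g : ↥(Cfsg.Geo.quadSimilarityGroup (F := F) Q),
      Phi Q g = 1 ↔ ∃ c : F, ((g.1 : GL κ F) : Matrix κ κ F) = c • (1 : Matrix κ κ F)) :
    Nat.card (Phi Q).range * 2 = Nat.card ↥(Cfsg.isometryGroup F Q) := by
  haveI : Nonempty κ := by
    rw [← Fintype.card_pos_iff, hN]; omega
  rw [range_Phi_eq h hdet hN hker,
    Subgroup.card_eq_card_quotient_mul_card_subgroup ((Phi Q).comp (isoGO Q)).ker,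
    card_ker_Phi_iso h hne hker,
    Nat.card_congr (QuotientGroup.quotientKerEquivRange ((Phi Q).comp (isoGO Q))).toEquiv]

/-- the order of the image of the conformal group: twice the order of `Ω` -/
theorem card_range_Phi_omega (h : IsGram Q G) (hdet : G.det ≠ 0) {N : ℕ}
    (hN : Fintype.card κ = 2 * N + 1) (hN1 : 1 ≤ N) (hne : ∃ v, Q v ≠ 0)
    (hker : ∀ g : ↥(Cfsg.Geo.quadSimilarityGroup (F := F) Q),
      Phi Q g = 1 ↔ ∃ c : F, ((g.1 : GL κ F) : Matrix κ κ F) = c • (1 : Matrix κ κ F)) :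
    Nat.card (Phi Q).range = 2 * Nat.card ↥(Cfsg.Omega F Q) := by
  have h1 := card_range_Phi h hdet hN hne hker
  have h2 : (Cfsg.Omega F Q).index = 4 := index_omega_eq_four h hdet (by omega)
  have h3 := Subgroup.card_mul_index (Cfsg.Omega F Q)
  rw [h2] at h3
  omega

end Cfsg.Agent.Lib.Helper43.OddOrthAut
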