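import Cfsg.Agent.Lib.Helper43.OddOrthAutMain
import Cfsg.Agent.Lib.Helper43.OddOrthGram
import Cfsg.Agent.Lib.Helper43.OrthCardForms

set_option autoImplicit false

/-!
# The standard odd-dimensional form: ambient hypotheses and field equivariance
-/

namespace Cfsg.Agent.Lib.Helper43.OddOrthAutInst

open Cfsg.Agent.Lib.Helper43.OrthField

universe u

variable {F : Type u} [Field F]

theorem fieldEquivariant_quadFormOdd (m : ℕ) : FieldEquivariant (Cfsg.quadFormOdd m F) := by
  intro σ v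
  unfold Cfsg.quadFormOdd
  rw [map_add, map_pow, map_sum]
  congr 1
  apply Finset.sum_congr rfl
  intro i _
  rw [map_mul]

theorem fieldEquivariant_oddForm (m : ℕ) :
    FieldEquivariant (⇑(Cfsg.Agent.Lib.Helper43.oddForm m F) :
      (Unit ⊕ (Fin m ⊕ Fin m) → F) → F) := by
  rw [← Cfsg.Agent.Lib.Helper43.oddForm_coe]
  exact fieldEquivariant_quadFormOdd m

theorem amb_oddForm [Fintype F] (h2 : (2 : F) ≠ 0) {m : ℕ} (hm : 3 ≤ m) :
    Cfsg.Agent.Lib.Helper99.AutO.Amb (Cfsg.Agent.Lib.Helper43.oddForm m F) := by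
  have hcard : Fintype.card (Unit ⊕ (Fin m ⊕ Fin m)) = 1 + (m + m) := by
    simp
  exact ⟨h2, Cfsg.Agent.Lib.Helper43.OddOrth.oddForm_nondegenerate h2,
      by rw [hcard]; exact ⟨m, by ring⟩,
      by rw [Module.finrank_fintype_fun_eq_card, hcard]; omega⟩

end Cfsg.Agent.Lib.Helper43.OddOrthAutInst
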