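import Cfsg.Agent.Lib.Helper43.OrthField

set_option autoImplicit false
set_option linter.unusedSectionVars false

/-!
# The field-automorphism quotient of `Aut(PΩ(Q))`
-/

namespace Cfsg.Agent.Lib.Helper43.OrthField

open Matrix
open Cfsg.Agent.Lib.Helper37

universe u

variable {ι : Type} [Fintype ι] [DecidableEq ι] {F : Type u} [Field F]

/-- the data needed to split `Aut(PΩ(Q))` over its field automorphisms -/
structure AutData (Q : (ι → F) → F) : Prop where
  hE : FieldEquivariant Q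
  hker : ∀ (g : ↥(Cfsg.Geo.quadSimilarityGroup (F := F) Q)) (σ : F ≃+* F),
    Phi Q g * PhiF hE σ = 1 → σ = 1
  hAll : ∀ β : MulAut (Cfsg.POmega F Q), ∃ (g : GL ι F) (σ : F ≃+* F),
    Cfsg.IsSemisimilarityPair Q g σ ∧ Cfsg.IsInducedBySemilinearPOmega Q g σ β

namespace AutData

variable {Q : (ι → F) → F} (D : AutData Q)

/-- the normal form of an automorphism -/
theorem exists_nf (β : MulAut (Cfsg.POmega F Q)) :
    ∃ (σ : F ≃+* F) (g : ↥(Cfsg.Geo.quadSimilarityGroup (F := F) Q)),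
      β = Phi Q g * PhiF D.hE σ := by
  obtain ⟨g, σ, hs, hi⟩ := D.hAll β
  have hg := sim_of_semisim D.hE g σ hs
  exact ⟨σ, ⟨g, hg⟩, (isInduced_semi_iff D.hE g hg σ β).1 hi⟩

theorem nf_unique {g h : ↥(Cfsg.Geo.quadSimilarityGroup (F := F) Q)} {σ τ : F ≃+* F}
    (e : Phi Q g * PhiF D.hE σ = Phi Q h * PhiF D.hE τ) : σ = τ := by
  have h1 : Phi Q (h⁻¹ * g) * PhiF D.hE (σ * τ⁻¹) = 1 := by
    rw [map_mul, map_mul, map_inv, map_inv, mul_assoc, ← mul_assoc (Phi Q g), e]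
    group
  have := D.hker _ _ h1
  exact mul_inv_eq_one.1 this

/-- the field automorphism attached to an automorphism of `PΩ(Q)` -/
noncomputable def thetaFun (β : MulAut (Cfsg.POmega F Q)) : F ≃+* F :=
  (D.exists_nf β).choose

theorem thetaFun_spec (β : MulAut (Cfsg.POmega F Q)) :
    ∃ g : ↥(Cfsg.Geo.quadSimilarityGroup (F := F) Q), β = Phi Q g * PhiF D.hE (D.thetaFun β) :=
  (D.exists_nf β).choose_spec

theorem thetaFun_char (β : MulAut (Cfsg.POmega F Q))
    (g : ↥(Cfsg.Geo.quadSimilarityGroup (F := F) Q)) (σ : F ≃+* F)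
    (h : β = Phi Q g * PhiF D.hE σ) : D.thetaFun β = σ := by
  obtain ⟨g', hg'⟩ := D.thetaFun_spec β
  exact D.nf_unique (hg'.symm.trans h)

/-- the homomorphism `Aut(PΩ(Q)) → Aut(F)` -/
noncomputable def Theta : MulAut (Cfsg.POmega F Q) →* (F ≃+* F) where
  toFun := D.thetaFun
  map_one' := D.thetaFun_char 1 1 1 (by simp)
  map_mul' α β := by
    obtain ⟨g, hg⟩ := D.thetaFun_spec α
    obtain ⟨h, hh⟩ := D.thetaFun_spec β
    apply D.thetaFun_char (α * β)
      (g * ⟨glMap (D.thetaFun α) h.1, glMap_mem_sim D.hE _ h.1 h.2⟩) (D.thetaFun α * D.thetaFun β)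
    conv_lhs => rw [hg, hh]
    rw [map_mul, map_mul, mul_assoc, mul_assoc, ← mul_assoc (PhiF D.hE _) (Phi Q h),
      PhiF_mul_Phi]
    simp only [mul_assoc]

theorem Theta_apply (g : ↥(Cfsg.Geo.quadSimilarityGroup (F := F) Q)) (σ : F ≃+* F) :
    D.Theta (Phi Q g * PhiF D.hE σ) = σ :=
  D.thetaFun_char _ g σ rfl

theorem Theta_PhiF (σ : F ≃+* F) : D.Theta (PhiF D.hE σ) = σ := by
  have := D.Theta_apply 1 σ
  rwa [map_one, one_mul] at this

theorem Theta_Phi (g : ↥(Cfsg.Geo.quadSimilarityGroup (F := F) Q)) : D.Theta (Phi Q g) = 1 := by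
  have := D.Theta_apply g 1
  rwa [map_one, mul_one] at this

theorem Theta_surjective : Function.Surjective D.Theta :=
  fun σ => ⟨PhiF D.hE σ, D.Theta_PhiF σ⟩

theorem Theta_ker : D.Theta.ker = (Phi Q).range := by
  ext α
  rw [MonoidHom.mem_ker]
  constructor
  · intro h
    obtain ⟨g, hg⟩ := D.thetaFun_spec α
    have h' : D.thetaFun α = 1 := h
    rw [h', map_one, mul_one] at hg
    exact ⟨g, hg.symm⟩
  · rintro ⟨g, rfl⟩
    exact D.Theta_Phi g

theorem inn_le_ker : Cfsg.Inn (Cfsg.POmega F Q) ≤ D.Theta.ker := by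
  rw [D.Theta_ker, inn_eq]
  exact Subgroup.map_le_range _ _

end AutData

end Cfsg.Agent.Lib.Helper43.OrthField
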