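import Mathlib

set_option autoImplicit false

/-!
# Split extensions with a kernel of order two are direct products
-/

namespace Cfsg.Agent.Lib.Helper43.SplitCentral

variable {G C : Type*} [Group G] [Group C]

/-- a normal subgroup of order two is central -/
theorem le_center_of_card_two (K : Subgroup G) [K.Normal] (hK : Nat.card K = 2) :
    K ≤ Subgroup.center G := by
  intro z hz
  rw [Subgroup.mem_center_iff]
  intro g
  by_cases hz1 : z = 1
  · rw [hz1]; simp
  obtain ⟨a, b, hab, huniv⟩ := Nat.card_eq_two_iff.1 hK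
  have hall : ∀ w : K, w = 1 ∨ w = ⟨z, hz⟩ := by
    intro w
    have h1 : ∀ x : K, x = a ∨ x = b := by
      intro x
      have : x ∈ ({a, b} : Set K) := by rw [huniv]; exact Set.mem_univ x
      simpa using this
    have hzne : (⟨z, hz⟩ : K) ≠ 1 := fun h => hz1 (congrArg Subtype.val h)
    rcases h1 1 with h1a | h1b <;> rcases h1 ⟨z, hz⟩ with hza | hzb <;> rcases h1 w with hwa | hwb
    · exact absurd (hza.trans h1a.symm) hzne
    · exact absurd (hza.trans h1a.symm) hzne
    · left; rw [hwa, h1a]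
    · right; rw [hwb, hzb]
    · right; rw [hwa, hza]
    · left; rw [hwb, h1b]
    · exact absurd (hzb.trans h1b.symm) hzne
    · exact absurd (hzb.trans h1b.symm) hzne
  have hconj : g * z * g⁻¹ ∈ K := ‹K.Normal›.conj_mem z hz g
  rcases hall ⟨g * z * g⁻¹, hconj⟩ with h | h
  · exfalso
    have h1 : g * z * g⁻¹ = 1 := congrArg Subtype.val h
    apply hz1
    have : z = g⁻¹ * (g * z * g⁻¹) * g := by group
    rw [this, h1]; group
  · have h1 : g * z * g⁻¹ = z := congrArg Subtype.val h
    calc g * z = g * z * g⁻¹ * g := by group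
      _ = z * g := by rw [h1]

/-- a group of order two is `ZMod 2` -/
theorem nonempty_mulEquiv_zmod_two {K : Type*} [Group K] (hK : Nat.card K = 2) :
    Nonempty (K ≃* Multiplicative (ZMod 2)) := by
  haveI : Fact (Nat.Prime 2) := ⟨Nat.prime_two⟩
  haveI : IsCyclic K := isCyclic_of_prime_card hK
  have hcard : Nat.card K = Nat.card (Multiplicative (ZMod 2)) := by
    rw [hK, Nat.card_eq_fintype_card, Fintype.card_multiplicative, ZMod.card]
  exact ⟨mulEquivOfCyclicCardEq hcard⟩

/-- a split surjection with kernel of order two exhibits the group as a direct product -/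
theorem nonempty_mulEquiv_prod (θ : G →* C) (s : C →* G) (hs : ∀ c, θ (s c) = c)
    (hK : Nat.card θ.ker = 2) : Nonempty (G ≃* Multiplicative (ZMod 2) × C) := by
  have hcen : θ.ker ≤ Subgroup.center G := le_center_of_card_two θ.ker hK
  let ψ : θ.ker × C →* G := MonoidHom.noncommCoprod θ.ker.subtype s (by
    intro k c
    exact ((Subgroup.mem_center_iff.1 (hcen k.2)) (s c)).symm)
  have hψ : ∀ k c, ψ (k, c) = k.1 * s c := fun k c => rfl
  have hinj : Function.Injective ψ := by
    rw [injective_iff_map_eq_one]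
    rintro ⟨k, c⟩ h
    rw [hψ] at h
    have h1 := congrArg θ h
    rw [map_mul, MonoidHom.mem_ker.1 k.2, one_mul, hs, map_one] at h1
    rw [h1, map_one, mul_one] at h
    exact Prod.ext (Subtype.ext h) h1
  have hsurj : Function.Surjective ψ := by
    intro g
    refine ⟨(⟨g * (s (θ g))⁻¹, ?_⟩, θ g), ?_⟩
    · rw [MonoidHom.mem_ker, map_mul, map_inv, hs, mul_inv_cancel]
    · rw [hψ]; simp
  obtain ⟨e2⟩ := nonempty_mulEquiv_zmod_two hK
  exact ⟨(MulEquiv.ofBijective ψ ⟨hinj, hsurj⟩).symm.trans (MulEquiv.prodCongr e2 (MulEquiv.refl C))⟩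

/-- the version with target `Multiplicative (ZMod 2 × ZMod f)` -/
theorem nonempty_mulEquiv_zmod_prod {f : ℕ} (θ : G →* C) (s : C →* G) (hs : ∀ c, θ (s c) = c)
    (hK : Nat.card θ.ker = 2) (eC : C ≃* Multiplicative (ZMod f)) :
    Nonempty (G ≃* Multiplicative (ZMod 2 × ZMod f)) := by
  obtain ⟨e⟩ := nonempty_mulEquiv_prod θ s hs hK
  exact ⟨(e.trans (MulEquiv.prodCongr (MulEquiv.refl _) eC)).trans
    (MulEquiv.prodMultiplicative (G := ZMod 2) (H := ZMod f)).symm⟩

end Cfsg.Agent.Lib.Helper43.SplitCentral
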