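import Cfsg.Agent.Lib.Helper43.OrthFieldKer
import Cfsg.Agent.Lib.Helper43.OrthAutStruct
import Cfsg.Agent.Lib.Helper43.OddOrthAut
import Cfsg.Agent.Lib.Helper43.SplitCentral
import Cfsg.Agent.Lib.Helper43.RingAutFin
import Cfsg.Agent.Lib.Helper99.AutPB
import Cfsg.Agent.Lib.Helper37.SpinorNorm
import Cfsg.Agent.Lib.Helper37.OrthStruct
import Cfsg.Prelude.Def_KGroupFacts

set_option autoImplicit false
set_option linter.unusedSectionVars false
set_option linter.unusedVariables false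
set_option linter.style.haveILetI false

/-!
# `Aut(PΩ(Q))` in odd dimension, for forms with prime-field coefficients
-/

namespace Cfsg.Agent.Lib.Helper43.OddOrthAutMain

open Matrix Module QuadraticMap
open Cfsg.Agent.Lib.Helper8 Cfsg.Agent.Lib.Helper13 Cfsg.Agent.Lib.Helper37
open Cfsg.Agent.Lib.Helper99.AutO Cfsg.Agent.Lib.Helper43.OrthField

universe u

variable {ι : Type} [Fintype ι] [DecidableEq ι] {F : Type u} [Field F] [Fintype F]
  {Q : QuadraticForm F (ι → F)}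

/-- every automorphism of `PΩ(Q)` is induced by one semisimilarity pair (odd dimension) -/
theorem all_induced (A : Amb Q) (β : MulAut (Cfsg.POmega F ⇑Q)) :
    ∃ (g : GL ι F) (σ : F ≃+* F), Cfsg.IsSemisimilarityPair ⇑Q g σ ∧
      Cfsg.IsInducedBySemilinearPOmega ⇑Q g σ β := by
  have hker : (QuotientGroup.mk' (Subgroup.center ↥(Cfsg.Omega F ⇑Q))).ker = ⊥ := by
    rw [QuotientGroup.ker_mk', center_omega_eq_bot A]
  have hinj : Function.Injective (QuotientGroup.mk' (Subgroup.center ↥(Cfsg.Omega F ⇑Q))) :=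
    (MonoidHom.ker_eq_bot_iff _).1 hker
  let e : ↥(Cfsg.Omega F ⇑Q) ≃* Cfsg.POmega F ⇑Q :=
    MulEquiv.ofBijective (QuotientGroup.mk' (Subgroup.center ↥(Cfsg.Omega F ⇑Q)))
      ⟨hinj, QuotientGroup.mk'_surjective _⟩
  have he : ∀ s, e s = QuotientGroup.mk s := fun s => rfl
  let β' : ↥(Cfsg.Omega F ⇑Q) ≃* ↥(Cfsg.Omega F ⇑Q) := e.trans (MulEquiv.trans β e.symm)
  have hβ' : ∀ s, e (β' s) = β (e s) := by
    intro s
    show e (e.symm (β (e s))) = β (e s)
    rw [MulEquiv.apply_symm_apply]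
  obtain ⟨τ, κ, φ, h⟩ := exists_inducedBy A β'
  obtain ⟨G, hG, hind⟩ := exists_matrix_of_inducedBy h
  refine ⟨G, τ, ⟨Units.mk0 κ h.hκ, ?_⟩, ?_⟩
  · intro v
    rw [hG, h.quad]
    rfl
  · intro s s' hs'
    have e1 : β' s = s' := by
      apply Subtype.ext
      apply Subtype.ext
      apply Units.ext
      rw [hind s, hs']
    rw [← he, ← hβ', e1, he]

theorem card_pomega_eq (A : Amb Q) :
    Nat.card (Cfsg.POmega F ⇑Q) = Nat.card ↥(Cfsg.Omega F ⇑Q) := by
  have h1 := Subgroup.card_eq_card_quotient_mul_card_subgroup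
    (Subgroup.center ↥(Cfsg.Omega F ⇑Q))
  have h2 : Nat.card ↥(Subgroup.center ↥(Cfsg.Omega F ⇑Q)) = 1 := by
    rw [center_omega_eq_bot A, Subgroup.card_bot]
  rw [h2, mul_one] at h1
  exact h1.symm

theorem center_pomega (A : Amb Q) : Subgroup.center (Cfsg.POmega F ⇑Q) = ⊥ := by
  rw [eq_bot_iff]
  intro a ha
  rw [Subgroup.mem_bot]
  induction a using QuotientGroup.induction_on with
  | H s =>
    have hs : s ∈ Subgroup.center ↥(Cfsg.Omega F ⇑Q) := by
      rw [Subgroup.mem_center_iff]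
      intro t
      have h1 := Subgroup.mem_center_iff.1 ha (QuotientGroup.mk t)
      rw [← QuotientGroup.mk_mul, ← QuotientGroup.mk_mul, QuotientGroup.eq,
        center_omega_eq_bot A, Subgroup.mem_bot] at h1
      have : s * t = (t * s) * ((t * s)⁻¹ * (s * t)) := by group
      rw [this, h1, mul_one]
    exact (QuotientGroup.eq_one_iff s).2 hs

theorem card_inn (A : Amb Q) :
    Nat.card (Cfsg.Inn (Cfsg.POmega F ⇑Q)) = Nat.card (Cfsg.POmega F ⇑Q) := by
  have hinj : Function.Injective (MulAut.conj : Cfsg.POmega F ⇑Q →* _) := by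
    rw [injective_iff_map_eq_one]
    intro a ha
    have : a ∈ Subgroup.center (Cfsg.POmega F ⇑Q) := by
      rw [Subgroup.mem_center_iff]
      intro b
      have h1 := congrArg (fun φ : MulAut (Cfsg.POmega F ⇑Q) => φ b) ha
      simp only [MulAut.conj_apply, MulAut.one_apply] at h1
      calc b * a = (a * b * a⁻¹) * a := by rw [h1]
        _ = a * b := by group
    rw [center_pomega A, Subgroup.mem_bot] at this
    exact this
  exact (Nat.card_congr (MonoidHom.ofInjective hinj).toEquiv).symm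

section main

variable (A : Amb Q) (hE : FieldEquivariant ⇑Q)

include A hE

theorem hker_of_amb (g : ↥(Cfsg.Geo.quadSimilarityGroup (F := F) ⇑Q)) :
    Phi ⇑Q g = 1 ↔ ∃ c : F, ((g.1 : GL ι F) : Matrix ι ι F) = c • (1 : Matrix ι ι F) := by
  obtain ⟨e, f, hfam⟩ := Cfsg.Agent.Lib.Helper99.SubfO.exists_hypFam A.h2 Q A.hQ 3
    (by have := A.hn; omega)
  exact Phi_eq_one_iff Q A.hQ hfam le_rfl (Or.inr (by have := A.hn; omega))
    (by have := A.hn; omega) (fun h => absurd h A.h2) g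

theorem autData : AutData (⇑Q : (ι → F) → F) := by
  obtain ⟨e, f, hfam⟩ := Cfsg.Agent.Lib.Helper99.SubfO.exists_hypFam A.h2 Q A.hQ 3
    (by have := A.hn; omega)
  exact ⟨hE, fun g σ h => sigma_eq_one_of_trivial Q A.hQ hfam le_rfl
    (by have := A.hn; omega) (fun h => absurd h A.h2) hE g σ h, all_induced A⟩

theorem exists_Q_ne_zero : ∃ v, Q v ≠ 0 := by
  obtain ⟨e, f, hfam⟩ := Cfsg.Agent.Lib.Helper99.SubfO.exists_hypFam A.h2 Q A.hQ 3
    (by have := A.hn; omega)
  refine ⟨(1 : F) • e 0 + (1 : F) • f 0, ?_⟩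
  rw [hfam.Q_comb, one_mul]
  exact one_ne_zero

theorem card_range_Phi_eq :
    Nat.card (Phi (⇑Q : (ι → F) → F)).range = 2 * Nat.card (Cfsg.POmega F ⇑Q) := by
  classical
  obtain ⟨N, hN⟩ := A.hodd
  have hn := A.hn
  rw [Module.finrank_fintype_fun_eq_card] at hn
  rw [card_pomega_eq A]
  exact Cfsg.Agent.Lib.Helper43.OddOrthAut.card_range_Phi_omega
    (isGram_of_quadraticForm A.h2 Q) (det_ne_zero_of_nondegenerate Q A.hQ) hN (by omega)
    (exists_Q_ne_zero A hE) (hker_of_amb A hE)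

instance finite_pomega : Finite (Cfsg.POmega F ⇑Q) := by
  classical
  haveI : Finite (GL ι F) := Finite.of_fintype _
  haveI : Finite ↥(Cfsg.isometryGroup F ⇑Q) := inferInstance
  haveI : Finite ↥(Cfsg.Omega F ⇑Q) := inferInstance
  exact Quotient.finite _

theorem finite_mulAut : Finite (MulAut (Cfsg.POmega F ⇑Q)) := by
  haveI : Finite (Cfsg.POmega F ⇑Q) := finite_pomega
  exact Finite.of_injective (fun α : MulAut (Cfsg.POmega F ⇑Q) =>
    (α : Cfsg.POmega F ⇑Q → Cfsg.POmega F ⇑Q)) (fun a b h => MulEquiv.ext (congrFun h))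

/-- `|Aut(PΩ(Q))| = 2 f |PΩ(Q)|` -/
theorem card_mulAut {p f : ℕ} [Fact p.Prime] (hF : Fintype.card F = p ^ f) :
    Nat.card (MulAut (Cfsg.POmega F ⇑Q)) = 2 * f * Nat.card (Cfsg.POmega F ⇑Q) := by
  have D := autData A hE
  rw [Subgroup.card_eq_card_quotient_mul_card_subgroup D.Theta.ker,
    Nat.card_congr (QuotientGroup.quotientKerEquivOfSurjective D.Theta D.Theta_surjective).toEquiv,
    Cfsg.Agent.Lib.Helper43.RingAutFin.card_ringAut' hF, D.Theta_ker, card_range_Phi_eq A hE]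
  ring

/-- `Out(PΩ(Q)) ≅ C₂ × C_f` -/
theorem out_equiv {p f : ℕ} [Fact p.Prime] (hf : 1 ≤ f) (hF : Fintype.card F = p ^ f) :
    Nonempty (Cfsg.Out (Cfsg.POmega F ⇑Q) ≃* Multiplicative (ZMod 2 × ZMod f)) := by
  have D := autData A hE
  haveI : Finite (Cfsg.POmega F ⇑Q) := finite_pomega
  haveI : Finite (MulAut (Cfsg.POmega F ⇑Q)) := finite_mulAut A hE
  obtain ⟨eC⟩ := Cfsg.Agent.Lib.Helper43.RingAutFin.nonempty_mulEquiv_zmod hf hF
  let θ : Cfsg.Out (Cfsg.POmega F ⇑Q) →* (F ≃+* F) :=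
    QuotientGroup.lift (Cfsg.Inn (Cfsg.POmega F ⇑Q)) D.Theta D.inn_le_ker
  let s : (F ≃+* F) →* Cfsg.Out (Cfsg.POmega F ⇑Q) :=
    (QuotientGroup.mk' (Cfsg.Inn (Cfsg.POmega F ⇑Q))).comp (PhiF D.hE)
  have hs : ∀ c, θ (s c) = c := fun c => D.Theta_PhiF c
  have hθsurj : Function.Surjective θ := fun c => ⟨s c, hs c⟩
  have hfpos : 0 < f := hf
  have hPpos : 0 < Nat.card (Cfsg.POmega F ⇑Q) := Nat.card_pos
  -- counting the kernel
  have c1 := card_mulAut A hE hF
  have c2 : Nat.card (MulAut (Cfsg.POmega F ⇑Q)) =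
      Nat.card (Cfsg.Out (Cfsg.POmega F ⇑Q)) * Nat.card (Cfsg.POmega F ⇑Q) := by
    rw [Subgroup.card_eq_card_quotient_mul_card_subgroup (Cfsg.Inn (Cfsg.POmega F ⇑Q)),
      card_inn A]
  have c3 : Nat.card (Cfsg.Out (Cfsg.POmega F ⇑Q)) = f * Nat.card θ.ker := by
    rw [Subgroup.card_eq_card_quotient_mul_card_subgroup θ.ker,
      Nat.card_congr (QuotientGroup.quotientKerEquivOfSurjective θ hθsurj).toEquiv,
      Cfsg.Agent.Lib.Helper43.RingAutFin.card_ringAut' hF]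
  have hK : Nat.card θ.ker = 2 := by
    rw [c2, c3] at c1
    have h1 : f * Nat.card θ.ker * Nat.card (Cfsg.POmega F ⇑Q) =
        f * 2 * Nat.card (Cfsg.POmega F ⇑Q) := by rw [c1]; ring
    have h2 := Nat.eq_of_mul_eq_mul_right hPpos h1
    exact Nat.eq_of_mul_eq_mul_left hfpos h2
  exact Cfsg.Agent.Lib.Helper43.SplitCentral.nonempty_mulEquiv_zmod_prod θ s hs hK eC

end main

end Cfsg.Agent.Lib.Helper43.OddOrthAutMain
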