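import Cfsg.Agent.Lib.Helper40.SympPrimeCount

/-!
# Characteristic polynomials of isometries of a symmetric form: reversal
-/

set_option autoImplicit false

namespace Cfsg.Agent.Lib.Helper43.OddOrth

open Polynomial Cfsg.Agent.Lib.Helper40.PrimeOrder

section rev
variable {F : Type*} [Field F] {ι : Type*} [Fintype ι] [DecidableEq ι]

theorem charpoly_reverse_of_mul_eq_one (M M' : Matrix ι ι F) (hMM' : M * M' = 1) :
    M.charpoly.reverse = C M.det * (-1) ^ Fintype.card ι * M'.charpoly := by
  rw [Matrix.reverse_charpoly]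
  unfold Matrix.charpolyRev Matrix.charpoly
  have h1 : (1 : Matrix ι ι F[X]) - (X : F[X]) • M.map (⇑(C : F →+* F[X])) =
      (C : F →+* F[X]).mapMatrix M * (-(Matrix.charmatrix M')) := by
    have h2 : (C : F →+* F[X]).mapMatrix M * (C : F →+* F[X]).mapMatrix M' = 1 := by
      rw [← map_mul, hMM', map_one]
    rw [Matrix.charmatrix, neg_sub, mul_sub, h2]
    congr 1
    rw [Matrix.scalar_apply, ← Matrix.smul_one_eq_diagonal, Matrix.mul_smul, Matrix.mul_one]
    rfl
  rw [h1, Matrix.det_mul, ← RingHom.map_det, Matrix.det_neg]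
  ring

theorem charpoly_inv_of_form (G Ginv g g' : Matrix ι ι F) (hG : G * Ginv = 1)
    (hg : g.transpose * G * g = G) (hgg' : g * g' = 1) : g'.charpoly = g.charpoly := by
  have hGinvG : Ginv * G = 1 := mul_eq_one_comm.1 hG
  have h1 : g.transpose * G = G * g' := by
    calc g.transpose * G = g.transpose * G * (g * g') := by rw [hgg', mul_one]
      _ = (g.transpose * G * g) * g' := by simp only [mul_assoc]
      _ = G * g' := by rw [hg]
  have h2 : g.transpose = G * g' * Ginv := by
    calc g.transpose = g.transpose * (G * Ginv) := by rw [hG, mul_one]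
      _ = (g.transpose * G) * Ginv := by rw [mul_assoc]
      _ = G * g' * Ginv := by rw [h1]
  rw [← Matrix.charpoly_transpose g, h2, mul_assoc, Matrix.charpoly_mul_comm, mul_assoc,
    hGinvG, mul_one]

theorem det_sq_of_form (G Ginv g : Matrix ι ι F) (hG : G * Ginv = 1)
    (hg : g.transpose * G * g = G) : g.det * g.det = 1 := by
  have h1 := congrArg Matrix.det hg
  rw [Matrix.det_mul, Matrix.det_mul, Matrix.det_transpose] at h1
  have h2 : G.det ≠ 0 := by
    intro h0
    have := congrArg Matrix.det hG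
    rw [Matrix.det_mul, h0, zero_mul, Matrix.det_one] at this
    exact zero_ne_one this
  have h3 : (g.det * g.det) * G.det = 1 * G.det := by
    rw [one_mul]
    linear_combination h1
  exact mul_right_cancel₀ h2 h3

theorem det_eq_one_of_form (G Ginv g : Matrix ι ι F) (hG : G * Ginv = 1)
    (hg : g.transpose * G * g = G) (k : ℕ) (hgk : g ^ (2 * k + 1) = 1) : g.det = 1 := by
  have h1 := det_sq_of_form G Ginv g hG hg
  have h2 := congrArg Matrix.det hgk
  rw [Matrix.det_pow, Matrix.det_one, pow_succ, pow_mul, pow_two, h1, one_pow, one_mul] at h2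
  exact h2

theorem reverse_charpoly_orth (hodd : Odd (Fintype.card ι)) (G Ginv g g' : Matrix ι ι F)
    (hG : G * Ginv = 1) (hg : g.transpose * G * g = G) (hgg' : g * g' = 1)
    (hdet : g.det = 1) : g.charpoly.reverse = - g.charpoly := by
  rw [charpoly_reverse_of_mul_eq_one g g' hgg', charpoly_inv_of_form G Ginv g g' hG hg hgg', hdet,
    hodd.neg_one_pow]
  simp

end rev

section pal
variable {F : Type*} [Field F]

theorem eval_neg_one_reverse (f : F[X]) :
    f.reverse.eval (-1) * (-1) ^ f.natDegree = f.eval (-1) := by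
  letI : Invertible (-1 : F) := ⟨-1, by ring, by ring⟩
  have h := eval₂_reverse_mul_pow (RingHom.id F) (-1 : F) f
  have h2 : (⅟(-1 : F)) = -1 := rfl
  rw [h2] at h
  exact h

theorem even_and_reverse_of_palindromic (h2 : (2 : F) ≠ 0) (f : F[X]) (a : ℕ)
    (h1 : f.eval 1 ≠ 0) (hm1 : f.eval (-1) ≠ 0)
    (hrev : ((X - 1) ^ a * f).reverse = (X - 1) ^ a * f) :
    Even a ∧ f.reverse = f ∧ Even f.natDegree := by
  rw [reverse_mul_of_domain, reverse_pow', reverse_X_sub_one, neg_pow] at hrev
  have hX : ((X - 1 : F[X]) ^ a) ≠ 0 := pow_ne_zero _ monic_X_sub_one.ne_zero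
  have h3 : (-1 : F[X]) ^ a * f.reverse = f := by
    apply mul_left_cancel₀ hX
    rw [← hrev]
    ring
  rcases Nat.even_or_odd a with ha | ha
  · rw [ha.neg_one_pow, one_mul] at h3
    refine ⟨ha, h3, ?_⟩
    by_contra hd
    have hd' : Odd f.natDegree := Nat.not_even_iff_odd.1 hd
    have h4 := eval_neg_one_reverse f
    rw [h3, hd'.neg_one_pow] at h4
    apply hm1
    have h5 : (2 : F) * f.eval (-1) = 0 := by linear_combination -h4
    rcases mul_eq_zero.1 h5 with h6 | h6
    · exact absurd h6 h2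
    · exact h6
  · exfalso
    rw [ha.neg_one_pow] at h3
    have h4 := congrArg (fun g : F[X] => g.eval 1) h3
    simp only [eval_mul, eval_neg, eval_one, eval_one_reverse] at h4
    apply h1
    have h5 : (2 : F) * f.eval 1 = 0 := by linear_combination -h4
    rcases mul_eq_zero.1 h5 with h6 | h6
    · exact absurd h6 h2
    · exact h6

theorem eval_one_prod_ne_zero (M : Multiset F[X]) (hM : ∀ π ∈ M, π.eval 1 ≠ 0) :
    M.prod.eval 1 ≠ 0 := by
  rw [eval_multiset_prod]
  apply Multiset.prod_ne_zero
  intro h0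
  obtain ⟨π, hπ, h⟩ := Multiset.mem_map.1 h0
  exact hM π hπ h

theorem eval_neg_one_prod_ne_zero (M : Multiset F[X]) (hM : ∀ π ∈ M, π.eval (-1) ≠ 0) :
    M.prod.eval (-1) ≠ 0 := by
  rw [eval_multiset_prod]
  apply Multiset.prod_ne_zero
  intro h0
  obtain ⟨π, hπ, h⟩ := Multiset.mem_map.1 h0
  exact hM π hπ h

/-- an anti-palindromic `polyOf` has a factor `X - 1`, and the cofactor is palindromic -/
theorem polyOf_of_reverse_neg (h2 : (2 : F) ≠ 0) (a : ℕ) (M : Multiset F[X])
    (hM : ∀ π ∈ M, π.eval 1 ≠ 0) (hrev : (polyOf a M).reverse = - polyOf a M) :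
    1 ≤ a ∧ (polyOf (a - 1) M).reverse = polyOf (a - 1) M := by
  have ha : 1 ≤ a := by
    by_contra h0
    have ha0 : a = 0 := by omega
    subst ha0
    have h4 := congrArg (fun g : F[X] => g.eval 1) hrev
    simp only [eval_neg, eval_one_reverse] at h4
    have h5 : (2 : F) * (polyOf 0 M).eval 1 = 0 := by linear_combination h4
    rcases mul_eq_zero.1 h5 with h6 | h6
    · exact absurd h6 h2
    · unfold polyOf at h6
      rw [pow_zero, one_mul] at h6
      exact eval_one_prod_ne_zero M hM h6
  refine ⟨ha, ?_⟩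
  have h3 : polyOf a M = (X - 1) * polyOf (a - 1) M := by
    unfold polyOf
    rw [← mul_assoc, ← pow_succ']
    congr 2
    omega
  rw [h3, reverse_mul_of_domain, reverse_X_sub_one] at hrev
  have hX : (X - 1 : F[X]) ≠ 0 := monic_X_sub_one.ne_zero
  apply mul_left_cancel₀ hX
  linear_combination -hrev

end pal

end Cfsg.Agent.Lib.Helper43.OddOrth
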