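import Cfsg.Agent.Lib.Helper43.OddOrthGram
import Cfsg.Agent.Lib.Helper43.OddOrthPoly
import Cfsg.Agent.Lib.Helper14.FiniteQuad2

/-!
# Existence of orthogonal elements with prescribed characteristic polynomial (odd dimension)
-/

set_option autoImplicit false

namespace Cfsg.Agent.Lib.Helper43.OddOrth

open Polynomial Matrix

variable {F : Type*} [Field F] [Fintype F]

/-- symmetric matrices over a finite field of odd characteristic with the same non-zero
determinant are congruent -/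
theorem exists_congruence (h2 : (2 : F) ≠ 0) {ι : Type*} [Fintype ι] [DecidableEq ι] [Nonempty ι]
    (G₁ G₂ : Matrix ι ι F) (hs₁ : G₁ᵀ = G₁) (hs₂ : G₂ᵀ = G₂) (hdet : G₁.det = G₂.det)
    (hne : G₂.det ≠ 0) :
    ∃ P P' : Matrix ι ι F, P * P' = 1 ∧ Pᵀ * G₂ * P = G₁ := by
  have hS₁ : (Matrix.toBilin' G₁).IsSymm := isSymm_toBilin'_iff_isSymm.2 hs₁
  have hS₂ : (Matrix.toBilin' G₂).IsSymm := isSymm_toBilin'_iff_isSymm.2 hs₂
  have hN₁ : (Matrix.toBilin' G₁).Nondegenerate :=
    Matrix.Nondegenerate.toBilin' (Matrix.nondegenerate_of_det_ne_zero (hdet ▸ hne))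
  have hN₂ : (Matrix.toBilin' G₂).Nondegenerate :=
    Matrix.Nondegenerate.toBilin' (Matrix.nondegenerate_of_det_ne_zero hne)
  obtain ⟨g, hg⟩ := Cfsg.Agent.Lib.Helper14.exists_isometry_of_disc' h2 rfl
    (Matrix.toBilin' G₁) hS₁ hN₁ (Matrix.toBilin' G₂) hS₂ hN₂ (Pi.basisFun F ι) (Pi.basisFun F ι)
    1 one_ne_zero (by
      rw [LinearMap.BilinForm.toMatrix_basisFun, LinearMap.BilinForm.toMatrix'_toBilin',
        LinearMap.BilinForm.toMatrix'_toBilin', hdet]
      ring)
  refine ⟨LinearMap.toMatrix' (g : (ι → F) →ₗ[F] (ι → F)),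
    LinearMap.toMatrix' (g.symm : (ι → F) →ₗ[F] (ι → F)), ?_, ?_⟩
  · rw [← LinearMap.toMatrix'_comp]
    have : (g : (ι → F) →ₗ[F] (ι → F)) ∘ₗ (g.symm : (ι → F) →ₗ[F] (ι → F)) = LinearMap.id := by
      ext x
      simp
    rw [this, LinearMap.toMatrix'_id]
  · ext i j
    have h := hg (Pi.single i 1) (Pi.single j 1)
    rw [Matrix.toBilin'_apply', Matrix.toBilin'_apply'] at h
    have h3 : ∀ x : ι → F, g x = LinearMap.toMatrix' (g : (ι → F) →ₗ[F] (ι → F)) *ᵥ x := by
      intro x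
      rw [LinearMap.toMatrix'_mulVec]
      rfl
    rw [h3, h3, dot_form_gen] at h
    simpa using h

/-- transporting a model to the standard form -/
theorem exists_orth_of_model (h2 : (2 : F) ≠ 0) (m : ℕ) {κ : Type*} [Fintype κ] [DecidableEq κ]
    (hcard : Fintype.card κ = 2 * m + 1) (G' g' g'' : Matrix κ κ F) (hGs : G'ᵀ = G')
    (hdet : G'.det = 2 * (-1) ^ m) (hg : g'ᵀ * G' * g' = G') (hgg : g' * g'' = 1) :
    ∃ h h' : Matrix (Unit ⊕ (Fin m ⊕ Fin m)) (Unit ⊕ (Fin m ⊕ Fin m)) F, h * h' = 1 ∧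
      hᵀ * gramO m F * h = gramO m F ∧ h.charpoly = g'.charpoly ∧
      ∀ N : ℕ, g' ^ N = 1 → h ^ N = 1 := by
  classical
  have hc : Fintype.card κ = Fintype.card (Unit ⊕ (Fin m ⊕ Fin m)) := by
    rw [hcard, Fintype.card_sum, Fintype.card_sum, Fintype.card_fin, Fintype.card_unit]
    ring
  let e : κ ≃ (Unit ⊕ (Fin m ⊕ Fin m)) := Fintype.equivOfCardEq hc
  let R : Matrix κ κ F → Matrix (Unit ⊕ (Fin m ⊕ Fin m)) (Unit ⊕ (Fin m ⊕ Fin m)) F :=
    fun M => M.submatrix e.symm e.symm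
  have hRmul : ∀ M N : Matrix κ κ F, R (M * N) = R M * R N := by
    intro M N
    exact (Matrix.submatrix_mul_equiv M N e.symm e.symm e.symm).symm
  have hRone : R 1 = 1 := Matrix.submatrix_one_equiv e.symm
  have hRpow : ∀ (M : Matrix κ κ F) (j : ℕ), R (M ^ j) = R M ^ j := by
    intro M j
    induction j with
    | zero => rw [pow_zero, pow_zero, hRone]
    | succ j ih => rw [pow_succ, pow_succ, hRmul, ih]
  have hRT : ∀ M : Matrix κ κ F, (R M)ᵀ = R Mᵀ := fun M => Matrix.transpose_submatrix _ _ _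
  have hRdet : ∀ M : Matrix κ κ F, (R M).det = M.det :=
    fun M => Matrix.det_submatrix_equiv_self e.symm M
  have hRchar : ∀ M : Matrix κ κ F, (R M).charpoly = M.charpoly :=
    fun M => Matrix.charpoly_reindex e M
  have hne : (gramO m F).det ≠ 0 := by
    rw [gramO_det]
    exact mul_ne_zero h2 (pow_ne_zero _ (neg_ne_zero.2 one_ne_zero))
  obtain ⟨P, P', hPP', hP⟩ := exists_congruence h2 (R G') (gramO m F)
    (by rw [hRT, hGs]) (gramO_transpose m F) (by rw [hRdet, hdet, gramO_det]) hne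
  have hP'P : P' * P = 1 := mul_eq_one_comm.1 hPP'
  have hRg : (R g')ᵀ * R G' * R g' = R G' := by
    rw [hRT, ← hRmul, ← hRmul, hg]
  refine ⟨P * R g' * P', P * R g'' * P', ?_, ?_, ?_, ?_⟩
  · calc P * R g' * P' * (P * R g'' * P') = P * R g' * (P' * P) * R g'' * P' := by
          simp only [mul_assoc]
      _ = P * (R g' * R g'') * P' := by rw [hP'P, mul_one]; simp only [mul_assoc]
      _ = 1 := by rw [← hRmul, hgg, hRone, mul_one, hPP']
  · have h1 : (P * R g' * P')ᵀ = P'ᵀ * (R g')ᵀ * Pᵀ := by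
      rw [Matrix.transpose_mul, Matrix.transpose_mul, mul_assoc]
    calc (P * R g' * P')ᵀ * gramO m F * (P * R g' * P')
        = P'ᵀ * ((R g')ᵀ * (Pᵀ * gramO m F * P) * R g') * P' := by
          rw [h1]; simp only [mul_assoc]
      _ = P'ᵀ * (Pᵀ * gramO m F * P) * P' := by rw [hP, hRg]
      _ = (P * P')ᵀ * gramO m F * (P * P') := by
          rw [Matrix.transpose_mul]; simp only [mul_assoc]
      _ = gramO m F := by rw [hPP', Matrix.transpose_one, one_mul, mul_one]
  · rw [mul_assoc, Matrix.charpoly_mul_comm, mul_assoc, hP'P, mul_one, hRchar]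
  · intro N hN
    have h1 : ∀ j : ℕ, (P * R g' * P') ^ j = P * R g' ^ j * P' := by
      intro j
      induction j with
      | zero => rw [pow_zero, pow_zero, mul_one, hPP']
      | succ j ih =>
        rw [pow_succ, ih, pow_succ]
        calc P * R g' ^ j * P' * (P * R g' * P') = P * R g' ^ j * (P' * P) * R g' * P' := by
              simp only [mul_assoc]
          _ = P * (R g' ^ j * R g') * P' := by rw [hP'P, mul_one]; simp only [mul_assoc]
    rw [h1, ← hRpow, hN, hRone, mul_one, hPP']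

end Cfsg.Agent.Lib.Helper43.OddOrth
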