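import Mathlib
import Cfsg.Agent.Lib.Helper67.OgDefs
import Cfsg.Agent.Lib.Helper67.OgFam
import Cfsg.Agent.Lib.Helper37.OrthMinus
import Cfsg.Agent.Lib.Helper43.OrthCardMinus
import Cfsg.Agent.Lib.Helper43.LeviPlus
import Cfsg.Agent.Lib.Helper39.SLPerfect

/-!
# Og hive (S2413 / S2414 / S2415, helper67), leaf OG-P-LEVI: the Levi datum of the plus form

`L A = diag(A, A⁻ᵀ)` on `⟨e⟩ ⊕ ⟨f⟩` for `plusForm m F`.
-/

set_option autoImplicit false
set_option linter.unusedSectionVars false
set_option linter.unusedVariables false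

namespace Cfsg.Agent.Lib.Helper67.Og

open Matrix Module QuadraticMap
open Cfsg.Agent.Lib.Helper37 Cfsg.Agent.Lib.Helper8 Cfsg.Agent.Lib.Helper43
open Cfsg.Agent.Lib.Helper37.OrthField
open scoped commutatorElement

section concrete

variable (F : Type*) [Field F]

/-- the block matrix `diag(A, A⁻ᵀ)` -/
def plevi_mat (m : ℕ) (A : Matrix.SpecialLinearGroup (Fin m) F) :
    Matrix (Fin m ⊕ Fin m) (Fin m ⊕ Fin m) F :=
  Matrix.fromBlocks (A : Matrix (Fin m) (Fin m) F) 0 0
    ((A⁻¹ : Matrix.SpecialLinearGroup (Fin m) F) : Matrix (Fin m) (Fin m) F)ᵀ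

theorem plevi_mat_one (m : ℕ) : plevi_mat F m 1 = 1 := by
  unfold plevi_mat
  rw [inv_one, Matrix.SpecialLinearGroup.coe_one, Matrix.transpose_one, Matrix.fromBlocks_one]

theorem plevi_mat_mul (m : ℕ) (A B : Matrix.SpecialLinearGroup (Fin m) F) :
    plevi_mat F m (A * B) = plevi_mat F m A * plevi_mat F m B := by
  unfold plevi_mat
  rw [Matrix.fromBlocks_multiply, _root_.mul_inv_rev, Matrix.SpecialLinearGroup.coe_mul,
    Matrix.SpecialLinearGroup.coe_mul, Matrix.transpose_mul]
  simp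

/-- `A ↦ diag(A, A⁻ᵀ)` as a monoid hom into matrices -/
def plevi_matHom (m : ℕ) :
    Matrix.SpecialLinearGroup (Fin m) F →* Matrix (Fin m ⊕ Fin m) (Fin m ⊕ Fin m) F where
  toFun := plevi_mat F m
  map_one' := plevi_mat_one F m
  map_mul' := plevi_mat_mul F m

/-- `A ↦ diag(A, A⁻ᵀ)` into `GL` -/
def plevi_glHom (m : ℕ) :
    Matrix.SpecialLinearGroup (Fin m) F →* Matrix.GeneralLinearGroup (Fin m ⊕ Fin m) F :=
  (plevi_matHom F m).toHomUnits

theorem plevi_glHom_coe (m : ℕ) (A : Matrix.SpecialLinearGroup (Fin m) F) :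
    ((plevi_glHom F m A : Matrix.GeneralLinearGroup (Fin m ⊕ Fin m) F) :
      Matrix (Fin m ⊕ Fin m) (Fin m ⊕ Fin m) F) = plevi_mat F m A := rfl

theorem plevi_mem (m : ℕ) (A : Matrix.SpecialLinearGroup (Fin m) F) :
    plevi_glHom F m A ∈ Cfsg.isometryGroup F ⇑(plusForm m F) := by
  intro u v
  show (plusForm m F) (plevi_mat F m A *ᵥ u) = (plusForm m F) u
  have h1 : (A : Matrix (Fin m) (Fin m) F) *
      ((A⁻¹ : Matrix.SpecialLinearGroup (Fin m) F) : Matrix (Fin m) (Fin m) F) = 1 := by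
    rw [← Matrix.SpecialLinearGroup.coe_mul, mul_inv_cancel, Matrix.SpecialLinearGroup.coe_one]
  have h2 := Cfsg.Agent.Lib.Helper43.OrthGen.levi_preserves m
    (A : Matrix (Fin m) (Fin m) F)
    ((A⁻¹ : Matrix.SpecialLinearGroup (Fin m) F) : Matrix (Fin m) (Fin m) F) h1 u
  rw [plusForm_coe] at h2
  exact h2

/-- the Levi homomorphism of the plus form -/
def plevi_L (m : ℕ) :
    Matrix.SpecialLinearGroup (Fin m) F →* ↥(Cfsg.isometryGroup F ⇑(plusForm m F)) :=
  (plevi_glHom F m).codRestrict (Cfsg.isometryGroup F ⇑(plusForm m F)) (plevi_mem F m)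

theorem plevi_act (m : ℕ) (A : Matrix.SpecialLinearGroup (Fin m) F) (x : Fin m ⊕ Fin m → F) :
    act (plusForm m F) (plevi_L F m A) x = plevi_mat F m A *ᵥ x := rfl

theorem exists_levi_plus (m : ℕ) :
    ∃ L : Matrix.SpecialLinearGroup (Fin m) F →* ↥(Cfsg.isometryGroup F ⇑(plusForm m F)),
      LeviData (plusForm m F) m (eP F m) (fP F m) L := by
  classical
  refine ⟨plevi_L F m, ?_, ?_, ?_, ?_⟩
  · have h := plus_family m F
    exact ⟨h.qe, h.qf, h.ee, h.ff, h.ef⟩
  · intro A i
    rw [plevi_act]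
    funext x
    rw [Matrix.mulVec_single_one]
    rcases x with j | j
    · simp [plevi_mat, eP, Pi.single_apply, Finset.sum_apply]
    · simp [plevi_mat, eP, Pi.single_apply, Finset.sum_apply]
  · intro A i
    rw [plevi_act]
    funext x
    rw [Matrix.mulVec_single_one]
    rcases x with j | j
    · simp [plevi_mat, fP, Pi.single_apply, Finset.sum_apply]
    · simp [plevi_mat, fP, Pi.single_apply, Finset.sum_apply]
  · intro A w hw
    have hw0 : w = 0 := by
      funext x
      rcases x with j | j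
      · have := (hw j).2
        rw [polar_plusForm_inr] at this
        exact this
      · have := (hw j).1
        rw [polar_plusForm_inl] at this
        exact this
    rw [hw0, plevi_act, Matrix.mulVec_zero]

end concrete

end Cfsg.Agent.Lib.Helper67.Og
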