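import Cfsg.Agent.Lib.Helper43.AvgIdem
import Cfsg.Agent.Lib.Helper43.HermSqrt

/-!
# Two invariant symmetric forms of an odd-order semisimple matrix

Core step for conjugacy of odd order semisimple elements in orthogonal groups: on the range of
`1 - avg` (the non-fixed part) the two forms are related by an element commuting with `a`.
-/

set_option autoImplicit false

namespace Cfsg.Agent.Lib.Helper43.OrthConj

open Matrix Cfsg.Agent.Lib.Helper43.InvolRing Cfsg.Agent.Lib.Helper43.HermSqrt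

section semi

variable {K : Type*} [Field K] {R : Type*} [Ring R] [Algebra K R] {T : R → R}

theorem semiAnti_zero {σ : K →+* K} (hT : SemiAnti σ T) : T 0 = 0 := by
  have := hT.add 0 0
  rw [add_zero] at this
  exact left_eq_add.mp this

theorem semiAnti_sub {σ : K →+* K} (hT : SemiAnti σ T) (x y : R) : T (x - y) = T x - T y := by
  have := hT.add (x - y) y
  rw [sub_add_cancel] at this
  rw [this, add_sub_cancel_right]

theorem semiAnti_pow {σ : K →+* K} (hT : SemiAnti σ T) (x : R) (i : ℕ) : T (x ^ i) = (T x) ^ i := by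
  induction i with
  | zero => rw [pow_zero, pow_zero, hT.one]
  | succ i ih => rw [pow_succ, hT.mul, ih, pow_succ']

theorem semiAnti_sum {σ : K →+* K} (hT : SemiAnti σ T) {ι : Type*} (s : Finset ι) (f : ι → R) :
    T (∑ i ∈ s, f i) = ∑ i ∈ s, T (f i) := by
  classical
  induction s using Finset.induction_on with
  | empty => rw [Finset.sum_empty, Finset.sum_empty, semiAnti_zero hT]
  | insert a s ha ih => rw [Finset.sum_insert ha, Finset.sum_insert ha, hT.add, ih]

theorem semiAnti_avg (hT : SemiAnti (RingHom.id K) T) (N : ℕ) (a : R) :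
    T (avg K N a) = avg K N (T a) := by
  unfold avg
  rw [hT.smul, semiAnti_sum hT, RingHom.id_apply]
  congr 1
  exact Finset.sum_congr rfl (fun i _ => semiAnti_pow hT a i)

end semi

variable {F : Type*} [Field F] [Fintype F] {n : Type*} [Fintype n] [DecidableEq n]

theorem cT_id (X : Matrix n n F) : cT (RingHom.id F) X = Xᵀ := by
  ext i j
  rfl

/-- the adjoint with respect to the symmetric matrix `G` -/
def twT (G Ginv : Matrix n n F) (X : Matrix n n F) : Matrix n n F := Ginv * Xᵀ * G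

theorem twT_apply (G Ginv X : Matrix n n F) : twT G Ginv X = Ginv * Xᵀ * G := rfl

theorem semiAnti_twT (G Ginv : Matrix n n F) (hG : G * Ginv = 1) (hGinvG : Ginv * G = 1) :
    SemiAnti (RingHom.id F) (twT G Ginv) := by
  have h := semiAnti_twist (RingHom.id F) G Ginv hG hGinvG
  have e : (fun X : Matrix n n F => Ginv * cT (RingHom.id F) X * G) = twT G Ginv := by
    funext X
    rw [cT_id, twT_apply]
  rw [← e]
  exact h

theorem core (G Ginv G' G'inv a a' : Matrix n n F) (hG : G * Ginv = 1) (hGs : Gᵀ = G)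
    (hG's : G'ᵀ = G') (hG' : G' * G'inv = 1) (haa' : a * a' = 1) (haG : aᵀ * G * a = G)
    (haG' : aᵀ * G' * a = G') (k : ℕ) (hN : ((2 * k + 1 : ℕ) : F) ≠ 0)
    (haN : a ^ (2 * k + 1) = 1) :
    ∃ x x' : Matrix n n F, x * x' = 1 ∧ x * a = a * x ∧
      xᵀ * G * x * (1 - avg F (2 * k + 1) a) = G' * (1 - avg F (2 * k + 1) a) := by
  have hGinvG : Ginv * G = 1 := mul_eq_one_comm.1 hG
  have ha'a : a' * a = 1 := mul_eq_one_comm.1 haa'
  have hG'invG' : G'inv * G' = 1 := mul_eq_one_comm.1 hG'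
  have hT := semiAnti_twT G Ginv hG hGinvG
  have hTdef : ∀ X : Matrix n n F, twT G Ginv X = Ginv * Xᵀ * G := fun X => rfl
  -- `T a = a'`
  have hTa : Ginv * aᵀ * G = a' := by
    have h1 : (Ginv * aᵀ * G) * a = 1 := by
      calc (Ginv * aᵀ * G) * a = Ginv * (aᵀ * G * a) := by simp only [mul_assoc]
        _ = 1 := by rw [haG, hGinvG]
    calc Ginv * aᵀ * G = (Ginv * aᵀ * G) * (a * a') := by rw [haa', mul_one]
      _ = ((Ginv * aᵀ * G) * a) * a' := (mul_assoc _ _ _).symm
      _ = a' := by rw [h1, one_mul]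
  have hGinvT : Ginvᵀ * G = 1 := by
    have : (G * Ginv)ᵀ = 1 := by rw [hG, Matrix.transpose_one]
    rw [Matrix.transpose_mul, hGs] at this
    exact this
  -- `T S = S`
  have hTS : Ginv * (Ginv * G')ᵀ * G = Ginv * G' := by
    rw [Matrix.transpose_mul, hG's]
    calc Ginv * (G' * Ginvᵀ) * G = Ginv * G' * (Ginvᵀ * G) := by simp only [mul_assoc]
      _ = Ginv * G' := by rw [hGinvT, mul_one]
  have hSu : IsUnit (Ginv * G') := by
    have h1 : (Ginv * G') * (G'inv * G) = 1 := by
      calc (Ginv * G') * (G'inv * G) = Ginv * (G' * G'inv) * G := by simp only [mul_assoc]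
        _ = 1 := by rw [hG', mul_one, hGinvG]
    exact IsUnit.of_mul_eq_one _ h1
  -- `a` commutes with `S`
  have h1 : aᵀ * G = G * a' := by
    calc aᵀ * G = (G * Ginv) * aᵀ * G := by rw [hG, one_mul]
      _ = G * (Ginv * aᵀ * G) := by simp only [mul_assoc]
      _ = G * a' := by rw [hTa]
  have h2 : aᵀ * G' = G' * a' := by
    calc aᵀ * G' = aᵀ * G' * (a * a') := by rw [haa', mul_one]
      _ = (aᵀ * G' * a) * a' := by simp only [mul_assoc]
      _ = G' * a' := by rw [haG']
  have h3 : Ginv * aᵀ = a' * Ginv := by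
    calc Ginv * aᵀ = Ginv * aᵀ * (G * Ginv) := by rw [hG, mul_one]
      _ = Ginv * (aᵀ * G) * Ginv := by simp only [mul_assoc]
      _ = (Ginv * G) * a' * Ginv := by rw [h1]; simp only [mul_assoc]
      _ = a' * Ginv := by rw [hGinvG, one_mul]
  have ha'S : a' * (Ginv * G') = (Ginv * G') * a' := by
    calc a' * (Ginv * G') = (a' * Ginv) * G' := by rw [mul_assoc]
      _ = Ginv * (aᵀ * G') := by rw [← h3, mul_assoc]
      _ = (Ginv * G') * a' := by rw [h2, mul_assoc]
  have haS : a * (Ginv * G') = (Ginv * G') * a := by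
    calc a * (Ginv * G') = a * (Ginv * G') * (a' * a) := by rw [ha'a, mul_one]
      _ = a * ((Ginv * G') * a') * a := by simp only [mul_assoc]
      _ = (a * a') * (Ginv * G') * a := by rw [← ha'S]; simp only [mul_assoc]
      _ = (Ginv * G') * a := by rw [haa', one_mul]
  -- the generating set
  have hcomm : ∀ y ∈ ({a, Ginv * G'} : Set (Matrix n n F)), ∀ z ∈ ({a, Ginv * G'} : Set (Matrix n n F)),
      y * z = z * y := by
    intro y hy z hz
    rcases hy with rfl | hy <;> rcases hz with rfl | hz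
    · rfl
    · rw [Set.mem_singleton_iff] at hz
      rw [hz, haS]
    · rw [Set.mem_singleton_iff] at hy
      rw [hy, haS]
    · rw [Set.mem_singleton_iff] at hy hz
      rw [hy, hz]
  have hamem : a ∈ Algebra.adjoin F ({a, Ginv * G'} : Set (Matrix n n F)) :=
    Algebra.subset_adjoin (Set.mem_insert _ _)
  have hSmem : Ginv * G' ∈ Algebra.adjoin F ({a, Ginv * G'} : Set (Matrix n n F)) :=
    Algebra.subset_adjoin (Set.mem_insert_of_mem _ (Set.mem_singleton _))
  have ha'pow : a' = a ^ (2 * k) := by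
    calc a' = a' * a ^ (2 * k + 1) := by rw [haN, mul_one]
      _ = (a' * a) * a ^ (2 * k) := by rw [pow_succ', mul_assoc]
      _ = a ^ (2 * k) := by rw [ha'a, one_mul]
  have ha'mem : a' ∈ Algebra.adjoin F ({a, Ginv * G'} : Set (Matrix n n F)) := by
    rw [ha'pow]
    exact pow_mem hamem _
  have hTa' : Ginv * a'ᵀ * G = a := by
    have h4 : (Ginv * a'ᵀ * G) * (Ginv * aᵀ * G) = 1 := by
      calc (Ginv * a'ᵀ * G) * (Ginv * aᵀ * G) = Ginv * a'ᵀ * (G * Ginv) * aᵀ * G := by
            simp only [mul_assoc]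
        _ = Ginv * (a * a')ᵀ * G := by rw [hG, mul_one, Matrix.transpose_mul]; simp only [mul_assoc]
        _ = 1 := by rw [haa', Matrix.transpose_one, mul_one, hGinvG]
    rw [hTa] at h4
    calc Ginv * a'ᵀ * G = (Ginv * a'ᵀ * G) * (a' * a) := by rw [ha'a, mul_one]
      _ = ((Ginv * a'ᵀ * G) * a') * a := (mul_assoc _ _ _).symm
      _ = a := by rw [h4, one_mul]
  have hs : ∀ y ∈ ({a, Ginv * G'} : Set (Matrix n n F)),
      (twT G Ginv) y ∈
        Algebra.adjoin F ({a, Ginv * G'} : Set (Matrix n n F)) := by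
    intro y hy
    rw [hTdef]
    rcases hy with rfl | hy
    · rw [hTa]
      exact ha'mem
    · rw [Set.mem_singleton_iff] at hy
      rw [hy, hTS]
      exact hSmem
  have hTT : ∀ y ∈ ({a, Ginv * G'} : Set (Matrix n n F)),
      (twT G Ginv)
        ((twT G Ginv) y) = y := by
    intro y hy
    rw [hTdef, hTdef]
    rcases hy with rfl | hy
    · rw [hTa, hTa']
    · rw [Set.mem_singleton_iff] at hy
      rw [hy, hTS, hTS]
  -- the idempotent
  have hee : (1 - avg F (2 * k + 1) a) * (1 - avg F (2 * k + 1) a) = 1 - avg F (2 * k + 1) a := by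
    rw [mul_sub, sub_mul, sub_mul, one_mul, mul_one, one_mul, avg_mul_avg _ hN a haN]
    abel
  have hTe : (twT G Ginv) (1 - avg F (2 * k + 1) a) =
      1 - avg F (2 * k + 1) a := by
    rw [semiAnti_sub hT, hT.one, semiAnti_avg hT, hTdef, hTa, ← avg_inv _ hN a a' haa' ha'a haN]
  have hsqN : (a ^ 2) ^ (2 * k + 1) = 1 := by
    rw [← pow_mul, mul_comm, pow_mul, haN, one_pow]
  have hcd : (a - (twT G Ginv) a) *
      (a * hh F (2 * k + 1) (a ^ 2)) = 1 - avg F (2 * k + 1) a := by
    rw [hTdef, hTa, ← avg_sq k hN a haN, one_sub_avg _ hN (a ^ 2)]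
    have h5 : (a - a') * a = a ^ 2 - 1 := by rw [sub_mul, ha'a, pow_two]
    have h6 : (a ^ 2 - 1) * hh F (2 * k + 1) (a ^ 2) = hh F (2 * k + 1) (a ^ 2) * (a ^ 2 - 1) := by
      apply hh_commute
      rw [sub_mul, mul_sub, one_mul, mul_one]
    rw [← mul_assoc, h5, h6]
  have hemem : 1 - avg F (2 * k + 1) a ∈ Algebra.adjoin F ({a, Ginv * G'} : Set (Matrix n n F)) :=
    sub_mem (one_mem _) (avg_mem _ a _ hamem)
  have hdmem : a * hh F (2 * k + 1) (a ^ 2) ∈
      Algebra.adjoin F ({a, Ginv * G'} : Set (Matrix n n F)) :=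
    mul_mem hamem (hh_mem _ _ _ (pow_mem hamem 2))
  obtain ⟨x, hxmem, hxu, hx⟩ := exists_norm_idem hT (fun _ => rfl)
    ({a, Ginv * G'} : Set (Matrix n n F)) hcomm hs hTT (1 - avg F (2 * k + 1) a) a
    (a * hh F (2 * k + 1) (a ^ 2)) hemem hamem hdmem hee hTe hcd (Ginv * G') hSmem hSu
    (by rw [hTdef, hTS])
  rw [hTdef] at hx
  have hax : a * x = x * a := by
    apply commute_adjoin_set ({a, Ginv * G'} : Set (Matrix n n F)) a _ x hxmem
    intro y hy
    rcases hy with rfl | hy
    · rfl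
    · rw [Set.mem_singleton_iff] at hy
      rw [hy, haS]
  have hTxmem : Ginv * xᵀ * G ∈ Algebra.adjoin F ({a, Ginv * G'} : Set (Matrix n n F)) := by
    have := hT.mem_adjoin_set ({a, Ginv * G'} : Set (Matrix n n F)) hs x hxmem
    rw [hTdef] at this
    exact this
  have hxT : x * (Ginv * xᵀ * G) = (Ginv * xᵀ * G) * x :=
    adjoin_comm_set ({a, Ginv * G'} : Set (Matrix n n F)) hcomm _ _ hxmem hTxmem
  obtain ⟨X, rfl⟩ := hxu
  refine ⟨(X : Matrix n n F), ((X⁻¹ : (Matrix n n F)ˣ) : Matrix n n F), X.mul_inv, hax.symm, ?_⟩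
  rw [hxT] at hx
  calc (X : Matrix n n F)ᵀ * G * (X : Matrix n n F) * (1 - avg F (2 * k + 1) a)
      = (G * Ginv) * ((X : Matrix n n F)ᵀ * G * (X : Matrix n n F) * (1 - avg F (2 * k + 1) a)) := by
        rw [hG, one_mul]
    _ = G * (Ginv * (X : Matrix n n F)ᵀ * G * (X : Matrix n n F) * (1 - avg F (2 * k + 1) a)) := by
        simp only [mul_assoc]
    _ = G * (Ginv * G' * (1 - avg F (2 * k + 1) a)) := by rw [hx]
    _ = (G * Ginv) * G' * (1 - avg F (2 * k + 1) a) := by simp only [mul_assoc]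
    _ = G' * (1 - avg F (2 * k + 1) a) := by rw [hG, one_mul]

end Cfsg.Agent.Lib.Helper43.OrthConj
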