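import Cfsg.Agent.Lib.Helper43.OrthNecCases

/-!
# Classes of elements of odd prime order in `O^±_{2m}(q)`: reduction to multisets
-/

set_option autoImplicit false

namespace Cfsg.Agent.Lib.Helper43.OrthGen

open Module Polynomial Matrix QuadraticMap Cfsg.Agent.Lib.Helper40.SemisimpleConj
  Cfsg.Agent.Lib.Helper40.PrimeOrder Cfsg.Agent.Lib.Helper40.Symp Cfsg.Agent.Lib.Helper43.OddOrth
  Cfsg.Agent.Lib.Helper43 Cfsg.Agent.Lib.Helper8 Cfsg.Agent.Lib.Helper43.ZeroCount
  Cfsg.Agent.Lib.Helper43.OrthModel Cfsg.Agent.Lib.Helper43.SpTrick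

universe u

variable {F : Type u} [Field F] [Fintype F]

theorem polyOf_zero_eq (M : Multiset F[X]) : polyOf 0 M = M.prod := by
  unfold polyOf
  rw [pow_zero, one_mul]

set_option maxHeartbeats 800000 in
theorem card_plus_classes (p : ℕ) [Fact p.Prime] [CharP F p] (m r i t : ℕ) (hm : 1 ≤ m)
    (hr : r.Prime) (hr2 : r ≠ 2) (hrp : r ≠ p)
    (hi : i = orderOf ((Fintype.card F : ℕ) : ZMod r)) (ht : t * i = r - 1) :
    Nat.card {C : ConjClasses ↥(Cfsg.isometryGroup F (Cfsg.quadFormPlus m F)) //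
      ∃ g : ↥(Cfsg.isometryGroup F (Cfsg.quadFormPlus m F)),
        ConjClasses.mk g = C ∧ orderOf g = r} =
    Nat.card {M : Multiset F[X] // (∀ π ∈ M, π ∈ Rset F r) ∧ M ≠ 0 ∧
      i * Multiset.card M ≤ 2 * m ∧
      (polyOf (2 * m - i * Multiset.card M) M).reverse =
        polyOf (2 * m - i * Multiset.card M) M ∧
      (i * Multiset.card M = 2 * m → Odd i ∨ Even (Multiset.card M))} := by
  haveI : Fact r.Prime := ⟨hr⟩
  have hcard : Fintype.card (Fin m ⊕ Fin m) = 2 * m := by
    rw [Fintype.card_sum, Fintype.card_fin]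
    ring
  refine card_classes_eq_gen p (Cfsg.quadFormPlus m F) (plusForm m F) (plusForm_coe m F)
    (plusForm_nondegenerate m F) m r i hcard hr hr2 hrp hi
    (fun M => i * Multiset.card M = 2 * m → Odd i ∨ Even (Multiset.card M)) ?_ ?_
  · intro M hM hM0 hMle hMrev hAdm
    by_cases hodd : Odd i
    · exact exists_plus_of_odd p r hr2 hrp i hi hodd m M hM hMle hMrev
    · exact exists_plus_of_even p r hr2 hrp i t hi ht (Nat.not_odd_iff_even.1 hodd) m M hM hMle
        (fun h => (hAdm h).resolve_left hodd)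
  · intro g hgr M hM hMle hMrev hchar h2m
    by_cases hodd : Odd i
    · exact Or.inl hodd
    · right
      have hchar' : (mat g).charpoly = M.prod := by
        rw [hchar, h2m, Nat.sub_self, polyOf_zero_eq]
      have hAr : mat g ^ r = 1 := by
        rw [← mat_pow, ← hgr, pow_orderOf_eq_one, mat_one]
      have hQA : ∀ v, plusForm m F (mat g *ᵥ v) = plusForm m F v := by
        intro v
        rw [← plusForm_coe]
        exact mat_preserves g v
      exact (type_of_even p r hr2 hrp i t hi ht (Nat.not_odd_iff_even.1 hodd) (plusForm m F)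
        (mat g) hQA hAr m hm M hM h2m hchar').1 (card_zeros_plus F m)

set_option maxHeartbeats 800000 in
theorem card_minus_classes (p : ℕ) [Fact p.Prime] [CharP F p] (m r i t : ℕ) (hm : 1 ≤ m)
    (a c : F) (hac : ∀ z₁ z₂ : F, z₁ ^ 2 + a * z₁ * z₂ + c * z₂ ^ 2 = 0 → z₁ = 0 ∧ z₂ = 0)
    (hr : r.Prime) (hr2 : r ≠ 2) (hrp : r ≠ p)
    (hi : i = orderOf ((Fintype.card F : ℕ) : ZMod r)) (ht : t * i = r - 1) :
    Nat.card {C : ConjClasses ↥(Cfsg.isometryGroup F (Cfsg.quadFormMinus (m - 1) F a c)) //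
      ∃ g : ↥(Cfsg.isometryGroup F (Cfsg.quadFormMinus (m - 1) F a c)),
        ConjClasses.mk g = C ∧ orderOf g = r} =
    Nat.card {M : Multiset F[X] // (∀ π ∈ M, π ∈ Rset F r) ∧ M ≠ 0 ∧
      i * Multiset.card M ≤ 2 * m ∧
      (polyOf (2 * m - i * Multiset.card M) M).reverse =
        polyOf (2 * m - i * Multiset.card M) M ∧
      (i * Multiset.card M = 2 * m → ¬ Odd i ∧ Odd (Multiset.card M))} := by
  haveI : Fact r.Prime := ⟨hr⟩
  have hcard : Fintype.card ((Fin (m - 1) ⊕ Fin (m - 1)) ⊕ Fin 2) = 2 * m := by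
    rw [Fintype.card_sum, Fintype.card_sum, Fintype.card_fin, Fintype.card_fin]
    omega
  refine card_classes_eq_gen p (Cfsg.quadFormMinus (m - 1) F a c) (minusForm (m - 1) F a c)
    (minusForm_coe (m - 1) F a c) (minusForm_nondeg F a c hac (m - 1)) m r i hcard hr hr2 hrp hi
    (fun M => i * Multiset.card M = 2 * m → ¬ Odd i ∧ Odd (Multiset.card M)) ?_ ?_
  · intro M hM hM0 hMle hMrev hAdm
    by_cases hodd : Odd i
    · exact exists_minus_of_odd p r hr2 hrp a c hac i hi hodd m hm M hM hMle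
        (fun h => (hAdm h).1 hodd) hMrev
    · exact exists_minus_of_even p r hr2 hrp a c hac i t hi ht (Nat.not_odd_iff_even.1 hodd) m hm
        M hM hMle (fun h => (hAdm h).2)
  · intro g hgr M hM hMle hMrev hchar h2m
    have hchar' : (mat g).charpoly = M.prod := by
      rw [hchar, h2m, Nat.sub_self, polyOf_zero_eq]
    have hAr : mat g ^ r = 1 := by
      rw [← mat_pow, ← hgr, pow_orderOf_eq_one, mat_one]
    have hQA : ∀ v, minusForm (m - 1) F a c (mat g *ᵥ v) = minusForm (m - 1) F a c v := by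
      intro v
      rw [← minusForm_coe]
      exact mat_preserves g v
    by_cases hodd : Odd i
    · exfalso
      rw [h2m, Nat.sub_self] at hMrev
      exact not_minus_of_odd p r hr2 hrp i hi hodd (minusForm (m - 1) F a c)
        (minusForm_nondeg F a c hac (m - 1)) (mat g) (mat g⁻¹) (mat_mul_inv g) hQA hAr m hm M hM
        h2m hMrev hchar' (card_zeros_minus F a c hac (m - 1))
    · exact ⟨hodd, (type_of_even p r hr2 hrp i t hi ht (Nat.not_odd_iff_even.1 hodd)
        (minusForm (m - 1) F a c) (mat g) hQA hAr m hm M hM h2m hchar').2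
        (card_zeros_minus F a c hac (m - 1))⟩

end Cfsg.Agent.Lib.Helper43.OrthGen
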