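import Cfsg.Agent.Lib.Helper43.OrthGenClasses

/-!
# Palindromic multisets of irreducible factors for odd `i` are sums of dual pairs
-/

set_option autoImplicit false

namespace Cfsg.Agent.Lib.Helper43.OrthGen

open Polynomial UniqueFactorizationMonoid Cfsg.Agent.Lib.Helper40.SemisimpleConj
  Cfsg.Agent.Lib.Helper40.PrimeOrder Cfsg.Agent.Lib.Helper40.Symp

section comb
variable {α : Type*} [DecidableEq α]

theorem symm_decomp_gen (σ : α → α) (S : Set α) (hσ : ∀ x ∈ S, σ (σ x) = x)
    (hfix : ∀ x ∈ S, σ x ≠ x) :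
    ∀ (n : ℕ) (M : Multiset α), Multiset.card M = n → (∀ x ∈ M, x ∈ S) → M.map σ = M →
      ∃ N : Multiset α, M = N + N.map σ := by
  intro n
  induction n using Nat.strong_induction_on with
  | _ n ih =>
    intro M hcard hMS hMσ
    rcases Multiset.empty_or_exists_mem M with h0 | ⟨x, hx⟩
    · exact ⟨0, by simp [h0]⟩
    · have hσx : σ x ∈ M := by
        have h1 : x ∈ M.map σ := by rw [hMσ]; exact hx
        obtain ⟨y, hy, hyx⟩ := Multiset.mem_map.1 h1
        rw [← hyx, hσ y (hMS y hy)]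
        exact hy
      have hne : σ x ≠ x := hfix x (hMS x hx)
      have h1 : M = x ::ₘ M.erase x := (Multiset.cons_erase hx).symm
      have h2 : σ x ∈ M.erase x := (Multiset.mem_erase_of_ne hne).2 hσx
      have h3 : M.erase x = σ x ::ₘ (M.erase x).erase (σ x) := (Multiset.cons_erase h2).symm
      set M₂ := (M.erase x).erase (σ x) with hM₂
      have hM : M = x ::ₘ σ x ::ₘ M₂ := by rw [← h3]; exact h1
      have hM₂σ : M₂.map σ = M₂ := by
        have h4 := hMσ
        rw [hM, Multiset.map_cons, Multiset.map_cons, hσ x (hMS x hx), Multiset.cons_swap] at h4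
        exact (Multiset.cons_inj_right _).1 ((Multiset.cons_inj_right _).1 h4)
      have hcard₂ : Multiset.card M₂ + 2 = n := by
        rw [← hcard, hM, Multiset.card_cons, Multiset.card_cons]
      have hM₂S : ∀ y ∈ M₂, y ∈ S := by
        intro y hy
        apply hMS
        rw [hM]
        exact Multiset.mem_cons_of_mem (Multiset.mem_cons_of_mem hy)
      obtain ⟨N₂, hN₂⟩ := ih (Multiset.card M₂) (by omega) M₂ rfl hM₂S hM₂σ
      refine ⟨x ::ₘ N₂, ?_⟩
      rw [hM, Multiset.map_cons, Multiset.cons_add, Multiset.add_cons, ← hN₂]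

end comb

section palin
variable {F : Type*} [Field F] [Fintype F]

theorem map_recip_eq_of_palindromic (r : ℕ) [Fact r.Prime] (a : ℕ) (M : Multiset F[X])
    (hM : ∀ π ∈ M, π ∈ Rset F r) (hpal : (polyOf a M).reverse = polyOf a M) :
    M.map recip = M := by
  classical
  have hr : r.Prime := Fact.out
  have hr0 : 0 < r := hr.pos
  have hMm : ∀ π ∈ M, π.Monic := fun π h => ((mem_Rset hr0).1 (hM π h)).1
  have hMi : ∀ π ∈ M, Irreducible π := fun π h => ((mem_Rset hr0).1 (hM π h)).2.1
  have hM1 : ∀ π ∈ M, π ≠ X - 1 := fun π h => ((mem_Rset hr0).1 (hM π h)).2.2.2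
  have hM0 : ∀ π ∈ M, π.coeff 0 ≠ 0 := fun π h => coeff_zero_ne_zero_of_mem_Rset hr0 (hM π h)
  have hM' : ∀ π ∈ M.map recip, π ∈ Rset F r := by
    intro π hπ
    obtain ⟨π', hπ', rfl⟩ := Multiset.mem_map.1 hπ
    exact recip_mem_Rset r (hM π' hπ')
  have hM'm : ∀ π ∈ M.map recip, π.Monic := fun π h => ((mem_Rset hr0).1 (hM' π h)).1
  have hM'i : ∀ π ∈ M.map recip, Irreducible π := fun π h => ((mem_Rset hr0).1 (hM' π h)).2.1
  have hM'1 : ∀ π ∈ M.map recip, π ≠ X - 1 := fun π h => ((mem_Rset hr0).1 (hM' π h)).2.2.2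
  have hrev := reverse_polyOf a M hM0
  rw [hpal] at hrev
  have hm1 := polyOf_monic a M hMm
  have hm2 := polyOf_monic a (M.map recip) hM'm
  have hc : ((-1 : F) ^ a * (M.map (fun π => π.coeff 0)).prod) = 1 := by
    have := congrArg leadingCoeff hrev
    rw [leadingCoeff_mul, leadingCoeff_C, hm1.leadingCoeff, hm2.leadingCoeff, mul_one] at this
    exact this.symm
  rw [hc, C_1, one_mul] at hrev
  have h1 := filter_polyOf a M hMm hMi hM1
  have h2 := filter_polyOf a (M.map recip) hM'm hM'i hM'1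
  rw [← h2, ← hrev, h1]

/-- for odd `i`, a palindromic multiset is a sum of dual pairs -/
theorem exists_half_of_palindromic (r : ℕ) [Fact r.Prime] (hr2 : r ≠ 2)
    (hodd : Odd (orderOf ((Fintype.card F : ℕ) : ZMod r))) (a : ℕ) (M : Multiset F[X])
    (hM : ∀ π ∈ M, π ∈ Rset F r) (hpal : (polyOf a M).reverse = polyOf a M) :
    ∃ N : Multiset F[X], M = N + N.map recip := by
  classical
  have hr : r.Prime := Fact.out
  have hr0 : 0 < r := hr.pos
  have h1 := map_recip_eq_of_palindromic r a M hM hpal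
  refine symm_decomp_gen recip ((Rset F r : Finset F[X]) : Set F[X]) ?_ ?_ _ M rfl
    (fun x hx => hM x hx) h1
  · intro π hπ
    exact recip_recip π ((mem_Rset hr0).1 hπ).1 (coeff_zero_ne_zero_of_mem_Rset hr0 hπ)
  · intro π hπ
    exact recip_ne_self_of_odd r hr2 hπ hodd

end palin

end Cfsg.Agent.Lib.Helper43.OrthGen
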