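import Cfsg.Agent.Lib.Helper43.SpTrick
import Cfsg.Agent.Lib.Helper43.OddOrthPrime

/-!
# Fixed-point-free orthogonal elements from symplectic ones (all characteristics)
-/

set_option autoImplicit false

namespace Cfsg.Agent.Lib.Helper43.SpTrick

open Polynomial Matrix QuadraticMap Cfsg.Agent.Lib.Helper40.SemisimpleConj
  Cfsg.Agent.Lib.Helper40.PrimeOrder Cfsg.Agent.Lib.Helper40.Symp Cfsg.Agent.Lib.Helper43.OddOrth

variable {F : Type*} [Field F]

theorem eval_neg_one_ne_zero_of_mem_Rset' {r : ℕ} (hr0 : 0 < r) (hodd : Odd r)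
    {π : F[X]} (hπ : π ∈ Rset F r) : π.eval (-1) ≠ 0 := by
  by_cases h2 : (2 : F) = 0
  · have h1 : (-1 : F) = 1 := by linear_combination -h2
    rw [h1]
    exact eval_one_ne_zero_of_mem_Rset hr0 hπ
  · have hd : π ∣ X ^ r - 1 := ((mem_Rset hr0).1 hπ).2.2.1
    intro h0
    have h1 := eval_dvd (x := (-1 : F)) hd
    rw [h0, zero_dvd_iff] at h1
    simp only [eval_sub, eval_pow, eval_X, eval_one, hodd.neg_one_pow] at h1
    apply h2
    linear_combination -h1

variable [Fintype F]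

/-- for even `i` every product of elements of `Rset` is palindromic -/
theorem prod_reverse_of_even (r : ℕ) [Fact r.Prime] (i : ℕ)
    (hi : i = orderOf ((Fintype.card F : ℕ) : ZMod r)) (hieven : Even i) (M : Multiset F[X])
    (hM : ∀ π ∈ M, π ∈ Rset F r) : M.prod.reverse = M.prod := by
  have hr : r.Prime := Fact.out
  have hr0 : 0 < r := hr.pos
  have hRm : ∀ π ∈ M, π.Monic := fun π h => ((mem_Rset hr0).1 (hM π h)).1
  have hR0 : ∀ π ∈ M, π.coeff 0 ≠ 0 := fun π h => coeff_zero_ne_zero_of_mem_Rset hr0 (hM π h)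
  have hrec : ∀ π ∈ M, recip π = π := fun π h =>
    recip_eq_self_of_even r (hM π h) (hi ▸ hieven)
  have hc1 : ∀ π ∈ M, π.coeff 0 = 1 := fun π h =>
    coeff_zero_eq_one_of_recip_eq_self π (hRm π h) (hR0 π h)
      (eval_one_ne_zero_of_mem_Rset hr0 (hM π h)) (hrec π h)
  have hrev := reverse_polyOf 0 M hR0
  have hmap : M.map recip = M := by
    conv_rhs => rw [← Multiset.map_id' M]
    exact Multiset.map_congr rfl hrec
  have hprod : (M.map (fun π => π.coeff 0)).prod = 1 := by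
    apply Multiset.prod_eq_one
    intro x hx
    obtain ⟨y, hy, rfl⟩ := Multiset.mem_map.1 hx
    exact hc1 y hy
  rw [hmap, hprod] at hrev
  unfold polyOf at hrev
  simpa using hrev

set_option maxHeartbeats 800000 in
theorem exists_sp_model (p : ℕ) [Fact p.Prime] [CharP F p] (r : ℕ) [Fact r.Prime] (hr2 : r ≠ 2)
    (i : ℕ) (hi : i = orderOf ((Fintype.card F : ℕ) : ZMod r)) (hieven : Even i)
    (M : Multiset F[X]) (hM : ∀ π ∈ M, π ∈ Rset F r) (k : ℕ)
    (hk : i * Multiset.card M = 2 * k) :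
    ∃ (Q₁ : QuadraticForm F (Fin k ⊕ Fin k → F))
      (A A' : Matrix (Fin k ⊕ Fin k) (Fin k ⊕ Fin k) F),
      (polarBilin Q₁).Nondegenerate ∧ A * A' = 1 ∧ (∀ v, Q₁ (A *ᵥ v) = Q₁ v) ∧
      A.charpoly = M.prod ∧ A ^ r = 1 ∧ (∀ v, A *ᵥ v = v → v = 0) := by
  classical
  have hr : r.Prime := Fact.out
  have hr0 : 0 < r := hr.pos
  have hrodd : Odd r := hr.odd_of_ne_two hr2
  have hRm : ∀ π ∈ Rset F r, π.Monic := fun π h => ((mem_Rset hr0).1 h).1
  have hRi : ∀ π ∈ Rset F r, Irreducible π := fun π h => ((mem_Rset hr0).1 h).2.1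
  have hRd : ∀ π ∈ Rset F r, π ∣ X ^ r - 1 := fun π h => ((mem_Rset hr0).1 h).2.2.1
  have hR1 : ∀ π ∈ Rset F r, π ≠ X - 1 := fun π h => ((mem_Rset hr0).1 h).2.2.2
  have hRdeg : ∀ π ∈ Rset F r, π.natDegree = i := fun π h => by
    rw [hi]
    exact natDegree_of_irreducible_dvd r π (hRm π h) (hRi π h) (hRd π h) (hR1 π h)
  have hfm : M.prod.Monic := prod_monic M (fun π hπ => hRm π (hM π hπ))
  have hf1 : M.prod.eval 1 ≠ 0 :=
    eval_one_prod_ne_zero M (fun π hπ => eval_one_ne_zero_of_mem_Rset hr0 (hM π hπ))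
  have hfm1 : M.prod.eval (-1) ≠ 0 :=
    eval_neg_one_prod_ne_zero M
      (fun π hπ => eval_neg_one_ne_zero_of_mem_Rset' hr0 hrodd (hM π hπ))
  have hfrev := prod_reverse_of_even r i hi hieven M hM
  have hfd : M.prod.natDegree = i * Multiset.card M := by
    have := polyOf_natDegree 0 M (fun π hπ => hRm π (hM π hπ)) i
      (fun π hπ => hRdeg π (hM π hπ))
    unfold polyOf at this
    rw [pow_zero, one_mul, zero_add] at this
    exact this
  obtain ⟨g₀, hg₀1, hg₀2⟩ := exists_symplectic_of_palindromic p k M.prod hfm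
    (by rw [hfd, hk]) hfrev
  set A : Matrix (Fin k ⊕ Fin k) (Fin k ⊕ Fin k) F :=
    (g₀ : Matrix (Fin k ⊕ Fin k) (Fin k ⊕ Fin k) F) with hA
  set A' : Matrix (Fin k ⊕ Fin k) (Fin k ⊕ Fin k) F :=
    ((g₀⁻¹ : ↥(Matrix.symplecticGroup (Fin k) F)) :
      Matrix (Fin k ⊕ Fin k) (Fin k ⊕ Fin k) F) with hA'
  have hAA' : A * A' = 1 := by
    rw [hA, hA', ← Submonoid.coe_mul, mul_inv_cancel]; rfl
  have hA'A : A' * A = 1 := mul_eq_one_comm.1 hAA'
  have hAJ : Aᵀ * J (Fin k) F * A = J (Fin k) F := SymplecticGroup.mem_iff'.1 g₀.2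
  have hs1 : Matrix.scalar (Fin k ⊕ Fin k) (1 : F) = 1 := map_one _
  have hs2 : Matrix.scalar (Fin k ⊕ Fin k) (-1 : F) = -1 := by
    rw [map_neg, map_one]
  have hdet : (A - A').det ≠ 0 := by
    have e1 : A - A' = A' * ((Matrix.scalar (Fin k ⊕ Fin k) (1 : F) - A) *
        (Matrix.scalar (Fin k ⊕ Fin k) (-1 : F) - A)) := by
      rw [hs1, hs2]
      have e2 : ((1 : Matrix (Fin k ⊕ Fin k) (Fin k ⊕ Fin k) F) - A) * (-1 - A) = A * A - 1 := by
        noncomm_ring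
      rw [e2, Matrix.mul_sub, ← mul_assoc, hA'A, one_mul, mul_one]
    rw [e1, Matrix.det_mul, Matrix.det_mul, ← Matrix.eval_charpoly, ← Matrix.eval_charpoly,
      hg₀2]
    have hA'det : A'.det ≠ 0 := by
      intro h0
      have := congrArg Matrix.det hAA'
      rw [Matrix.det_mul, h0, mul_zero, Matrix.det_one] at this
      exact zero_ne_one this
    exact mul_ne_zero hA'det (mul_ne_zero hf1 hfm1)
  have hdet1 : ((1 : Matrix (Fin k ⊕ Fin k) (Fin k ⊕ Fin k) F) - A).det ≠ 0 := by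
    rw [← hs1, ← Matrix.eval_charpoly, hg₀2]
    exact hf1
  have hDC : (1 - A) * (1 - A)⁻¹ = 1 :=
    Matrix.mul_nonsing_inv _ (isUnit_iff_ne_zero.2 hdet1)
  have hNF : ((orderOf g₀ : ℕ) : F) ≠ 0 := natCast_ne_zero_of_coprime p _ hg₀1
  have hAN : A ^ orderOf g₀ = 1 := by
    rw [hA, ← coe_pow_symplectic, pow_orderOf_eq_one]
    rfl
  have hAr : A ^ r = 1 := by
    apply pow_eq_one_of_charpoly_dvd A (orderOf g₀) hNF hAN r (0 + Multiset.card M)
    rw [hg₀2]
    have := polyOf_dvd_pow 0 M (X ^ r - 1 : F[X]) (X_sub_one_dvd r)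
      (fun π hπ => hRd π (hM π hπ))
    unfold polyOf at this
    rwa [pow_zero, one_mul] at this
  refine ⟨qOfMatrix (((1 - A)⁻¹)ᵀ * J (Fin k) F), A, A', ?_, hAA', ?_, hg₀2, hAr, ?_⟩
  · exact qOfMatrix_nondegenerate _ (trickForm_det_ne_zero A A' _ hAJ hAA' hDC hdet)
  · exact qOfMatrix_invariant _ A (trickForm_invariant A _ hAJ hDC)
  · exact no_fixed_of_inv A _ hDC

end Cfsg.Agent.Lib.Helper43.SpTrick
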