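import Cfsg.Agent.Lib.Helper43.OrthFinish
import Cfsg.Agent.Lib.Helper43.LeviPlus
import Cfsg.Agent.Lib.Helper43.SpModelEven
import Cfsg.Agent.Lib.Helper43.PalinDecomp
import Cfsg.Agent.Lib.Helper43.QbarFacts

/-!
# Existence of elements of odd prime order in the even-dimensional orthogonal groups
-/

set_option autoImplicit false

namespace Cfsg.Agent.Lib.Helper43.OrthGen

open Module Polynomial Matrix QuadraticMap Cfsg.Agent.Lib.Helper40.SemisimpleConj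
  Cfsg.Agent.Lib.Helper40.PrimeOrder Cfsg.Agent.Lib.Helper40.Symp Cfsg.Agent.Lib.Helper43.OddOrth
  Cfsg.Agent.Lib.Helper43 Cfsg.Agent.Lib.Helper8 Cfsg.Agent.Lib.Helper43.ZeroCount
  Cfsg.Agent.Lib.Helper43.OrthModel Cfsg.Agent.Lib.Helper43.SpTrick

universe u

section prelim

theorem coprime_of_pow_prime_eq_one {G : Type*} [Group G] (x : G) (p r : ℕ) (hp : p.Prime)
    (hr : r.Prime) (hrp : r ≠ p) (h : x ^ r = 1) : (orderOf x).Coprime p :=
  Nat.Coprime.coprime_dvd_left (orderOf_dvd_of_pow_eq_one h) ((Nat.coprime_primes hr hp).2 hrp)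

variable (F : Type*) [Field F]

theorem finrank_plus (a : ℕ) : finrank F (Fin a ⊕ Fin a → F) = 2 * a := by
  rw [Module.finrank_fintype_fun_eq_card, Fintype.card_sum, Fintype.card_fin]
  ring

theorem finrank_minus (a : ℕ) : finrank F ((Fin a ⊕ Fin a) ⊕ Fin 2 → F) = 2 * a + 2 := by
  rw [Module.finrank_fintype_fun_eq_card, Fintype.card_sum, Fintype.card_sum, Fintype.card_fin,
    Fintype.card_fin]
  ring

end prelim

section wrap
variable {F : Type u} [Field F] [Fintype F]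

theorem exists_plus_of_model (p : ℕ) [Fact p.Prime] (r : ℕ) [Fact r.Prime] (hrp : r ≠ p)
    (m k : ℕ) (Q₁ : QuadraticForm F (Fin k ⊕ Fin k → F))
    (h₁ : (polarBilin Q₁).Nondegenerate) (A A' : Matrix (Fin k ⊕ Fin k) (Fin k ⊕ Fin k) F)
    (hAA' : A * A' = 1) (hQA : ∀ v, Q₁ (A *ᵥ v) = Q₁ v) (hAr : A ^ r = 1)
    (V₂ : Type u) [AddCommGroup V₂] [Module F V₂] [FiniteDimensional F V₂]
    (Q₂ : QuadraticForm F V₂) (h₂ : (polarBilin Q₂).Nondegenerate) (n₂ : ℕ)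
    (hd₂ : finrank F V₂ = n₂) (hdim : 2 * k + n₂ = 2 * m)
    (hZ : Nat.card {v : (Fin k ⊕ Fin k → F) × V₂ // (Q₁.prod Q₂) v = 0} =
      ZZ (Fintype.card F) 0 1 m) :
    ∃ g : ↥(Cfsg.isometryGroup F (Cfsg.quadFormPlus m F)), (orderOf g).Coprime p ∧
      (mat g).charpoly = A.charpoly * (X - 1) ^ n₂ := by
  obtain ⟨x, hx1, hx2⟩ := finish_plus Q₁ Q₂ h₁ h₂ (Matrix.toLin' A) (Matrix.toLin' A')
    (by rw [Module.End.mul_eq_comp, ← Matrix.toLin'_mul, hAA', Matrix.toLin'_one]; rfl)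
    (fun v => by rw [Matrix.toLin'_apply]; exact hQA v) m
    (by rw [finrank_plus, hd₂]; exact hdim) hZ
  refine ⟨x, ?_, ?_⟩
  · apply coprime_of_pow_prime_eq_one x p r Fact.out Fact.out hrp
    apply hx2
    rw [← Matrix.toLin'_pow, hAr, Matrix.toLin'_one]
    rfl
  · rw [hx1, Matrix.charpoly_toLin', hd₂]

theorem exists_minus_of_model (p : ℕ) [Fact p.Prime] (r : ℕ) [Fact r.Prime] (hrp : r ≠ p)
    (a c : F) (hac : ∀ z₁ z₂ : F, z₁ ^ 2 + a * z₁ * z₂ + c * z₂ ^ 2 = 0 → z₁ = 0 ∧ z₂ = 0)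
    (m k : ℕ) (hm : 1 ≤ m) (Q₁ : QuadraticForm F (Fin k ⊕ Fin k → F))
    (h₁ : (polarBilin Q₁).Nondegenerate) (A A' : Matrix (Fin k ⊕ Fin k) (Fin k ⊕ Fin k) F)
    (hAA' : A * A' = 1) (hQA : ∀ v, Q₁ (A *ᵥ v) = Q₁ v) (hAr : A ^ r = 1)
    (V₂ : Type u) [AddCommGroup V₂] [Module F V₂] [FiniteDimensional F V₂]
    (Q₂ : QuadraticForm F V₂) (h₂ : (polarBilin Q₂).Nondegenerate) (n₂ : ℕ)
    (hd₂ : finrank F V₂ = n₂) (hdim : 2 * k + n₂ = 2 * m)
    (hZ : Nat.card {v : (Fin k ⊕ Fin k → F) × V₂ // (Q₁.prod Q₂) v = 0} =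
      ZZ (Fintype.card F) 2 1 (m - 1)) :
    ∃ g : ↥(Cfsg.isometryGroup F (Cfsg.quadFormMinus (m - 1) F a c)), (orderOf g).Coprime p ∧
      (mat g).charpoly = A.charpoly * (X - 1) ^ n₂ := by
  obtain ⟨x, hx1, hx2⟩ := finish_minus a c hac Q₁ Q₂ h₁ h₂ (Matrix.toLin' A) (Matrix.toLin' A')
    (by rw [Module.End.mul_eq_comp, ← Matrix.toLin'_mul, hAA', Matrix.toLin'_one]; rfl)
    (fun v => by rw [Matrix.toLin'_apply]; exact hQA v) m hm
    (by rw [finrank_plus, hd₂]; exact hdim) hZ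
  refine ⟨x, ?_, ?_⟩
  · apply coprime_of_pow_prime_eq_one x p r Fact.out Fact.out hrp
    apply hx2
    rw [← Matrix.toLin'_pow, hAr, Matrix.toLin'_one]
    rfl
  · rw [hx1, Matrix.charpoly_toLin', hd₂]

end wrap

end Cfsg.Agent.Lib.Helper43.OrthGen
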