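import Cfsg.Agent.Lib.Helper43.OrthProdModel
import Cfsg.Agent.Lib.Helper43.ClassifyMinus
import Cfsg.Agent.Lib.Helper43.ZZmod

/-!
# From an orthogonal sum with known zero count to elements of the standard orthogonal groups
-/

set_option autoImplicit false

namespace Cfsg.Agent.Lib.Helper43.OrthModel

open Module QuadraticMap Polynomial Cfsg.Agent.Lib.Helper43 Cfsg.Agent.Lib.Helper43.ZeroCount
  Cfsg.Agent.Lib.Helper43.OddOrth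

universe u

section finish
variable {F : Type u} [Field F] [Fintype F] {V₁ V₂ : Type u} [AddCommGroup V₁] [Module F V₁]
  [FiniteDimensional F V₁] [AddCommGroup V₂] [Module F V₂] [FiniteDimensional F V₂]

theorem finish_plus (Q₁ : QuadraticForm F V₁) (Q₂ : QuadraticForm F V₂)
    (h₁ : (polarBilin Q₁).Nondegenerate) (h₂ : (polarBilin Q₂).Nondegenerate)
    (g₁ g₁' : V₁ →ₗ[F] V₁) (hgg' : g₁ * g₁' = 1) (hg : ∀ v, Q₁ (g₁ v) = Q₁ v) (m : ℕ)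
    (hdim : finrank F V₁ + finrank F V₂ = 2 * m)
    (hZ : Nat.card {v : V₁ × V₂ // (Q₁.prod Q₂) v = 0} = ZZ (Fintype.card F) 0 1 m) :
    ∃ x : ↥(Cfsg.isometryGroup F (Cfsg.quadFormPlus m F)),
      (mat x).charpoly = LinearMap.charpoly g₁ * (X - 1) ^ finrank F V₂ ∧
      ∀ N : ℕ, g₁ ^ N = 1 → x ^ N = 1 := by
  obtain ⟨Θ, hΘ⟩ := classify_plus (V₁ × V₂) (Q₁.prod Q₂) (prod_nondegenerate Q₁ Q₂ h₁ h₂) m
    (by rw [Module.finrank_prod]; exact hdim) hZ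
  obtain ⟨x, hx1, hx2⟩ := exists_isom_of_model (fun v => (Q₁.prod Q₂) v)
    (g₁.prodMap (1 : V₂ →ₗ[F] V₂)) (g₁'.prodMap 1) (prodMap_id_mul g₁ g₁' hgg')
    (prod_invariant Q₁ Q₂ g₁ hg) (Cfsg.quadFormPlus m F) Θ hΘ
  refine ⟨x, ?_, fun N hN => hx2 N ?_⟩
  · rw [hx1, prod_charpoly]
  · rw [prodMap_id_pow, hN, LinearMap.prodMap_one]

theorem finish_minus (a c : F)
    (hac : ∀ z₁ z₂ : F, z₁ ^ 2 + a * z₁ * z₂ + c * z₂ ^ 2 = 0 → z₁ = 0 ∧ z₂ = 0)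
    (Q₁ : QuadraticForm F V₁) (Q₂ : QuadraticForm F V₂)
    (h₁ : (polarBilin Q₁).Nondegenerate) (h₂ : (polarBilin Q₂).Nondegenerate)
    (g₁ g₁' : V₁ →ₗ[F] V₁) (hgg' : g₁ * g₁' = 1) (hg : ∀ v, Q₁ (g₁ v) = Q₁ v) (m : ℕ)
    (hm : 1 ≤ m) (hdim : finrank F V₁ + finrank F V₂ = 2 * m)
    (hZ : Nat.card {v : V₁ × V₂ // (Q₁.prod Q₂) v = 0} = ZZ (Fintype.card F) 2 1 (m - 1)) :
    ∃ x : ↥(Cfsg.isometryGroup F (Cfsg.quadFormMinus (m - 1) F a c)),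
      (mat x).charpoly = LinearMap.charpoly g₁ * (X - 1) ^ finrank F V₂ ∧
      ∀ N : ℕ, g₁ ^ N = 1 → x ^ N = 1 := by
  obtain ⟨Θ, hΘ⟩ := classify_minus_gen a c hac (V₁ × V₂) (Q₁.prod Q₂)
    (prod_nondegenerate Q₁ Q₂ h₁ h₂) (m - 1)
    (by rw [Module.finrank_prod]; omega) hZ
  obtain ⟨x, hx1, hx2⟩ := exists_isom_of_model (fun v => (Q₁.prod Q₂) v)
    (g₁.prodMap (1 : V₂ →ₗ[F] V₂)) (g₁'.prodMap 1) (prodMap_id_mul g₁ g₁' hgg')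
    (prod_invariant Q₁ Q₂ g₁ hg) (Cfsg.quadFormMinus (m - 1) F a c) Θ hΘ
  refine ⟨x, ?_, fun N hN => hx2 N ?_⟩
  · rw [hx1, prod_charpoly]
  · rw [prodMap_id_pow, hN, LinearMap.prodMap_one]

end finish

section decide
variable {F : Type u} [Field F] [Fintype F] {V₁ V₂ : Type u} [AddCommGroup V₁] [Module F V₁]
  [FiniteDimensional F V₁] [AddCommGroup V₂] [Module F V₂] [FiniteDimensional F V₂]

/-- the zero count of `Q₁ ⊥ Q₂` when `Q₁` carries a fixed-point-free isometry of order `r` -/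
theorem zeros_of_model (Q₁ : QuadraticForm F V₁) (Q₂ : QuadraticForm F V₂)
    (h₁ : (polarBilin Q₁).Nondegenerate) (h₂ : (polarBilin Q₂).Nondegenerate)
    (g₁ : V₁ →ₗ[F] V₁) (hg : ∀ v, Q₁ (g₁ v) = Q₁ v) (r : ℕ) [Fact r.Prime] (hr2 : r ≠ 2)
    (hgr : g₁ ^ r = 1) (hfix : ∀ v, g₁ v = v → v = 0)
    (hq0 : ((Fintype.card F : ℕ) : ZMod r) ≠ 0) (hq1 : ((Fintype.card F : ℕ) : ZMod r) ≠ 1)
    (m k : ℕ) (hk : k ≤ m) (hd₁ : finrank F V₁ = 2 * k) (hd₂ : finrank F V₂ = 2 * (m - k))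
    (τ σ₂ : ZMod r) (hτ : τ = 1 ∨ τ = -1) (hσ₂ : σ₂ = 1 ∨ σ₂ = -1)
    (hqk : ((Fintype.card F : ℕ) : ZMod r) ^ k = τ)
    (hZ₂ : ((Nat.card {v : V₂ // Q₂ v = 0} : ℕ) : ZMod r) * ((Fintype.card F : ℕ) : ZMod r) =
      zhat ((Fintype.card F : ℕ) : ZMod r) σ₂ (m - k)) :
    (σ₂ * τ = 1 → Nat.card {v : V₁ × V₂ // (Q₁.prod Q₂) v = 0} = ZZ (Fintype.card F) 0 1 m) ∧
    (σ₂ * τ = -1 → 1 ≤ m ∧
      Nat.card {v : V₁ × V₂ // (Q₁.prod Q₂) v = 0} = ZZ (Fintype.card F) 2 1 (m - 1)) := by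
  have : Finite V₁ := Module.finite_of_finite F
  have : Finite V₂ := Module.finite_of_finite F
  have hmod := card_zeros_prod_modEq Q₁ Q₂ g₁ hg r hgr hfix
  have hdich := card_zeros_dichotomy (V₁ × V₂) (Q₁.prod Q₂) (prod_nondegenerate Q₁ Q₂ h₁ h₂) m
    (by rw [Module.finrank_prod, hd₁, hd₂]; omega)
  exact zero_count_decide r hr2 (Fintype.card F) Fintype.card_pos hq0 hq1 m k hk τ σ₂ hτ hσ₂ hqk
    _ _ hdich hZ₂ hmod

end decide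

end Cfsg.Agent.Lib.Helper43.OrthModel
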