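import Cfsg.Agent.Lib.Helper43.OddOrthPrime

/-!
# Classes of elements of odd prime order in even-dimensional orthogonal groups: generic reduction
-/

set_option autoImplicit false

namespace Cfsg.Agent.Lib.Helper43.OrthGen

open Polynomial UniqueFactorizationMonoid Matrix QuadraticMap
open Cfsg.Agent.Lib.Helper40.SemisimpleConj Cfsg.Agent.Lib.Helper40.PrimeOrder
  Cfsg.Agent.Lib.Helper40.Symp Cfsg.Agent.Lib.Helper43.OddOrth

section gram
variable {F : Type*} [Field F] {κ : Type*} [Fintype κ] [DecidableEq κ]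

/-- the Gram matrix of the polar form -/
noncomputable def gramK (Q : QuadraticForm F (κ → F)) : Matrix κ κ F :=
  LinearMap.BilinForm.toMatrix' (polarBilin Q)

theorem polar_eq_dotK (Q : QuadraticForm F (κ → F)) (u v : κ → F) :
    polar Q u v = u ⬝ᵥ (gramK Q *ᵥ v) := by
  have h := Matrix.toBilin'_toMatrix' (polarBilin Q)
  have h2 : polar Q u v = Matrix.toBilin' (gramK Q) u v := by
    unfold gramK
    rw [h]
    rfl
  rw [h2, Matrix.toBilin'_apply']

theorem gramK_transpose (Q : QuadraticForm F (κ → F)) : (gramK Q)ᵀ = gramK Q := by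
  ext i j
  unfold gramK
  rw [Matrix.transpose_apply, LinearMap.BilinForm.toMatrix'_apply,
    LinearMap.BilinForm.toMatrix'_apply]
  show polar Q _ _ = polar Q _ _
  rw [polar_comm]

theorem gramK_isUnit_det (Q : QuadraticForm F (κ → F)) (hQ : (polarBilin Q).Nondegenerate) :
    IsUnit (gramK Q).det := by
  have h1 : (gramK Q).Nondegenerate := by
    unfold gramK
    exact LinearMap.BilinForm.nondegenerate_toMatrix'_iff.2 hQ
  exact isUnit_iff_ne_zero.2 (Matrix.nondegenerate_iff_det_ne_zero.1 h1)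

theorem gramK_of_preserving (Q : QuadraticForm F (κ → F)) (M : Matrix κ κ F)
    (hM : ∀ v, Q (M *ᵥ v) = Q v) : Mᵀ * gramK Q * M = gramK Q := by
  have hpol : ∀ u v, polar Q (M *ᵥ u) (M *ᵥ v) = polar Q u v := by
    intro u v
    unfold polar
    rw [← Matrix.mulVec_add, hM, hM, hM]
  ext i j
  have h := hpol (Pi.single i 1) (Pi.single j 1)
  rw [polar_eq_dotK, polar_eq_dotK, dot_form_gen] at h
  simpa using h

end gram

section main
variable {F : Type*} [Field F] [Fintype F]

set_option maxHeartbeats 1600000 in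
theorem card_classes_eq_gen (p : ℕ) [Fact p.Prime] [CharP F p] {κ : Type} [Fintype κ]
    [DecidableEq κ] (Q₀ : (κ → F) → F) (Q : QuadraticForm F (κ → F)) (hQQ : Q₀ = ⇑Q)
    (hQ : (polarBilin Q).Nondegenerate)
    (m r i : ℕ) (hcard : Fintype.card κ = 2 * m) (hr : r.Prime) (hr2 : r ≠ 2) (hrp : r ≠ p)
    (hi : i = orderOf ((Fintype.card F : ℕ) : ZMod r)) (Adm : Multiset F[X] → Prop)
    (hexA : ∀ M : Multiset F[X], (∀ π ∈ M, π ∈ Rset F r) → M ≠ 0 →
      i * Multiset.card M ≤ 2 * m →
      (polyOf (2 * m - i * Multiset.card M) M).reverse = polyOf (2 * m - i * Multiset.card M) M →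
      Adm M → ∃ g : ↥(Cfsg.isometryGroup F Q₀), (orderOf g).Coprime p ∧
        (mat g).charpoly = polyOf (2 * m - i * Multiset.card M) M)
    (hnec : ∀ g : ↥(Cfsg.isometryGroup F Q₀), orderOf g = r → ∀ M : Multiset F[X],
      (∀ π ∈ M, π ∈ Rset F r) → i * Multiset.card M ≤ 2 * m →
      (polyOf (2 * m - i * Multiset.card M) M).reverse = polyOf (2 * m - i * Multiset.card M) M →
      (mat g).charpoly = polyOf (2 * m - i * Multiset.card M) M → Adm M) :
    Nat.card {C : ConjClasses ↥(Cfsg.isometryGroup F Q₀) //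
      ∃ g : ↥(Cfsg.isometryGroup F Q₀), ConjClasses.mk g = C ∧ orderOf g = r} =
    Nat.card {M : Multiset F[X] // (∀ π ∈ M, π ∈ Rset F r) ∧ M ≠ 0 ∧
      i * Multiset.card M ≤ 2 * m ∧
      (polyOf (2 * m - i * Multiset.card M) M).reverse =
        polyOf (2 * m - i * Multiset.card M) M ∧ Adm M} := by
  classical
  have : Fact r.Prime := ⟨hr⟩
  have hp : p.Prime := Fact.out
  have hr0 : 0 < r := hr.pos
  have hr2' := hr.two_le
  have hrodd : Odd r := hr.odd_of_ne_two hr2
  have hrcop : r.Coprime p := (Nat.coprime_primes hr hp).2 hrp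
  have hRm : ∀ π ∈ Rset F r, π.Monic := fun π h => ((mem_Rset hr0).1 h).1
  have hRi : ∀ π ∈ Rset F r, Irreducible π := fun π h => ((mem_Rset hr0).1 h).2.1
  have hRd : ∀ π ∈ Rset F r, π ∣ X ^ r - 1 := fun π h => ((mem_Rset hr0).1 h).2.2.1
  have hR1 : ∀ π ∈ Rset F r, π ≠ X - 1 := fun π h => ((mem_Rset hr0).1 h).2.2.2
  have hRdeg : ∀ π ∈ Rset F r, π.natDegree = i := fun π h => by
    rw [hi]
    exact natDegree_of_irreducible_dvd r π (hRm π h) (hRi π h) (hRd π h) (hR1 π h)
  have hconj : ∀ a b : ↥(Cfsg.isometryGroup F Q₀), Odd (orderOf a) →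
      (orderOf a).Coprime p → (orderOf b).Coprime p → (mat a).charpoly = (mat b).charpoly →
      IsConj a b := fun a b h1 h2' h3 h4 =>
    isConj_isom_of_charpoly p Q₀ Q hQQ hQ a b h1 h2' h3 h4
  have hpres : ∀ (g : ↥(Cfsg.isometryGroup F Q₀)) (u : κ → F), Q (mat g *ᵥ u) = Q u := by
    intro g u
    calc Q (mat g *ᵥ u) = Q₀ (mat g *ᵥ u) := (congrFun hQQ _).symm
      _ = Q₀ u := mat_preserves g u
      _ = Q u := congrFun hQQ _
  let P : Multiset F[X] → F[X] := fun M => polyOf (2 * m - i * Multiset.card M) M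
  have hPinj : ∀ M M' : Multiset F[X], (∀ π ∈ M, π ∈ Rset F r) → (∀ π ∈ M', π ∈ Rset F r) →
      P M = P M' → M = M' := by
    intro M M' hM hM' h
    have h1 := filter_polyOf (2 * m - i * Multiset.card M) M (fun π hπ => hRm π (hM π hπ))
      (fun π hπ => hRi π (hM π hπ)) (fun π hπ => hR1 π (hM π hπ))
    have h2 := filter_polyOf (2 * m - i * Multiset.card M') M'
      (fun π hπ => hRm π (hM' π hπ))
      (fun π hπ => hRi π (hM' π hπ)) (fun π hπ => hR1 π (hM' π hπ))
    rw [← h1, ← h2]
    exact congrArg (fun f => (normalizedFactors f).filter (fun π => π ≠ X - 1)) h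
  have hex : ∀ M : {M : Multiset F[X] // (∀ π ∈ M, π ∈ Rset F r) ∧ M ≠ 0 ∧
      i * Multiset.card M ≤ 2 * m ∧ (polyOf (2 * m - i * Multiset.card M) M).reverse =
        polyOf (2 * m - i * Multiset.card M) M ∧ Adm M},
      ∃ g : ↥(Cfsg.isometryGroup F Q₀), (orderOf g).Coprime p ∧
        (mat g).charpoly = P M.1 ∧ orderOf g = r := by
    rintro ⟨M, hM, hM0, hMle, hMrev, hMA⟩
    obtain ⟨g, hg1, hg2⟩ := hexA M hM hM0 hMle hMrev hMA
    refine ⟨g, hg1, hg2, ?_⟩
    have hNF : ((orderOf g : ℕ) : F) ≠ 0 := natCast_ne_zero_of_coprime p _ hg1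
    have hgN : mat g ^ orderOf g = 1 := by
      rw [← mat_pow, pow_orderOf_eq_one, mat_one]
    have hgr : g ^ r = 1 := by
      apply mat_injective
      rw [mat_pow, mat_one]
      apply pow_eq_one_of_charpoly_dvd _ (orderOf g) hNF hgN r
        (2 * m - i * Multiset.card M + Multiset.card M)
      rw [hg2]
      exact polyOf_dvd_pow _ _ _ (X_sub_one_dvd r) (fun π hπ => hRd π (hM π hπ))
    have hg1' : g ≠ 1 := by
      intro h1
      apply hM0
      have h2' : P M = polyOf (2 * m) (0 : Multiset F[X]) := by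
        change polyOf (2 * m - i * Multiset.card M) M = polyOf (2 * m) (0 : Multiset F[X])
        rw [← hg2, h1, mat_one, Matrix.charpoly_one, hcard]
        simp [polyOf]
      have h3 := filter_polyOf (2 * m - i * Multiset.card M) M
        (fun π hπ => hRm π (hM π hπ))
        (fun π hπ => hRi π (hM π hπ)) (fun π hπ => hR1 π (hM π hπ))
      have h4 := filter_polyOf (F := F) (2 * m) (0 : Multiset F[X]) (by simp) (by simp)
        (by simp)
      rw [← h3, ← h4]
      exact congrArg (fun f => (normalizedFactors f).filter (fun π => π ≠ X - 1)) h2'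
    exact orderOf_eq_prime hgr hg1'
  let Ξ : {M : Multiset F[X] // (∀ π ∈ M, π ∈ Rset F r) ∧ M ≠ 0 ∧
      i * Multiset.card M ≤ 2 * m ∧ (polyOf (2 * m - i * Multiset.card M) M).reverse =
        polyOf (2 * m - i * Multiset.card M) M ∧ Adm M} →
      {C : ConjClasses ↥(Cfsg.isometryGroup F Q₀) //
        ∃ g : ↥(Cfsg.isometryGroup F Q₀), ConjClasses.mk g = C ∧ orderOf g = r} :=
    fun M => ⟨ConjClasses.mk (Classical.choose (hex M)), Classical.choose (hex M), rfl,
      (Classical.choose_spec (hex M)).2.2⟩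
  symm
  apply Nat.card_eq_of_bijective Ξ
  constructor
  · intro M M' hMM
    have h1 : ConjClasses.mk (Classical.choose (hex M)) =
        ConjClasses.mk (Classical.choose (hex M')) := congrArg Subtype.val hMM
    have h2' := charpoly_eq_of_isConj_isom _ _ (ConjClasses.mk_eq_mk_iff_isConj.1 h1)
    rw [(Classical.choose_spec (hex M)).2.1, (Classical.choose_spec (hex M')).2.1] at h2'
    exact Subtype.ext (hPinj _ _ M.2.1 M'.2.1 h2')
  · rintro ⟨C, g, hgC, hgr⟩
    set f := (mat g).charpoly with hf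
    have hfm : f.Monic := Matrix.charpoly_monic _
    have hfd : f.natDegree = 2 * m := by
      rw [hf, Matrix.charpoly_natDegree_eq_dim, hcard]
    set M₀ := normalizedFactors f with hM₀
    set M' := M₀.filter (fun π => π ≠ X - 1) with hM'
    set a := Multiset.count (X - 1) M₀ with ha
    have hfP : f = polyOf a M' := eq_polyOf_of_monic f hfm
    have hgr1 : mat g ^ r = 1 := by
      rw [← mat_pow, ← hgr, pow_orderOf_eq_one, mat_one]
    have hM'mem : ∀ x ∈ M', x ∈ Rset F r := by
      intro x hx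
      rw [hM', Multiset.mem_filter] at hx
      obtain ⟨hx1, hx2⟩ := hx
      rw [hM₀, mem_normalizedFactors_iff_monic hfm.ne_zero] at hx1
      rw [mem_Rset hr0]
      exact ⟨hx1.1, hx1.2.1, dvd_of_pow_eq_one _ r hgr1 x hx1.2.1 hx1.2.2, hx2⟩
    have hdeg : 2 * m = a + i * Multiset.card M' := by
      rw [← hfd, hfP]
      exact polyOf_natDegree _ _ (fun x hx => hRm x (hM'mem x hx)) i
        (fun x hx => hRdeg x (hM'mem x hx))
    -- the reversal
    have hGu : IsUnit (gramK Q).det := gramK_isUnit_det Q hQ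
    have hGG : gramK Q * (gramK Q)⁻¹ = 1 := Matrix.mul_nonsing_inv _ hGu
    have hgG : (mat g)ᵀ * gramK Q * mat g = gramK Q :=
      gramK_of_preserving Q (mat g) (hpres g)
    obtain ⟨k', hk'⟩ := hrodd
    have hdet1 : (mat g).det = 1 :=
      det_eq_one_of_form (gramK Q) (gramK Q)⁻¹ (mat g) hGG hgG k' (by rw [← hk']; exact hgr1)
    have hrevf : f.reverse = f := by
      rw [hf, charpoly_reverse_of_mul_eq_one (mat g) (mat g⁻¹) (mat_mul_inv g),
        charpoly_inv_of_form (gramK Q) (gramK Q)⁻¹ (mat g) (mat g⁻¹) hGG hgG (mat_mul_inv g),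
        hdet1, hcard, pow_mul]
      simp
    have hle : i * Multiset.card M' ≤ 2 * m := by omega
    have ha' : 2 * m - i * Multiset.card M' = a := by omega
    have hfPm : f = P M' := by
      change f = polyOf (2 * m - i * Multiset.card M') M'
      rw [hfP, ha']
    have hgcop : (orderOf g).Coprime p := by rw [hgr]; exact hrcop
    have hgodd : Odd (orderOf g) := by rw [hgr]; exact ⟨k', hk'⟩
    have hrev : (polyOf (2 * m - i * Multiset.card M') M').reverse =
        polyOf (2 * m - i * Multiset.card M') M' := by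
      rw [ha', ← hfP]
      exact hrevf
    have hM0 : M' ≠ 0 := by
      intro h0
      have h1 : f = (mat (1 : ↥(Cfsg.isometryGroup F Q₀))).charpoly := by
        rw [hfPm, h0, mat_one, Matrix.charpoly_one, hcard]
        simp [P, polyOf]
      have h2' : IsConj g 1 := hconj g 1 hgodd hgcop (by simp) h1
      have h3 : g = 1 := isConj_one_left.1 h2'
      rw [h3, orderOf_one] at hgr
      omega
    have hAdm : Adm M' := hnec g hgr M' hM'mem hle hrev hfPm
    refine ⟨⟨M', hM'mem, hM0, hle, hrev, hAdm⟩, ?_⟩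
    apply Subtype.ext
    change ConjClasses.mk (Classical.choose (hex ⟨M', hM'mem, hM0, hle, hrev, hAdm⟩)) = C
    rw [← hgC]
    apply ConjClasses.mk_eq_mk_iff_isConj.2
    obtain ⟨hc1, hc2, hc3⟩ := Classical.choose_spec (hex ⟨M', hM'mem, hM0, hle, hrev, hAdm⟩)
    apply hconj _ _ (by rw [hc3]; exact ⟨k', hk'⟩) hc1 hgcop
    rw [hc2, ← hfPm]

end main

end Cfsg.Agent.Lib.Helper43.OrthGen
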