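import Cfsg.Agent.Lib.Helper43.OddOrthPrime

/-!
# Transporting an abstract isometry to a coordinate isometry group
-/

set_option autoImplicit false

namespace Cfsg.Agent.Lib.Helper43.OrthModel

open Matrix Cfsg.Agent.Lib.Helper43.OddOrth

variable {F : Type*} [Field F] {κ : Type} [Fintype κ] [DecidableEq κ]
  {V : Type*} [AddCommGroup V] [Module F V] [FiniteDimensional F V]

theorem conj_pow (Θ : V ≃ₗ[F] (κ → F)) (g : V →ₗ[F] V) (N : ℕ) :
    (Θ.conj g) ^ N = Θ.conj (g ^ N) := by
  induction N with
  | zero =>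
    rw [pow_zero, pow_zero]
    refine LinearMap.ext fun v => ?_
    simp [LinearEquiv.conj_apply]
  | succ N ih =>
    rw [pow_succ, pow_succ, ih]
    refine LinearMap.ext fun v => ?_
    simp [LinearEquiv.conj_apply]

/-- transport of an abstract isometry to the coordinate isometry group -/
theorem exists_isom_of_model (Qf : V → F) (g g' : V →ₗ[F] V)
    (hgg' : g * g' = 1) (hg : ∀ v, Qf (g v) = Qf v) (Q₀ : (κ → F) → F)
    (Θ : V ≃ₗ[F] (κ → F)) (hΘ : ∀ v, Q₀ (Θ v) = Qf v) :
    ∃ x : ↥(Cfsg.isometryGroup F Q₀), (mat x).charpoly = LinearMap.charpoly g ∧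
      ∀ N : ℕ, g ^ N = 1 → x ^ N = 1 := by
  have hg'g : g' * g = 1 := by
    have h1 : Function.Surjective g := by
      intro v
      exact ⟨g' v, by
        have := LinearMap.congr_fun hgg' v
        simpa using this⟩
    have h2 : Function.Injective g := LinearMap.injective_iff_surjective.2 h1
    refine LinearMap.ext fun v => ?_
    apply h2
    have := LinearMap.congr_fun hgg' (g v)
    simpa using this
  set G : (κ → F) →ₗ[F] (κ → F) := Θ.conj g with hG
  set G' : (κ → F) →ₗ[F] (κ → F) := Θ.conj g' with hG'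
  have hGv : ∀ u, G u = Θ (g (Θ.symm u)) := fun u => by
    rw [hG, LinearEquiv.conj_apply]
    rfl
  have hGG' : G * G' = 1 := by
    refine LinearMap.ext fun u => ?_
    have h1 : (G * G') u = G (G' u) := rfl
    have := LinearMap.congr_fun hgg' (Θ.symm u)
    simp only [Module.End.mul_apply, Module.End.one_apply] at this
    rw [h1, hGv, hG', LinearEquiv.conj_apply]
    simp [this]
  have hG'G : G' * G = 1 := by
    refine LinearMap.ext fun u => ?_
    have h1 : (G' * G) u = G' (G u) := rfl
    have := LinearMap.congr_fun hg'g (Θ.symm u)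
    simp only [Module.End.mul_apply, Module.End.one_apply] at this
    rw [h1, hGv, hG', LinearEquiv.conj_apply]
    simp [this]
  have hmul : LinearMap.toMatrix' G * LinearMap.toMatrix' G' = 1 := by
    rw [← LinearMap.toMatrix'_mul, hGG', LinearMap.toMatrix'_one]
  have hmul' : LinearMap.toMatrix' G' * LinearMap.toMatrix' G = 1 := by
    rw [← LinearMap.toMatrix'_mul, hG'G, LinearMap.toMatrix'_one]
  have hmem : (⟨LinearMap.toMatrix' G, LinearMap.toMatrix' G', hmul, hmul'⟩ :
      Matrix.GeneralLinearGroup κ F) ∈ Cfsg.isometryGroup F Q₀ := by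
    intro u _
    show Q₀ (LinearMap.toMatrix' G *ᵥ u) = Q₀ u
    rw [LinearMap.toMatrix'_mulVec, hGv, hΘ, hg, ← hΘ, LinearEquiv.apply_symm_apply]
  refine ⟨⟨⟨LinearMap.toMatrix' G, LinearMap.toMatrix' G', hmul, hmul'⟩, hmem⟩, ?_, ?_⟩
  · show (LinearMap.toMatrix' G).charpoly = _
    rw [← LinearMap.toMatrix_eq_toMatrix', LinearMap.charpoly_toMatrix, hG,
      LinearEquiv.charpoly_conj]
  · intro N hN
    apply mat_injective
    rw [mat_pow, mat_one]
    show (LinearMap.toMatrix' G) ^ N = 1
    have h1 : G ^ N = 1 := by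
      rw [hG, conj_pow, hN]
      refine LinearMap.ext fun u => ?_
      simp [LinearEquiv.conj_apply]
    have h2 : LinearMap.toMatrix' (G ^ N) = (LinearMap.toMatrix' G) ^ N := by
      have := map_pow (LinearMap.toMatrixAlgEquiv' (R := F) (n := κ)) G N
      exact this
    rw [← h2, h1, LinearMap.toMatrix'_one]

end Cfsg.Agent.Lib.Helper43.OrthModel
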