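import Cfsg.Agent.Lib.Helper43.TwoForms
import Cfsg.Agent.Lib.Helper43.ZeroCount

/-!
# Necessary conditions for fixed-point-free isometries of odd prime order
-/

set_option autoImplicit false

namespace Cfsg.Agent.Lib.Helper43.OrthGen

open Matrix QuadraticMap Polynomial Cfsg.Agent.Lib.Helper43.OddOrth
  Cfsg.Agent.Lib.Helper40.SemisimpleConj Cfsg.Agent.Lib.Helper43.ZeroCount

section comp
variable {F : Type*} [Field F] {V V' : Type*} [AddCommGroup V] [Module F V] [AddCommGroup V']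
  [Module F V']

theorem comp_equiv_nondegenerate (Q' : QuadraticForm F V') (φ : V ≃ₗ[F] V')
    (hQ' : (polarBilin Q').Nondegenerate) :
    (polarBilin (Q'.comp (φ : V →ₗ[F] V'))).Nondegenerate := by
  have key : ∀ x : V, (∀ y, polar (⇑(Q'.comp (φ : V →ₗ[F] V'))) x y = 0) → x = 0 := by
    intro x hx
    have h1 : φ x = 0 := by
      apply hQ'.1
      intro y'
      have := hx (φ.symm y')
      unfold polar at this
      simp only [QuadraticMap.comp_apply, LinearEquiv.coe_coe] at this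
      rw [map_add φ, LinearEquiv.apply_symm_apply] at this
      exact this
    exact φ.map_eq_zero_iff.1 h1
  constructor
  · intro x hx
    exact key x hx
  · intro x hx
    apply key x
    intro y
    rw [polar_comm]
    exact hx y

theorem card_zeros_comp_equiv (Q' : QuadraticForm F V') (φ : V ≃ₗ[F] V') :
    Nat.card {v : V // (Q'.comp (φ : V →ₗ[F] V')) v = 0} = Nat.card {w : V' // Q' w = 0} := by
  apply Nat.card_congr
  refine ⟨fun v => ⟨φ v.1, v.2⟩, fun w => ⟨φ.symm w.1, ?_⟩, ?_, ?_⟩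
  · show Q' (φ (φ.symm w.1)) = 0
    rw [LinearEquiv.apply_symm_apply]
    exact w.2
  · intro v
    apply Subtype.ext
    simp
  · intro w
    apply Subtype.ext
    simp

end comp

section main
variable {F : Type*} [Field F] [Fintype F]

theorem iterate_mulVec {κ : Type*} [Fintype κ] [DecidableEq κ] (A : Matrix κ κ F) (n : ℕ)
    (v : κ → F) : (fun v => A *ᵥ v)^[n] v = (A ^ n) *ᵥ v := by
  induction n with
  | zero => simp
  | succ n ih =>
    rw [Function.iterate_succ_apply', ih, Matrix.mulVec_mulVec, ← pow_succ']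

/-- a fixed-point-free isometry of prime order `r`: the zero count is `1` modulo `r` -/
theorem card_zeros_modEq_one {κ : Type*} [Fintype κ] [DecidableEq κ]
    (Q : QuadraticForm F (κ → F)) (A : Matrix κ κ F) (hQA : ∀ v, Q (A *ᵥ v) = Q v) (r : ℕ)
    [Fact r.Prime] (hAr : A ^ r = 1) (hfix : ∀ v, A *ᵥ v = v → v = 0) :
    Nat.card {v : κ → F // Q v = 0} ≡ 1 [MOD r] := by
  have h1 := card_zeros_modEq (fun v : κ → F => Q v) (fun v => A *ᵥ v) r
    (fun v => by rw [iterate_mulVec, hAr, Matrix.one_mulVec]) hQA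
  have h2 : Nat.card {v : κ → F // Q v = 0 ∧ A *ᵥ v = v} = 1 := by
    rw [Nat.card_eq_one_iff_unique]
    refine ⟨⟨fun x y => Subtype.ext ?_⟩, ⟨⟨0, by simp⟩⟩⟩
    rw [hfix x.1 x.2.2, hfix y.1 y.2.2]
  rw [h2] at h1
  exact h1

/-- two nondegenerate forms carrying fixed-point-free isometries of odd order with the same
characteristic polynomial have the same zero count -/
theorem card_zeros_eq_of_same_charpoly {κ κ' : Type} [Fintype κ] [DecidableEq κ] [Fintype κ']
    [DecidableEq κ'] (Q : QuadraticForm F (κ → F)) (Q' : QuadraticForm F (κ' → F))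
    (hQ : (polarBilin Q).Nondegenerate) (hQ' : (polarBilin Q').Nondegenerate)
    (A A' C : Matrix κ κ F) (B : Matrix κ' κ' F) (hAA' : A * A' = 1) (hC : (1 - A) * C = 1)
    (hQA : ∀ v, Q (A *ᵥ v) = Q v) (hQ'B : ∀ v, Q' (B *ᵥ v) = Q' v)
    (k : ℕ) (hN : ((2 * k + 1 : ℕ) : F) ≠ 0) (hAN : A ^ (2 * k + 1) = 1)
    (hBN : B ^ (2 * k + 1) = 1) (hc : A.charpoly = B.charpoly) :
    Nat.card {v : κ → F // Q v = 0} = Nat.card {v : κ' → F // Q' v = 0} := by
  obtain ⟨φ, hφ⟩ := exists_intertwining (F := F) _ (κ → F) (κ' → F) (Matrix.toLin' A)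
    (Matrix.toLin' B) rfl (isSemisimple_toLin'_of_pow_eq_one A _ hN hAN)
    (isSemisimple_toLin'_of_pow_eq_one B _ hN hBN)
    (by rw [Matrix.charpoly_toLin', Matrix.charpoly_toLin', hc])
  have hQ''A : ∀ v, (Q'.comp (φ : (κ → F) →ₗ[F] (κ' → F))) (A *ᵥ v) =
      (Q'.comp (φ : (κ → F) →ₗ[F] (κ' → F))) v := by
    intro v
    show Q' (φ (A *ᵥ v)) = Q' (φ v)
    have := hφ v
    rw [Matrix.toLin'_apply, Matrix.toLin'_apply] at this
    rw [this, hQ'B]
  rw [card_zeros_eq_of_common Q (Q'.comp (φ : (κ → F) →ₗ[F] (κ' → F))) hQ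
    (comp_equiv_nondegenerate Q' φ hQ') A A' C hAA' hC hQA hQ''A k hN hAN,
    card_zeros_comp_equiv]

end main

end Cfsg.Agent.Lib.Helper43.OrthGen
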