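import Cfsg.Agent.Lib.Helper43.OrthNec
import Cfsg.Agent.Lib.Helper43.OrthExistCases
import Cfsg.Agent.Lib.Helper43.OrthExistEven

/-!
# Necessary conditions: the cases
-/

set_option autoImplicit false

namespace Cfsg.Agent.Lib.Helper43.OrthGen

open Module Polynomial Matrix QuadraticMap Cfsg.Agent.Lib.Helper40.SemisimpleConj
  Cfsg.Agent.Lib.Helper40.PrimeOrder Cfsg.Agent.Lib.Helper40.Symp Cfsg.Agent.Lib.Helper43.OddOrth
  Cfsg.Agent.Lib.Helper43 Cfsg.Agent.Lib.Helper8 Cfsg.Agent.Lib.Helper43.ZeroCount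
  Cfsg.Agent.Lib.Helper43.OrthModel Cfsg.Agent.Lib.Helper43.SpTrick

universe u

section fixed
variable {F : Type*} [Field F] {κ : Type*} [Fintype κ] [DecidableEq κ]

theorem exists_inv_of_eval_one (A : Matrix κ κ F) (h1 : A.charpoly.eval 1 ≠ 0) :
    ∃ C : Matrix κ κ F, (1 - A) * C = 1 := by
  have hs1 : Matrix.scalar κ (1 : F) = 1 := map_one _
  have hdet : ((1 : Matrix κ κ F) - A).det ≠ 0 := by
    rw [← hs1, ← Matrix.eval_charpoly]
    exact h1
  exact ⟨(1 - A)⁻¹, Matrix.mul_nonsing_inv _ (isUnit_iff_ne_zero.2 hdet)⟩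

theorem no_fixed_of_inv' (A C : Matrix κ κ F) (hDC : (1 - A) * C = 1) (v : κ → F)
    (hv : A *ᵥ v = v) : v = 0 := by
  have hCD : C * (1 - A) = 1 := mul_eq_one_comm.1 hDC
  have h1 : (1 - A) *ᵥ v = 0 := by
    rw [Matrix.sub_mulVec, Matrix.one_mulVec, hv, sub_self]
  calc v = (C * (1 - A)) *ᵥ v := by rw [hCD, Matrix.one_mulVec]
    _ = C *ᵥ ((1 - A) *ᵥ v) := by rw [Matrix.mulVec_mulVec]
    _ = 0 := by rw [h1, Matrix.mulVec_zero]

end fixed

variable {F : Type u} [Field F] [Fintype F]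

/-- the type of a space carrying a fixed-point-free isometry of order `r`, `i` even -/
theorem type_of_even (p : ℕ) [Fact p.Prime] [CharP F p] (r : ℕ) [Fact r.Prime]
    (hr2 : r ≠ 2) (hrp : r ≠ p) (i t : ℕ)
    (hi : i = orderOf ((Fintype.card F : ℕ) : ZMod r)) (ht : t * i = r - 1) (heven : Even i)
    {κ : Type} [Fintype κ] [DecidableEq κ] (Q : QuadraticForm F (κ → F)) (A : Matrix κ κ F)
    (hQA : ∀ v, Q (A *ᵥ v) = Q v) (hAr : A ^ r = 1) (m : ℕ) (hm : 1 ≤ m)
    (M : Multiset F[X]) (hM : ∀ π ∈ M, π ∈ Rset F r) (hiM : i * Multiset.card M = 2 * m)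
    (hchar : A.charpoly = M.prod) :
    (Nat.card {v : κ → F // Q v = 0} = ZZ (Fintype.card F) 0 1 m → Even (Multiset.card M)) ∧
    (Nat.card {v : κ → F // Q v = 0} = ZZ (Fintype.card F) 2 1 (m - 1) →
      Odd (Multiset.card M)) := by
  have hr : r.Prime := Fact.out
  have hr0 : 0 < r := hr.pos
  obtain ⟨j, hij, hj1, hqj⟩ := even_data (F := F) r i t hi ht heven
  have hmj : m = j * Multiset.card M := by
    rw [hij] at hiM
    have : 2 * (j * Multiset.card M) = 2 * m := by rw [← hiM]; ring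
    omega
  have hf1 : A.charpoly.eval 1 ≠ 0 := by
    rw [hchar]
    exact eval_one_prod_ne_zero M (fun π hπ => eval_one_ne_zero_of_mem_Rset hr0 (hM π hπ))
  obtain ⟨C, hC⟩ := exists_inv_of_eval_one A hf1
  have hmod := card_zeros_modEq_one Q A hQA r hAr (no_fixed_of_inv' A C hC)
  have hq0 := qbar_ne_zero (F := F) p r hrp
  have hq1 := ne_one_of_orderOf_even r _ i hi heven
  have hq : 1 ≤ Fintype.card F := Fintype.card_pos
  have hq2 : 2 ≤ Fintype.card F := Fintype.one_lt_card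
  have hqm : ((Fintype.card F : ℕ) : ZMod r) ^ m = (-1) ^ Multiset.card M := by
    rw [hmj, pow_mul, hqj]
  have hZ₂ : ((1 : ℕ) : ZMod r) * ((Fintype.card F : ℕ) : ZMod r) =
      zhat ((Fintype.card F : ℕ) : ZMod r) 1 (m - m) := by
    unfold zhat
    rw [Nat.sub_self]
    simp
  have hne : ZZ (Fintype.card F) 0 1 m ≠ ZZ (Fintype.card F) 2 1 (m - 1) := by
    have := ZZ_plus_ne_minus (Fintype.card F) hq2 (m - 1)
    rwa [show m - 1 + 1 = m by omega] at this
  constructor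
  · intro hZ
    rcases neg_one_pow_cases r (Multiset.card M) with ⟨hτ, hpar⟩ | ⟨hτ, hpar⟩
    · exact hpar
    · exfalso
      have hdec := zero_count_decide r hr2 (Fintype.card F) hq hq0 hq1 m m le_rfl _ 1
        (Or.inr hτ) (Or.inl rfl) hqm _ 1 (Or.inl hZ) hZ₂ hmod
      have h2 := (hdec.2 (by rw [hτ, one_mul])).2
      rw [hZ] at h2
      exact hne h2
  · intro hZ
    rcases neg_one_pow_cases r (Multiset.card M) with ⟨hτ, hpar⟩ | ⟨hτ, hpar⟩
    · exfalso
      have hdec := zero_count_decide r hr2 (Fintype.card F) hq hq0 hq1 m m le_rfl _ 1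
        (Or.inl hτ) (Or.inl rfl) hqm _ 1 (Or.inr ⟨hm, hZ⟩) hZ₂ hmod
      have h2 := hdec.1 (by rw [hτ, one_mul])
      rw [hZ] at h2
      exact hne h2.symm
    · exact hpar

/-- no fixed-point-free element of order `r` in the minus-type group when `i` is odd -/
theorem not_minus_of_odd (p : ℕ) [Fact p.Prime] [CharP F p] (r : ℕ) [Fact r.Prime]
    (hr2 : r ≠ 2) (hrp : r ≠ p) (i : ℕ)
    (hi : i = orderOf ((Fintype.card F : ℕ) : ZMod r)) (hodd : Odd i)
    {κ : Type} [Fintype κ] [DecidableEq κ] (Q : QuadraticForm F (κ → F))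
    (hQ : (polarBilin Q).Nondegenerate) (A A' : Matrix κ κ F) (hAA' : A * A' = 1)
    (hQA : ∀ v, Q (A *ᵥ v) = Q v) (hAr : A ^ r = 1) (m : ℕ) (hm : 1 ≤ m)
    (M : Multiset F[X]) (hM : ∀ π ∈ M, π ∈ Rset F r) (hiM : i * Multiset.card M = 2 * m)
    (hMrev : (polyOf 0 M).reverse = polyOf 0 M)
    (hchar : A.charpoly = M.prod)
    (hZ : Nat.card {v : κ → F // Q v = 0} = ZZ (Fintype.card F) 2 1 (m - 1)) : False := by
  have hr : r.Prime := Fact.out
  have hp : p.Prime := Fact.out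
  have hr0 : 0 < r := hr.pos
  have hq2 : 2 ≤ Fintype.card F := Fintype.one_lt_card
  obtain ⟨k, hk, L, L', hLL', hLpres, hLchar, hLr⟩ := levi_data p r hr2 i hi hodd 0 M hM hMrev
  have hkm : k = m := by omega
  subst hkm
  have hf1 : A.charpoly.eval 1 ≠ 0 := by
    rw [hchar]
    exact eval_one_prod_ne_zero M (fun π hπ => eval_one_ne_zero_of_mem_Rset hr0 (hM π hπ))
  obtain ⟨C, hC⟩ := exists_inv_of_eval_one A hf1
  obtain ⟨k', hk'⟩ := hr.odd_of_ne_two hr2
  have hrF : ((2 * k' + 1 : ℕ) : F) ≠ 0 := by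
    rw [← hk']
    intro h0
    rw [CharP.cast_eq_zero_iff F p] at h0
    exact hrp ((Nat.prime_dvd_prime_iff_eq hp hr).1 h0).symm
  have h1 := card_zeros_eq_of_same_charpoly Q (plusForm k F) hQ (plusForm_nondegenerate k F)
    A A' C L hAA' hC hQA (fun v => by rw [← plusForm_coe]; exact hLpres v) k' hrF
    (by rw [← hk']; exact hAr) (by rw [← hk']; exact hLr) (by rw [hchar, hLchar])
  rw [hZ, card_zeros_plus] at h1
  have := ZZ_plus_ne_minus (Fintype.card F) hq2 (k - 1)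
  rw [show k - 1 + 1 = k by omega] at this
  exact this h1.symm

end Cfsg.Agent.Lib.Helper43.OrthGen
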