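import Cfsg.Agent.Lib.Helper43.MultisetCount

/-!
# Palindromic multisets of irreducible factors with a condition on the size
-/

set_option autoImplicit false

namespace Cfsg.Agent.Lib.Helper43.OrthGen

open Polynomial UniqueFactorizationMonoid
open Cfsg.Agent.Lib.Helper40.SemisimpleConj Cfsg.Agent.Lib.Helper40.PrimeOrder
  Cfsg.Agent.Lib.Helper40.Symp

section comb
variable {α : Type*} [Fintype α] [LinearOrder α] {σ : α → α}

theorem card_symm_multisets_pred [DecidableEq α] (hσ : ∀ j, σ (σ j) = j) (hfix : ∀ j, σ j ≠ j)
    (P : ℕ → Prop) :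
    Nat.card {M : Multiset α // P (Multiset.card M) ∧ M.map σ = M} =
      Nat.card {N : Multiset α // (∀ x ∈ N, x ∈ ((half σ : Finset α) : Set α)) ∧
        P (2 * Multiset.card N)} := by
  have hcardM : ∀ M : Multiset α, M.map σ = M →
      Multiset.card M = 2 * Multiset.card (M.filter (· ∈ half σ)) := by
    intro M hM
    have h1 := symm_decomp hσ hfix M hM
    conv_lhs => rw [h1]
    rw [Multiset.card_add, Multiset.card_map]; ring
  let f : {M : Multiset α // P (Multiset.card M) ∧ M.map σ = M} →
      {N : Multiset α // (∀ x ∈ N, x ∈ ((half σ : Finset α) : Set α)) ∧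
        P (2 * Multiset.card N)} := fun M =>
    ⟨M.1.filter (· ∈ half σ), by
      intro x hx
      exact (Multiset.mem_filter.1 hx).2, by
      rw [← hcardM M.1 M.2.2]
      exact M.2.1⟩
  apply Nat.card_eq_of_bijective f
  constructor
  · intro M M' h
    have h1 : M.1.filter (· ∈ half σ) = M'.1.filter (· ∈ half σ) := congrArg Subtype.val h
    apply Subtype.ext
    rw [symm_decomp hσ hfix M.1 M.2.2, symm_decomp hσ hfix M'.1 M'.2.2, h1]
  · rintro ⟨N, hN, hNP⟩
    refine ⟨⟨N + N.map σ, ?_, map_sigma_add hσ N⟩, ?_⟩
    · rw [Multiset.card_add, Multiset.card_map, ← two_mul]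
      exact hNP
    · apply Subtype.ext
      exact filter_half_add hσ hfix N hN

end comb

set_option maxHeartbeats 1600000 in
theorem card_palin_multisets {F : Type*} [Field F] [Fintype F] (p : ℕ) [Fact p.Prime]
    [CharP F p] (m r i t : ℕ) (hr : r.Prime) (hr2 : r ≠ 2) (hrp : r ≠ p)
    (hi : i = orderOf ((Fintype.card F : ℕ) : ZMod r)) (ht : t * i = r - 1) (A : ℕ → Prop) :
    Nat.card {M : Multiset F[X] // (∀ π ∈ M, π ∈ Rset F r) ∧ M ≠ 0 ∧
      i * Multiset.card M ≤ 2 * m ∧
      (polyOf (2 * m - i * Multiset.card M) M).reverse =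
        polyOf (2 * m - i * Multiset.card M) M ∧ A (Multiset.card M)} =
    if Odd i then
      Nat.card {N : Multiset (Fin (t / 2)) // N ≠ 0 ∧ i * Multiset.card N ≤ m ∧
        A (2 * Multiset.card N)}
    else
      Nat.card {M' : Multiset (Fin t) // M' ≠ 0 ∧ i * Multiset.card M' ≤ 2 * m ∧
        A (Multiset.card M')} := by
  classical
  have : Fact r.Prime := ⟨hr⟩
  have hp : p.Prime := Fact.out
  have hr0 : 0 < r := hr.pos
  have hr2' := hr.two_le
  have hrF : (r : F) ≠ 0 := by
    intro h0
    rw [CharP.cast_eq_zero_iff F p] at h0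
    exact hrp ((Nat.prime_dvd_prime_iff_eq hp hr).1 h0).symm
  have hi1 : 1 ≤ i := by
    rcases Nat.eq_zero_or_pos i with h | h
    · subst h
      rw [mul_zero] at ht
      omega
    · exact h
  have ht1 : 0 < t := by
    rcases Nat.eq_zero_or_pos t with h | h
    · subst h
      rw [zero_mul] at ht
      omega
    · exact h
  have : Nonempty (Fin t) := ⟨⟨0, ht1⟩⟩
  have hcard : (Rset F r).card = t := by
    have h1 := card_Rset_mul (F := F) r hrF
    rw [← hi, ← ht] at h1
    exact Nat.eq_of_mul_eq_mul_right hi1 h1
  let e : Fin t ≃ ↥(Rset F r) := (Finset.equivFinOfCardEq hcard).symm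
  let π : Fin t → F[X] := fun j => (e j : F[X])
  have hπinj : Function.Injective π := fun a b h => e.injective (Subtype.ext h)
  have hπmem : ∀ j, π j ∈ Rset F r := fun j => (e j).2
  have hπ : ∀ j, (π j).Monic ∧ Irreducible (π j) ∧ π j ∣ X ^ r - 1 ∧ π j ≠ X - 1 :=
    fun j => (mem_Rset hr0).1 (e j).2
  have hπ0 : ∀ j, (π j).coeff 0 ≠ 0 := fun j => coeff_zero_ne_zero_of_mem_Rset hr0 (hπmem j)
  have hrange : ∀ x, x ∈ ((Rset F r : Finset F[X]) : Set F[X]) ↔ ∃ j, π j = x := by
    intro x
    constructor
    · intro hx
      exact ⟨e.symm ⟨x, hx⟩, by simp [π]⟩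
    · rintro ⟨j, rfl⟩
      exact hπmem j
  have hMm : ∀ M' : Multiset (Fin t), ∀ x ∈ M'.map π, x.Monic := by
    intro M' x hx; obtain ⟨j, _, rfl⟩ := Multiset.mem_map.1 hx; exact (hπ j).1
  have hMi : ∀ M' : Multiset (Fin t), ∀ x ∈ M'.map π, Irreducible x := by
    intro M' x hx; obtain ⟨j, _, rfl⟩ := Multiset.mem_map.1 hx; exact (hπ j).2.1
  have hM1 : ∀ M' : Multiset (Fin t), ∀ x ∈ M'.map π, x ≠ X - 1 := by
    intro M' x hx; obtain ⟨j, _, rfl⟩ := Multiset.mem_map.1 hx; exact (hπ j).2.2.2
  have hM0 : ∀ M' : Multiset (Fin t), ∀ x ∈ M'.map π, x.coeff 0 ≠ 0 := by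
    intro M' x hx; obtain ⟨j, _, rfl⟩ := Multiset.mem_map.1 hx; exact hπ0 j
  have htrans := card_multiset_transport ((Rset F r : Finset F[X]) : Set F[X]) π hπinj hrange
    (fun M => M ≠ 0 ∧ i * Multiset.card M ≤ 2 * m ∧
      (polyOf (2 * m - i * Multiset.card M) M).reverse =
        polyOf (2 * m - i * Multiset.card M) M ∧ A (Multiset.card M))
  refine Eq.trans htrans ?_
  by_cases hodd : Odd i
  · rw [if_pos hodd]
    -- the involution
    let σ : Fin t → Fin t := fun j => e.symm ⟨recip (π j), recip_mem_Rset r (hπmem j)⟩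
    have hπσ : ∀ j, π (σ j) = recip (π j) := by
      intro j
      simp [π, σ]
    have hσ : ∀ j, σ (σ j) = j := by
      intro j
      apply hπinj
      rw [hπσ, hπσ, recip_recip _ (hπ j).1 (hπ0 j)]
    have hfix : ∀ j, σ j ≠ j := by
      intro j h
      have h1 := hπσ j
      rw [h] at h1
      exact recip_ne_self_of_odd r hr2 (hπmem j) (hi ▸ hodd) h1.symm
    have hmaprecip : ∀ M' : Multiset (Fin t), (M'.map π).map recip = (M'.map σ).map π := by
      intro M'
      rw [Multiset.map_map, Multiset.map_map]
      apply Multiset.map_congr rfl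
      intro j _
      exact (hπσ j).symm
    have hiff : ∀ M' : Multiset (Fin t),
        ((M'.map π ≠ 0 ∧ i * Multiset.card (M'.map π) ≤ 2 * m ∧
          (polyOf (2 * m - i * Multiset.card (M'.map π)) (M'.map π)).reverse =
            polyOf (2 * m - i * Multiset.card (M'.map π)) (M'.map π) ∧
          A (Multiset.card (M'.map π))) ↔
        ((Multiset.card M' ≠ 0 ∧ i * Multiset.card M' ≤ 2 * m ∧ A (Multiset.card M')) ∧
          M'.map σ = M')) := by
      intro M'
      rw [Multiset.card_map]
      have hne : M'.map π ≠ 0 ↔ Multiset.card M' ≠ 0 := by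
        rw [Ne, Multiset.map_eq_zero, Ne, Multiset.card_eq_zero]
      rw [hne]
      have hkey : ((polyOf (2 * m - i * Multiset.card M') (M'.map π)).reverse =
            polyOf (2 * m - i * Multiset.card M') (M'.map π)) ↔ M'.map σ = M' := by
        have hrev := reverse_polyOf (2 * m - i * Multiset.card M') (M'.map π) (hM0 M')
        rw [hmaprecip] at hrev
        constructor
        · intro hpal
          rw [hpal] at hrev
          have hm1 := polyOf_monic (2 * m - i * Multiset.card M') (M'.map π) (hMm M')
          have hm2 := polyOf_monic (2 * m - i * Multiset.card M') ((M'.map σ).map π)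
            (hMm (M'.map σ))
          have hc : ((-1 : F) ^ (2 * m - i * Multiset.card M') *
              ((M'.map π).map (fun π => π.coeff 0)).prod) = 1 := by
            have := congrArg leadingCoeff hrev
            rw [leadingCoeff_mul, leadingCoeff_C, hm1.leadingCoeff, hm2.leadingCoeff,
              mul_one] at this
            exact this.symm
          rw [hc, C_1, one_mul] at hrev
          have h1 := filter_polyOf (2 * m - i * Multiset.card M') (M'.map π) (hMm M') (hMi M')
            (hM1 M')
          have h2 := filter_polyOf (2 * m - i * Multiset.card M') ((M'.map σ).map π)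
            (hMm _) (hMi _) (hM1 _)
          have h3 : M'.map π = (M'.map σ).map π := by
            rw [← h1, ← h2]
            exact congrArg (fun f => (normalizedFactors f).filter (fun π => π ≠ X - 1)) hrev
          exact (Multiset.map_injective hπinj h3).symm
        · intro hsym
          rw [hsym] at hrev
          rw [hrev]
          have hdec := symm_decomp hσ hfix M' hsym
          set N₁ := M'.filter (· ∈ half σ) with hN₁
          have hcardM : Multiset.card M' = 2 * Multiset.card N₁ := by
            conv_lhs => rw [hdec]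
            rw [Multiset.card_add, Multiset.card_map]; ring
          have heven : Even (2 * m - i * Multiset.card M') := by
            rw [hcardM]
            have : 2 * m - i * (2 * Multiset.card N₁) = 2 * (m - i * Multiset.card N₁) := by
              rw [Nat.mul_sub]; ring_nf
            rw [this]
            exact even_two_mul _
          have hprod : ((M'.map π).map (fun π => π.coeff 0)).prod = 1 := by
            rw [hdec, Multiset.map_add, Multiset.map_add, Multiset.prod_add, Multiset.map_map,
              Multiset.map_map, Multiset.map_map, ← Multiset.prod_map_mul]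
            apply Multiset.prod_eq_one
            intro x hx
            obtain ⟨j, _, rfl⟩ := Multiset.mem_map.1 hx
            simp only [Function.comp_apply]
            rw [hπσ, recip_coeff_zero _ (hπ j).1, mul_inv_cancel₀ (hπ0 j)]
          rw [hprod, heven.neg_one_pow, mul_one, C_1, one_mul]
      rw [hkey]
      tauto
    rw [Nat.card_congr (Equiv.subtypeEquivRight hiff),
      card_symm_multisets_pred hσ hfix (fun n => n ≠ 0 ∧ i * n ≤ 2 * m ∧ A n)]
    -- transport to `Fin (t / 2)`
    have hhalf : (half σ).card = t / 2 := by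
      have := card_half hσ hfix
      rw [Fintype.card_fin] at this
      omega
    have ht2 : 0 < t / 2 := by
      have := card_half hσ hfix
      rw [Fintype.card_fin] at this
      omega
    have : Nonempty (Fin (t / 2)) := ⟨⟨0, ht2⟩⟩
    let e₁ : Fin (t / 2) ≃ ↥(half σ) := (Finset.equivFinOfCardEq hhalf).symm
    let π₁ : Fin (t / 2) → Fin t := fun j => (e₁ j : Fin t)
    have hπ₁inj : Function.Injective π₁ := fun a b h => e₁.injective (Subtype.ext h)
    have hrange₁ : ∀ x, x ∈ ((half σ : Finset (Fin t)) : Set (Fin t)) ↔ ∃ j, π₁ j = x := by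
      intro x
      constructor
      · intro hx
        exact ⟨e₁.symm ⟨x, hx⟩, by simp [π₁]⟩
      · rintro ⟨j, rfl⟩
        exact (e₁ j).2
    rw [card_multiset_transport ((half σ : Finset (Fin t)) : Set (Fin t)) π₁ hπ₁inj hrange₁
      (fun N => 2 * Multiset.card N ≠ 0 ∧ i * (2 * Multiset.card N) ≤ 2 * m ∧
        A (2 * Multiset.card N))]
    have hiff₁ : ∀ N' : Multiset (Fin (t / 2)),
        ((2 * Multiset.card (N'.map π₁) ≠ 0 ∧ i * (2 * Multiset.card (N'.map π₁)) ≤ 2 * m ∧
          A (2 * Multiset.card (N'.map π₁))) ↔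
          (N' ≠ 0 ∧ i * Multiset.card N' ≤ m ∧ A (2 * Multiset.card N'))) := by
      intro N'
      rw [Multiset.card_map]
      have h1 : 2 * Multiset.card N' ≠ 0 ↔ N' ≠ 0 := by
        rw [Ne, Ne, ← Multiset.card_eq_zero]
        omega
      have h2 : i * (2 * Multiset.card N') ≤ 2 * m ↔ i * Multiset.card N' ≤ m := by
        rw [show i * (2 * Multiset.card N') = 2 * (i * Multiset.card N') by ring]
        omega
      rw [h1, h2]
    exact Nat.card_congr (Equiv.subtypeEquivRight hiff₁)
  · rw [if_neg hodd]
    have heveni : Even i := Nat.not_odd_iff_even.1 hodd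
    have hrec : ∀ j, recip (π j) = π j := fun j =>
      recip_eq_self_of_even r (hπmem j) (hi ▸ heveni)
    have hc1 : ∀ j, (π j).coeff 0 = 1 := fun j =>
      coeff_zero_eq_one_of_recip_eq_self (π j) (hπ j).1 (hπ0 j)
        (eval_one_ne_zero_of_mem_Rset hr0 (hπmem j)) (hrec j)
    have hiff : ∀ M' : Multiset (Fin t),
        ((M'.map π ≠ 0 ∧ i * Multiset.card (M'.map π) ≤ 2 * m ∧
          (polyOf (2 * m - i * Multiset.card (M'.map π)) (M'.map π)).reverse =
            polyOf (2 * m - i * Multiset.card (M'.map π)) (M'.map π) ∧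
          A (Multiset.card (M'.map π))) ↔
        (M' ≠ 0 ∧ i * Multiset.card M' ≤ 2 * m ∧ A (Multiset.card M'))) := by
      intro M'
      rw [Multiset.card_map]
      have hne : M'.map π ≠ 0 ↔ M' ≠ 0 := not_congr Multiset.map_eq_zero
      rw [hne]
      refine and_congr_right (fun _ => and_congr_right (fun _ => ?_))
      refine and_iff_right ?_
      have hrev := reverse_polyOf (2 * m - i * Multiset.card M') (M'.map π) (hM0 M')
      have hmap : (M'.map π).map recip = M'.map π := by
        rw [Multiset.map_map]
        apply Multiset.map_congr rfl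
        intro j _
        exact hrec j
      have hprod : ((M'.map π).map (fun π => π.coeff 0)).prod = 1 := by
        apply Multiset.prod_eq_one
        intro x hx
        obtain ⟨y, hy, rfl⟩ := Multiset.mem_map.1 hx
        obtain ⟨j, _, rfl⟩ := Multiset.mem_map.1 hy
        exact hc1 j
      have heven : Even (2 * m - i * Multiset.card M') := by
        obtain ⟨k, hk⟩ := heveni
        have : 2 * m - i * Multiset.card M' = 2 * (m - k * Multiset.card M') := by
          rw [hk, Nat.mul_sub]; ring_nf
        rw [this]
        exact even_two_mul _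
      rw [hrev, hmap, hprod, heven.neg_one_pow, mul_one, C_1, one_mul]
    exact Nat.card_congr (Equiv.subtypeEquivRight hiff)

end Cfsg.Agent.Lib.Helper43.OrthGen
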