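import Cfsg.Agent.Lib.Helper43.ZeroCount
import Cfsg.Agent.Lib.Helper43.OrthModel

/-!
# Orthogonal sums: an isometry on the first summand, the identity on the second
-/

set_option autoImplicit false

namespace Cfsg.Agent.Lib.Helper43.OrthModel

open Module QuadraticMap Polynomial Cfsg.Agent.Lib.Helper43 Cfsg.Agent.Lib.Helper43.ZeroCount
  Cfsg.Agent.Lib.Helper8

universe u

section prod
variable {F : Type*} [Field F] {V₁ V₂ : Type*} [AddCommGroup V₁] [Module F V₁]
  [AddCommGroup V₂] [Module F V₂]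

theorem prod_nondegenerate (Q₁ : QuadraticForm F V₁) (Q₂ : QuadraticForm F V₂)
    (h₁ : (polarBilin Q₁).Nondegenerate) (h₂ : (polarBilin Q₂).Nondegenerate) :
    (polarBilin (Q₁.prod Q₂)).Nondegenerate := by
  have key : ∀ x : V₁ × V₂, (∀ y, polar (⇑(Q₁.prod Q₂)) x y = 0) → x = 0 := by
    intro x hx
    have hx1 : x.1 = 0 := by
      apply h₁.1
      intro y
      have := hx (y, 0)
      rw [polar_prod] at this
      simpa using this
    have hx2 : x.2 = 0 := by
      apply h₂.1
      intro y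
      have := hx (0, y)
      rw [polar_prod] at this
      simpa using this
    exact Prod.ext hx1 hx2
  constructor
  · intro x hx
    exact key x hx
  · intro x hx
    apply key x
    intro y
    rw [polar_comm]
    exact hx y

theorem prodMap_id_pow (g₁ : V₁ →ₗ[F] V₁) (N : ℕ) :
    (g₁.prodMap (1 : V₂ →ₗ[F] V₂)) ^ N = (g₁ ^ N).prodMap 1 := by
  induction N with
  | zero => rw [pow_zero, pow_zero, LinearMap.prodMap_one]
  | succ N ih => rw [pow_succ, ih, LinearMap.prodMap_mul, pow_succ, mul_one]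

theorem prodMap_id_mul (g₁ g₁' : V₁ →ₗ[F] V₁) (h : g₁ * g₁' = 1) :
    (g₁.prodMap (1 : V₂ →ₗ[F] V₂)) * (g₁'.prodMap 1) = 1 := by
  rw [LinearMap.prodMap_mul, h, mul_one, LinearMap.prodMap_one]

theorem prod_invariant (Q₁ : QuadraticForm F V₁) (Q₂ : QuadraticForm F V₂) (g₁ : V₁ →ₗ[F] V₁)
    (hg : ∀ v, Q₁ (g₁ v) = Q₁ v) (v : V₁ × V₂) :
    (Q₁.prod Q₂) (g₁.prodMap (1 : V₂ →ₗ[F] V₂) v) = (Q₁.prod Q₂) v := by
  rw [prod_apply, prod_apply, LinearMap.prodMap_apply, hg]
  rfl

theorem prod_charpoly [FiniteDimensional F V₁] [FiniteDimensional F V₂] (g₁ : V₁ →ₗ[F] V₁) :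
    (g₁.prodMap (1 : V₂ →ₗ[F] V₂)).charpoly = g₁.charpoly * (X - 1) ^ finrank F V₂ := by
  rw [LinearMap.charpoly_prodMap, LinearMap.charpoly_one]

/-- the zero count of an orthogonal sum, modulo `r`, when the first summand carries an
isometry of order `r` without fixed points -/
theorem card_zeros_prod_modEq [Finite V₁] [Finite V₂] (Q₁ : QuadraticForm F V₁)
    (Q₂ : QuadraticForm F V₂) (g₁ : V₁ →ₗ[F] V₁) (hg : ∀ v, Q₁ (g₁ v) = Q₁ v) (r : ℕ)
    [Fact r.Prime] (hgr : g₁ ^ r = 1) (hfix : ∀ v, g₁ v = v → v = 0) :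
    Nat.card {v : V₁ × V₂ // (Q₁.prod Q₂) v = 0} ≡ Nat.card {v : V₂ // Q₂ v = 0} [MOD r] := by
  have h1 := card_zeros_modEq (fun v : V₁ × V₂ => (Q₁.prod Q₂) v)
    (fun v => g₁.prodMap (1 : V₂ →ₗ[F] V₂) v) r
    (by
      intro v
      have h2 : ∀ n : ℕ, (fun v => g₁.prodMap (1 : V₂ →ₗ[F] V₂) v)^[n] v =
          ((g₁.prodMap (1 : V₂ →ₗ[F] V₂)) ^ n) v := by
        intro n
        induction n with
        | zero => rfl
        | succ n ih =>
          rw [Function.iterate_succ_apply', ih, pow_succ']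
          rfl
      rw [h2, prodMap_id_pow, hgr, LinearMap.prodMap_one]
      rfl)
    (fun v => prod_invariant Q₁ Q₂ g₁ hg v)
  refine h1.trans ?_
  have he : Nat.card {v : V₁ × V₂ // (Q₁.prod Q₂) v = 0 ∧ g₁.prodMap (1 : V₂ →ₗ[F] V₂) v = v} =
      Nat.card {v : V₂ // Q₂ v = 0} := by
    apply Nat.card_congr
    refine ⟨fun v => ⟨v.1.2, ?_⟩, fun v => ⟨(0, v.1), ?_, ?_⟩, ?_, ?_⟩
    · obtain ⟨⟨v₁, v₂⟩, h0, hv⟩ := v
      have h3 : g₁ v₁ = v₁ := congrArg Prod.fst hv
      have h4 := hfix v₁ h3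
      rw [prod_apply] at h0
      simp only at h0
      rw [h4, map_zero, zero_add] at h0
      exact h0
    · rw [prod_apply]
      simp only [map_zero, zero_add]
      exact v.2
    · rw [LinearMap.prodMap_apply]
      simp
    · rintro ⟨⟨v₁, v₂⟩, h0, hv⟩
      have h3 : g₁ v₁ = v₁ := congrArg Prod.fst hv
      have h4 := hfix v₁ h3
      apply Subtype.ext
      simp only
      rw [h4]
    · intro v
      rfl
  rw [he]

end prod

section family
variable {F : Type u} [Field F] [Fintype F] {V₂ : Type u} [AddCommGroup V₂] [Module F V₂]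
  [FiniteDimensional F V₂]

theorem polar_plusForm_inl' (k : ℕ) (i : Fin k) (y : Fin k ⊕ Fin k → F) :
    polar (⇑(plusForm k F)) (Pi.single (Sum.inl i) 1) y = y (Sum.inr i) :=
  polar_plusForm_inl k F i y

/-- the hyperbolic family of `plusForm k ⊥ Q₂` -/
theorem prod_plus_family (k : ℕ) (Q₂ : QuadraticForm F V₂) :
    IsHypFamily ((plusForm k F).prod Q₂) Q₂ (LinearMap.inr F (Fin k ⊕ Fin k → F) V₂) k
      (fun i => (Pi.single (Sum.inl i) 1, 0)) (fun i => (Pi.single (Sum.inr i) 1, 0)) := by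
  have H := plus_family k F
  refine ⟨fun i => ?_, fun i => ?_, fun i i' => ?_, fun i i' => ?_, fun i i' => ?_, fun x => ?_,
    fun i x => ?_, fun i x => ?_, ?_⟩
  · rw [prod_apply]
    simp only [map_zero, add_zero]
    exact H.qe i
  · rw [prod_apply]
    simp only [map_zero, add_zero]
    exact H.qf i
  · rw [polar_prod]
    simp only [polar_zero_left, add_zero]
    exact H.ee i i'
  · rw [polar_prod]
    simp only [polar_zero_left, add_zero]
    exact H.ff i i'
  · rw [polar_prod]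
    simp only [polar_zero_left, add_zero]
    exact H.ef i i'
  · rw [prod_apply]
    simp
  · rw [polar_prod]
    simp
  · rw [polar_prod]
    simp
  · intro v hve hvf
    refine ⟨v.2, ?_⟩
    have h1 : v.1 = 0 := by
      obtain ⟨x, hx⟩ := H.surj v.1
        (fun i => by
          have := hve i
          rw [polar_prod] at this
          simpa using this)
        (fun i => by
          have := hvf i
          rw [polar_prod] at this
          simpa using this)
      rw [← hx]
      simp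
    apply Prod.ext
    · simp [h1]
    · simp

/-- the zero count of `plusForm k ⊥ Q₂` -/
theorem card_zeros_plus_prod (k : ℕ) (Q₂ : QuadraticForm F V₂)
    (h₂ : (polarBilin Q₂).Nondegenerate) :
    Nat.card {v : (Fin k ⊕ Fin k → F) × V₂ // ((plusForm k F).prod Q₂) v = 0} =
      ZZ (Fintype.card F) (finrank F V₂) (Nat.card {x : V₂ // Q₂ x = 0}) k := by
  obtain ⟨-, h2, -⟩ := card_OG_family Q₂ h₂ k _ ((plusForm k F).prod Q₂) _ _ _
    (prod_plus_family k Q₂)
  exact h2

end family

end Cfsg.Agent.Lib.Helper43.OrthModel
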