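import Cfsg.Agent.Lib.Helper43.OrthCore
import Cfsg.Agent.Lib.Helper8.WittQuad

/-!
# Odd order semisimple isometries of a quadratic form conjugate in `GL` are conjugate in `O(Q)`
-/

set_option autoImplicit false

namespace Cfsg.Agent.Lib.Helper43.OrthConj

open Matrix QuadraticMap Cfsg.Agent.Lib.Helper43.InvolRing Cfsg.Agent.Lib.Helper43.HermSqrt

variable {F : Type*} [Field F] {n : ℕ}

/-- the Gram matrix of the polar form -/
noncomputable def gram (Q : QuadraticForm F (Fin n → F)) : Matrix (Fin n) (Fin n) F :=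
  LinearMap.BilinForm.toMatrix' (polarBilin Q)

theorem polar_eq_dot (Q : QuadraticForm F (Fin n → F)) (u v : Fin n → F) :
    polar Q u v = u ⬝ᵥ (gram Q *ᵥ v) := by
  have h := Matrix.toBilin'_toMatrix' (polarBilin Q)
  have h2 : polar Q u v = Matrix.toBilin' (gram Q) u v := by
    unfold gram
    rw [h]
    rfl
  rw [h2, Matrix.toBilin'_apply']

theorem gram_transpose (Q : QuadraticForm F (Fin n → F)) : (gram Q)ᵀ = gram Q := by
  ext i j
  unfold gram
  rw [Matrix.transpose_apply, LinearMap.BilinForm.toMatrix'_apply,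
    LinearMap.BilinForm.toMatrix'_apply]
  show polar Q _ _ = polar Q _ _
  rw [polar_comm]

theorem gram_isUnit (Q : QuadraticForm F (Fin n → F)) (hQ : (polarBilin Q).Nondegenerate) :
    IsUnit (gram Q) := by
  have h1 : (gram Q).Nondegenerate := by
    unfold gram
    exact LinearMap.BilinForm.nondegenerate_toMatrix'_iff.2 hQ
  rw [Matrix.isUnit_iff_isUnit_det]
  exact isUnit_iff_ne_zero.2 (Matrix.nondegenerate_iff_det_ne_zero.1 h1)

theorem dot_form (M G : Matrix (Fin n) (Fin n) F) (u v : Fin n → F) :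
    (M *ᵥ u) ⬝ᵥ (G *ᵥ (M *ᵥ v)) = u ⬝ᵥ ((Mᵀ * G * M) *ᵥ v) := by
  rw [← Matrix.mulVec_mulVec, ← Matrix.mulVec_mulVec, Matrix.dotProduct_mulVec u Mᵀ,
    Matrix.vecMul_transpose]

theorem gram_of_preserving (Q : QuadraticForm F (Fin n → F)) (M : Matrix (Fin n) (Fin n) F)
    (hM : ∀ v, Q (M *ᵥ v) = Q v) : Mᵀ * gram Q * M = gram Q := by
  have hpol : ∀ u v, polar Q (M *ᵥ u) (M *ᵥ v) = polar Q u v := by
    intro u v
    unfold polar
    rw [← Matrix.mulVec_add, hM, hM, hM]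
  ext i j
  have h := hpol (Pi.single i 1) (Pi.single j 1)
  rw [polar_eq_dot, polar_eq_dot, dot_form] at h
  simpa using h

theorem quad_sub_self (Q : QuadraticForm F (Fin n → F)) (M : Matrix (Fin n) (Fin n) F)
    (hM : ∀ v, Q (M *ᵥ v) = Q v) (z : Fin n → F) :
    Q (M *ᵥ z - z) = - polar Q (M *ᵥ z - z) z := by
  rw [Cfsg.Agent.Lib.Helper8.quad_sub, hM, polar_sub_left, polar_self]
  ring

/-- Witt's theorem in subspace form -/
theorem exists_extension_sub {V : Type*} [AddCommGroup V] [Module F V] [FiniteDimensional F V]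
    (Q : QuadraticForm F V) (hQ : (polarBilin Q).Nondegenerate) (W : Submodule F V)
    (ψ : V →ₗ[F] V) (hψ : LinearMap.ker ψ = ⊥)
    (hpol : ∀ u ∈ W, ∀ v ∈ W, polar Q (ψ u) (ψ v) = polar Q u v)
    (hQψ : ∀ w ∈ W, Q (ψ w) = Q w) :
    ∃ g₀ : V ≃ₗ[F] V, (∀ v, Q (g₀ v) = Q v) ∧ ∀ w ∈ W, g₀ w = ψ w := by
  set bW := Module.finBasis F W with hbW
  have hxs : LinearIndependent F (fun i => ((bW i : W) : V)) :=
    bW.linearIndependent.map' W.subtype (Submodule.ker_subtype W)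
  have hys : LinearIndependent F (fun i => ψ ((bW i : W) : V)) := hxs.map' ψ hψ
  obtain ⟨g₀, hg₀Q, hg₀x⟩ := Cfsg.Agent.Lib.Helper8.witt_family_quad Q hQ _
    (fun i => ((bW i : W) : V)) (fun i => ψ ((bW i : W) : V)) hxs hys
    (fun i => hQψ _ (bW i).2) (fun i j => hpol _ (bW i).2 _ (bW j).2)
  refine ⟨g₀, hg₀Q, ?_⟩
  intro w hw
  have h1 : (g₀ : V →ₗ[F] V) ∘ₗ W.subtype = ψ ∘ₗ W.subtype := by
    apply bW.ext
    intro i
    simp only [LinearMap.comp_apply, Submodule.subtype_apply, LinearEquiv.coe_coe]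
    exact hg₀x i
  have := LinearMap.congr_fun h1 ⟨w, hw⟩
  simpa using this

variable [Fintype F]

theorem exists_isometry_conj (Q : QuadraticForm F (Fin n → F)) (hQ : (polarBilin Q).Nondegenerate)
    (a a' b P P' : Matrix (Fin n) (Fin n) F) (haa' : a * a' = 1) (hPP' : P * P' = 1)
    (ha : ∀ v, Q (a *ᵥ v) = Q v) (hb : ∀ v, Q (b *ᵥ v) = Q v) (hP : P * a = b * P) (k : ℕ)
    (hN : ((2 * k + 1 : ℕ) : F) ≠ 0) (haN : a ^ (2 * k + 1) = 1) :
    ∃ g g' : Matrix (Fin n) (Fin n) F, g * g' = 1 ∧ (∀ v, Q (g *ᵥ v) = Q v) ∧ g * a = b * g := by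
  have ha'a : a' * a = 1 := mul_eq_one_comm.1 haa'
  have hP'P : P' * P = 1 := mul_eq_one_comm.1 hPP'
  obtain ⟨Gu, hGu⟩ := gram_isUnit Q hQ
  have hG : gram Q * ((Gu⁻¹ : (Matrix (Fin n) (Fin n) F)ˣ) : Matrix (Fin n) (Fin n) F) = 1 := by
    rw [← hGu]
    exact Gu.mul_inv
  have hGs := gram_transpose Q
  -- the second form
  have hG's : (Pᵀ * gram Q * P)ᵀ = Pᵀ * gram Q * P := by
    rw [Matrix.transpose_mul, Matrix.transpose_mul, Matrix.transpose_transpose, hGs, mul_assoc]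
  have hG' : (Pᵀ * gram Q * P) *
      (P' * ((Gu⁻¹ : (Matrix (Fin n) (Fin n) F)ˣ) : Matrix (Fin n) (Fin n) F) * P'ᵀ) = 1 := by
    calc (Pᵀ * gram Q * P) *
          (P' * ((Gu⁻¹ : (Matrix (Fin n) (Fin n) F)ˣ) : Matrix (Fin n) (Fin n) F) * P'ᵀ)
        = Pᵀ * gram Q * (P * P') *
            ((Gu⁻¹ : (Matrix (Fin n) (Fin n) F)ˣ) : Matrix (Fin n) (Fin n) F) * P'ᵀ := by
          simp only [mul_assoc]
      _ = Pᵀ * (gram Q * ((Gu⁻¹ : (Matrix (Fin n) (Fin n) F)ˣ) : Matrix (Fin n) (Fin n) F)) *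
            P'ᵀ := by rw [hPP', mul_one]; simp only [mul_assoc]
      _ = (P' * P)ᵀ := by rw [hG, mul_one, Matrix.transpose_mul]
      _ = 1 := by rw [hP'P, Matrix.transpose_one]
  have haG := gram_of_preserving Q a ha
  have hbG := gram_of_preserving Q b hb
  have haG' : aᵀ * (Pᵀ * gram Q * P) * a = Pᵀ * gram Q * P := by
    calc aᵀ * (Pᵀ * gram Q * P) * a = (P * a)ᵀ * gram Q * (P * a) := by
          rw [Matrix.transpose_mul]; simp only [mul_assoc]
      _ = Pᵀ * (bᵀ * gram Q * b) * P := by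
          rw [hP, Matrix.transpose_mul]; simp only [mul_assoc]
      _ = Pᵀ * gram Q * P := by rw [hbG]
  obtain ⟨x, x', hxx', hxa, hx⟩ := core (gram Q)
    ((Gu⁻¹ : (Matrix (Fin n) (Fin n) F)ˣ) : Matrix (Fin n) (Fin n) F) (Pᵀ * gram Q * P)
    (P' * ((Gu⁻¹ : (Matrix (Fin n) (Fin n) F)ˣ) : Matrix (Fin n) (Fin n) F) * P'ᵀ) a a' hG hGs
    hG's hG' haa' haG haG' k hN haN
  have hpolM : ∀ (M : Matrix (Fin n) (Fin n) F), (∀ v, Q (M *ᵥ v) = Q v) → ∀ u v,
      polar Q (M *ᵥ u) (M *ᵥ v) = polar Q u v := by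
    intro M hM u v
    unfold polar
    rw [← Matrix.mulVec_add, hM, hM, hM]
  -- commutation
  have hx'x : x' * x = 1 := mul_eq_one_comm.1 hxx'
  have hx'a : x' * a = a * x' := by
    calc x' * a = x' * a * (x * x') := by rw [hxx', mul_one]
      _ = x' * (a * x) * x' := by simp only [mul_assoc]
      _ = (x' * x) * a * x' := by rw [← hxa]; simp only [mul_assoc]
      _ = a * x' := by rw [hx'x, one_mul]
  have hx'e : x' * (1 - avg F (2 * k + 1) a) = (1 - avg F (2 * k + 1) a) * x' := by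
    rw [mul_sub, sub_mul, mul_one, one_mul, avg_commute _ a x' hx'a]
  have hae : a * (1 - avg F (2 * k + 1) a) = (1 - avg F (2 * k + 1) a) * a := by
    rw [mul_sub, sub_mul, mul_one, one_mul, avg_commute _ a a rfl]
  have hee : (1 - avg F (2 * k + 1) a) * (1 - avg F (2 * k + 1) a) = 1 - avg F (2 * k + 1) a := by
    rw [mul_sub, sub_mul, sub_mul, one_mul, mul_one, one_mul, avg_mul_avg _ hN a haN]
    abel
  have he1 : 1 - avg F (2 * k + 1) a = hh F (2 * k + 1) a * (a - 1) := one_sub_avg _ hN a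
  have he2 : 1 - avg F (2 * k + 1) a = (a - 1) * hh F (2 * k + 1) a := by
    rw [he1]
    symm
    apply hh_commute
    rw [sub_mul, mul_sub, one_mul, mul_one]
  have he3 : (1 - avg F (2 * k + 1) a) * (a - 1) = a - 1 := by
    rw [sub_mul, one_mul, mul_sub, mul_one, avg_mul _ a haN, sub_self, sub_zero]
  -- the map `ψ`
  have hψψ' : (P * x') * (x * P') = 1 := by
    calc (P * x') * (x * P') = P * (x' * x) * P' := by simp only [mul_assoc]
      _ = 1 := by rw [hx'x, mul_one, hPP']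
  have hψ'ψ : (x * P') * (P * x') = 1 := mul_eq_one_comm.1 hψψ'
  have hψa : (P * x') * a = b * (P * x') := by
    calc (P * x') * a = P * (x' * a) := by rw [mul_assoc]
      _ = (P * a) * x' := by rw [hx'a, mul_assoc]
      _ = b * (P * x') := by rw [hP, mul_assoc]
  have hkey : (P * x')ᵀ * gram Q * (P * x') * (1 - avg F (2 * k + 1) a) =
      gram Q * (1 - avg F (2 * k + 1) a) := by
    calc (P * x')ᵀ * gram Q * (P * x') * (1 - avg F (2 * k + 1) a)
        = x'ᵀ * (Pᵀ * gram Q * P) * (x' * (1 - avg F (2 * k + 1) a)) := by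
          rw [Matrix.transpose_mul]; simp only [mul_assoc]
      _ = x'ᵀ * ((Pᵀ * gram Q * P) * (1 - avg F (2 * k + 1) a)) * x' := by
          rw [hx'e]; simp only [mul_assoc]
      _ = x'ᵀ * (xᵀ * gram Q * x * (1 - avg F (2 * k + 1) a)) * x' := by rw [hx]
      _ = (x * x')ᵀ * gram Q * (x * (x' * (1 - avg F (2 * k + 1) a))) := by
          rw [Matrix.transpose_mul, hx'e]; simp only [mul_assoc]
      _ = gram Q * (1 - avg F (2 * k + 1) a) := by
          rw [← mul_assoc x, hxx', Matrix.transpose_one, one_mul, one_mul]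
  have hpol : ∀ u v : Fin n → F, (1 - avg F (2 * k + 1) a) *ᵥ v = v →
      polar Q ((P * x') *ᵥ u) ((P * x') *ᵥ v) = polar Q u v := by
    intro u v hv
    rw [polar_eq_dot, polar_eq_dot, dot_form]
    congr 1
    calc ((P * x')ᵀ * gram Q * (P * x')) *ᵥ v
        = ((P * x')ᵀ * gram Q * (P * x')) *ᵥ ((1 - avg F (2 * k + 1) a) *ᵥ v) := by rw [hv]
      _ = ((P * x')ᵀ * gram Q * (P * x') * (1 - avg F (2 * k + 1) a)) *ᵥ v := by
          rw [Matrix.mulVec_mulVec]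
      _ = (gram Q * (1 - avg F (2 * k + 1) a)) *ᵥ v := by rw [hkey]
      _ = gram Q *ᵥ v := by rw [← Matrix.mulVec_mulVec, hv]
  have hQψ : ∀ w : Fin n → F, (1 - avg F (2 * k + 1) a) *ᵥ w = w →
      Q ((P * x') *ᵥ w) = Q w := by
    intro w hw
    have hwz : w = a *ᵥ (hh F (2 * k + 1) a *ᵥ w) - hh F (2 * k + 1) a *ᵥ w := by
      conv_lhs => rw [← hw, he2, ← Matrix.mulVec_mulVec, Matrix.sub_mulVec, Matrix.one_mulVec]
    have hψw : (P * x') *ᵥ w = b *ᵥ ((P * x') *ᵥ (hh F (2 * k + 1) a *ᵥ w)) -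
        (P * x') *ᵥ (hh F (2 * k + 1) a *ᵥ w) := by
      conv_lhs => rw [hwz, Matrix.mulVec_sub, Matrix.mulVec_mulVec, hψa, ← Matrix.mulVec_mulVec]
    have h1 := quad_sub_self Q b hb ((P * x') *ᵥ (hh F (2 * k + 1) a *ᵥ w))
    rw [← hψw] at h1
    have h2 := quad_sub_self Q a ha (hh F (2 * k + 1) a *ᵥ w)
    rw [← hwz] at h2
    rw [h1, h2, polar_comm, hpol _ w hw, polar_comm]
  -- the subspace `W = range e`
  have hW : ∀ w ∈ LinearMap.range (Matrix.toLin' (1 - avg F (2 * k + 1) a)),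
      (1 - avg F (2 * k + 1) a) *ᵥ w = w := by
    rintro w ⟨z, rfl⟩
    rw [Matrix.toLin'_apply, Matrix.mulVec_mulVec, hee]
  have hψinj : LinearMap.ker (Matrix.toLin' (P * x')) = ⊥ := by
    rw [LinearMap.ker_eq_bot]
    intro u v huv
    rw [Matrix.toLin'_apply, Matrix.toLin'_apply] at huv
    have := congrArg (fun y => (x * P') *ᵥ y) huv
    simp only [Matrix.mulVec_mulVec, hψ'ψ, Matrix.one_mulVec] at this
    exact this
  obtain ⟨g₀, hg₀Q, hg₀W'⟩ := exists_extension_sub Q hQ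
    (LinearMap.range (Matrix.toLin' (1 - avg F (2 * k + 1) a))) (Matrix.toLin' (P * x')) hψinj
    (fun u _ v hv => by
      rw [Matrix.toLin'_apply, Matrix.toLin'_apply]
      exact hpol u v (hW v hv))
    (fun w hw => by
      rw [Matrix.toLin'_apply]
      exact hQψ w (hW w hw))
  have hg₀W : ∀ w ∈ LinearMap.range (Matrix.toLin' (1 - avg F (2 * k + 1) a)),
      g₀ w = (P * x') *ᵥ w := by
    intro w hw
    rw [hg₀W' w hw, Matrix.toLin'_apply]
  have hg₀pol : ∀ u v, polar Q (g₀ u) (g₀ v) = polar Q u v :=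
    Cfsg.Agent.Lib.Helper8.polar_of_preserving Q (g₀ : (Fin n → F) →ₗ[F] (Fin n → F)) hg₀Q
  have hbb' : b * (P * a' * P') = 1 := by
    calc b * (P * a' * P') = (b * P) * a' * P' := by simp only [mul_assoc]
      _ = P * (a * a') * P' := by rw [← hP]; simp only [mul_assoc]
      _ = 1 := by rw [haa', mul_one, hPP']
  have hmain : ∀ v, g₀ (a *ᵥ v) = b *ᵥ g₀ v := by
    intro v
    have hv : v = avg F (2 * k + 1) a *ᵥ v + (1 - avg F (2 * k + 1) a) *ᵥ v := by
      rw [← Matrix.add_mulVec, add_sub_cancel, Matrix.one_mulVec]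
    have hwW : (1 - avg F (2 * k + 1) a) *ᵥ v ∈
        LinearMap.range (Matrix.toLin' (1 - avg F (2 * k + 1) a)) :=
      ⟨v, Matrix.toLin'_apply _ v⟩
    have hau : a *ᵥ (avg F (2 * k + 1) a *ᵥ v) = avg F (2 * k + 1) a *ᵥ v := by
      rw [Matrix.mulVec_mulVec, mul_avg _ a haN]
    have hawW : a *ᵥ ((1 - avg F (2 * k + 1) a) *ᵥ v) ∈
        LinearMap.range (Matrix.toLin' (1 - avg F (2 * k + 1) a)) :=
      ⟨a *ᵥ v, by rw [Matrix.toLin'_apply, Matrix.mulVec_mulVec, Matrix.mulVec_mulVec, hae]⟩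
    have h1 : g₀ (a *ᵥ ((1 - avg F (2 * k + 1) a) *ᵥ v)) =
        b *ᵥ g₀ ((1 - avg F (2 * k + 1) a) *ᵥ v) := by
      rw [hg₀W _ hawW, hg₀W _ hwW]
      calc (P * x') *ᵥ (a *ᵥ ((1 - avg F (2 * k + 1) a) *ᵥ v))
          = ((P * x') * a) *ᵥ ((1 - avg F (2 * k + 1) a) *ᵥ v) := Matrix.mulVec_mulVec _ _ _
        _ = (b * (P * x')) *ᵥ ((1 - avg F (2 * k + 1) a) *ᵥ v) := by rw [hψa]
        _ = b *ᵥ ((P * x') *ᵥ ((1 - avg F (2 * k + 1) a) *ᵥ v)) :=
            (Matrix.mulVec_mulVec _ _ _).symm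
    have h2 : b *ᵥ g₀ (avg F (2 * k + 1) a *ᵥ v) = g₀ (avg F (2 * k + 1) a *ᵥ v) := by
      have hzero : ∀ z, polar Q (b *ᵥ g₀ (avg F (2 * k + 1) a *ᵥ v) -
          g₀ (avg F (2 * k + 1) a *ᵥ v)) z = 0 := by
        intro z
        have hz : z = b *ᵥ ((P * a' * P') *ᵥ z) := by
          rw [Matrix.mulVec_mulVec, hbb', Matrix.one_mulVec]
        -- `b z₁ - z₁ = ψ w₁`
        have hw₁ : b *ᵥ ((P * a' * P') *ᵥ z) - (P * a' * P') *ᵥ z =
            (P * x') *ᵥ ((a - 1) *ᵥ ((x * P') *ᵥ ((P * a' * P') *ᵥ z))) := by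
          have h5 : (P * x') * (a - 1) * (x * P') = b - 1 := by
            rw [mul_sub, mul_one, sub_mul, hψa, mul_assoc, hψψ', mul_one]
          calc b *ᵥ ((P * a' * P') *ᵥ z) - (P * a' * P') *ᵥ z
              = (b - 1) *ᵥ ((P * a' * P') *ᵥ z) := by rw [Matrix.sub_mulVec, Matrix.one_mulVec]
            _ = ((P * x') * (a - 1) * (x * P')) *ᵥ ((P * a' * P') *ᵥ z) := by rw [h5]
            _ = (P * x') *ᵥ ((a - 1) *ᵥ ((x * P') *ᵥ ((P * a' * P') *ᵥ z))) := by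
                simp only [Matrix.mulVec_mulVec, mul_assoc]
        have hw₁W : (a - 1) *ᵥ ((x * P') *ᵥ ((P * a' * P') *ᵥ z)) ∈
            LinearMap.range (Matrix.toLin' (1 - avg F (2 * k + 1) a)) :=
          ⟨(a - 1) *ᵥ ((x * P') *ᵥ ((P * a' * P') *ᵥ z)), by
            rw [Matrix.toLin'_apply, Matrix.mulVec_mulVec, he3]⟩
        have hstep : polar Q (g₀ (avg F (2 * k + 1) a *ᵥ v))
            (b *ᵥ ((P * a' * P') *ᵥ z) - (P * a' * P') *ᵥ z) = 0 := by
          rw [hw₁, ← hg₀W _ hw₁W, hg₀pol, Matrix.sub_mulVec, Matrix.one_mulVec, polar_sub_right]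
          nth_rewrite 1 [← hau]
          rw [hpolM a ha, sub_self]
        rw [hz, polar_sub_left, hpolM b hb, ← polar_sub_right, ← neg_sub, polar_neg_right, hstep,
          neg_zero]
      exact sub_eq_zero.1 (hQ.1 _ hzero)
    conv_lhs => rw [hv]
    conv_rhs => rw [hv]
    rw [Matrix.mulVec_add, map_add, map_add, Matrix.mulVec_add, hau, h1, h2]
  refine ⟨LinearMap.toMatrix' (g₀ : (Fin n → F) →ₗ[F] (Fin n → F)),
    LinearMap.toMatrix' (g₀.symm : (Fin n → F) →ₗ[F] (Fin n → F)), ?_, ?_, ?_⟩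
  · rw [← LinearMap.toMatrix'_comp]
    simp
  · intro v
    rw [LinearMap.toMatrix'_mulVec]
    exact hg₀Q v
  · apply Matrix.toLin'.injective
    apply LinearMap.ext
    intro v
    rw [Matrix.toLin'_apply, Matrix.toLin'_apply, ← Matrix.mulVec_mulVec, ← Matrix.mulVec_mulVec,
      LinearMap.toMatrix'_mulVec, LinearMap.toMatrix'_mulVec]
    exact hmain v

end Cfsg.Agent.Lib.Helper43.OrthConj
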