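import Mathlib
import Cfsg.Agent.Lib.Helper18.RtNU
import Cfsg.Agent.Lib.Helper12.RtNonsplitC
import Cfsg.Agent.Lib.Helper41.SL2Count

/-! # Rc hive (helper52, S2357), round 2, leaf RC-C3O `phi_orderOf_three`. -/

set_option autoImplicit false

namespace Cfsg.Agent.Lib.Helper52.Rc

open Cfsg.Agent.Lib.Helper12.Rt Cfsg.Agent.Lib.Helper12.ReeOut Cfsg.Agent.Lib.Helper12.ReeInv Matrix

section C3
variable {K : Type*} [Field K] [CharP K 3] {G : Type*} [Group G]

/-- RC-C3O -/
theorem phi_orderOf_three (I : InvData K G) (s : SpecialLinearGroup (Fin 2) K) (hs : orderOf s = 3) :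
    orderOf (I.φ s) = 3 ∧ I.a * I.φ s = I.φ s * I.a := by
  refine ⟨?_, I.hcomm s⟩
  have : Fact (Nat.Prime 3) := ⟨Nat.prime_three⟩
  apply orderOf_eq_prime
  · have h3 : s ^ 3 = 1 := by rw [← hs]; exact pow_orderOf_eq_one s
    rw [← map_pow, h3, map_one]
  · intro h1
    rcases InvData.center_cases s ((I.hker s).1 h1) with h | h
    · rw [h, orderOf_one] at hs
      omega
    · have hsq : negI K * negI K = 1 := by
        apply Subtype.ext
        show (negI K).1 * (negI K).1 = 1
        rw [negI_val, Matrix.mul_fin_two, Matrix.one_fin_two]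
        simp
      have h2 : s ^ 2 = 1 := by rw [h, pow_two]; exact hsq
      have h4 := orderOf_dvd_of_pow_eq_one h2
      rw [hs] at h4
      omega

end C3

end Cfsg.Agent.Lib.Helper52.Rc
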