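import Mathlib
import Cfsg.Agent.Lib.Helper18.RtNU
import Cfsg.Agent.Lib.Helper12.RtNonsplitC
import Cfsg.Agent.Lib.Helper41.SL2Count

/-! # Rc hive (helper52, S2357), round 2, leaf RC-UCUBE `u_cube`: the cube map of `U`. -/

set_option autoImplicit false

namespace Cfsg.Agent.Lib.Helper52.Rc

open Cfsg.Agent.Lib.Helper12.Rt Cfsg.Agent.Lib.Helper12.ReeOut Cfsg.Agent.Lib.Helper12.ReeInv Matrix

section U
variable {K : Type*} [Field K] [Fintype K] {G : Type*} [Group G] {m : ℕ}

/-- RC-UCUBE -/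
theorem u_cube (R : ReeOutData K G m) (p : K × K × K) :
    R.u p ^ 3 = R.u (0, 0, -(p.1 ^ (3 ^ m * 3 + 2))) := by
  have h3 : (3 : K) = 0 := fact_three R.hK
  obtain ⟨t, a, b⟩ := p
  rw [pow_succ, pow_two, R.u_mul, R.u_mul]
  congr 1
  unfold mulP
  simp only
  refine Prod.ext ?_ (Prod.ext ?_ ?_)
  · simp only
    linear_combination t * h3
  · simp only
    linear_combination (a - t ^ (3 ^ m * 3) * t) * h3
  · simp only
    rw [pow_add]
    linear_combination (b - t * a) * h3

end U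

end Cfsg.Agent.Lib.Helper52.Rc
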