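import Mathlib

set_option autoImplicit false

namespace Cfsg.Agent.Lib.Helper43

open Polynomial

open scoped DirectSum

/-- For an endomorphism of finite order prime to the characteristic of a finite field, acting on a
nonzero space, every nonzero scalar is the determinant of a commuting endomorphism. -/
theorem exists_commuting_det {K V : Type*} [Field K] [Finite K] [AddCommGroup V] [Module K V]
    [FiniteDimensional K V] [Nontrivial V] (φ : V →ₗ[K] V) (k : ℕ) (hk : (k : K) ≠ 0)
    (hφ : φ ^ k = 1) (d : K) :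
    ∃ z : V →ₗ[K] V, z ∘ₗ φ = φ ∘ₗ z ∧ LinearMap.det z = d := by
  classical
  have htors : Module.IsTorsion K[X] (Module.AEval' φ) :=
    Module.AEval.isTorsion_of_finiteDimensional K V φ
  obtain ⟨ι, _, p, hp, e, ⟨E⟩⟩ := Module.equiv_directSum_of_isTorsion htors
  let T : V → ∀ i, AdjoinRoot (p i ^ e i) := fun v i => (E (Module.AEval'.of φ v)) i
  have T_add : ∀ v w i, T (v + w) i = T v i + T w i := by
    intro v w i
    show (E (Module.AEval'.of φ (v + w))) i = _
    rw [map_add, map_add, DirectSum.add_apply]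
    rfl
  have T_smul : ∀ (c : K) v i, T (c • v) i = c • T v i := by
    intro c v i
    show (E (Module.AEval'.of φ (c • v))) i = _
    rw [map_smul, ← algebraMap_smul K[X] c (Module.AEval'.of φ v), map_smul, DirectSum.smul_apply,
      algebraMap_smul]
    rfl
  have T_X : ∀ v i, T (φ v) i = AdjoinRoot.root (p i ^ e i) * T v i := by
    intro v i
    simp only [T]
    rw [← Module.AEval'.X_smul_of, map_smul, DirectSum.smul_apply, Algebra.smul_def]
    rfl
  have T_pow : ∀ (j : ℕ) v i, T ((φ ^ j) v) i = AdjoinRoot.root (p i ^ e i) ^ j * T v i := by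
    intro j
    induction j with
    | zero => intro v i; simp
    | succ j ih =>
      intro v i
      rw [pow_succ', Module.End.mul_apply, T_X, ih, pow_succ', mul_assoc]
  have T_inj : ∀ v, (∀ i, T v i = 0) → v = 0 := by
    intro v hv
    have h1 : E (Module.AEval'.of φ v) = 0 := by
      apply DFinsupp.ext
      intro i
      exact hv i
    have h2 := E.injective (h1.trans (map_zero E).symm)
    exact (Module.AEval'.of φ).injective (h2.trans (map_zero _).symm)
  -- the section
  let SQ : ∀ i, (K[X] ⧸ K[X] ∙ p i ^ e i) → V := fun i b =>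
    (Module.AEval'.of φ).symm (E.symm (DirectSum.of (fun i => K[X] ⧸ K[X] ∙ p i ^ e i) i b))
  have TSQ_same : ∀ i (b : K[X] ⧸ K[X] ∙ p i ^ e i),
      (E (Module.AEval'.of φ (SQ i b))) i = b := by
    intro i b
    simp only [SQ, LinearEquiv.apply_symm_apply]
    exact DirectSum.of_eq_same (β := fun i => K[X] ⧸ K[X] ∙ p i ^ e i) i b
  have SQ_add : ∀ i (b b' : K[X] ⧸ K[X] ∙ p i ^ e i), SQ i (b + b') = SQ i b + SQ i b' := by
    intro i b b'
    simp only [SQ]
    rw [map_add, map_add, map_add]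
  have SQ_Psmul : ∀ i (r : K[X]) (b : K[X] ⧸ K[X] ∙ p i ^ e i),
      SQ i (r • b) = (Module.AEval'.of φ).symm (r • Module.AEval'.of φ (SQ i b)) := by
    intro i r b
    simp only [SQ]
    have h2 : DirectSum.of (fun i => K[X] ⧸ K[X] ∙ p i ^ e i) i (r • b) =
        r • DirectSum.of (fun i => K[X] ⧸ K[X] ∙ p i ^ e i) i b := by
      rw [← DirectSum.lof_eq_of K[X], ← DirectSum.lof_eq_of K[X], map_smul]
    rw [h2, map_smul, LinearEquiv.apply_symm_apply]
  have SQ_smul : ∀ i (c : K) (b : K[X] ⧸ K[X] ∙ p i ^ e i), SQ i (c • b) = c • SQ i b := by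
    intro i c b
    have h1 : c • b = (algebraMap K K[X] c) • b := by
      rw [algebraMap_smul]
    rw [h1, SQ_Psmul, algebraMap_smul, map_smul, LinearEquiv.symm_apply_apply]
  have SQ_X : ∀ i (b : K[X] ⧸ K[X] ∙ p i ^ e i), SQ i ((X : K[X]) • b) = φ (SQ i b) := by
    intro i b
    rw [SQ_Psmul, Module.AEval'.of_symm_X_smul, LinearEquiv.symm_apply_apply]
  have SQ_root : ∀ i (b : K[X] ⧸ K[X] ∙ p i ^ e i),
      SQ i ((Ideal.Quotient.mk (K[X] ∙ p i ^ e i) X) * b) = φ (SQ i b) := by
    intro i b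
    rw [← SQ_X]
    congr 1
  let S : ∀ i, AdjoinRoot (p i ^ e i) → V := fun i b => SQ i b
  have TS_same : ∀ i (b : AdjoinRoot (p i ^ e i)), T (S i b) i = b := fun i b => TSQ_same i b
  have S_add : ∀ i (b b' : AdjoinRoot (p i ^ e i)), S i (b + b') = S i b + S i b' :=
    fun i b b' => SQ_add i b b'
  have S_smul : ∀ i (c : K) (b : AdjoinRoot (p i ^ e i)), S i (c • b) = c • S i b :=
    fun i c b => SQ_smul i c b
  have S_root : ∀ i (b : AdjoinRoot (p i ^ e i)),
      S i (AdjoinRoot.root (p i ^ e i) * b) = φ (S i b) := fun i b => SQ_root i b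
  -- a nontrivial summand
  obtain ⟨v₀, hv₀⟩ := exists_ne (0 : V)
  obtain ⟨i₀, hi₀⟩ : ∃ i, T v₀ i ≠ 0 := by
    by_contra h
    push Not at h
    exact hv₀ (T_inj v₀ h)
  have hdvd : p i₀ ^ e i₀ ∣ X ^ k - 1 := by
    rw [← AdjoinRoot.mk_eq_zero]
    have h1 := T_pow k (S i₀ 1) i₀
    rw [hφ, Module.End.one_apply, TS_same] at h1
    have h1' : (1 : AdjoinRoot (p i₀ ^ e i₀)) = AdjoinRoot.root (p i₀ ^ e i₀) ^ k := by
      rw [← mul_one (AdjoinRoot.root (p i₀ ^ e i₀) ^ k)]
      exact h1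
    clear h1
    rw [map_sub, map_pow, AdjoinRoot.mk_X, map_one, ← h1', sub_self]
  have hk0 : k ≠ 0 := by
    rintro rfl
    simp at hk
  have hsqf : Squarefree (X ^ k - 1 : K[X]) := by
    have : (X ^ k - 1 : K[X]) = X ^ k - C 1 := by simp
    rw [this]
    exact (Polynomial.separable_X_pow_sub_C (1 : K) hk one_ne_zero).squarefree
  have he1 : e i₀ = 1 := by
    have hne0 : e i₀ ≠ 0 := by
      intro h0
      apply hi₀
      have hunit : IsUnit (p i₀ ^ e i₀) := by rw [h0, pow_zero]; exact isUnit_one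
      obtain ⟨s, hs⟩ := AdjoinRoot.mk_surjective (T v₀ i₀)
      rw [← hs, AdjoinRoot.mk_eq_zero]
      exact hunit.dvd
    by_contra hne1
    have h2 : 2 ≤ e i₀ := by omega
    have h3 : p i₀ * p i₀ ∣ X ^ k - 1 := by
      refine dvd_trans ?_ hdvd
      rw [← pow_two]
      exact pow_dvd_pow _ h2
    exact (hp i₀).not_isUnit (hsqf _ h3)
  have : Fact (Irreducible (p i₀ ^ e i₀)) := ⟨by rw [he1, pow_one]; exact hp i₀⟩
  have hg0 : p i₀ ^ e i₀ ≠ 0 := pow_ne_zero _ (hp i₀).ne_zero
  have : Module.Finite K (AdjoinRoot (p i₀ ^ e i₀)) := (AdjoinRoot.powerBasis hg0).finite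
  have : Finite (AdjoinRoot (p i₀ ^ e i₀)) := Module.finite_of_finite K
  obtain ⟨a, ha⟩ := FiniteField.norm_surjective K (AdjoinRoot (p i₀ ^ e i₀)) d
  let κ : V →ₗ[K] AdjoinRoot (p i₀ ^ e i₀) :=
    { toFun := fun v => T v i₀
      map_add' := fun v w => T_add v w i₀
      map_smul' := fun c v => T_smul c v i₀ }
  let σ : AdjoinRoot (p i₀ ^ e i₀) →ₗ[K] V :=
    { toFun := fun b => S i₀ b
      map_add' := fun b b' => S_add i₀ b b'
      map_smul' := fun c b => S_smul i₀ c b }
  let m : AdjoinRoot (p i₀ ^ e i₀) →ₗ[K] AdjoinRoot (p i₀ ^ e i₀) := LinearMap.mulLeft K (a - 1)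
  have hκσ : κ ∘ₗ σ = LinearMap.id := by
    ext b
    exact TS_same i₀ b
  refine ⟨1 + σ ∘ₗ m ∘ₗ κ, ?_, ?_⟩
  · ext v
    simp only [LinearMap.comp_apply, LinearMap.add_apply, Module.End.one_apply, map_add]
    congr 1
    show S i₀ ((a - 1) * T (φ v) i₀) = φ (S i₀ ((a - 1) * T v i₀))
    rw [T_X, ← S_root]
    congr 1
    ring
  · let bV := Module.finBasis K V
    let bL := Module.finBasis K (AdjoinRoot (p i₀ ^ e i₀))
    rw [← LinearMap.det_toMatrix bV, map_add, LinearMap.toMatrix_comp bV bL bV,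
      Module.End.one_eq_id, LinearMap.toMatrix_id, Matrix.det_one_add_mul_comm,
      ← LinearMap.toMatrix_comp, LinearMap.comp_assoc, hκσ, LinearMap.comp_id,
      ← LinearMap.toMatrix_id bL, ← map_add, LinearMap.det_toMatrix, ← ha, Algebra.norm_apply]
    congr 1
    ext b
    show b + (a - 1) * b = a * b
    ring

end Cfsg.Agent.Lib.Helper43
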