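import Cfsg.Agent.Lib.Helper76.SlDefs
import Cfsg.Agent.Lib.Helper43.SlK2Defs
import Cfsg.Agent.Lib.Helper3.CharOps
import Cfsg.Agent.Lib.Helper3.Degree

/-! # Sl hive (S2332, helper76), sub-hive SL-K2 (helper43), part CLS (core): the conjugacy class of the root
element `tv` is the set of transvection matrices, given K2-CONJ and K2-TRANS as hypotheses. -/

set_option autoImplicit false

namespace Cfsg.Agent.Lib.Helper76.Sl

open Matrix Cfsg

variable {F : Type*} [Field F] [Fintype F] [DecidableEq F]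

/-- SL-K2-CLS, core -/
theorem k2cls_index_core (m : ℕ)
    (hconj : ∀ g : Gm F m, (g * tv F m * g⁻¹).1 ∈ TvSet F m)
    (htrans : ∀ p : TvPair F m, ∃ g : Gm F m, (g * tv F m * g⁻¹).1 = tvMat p) :
    (Subgroup.centralizer ({tv F m} : Set (Gm F m))).index = Nat.card (TvSet F m) := by
  rw [Cfsg.Agent.Lib.Helper3.index_centralizer_eq_ncard, Nat.card_coe_set_eq]
  have himg : TvSet F m = (fun x : Gm F m => x.1) '' {x : Gm F m | IsConj x (tv F m)} := by
    ext A
    constructor
    · rintro ⟨p, rfl⟩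
      obtain ⟨g, hg⟩ := htrans p
      refine ⟨g * tv F m * g⁻¹, ?_, hg⟩
      show IsConj (g * tv F m * g⁻¹) (tv F m)
      rw [isConj_comm, isConj_iff]
      exact ⟨g, rfl⟩
    · rintro ⟨x, hx, rfl⟩
      have hx' : IsConj (tv F m) x := isConj_comm.mp hx
      obtain ⟨c, hc⟩ := isConj_iff.mp hx'
      rw [← hc]
      exact hconj c
  rw [himg]
  exact (Set.ncard_image_of_injective _ (fun a b hab => Subtype.ext hab)).symm

end Cfsg.Agent.Lib.Helper76.Sl
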