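import Cfsg.Agent.Lib.Helper76.SlDefs
import Cfsg.Agent.Lib.Helper43.SlK2Defs

/-! # Sl hive (S2332, helper76), sub-hive SL-K2 (helper43), leaf CONJ: every conjugate of the root element `tv`
is a transvection matrix `1 + v fᵀ`. -/

set_option autoImplicit false

namespace Cfsg.Agent.Lib.Helper76.Sl

open Matrix Cfsg

variable {F : Type*} [Field F] [Fintype F] [DecidableEq F]

omit [Fintype F] [DecidableEq F] in
/-- the matrix of `tv` -/
theorem k2conj_tv_coe (m : ℕ) :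
    (tv F m).1 = 1 + Matrix.vecMulVec (Pi.single (0 : Fin (m + 2)) (1 : F))
      (Pi.single (Fin.last (m + 1)) (1 : F)) := by
  rw [← Matrix.single_eq_single_vecMulVec_single]
  rfl

/-- the conjugate of `tv` by `g` -/
theorem k2conj_conj_coe (m : ℕ) (g : Gm F m) :
    (g * tv F m * g⁻¹).1 = 1 + Matrix.vecMulVec (g.1 *ᵥ Pi.single (0 : Fin (m + 2)) (1 : F))
      (Pi.single (Fin.last (m + 1)) (1 : F) ᵥ* (g⁻¹).1) := by
  have hgg : g.1 * (g⁻¹).1 = 1 := by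
    rw [← Matrix.SpecialLinearGroup.coe_mul, mul_inv_cancel]
    rfl
  show g.1 * (tv F m).1 * (g⁻¹).1 = _
  rw [k2conj_tv_coe, Matrix.mul_add, Matrix.add_mul, Matrix.mul_one, hgg, Matrix.mul_vecMulVec,
    Matrix.vecMulVec_mul]

/-- SL-K2-CONJ -/
theorem k2_conj_mem (m : ℕ) (g : Gm F m) : (g * tv F m * g⁻¹).1 ∈ TvSet F m := by
  have hgg : g.1 * (g⁻¹).1 = 1 := by
    rw [← Matrix.SpecialLinearGroup.coe_mul, mul_inv_cancel]
    rfl
  have hgg' : (g⁻¹).1 * g.1 = 1 := by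
    rw [← Matrix.SpecialLinearGroup.coe_mul, inv_mul_cancel]
    rfl
  have h0l : (0 : Fin (m + 2)) ≠ Fin.last (m + 1) := by
    rw [Ne, Fin.ext_iff]; simp
  have hv : g.1 *ᵥ Pi.single (0 : Fin (m + 2)) (1 : F) ≠ 0 := by
    intro h
    have h1 := congrArg (fun w => (g⁻¹).1 *ᵥ w) h
    simp only [Matrix.mulVec_mulVec, hgg', Matrix.one_mulVec, Matrix.mulVec_zero] at h1
    have h2 := congrFun h1 0
    simp at h2
  have hf : Pi.single (Fin.last (m + 1)) (1 : F) ᵥ* (g⁻¹).1 ≠ 0 := by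
    intro h
    have h1 := congrArg (fun w => w ᵥ* g.1) h
    simp only [Matrix.vecMul_vecMul, hgg', Matrix.vecMul_one, Matrix.zero_vecMul] at h1
    have h2 := congrFun h1 (Fin.last (m + 1))
    simp at h2
  have hfv : (Pi.single (Fin.last (m + 1)) (1 : F) ᵥ* (g⁻¹).1) ⬝ᵥ
      (g.1 *ᵥ Pi.single (0 : Fin (m + 2)) (1 : F)) = 0 := by
    rw [Matrix.dotProduct_mulVec, Matrix.vecMul_vecMul, hgg', Matrix.vecMul_one]
    simp [h0l.symm, h0l]
  refine ⟨⟨(g.1 *ᵥ Pi.single (0 : Fin (m + 2)) (1 : F),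
    Pi.single (Fin.last (m + 1)) (1 : F) ᵥ* (g⁻¹).1), hv, hf, hfv⟩, ?_⟩
  rw [k2conj_conj_coe]
  rfl

end Cfsg.Agent.Lib.Helper76.Sl
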