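import Cfsg.Agent.Lib.Helper76.SlDefs
import Cfsg.Agent.Lib.Helper43.SlK2Defs

/-! # Sl hive (S2332, helper76), sub-hive SL-K2 (helper43), leaf ORB (core): `|TvSet| (q - 1) = |TvPair|`,
given the description of the fibres (K2-FIB) as a hypothesis. -/

set_option autoImplicit false

namespace Cfsg.Agent.Lib.Helper76.Sl

open Matrix Cfsg

variable {F : Type*} [Field F] [Fintype F] [DecidableEq F]

omit [Fintype F] [DecidableEq F] in
/-- rescaling a pair -/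
theorem k2orb_smul_mem {m : ℕ} (p : TvPair F m) (c : Fˣ) :
    ((c : F) • p.1.1, ((c⁻¹ : Fˣ) : F) • p.1.2).1 ≠ 0 ∧
      ((c : F) • p.1.1, ((c⁻¹ : Fˣ) : F) • p.1.2).2 ≠ 0 ∧
      ((c : F) • p.1.1, ((c⁻¹ : Fˣ) : F) • p.1.2).2 ⬝ᵥ
        ((c : F) • p.1.1, ((c⁻¹ : Fˣ) : F) • p.1.2).1 = 0 := by
  refine ⟨smul_ne_zero c.ne_zero p.2.1, smul_ne_zero (c⁻¹).ne_zero p.2.2.1, ?_⟩
  show (((c⁻¹ : Fˣ) : F) • p.1.2) ⬝ᵥ ((c : F) • p.1.1) = 0
  rw [smul_dotProduct, dotProduct_smul, p.2.2.2, smul_zero, smul_zero]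

/-- the rescaled pair -/
def k2orb_smul {m : ℕ} (p : TvPair F m) (c : Fˣ) : TvPair F m :=
  ⟨((c : F) • p.1.1, ((c⁻¹ : Fˣ) : F) • p.1.2), k2orb_smul_mem p c⟩

omit [Fintype F] [DecidableEq F] in
theorem k2orb_tvMat_smul {m : ℕ} (p : TvPair F m) (c : Fˣ) : tvMat (k2orb_smul p c) = tvMat p := by
  unfold tvMat k2orb_smul
  congr 1
  ext i j
  simp only [Matrix.vecMulVec_apply, Pi.smul_apply, smul_eq_mul]
  have : (c : F) * ((c⁻¹ : Fˣ) : F) = 1 := by rw [← Units.val_mul, mul_inv_cancel, Units.val_one]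
  calc (c : F) * p.1.1 i * (((c⁻¹ : Fˣ) : F) * p.1.2 j)
      = ((c : F) * ((c⁻¹ : Fˣ) : F)) * (p.1.1 i * p.1.2 j) := by ring
    _ = p.1.1 i * p.1.2 j := by rw [this, one_mul]

/-- SL-K2-ORB, core -/
theorem k2orb_core (m : ℕ)
    (hfib : ∀ p p' : TvPair F m, tvMat p = tvMat p' →
      ∃ c : Fˣ, p'.1.1 = (c : F) • p.1.1 ∧ p'.1.2 = ((c⁻¹ : Fˣ) : F) • p.1.2) :
    Nat.card (TvSet F m) * (Fintype.card F - 1) = Nat.card (TvPair F m) := by
  classical
  have hs : ∀ A : TvSet F m, ∃ p : TvPair F m, tvMat p = A.1 := fun A => A.2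
  choose s hs' using hs
  let f : TvSet F m × Fˣ → TvPair F m := fun x => k2orb_smul (s x.1) x.2
  have hf : ∀ x, tvMat (f x) = x.1.1 := fun x => by
    show tvMat (k2orb_smul (s x.1) x.2) = _
    rw [k2orb_tvMat_smul, hs']
  have hinj : Function.Injective f := by
    rintro ⟨A, c⟩ ⟨A', c'⟩ h
    have hA : A = A' := by
      apply Subtype.ext
      rw [← hf (A, c), ← hf (A', c'), h]
    subst hA
    have h1 : (c : F) • (s A).1.1 = (c' : F) • (s A).1.1 :=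
      congrArg (fun p : TvPair F m => p.1.1) h
    have hv : (s A).1.1 ≠ 0 := (s A).2.1
    obtain ⟨i, hi⟩ : ∃ i, (s A).1.1 i ≠ 0 := by
      by_contra hcon
      push Not at hcon
      exact hv (funext hcon)
    have h2 := congrFun h1 i
    simp only [Pi.smul_apply, smul_eq_mul] at h2
    have h3 : (c : F) = (c' : F) := mul_right_cancel₀ hi h2
    rw [Units.ext h3]
  have hsurj : Function.Surjective f := by
    intro p
    let A : TvSet F m := ⟨tvMat p, p, rfl⟩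
    obtain ⟨c, hc1, hc2⟩ := hfib (s A) p (hs' A)
    refine ⟨(A, c), ?_⟩
    apply Subtype.ext
    show ((c : F) • (s A).1.1, ((c⁻¹ : Fˣ) : F) • (s A).1.2) = p.1
    rw [← hc1, ← hc2]
  rw [← Nat.card_congr (Equiv.ofBijective f ⟨hinj, hsurj⟩), Nat.card_prod,
    Nat.card_eq_fintype_card (α := Fˣ), Fintype.card_units]

end Cfsg.Agent.Lib.Helper76.Sl
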