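import Cfsg.Agent.Lib.Helper76.SlDefs
import Cfsg.Agent.Lib.Helper43.SlK2Defs
import Cfsg.Agent.Lib.Helper43.SlK2CONJ
import Cfsg.Agent.Lib.Helper43.SlK2CLS
import Cfsg.Agent.Lib.Helper43.SlK2ORBcore
import Cfsg.Agent.Lib.Helper53.SlK2CNT
import Cfsg.Agent.Lib.Helper53.SlK2FIB
import Cfsg.Agent.Lib.Helper96.SlK2INT
import Cfsg.Agent.Lib.Helper33.SlK2AR

/-! # Sl hive (S2332, helper76), sub-hive SL-K2 (helper43): assembly of `integ`, with K2-TRANS as a hypothesis. -/

set_option autoImplicit false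

namespace Cfsg.Agent.Lib.Helper76.Sl

open Matrix Cfsg

variable {F : Type*} [Field F] [Fintype F] [DecidableEq F]

/-- SL-K2-ORB -/
theorem k2_card_tvSet (m : ℕ) :
    Nat.card (TvSet F m) * (Fintype.card F - 1) = Nat.card (TvPair F m) :=
  k2orb_core m (k2_fiber m)

/-- the class size of `tv`, given K2-TRANS -/
theorem k2core_index_eq_Ccl (m : ℕ)
    (htrans : ∀ p : TvPair F m, ∃ g : Gm F m, (g * tv F m * g⁻¹).1 = tvMat p) :
    (Subgroup.centralizer ({tv F m} : Set (Gm F m))).index = Ccl (Fintype.card F) (m + 2) := by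
  have hq : 2 ≤ Fintype.card F := Fintype.one_lt_card
  have h3 := k2_card_tvSet (F := F) m
  rw [k2_card_pairs, ← k2cls_index_core m (k2_conj_mem m) htrans,
    ← k2_npt (Fintype.card F) (m + 2) (by omega)] at h3
  unfold Ccl
  have h4 : 0 < Fintype.card F - 1 := by omega
  have h5 : (Subgroup.centralizer ({tv F m} : Set (Gm F m))).index * (Fintype.card F - 1) =
      Npt (Fintype.card F) (m + 2) * (Fintype.card F ^ (m + 2 - 1) - 1) * (Fintype.card F - 1) := by
    rw [h3, show m + 2 - 1 = m + 1 from rfl]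
    ring
  exact Nat.eq_of_mul_eq_mul_right h4 h5

/-- K2 INT, given K2-TRANS -/
theorem k2core_integ (m : ℕ)
    (htrans : ∀ p : TvPair F m, ∃ g : Gm F m, (g * tv F m * g⁻¹).1 = tvMat p)
    (χ : Gm F m → ℂ) (hχ : IsIrrCharacter (Gm F m) χ) (d : ℕ) (z : ℤ)
    (hd : χ 1 = d) (hz : χ (tv F m) = z) : (d : ℤ) ∣ (Ccl (Fintype.card F) (m + 2) : ℤ) * z := by
  have h1 := k2_int χ hχ (tv F m) d z hd hz
  rw [k2core_index_eq_Ccl m htrans] at h1
  exact h1

end Cfsg.Agent.Lib.Helper76.Sl
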