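import Cfsg.Agent.Lib.Helper76.SlDefs
import Cfsg.Agent.Lib.Helper3.CharOps
import Cfsg.Agent.Lib.Helper43.SlK2core
import Cfsg.Agent.Lib.Helper68.SlK2TRANS

/-! # Sl hive (S2332, helper76), leaf K2 `integ` (sub-hive of helper43; leaves by helper53, helper68, helper96,
helper33): the degree of an irreducible character of `SL_{m+2}(F)` divides `|cl(tv)| χ(tv)`, and the class of
the root element `tv` has `Ccl q (m+2)` elements. -/

set_option autoImplicit false

namespace Cfsg.Agent.Lib.Helper76.Sl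

open Matrix Cfsg

variable {F : Type*} [Field F] [Fintype F] [DecidableEq F]

/-- SL-K2-CLS: the class size of a transvection -/
theorem k2_index_eq_Ccl (m : ℕ) (hm : 1 ≤ m) :
    (Subgroup.centralizer ({tv F m} : Set (Gm F m))).index = Ccl (Fintype.card F) (m + 2) :=
  k2core_index_eq_Ccl m (k2_trans m hm)

/-- K2 INT -/
theorem integ (m : ℕ) (hm : 1 ≤ m) (χ : Gm F m → ℂ) (hχ : IsIrrCharacter (Gm F m) χ) (d : ℕ) (z : ℤ)
    (hd : χ 1 = d) (hz : χ (tv F m) = z) : (d : ℤ) ∣ (Ccl (Fintype.card F) (m + 2) : ℤ) * z :=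
  k2core_integ m (k2_trans m hm) χ hχ d z hd hz

end Cfsg.Agent.Lib.Helper76.Sl
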