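import Mathlib

/-! # Sm hive (S2086, helper39), leaf N-EX: a finite field with `|K| ≠ 2, 4` has a non-zero element whose
cube is not `1`. -/

set_option autoImplicit false

namespace Cfsg.Agent.Lib.Helper39.Sm

variable {K : Type*} [Field K]

/-- N-EX (Mathlib only). `Kˣ` is cyclic of order `q - 1`; `c³ = 1` for all `c` iff `q - 1 ∣ 3`. -/
theorem exists_cube_ne_one [Finite K] (h2 : Nat.card K ≠ 2) (h4 : Nat.card K ≠ 4) :
    ∃ c : K, c ≠ 0 ∧ c ^ 3 ≠ 1 := by
  classical
  haveI : Fintype K := Fintype.ofFinite K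
  obtain ⟨g, hg⟩ := IsCyclic.exists_generator (α := Kˣ)
  refine ⟨(g : K), g.ne_zero, ?_⟩
  intro h3
  have h3' : g ^ 3 = 1 := by
    apply Units.ext
    rw [Units.val_pow_eq_pow_val, h3, Units.val_one]
  have hord : orderOf g = Nat.card Kˣ := orderOf_eq_card_of_forall_mem_zpowers hg
  have hdvd : orderOf g ∣ 3 := orderOf_dvd_of_pow_eq_one h3'
  have hcard : Nat.card Kˣ = Nat.card K - 1 := by
    rw [Nat.card_eq_fintype_card, Nat.card_eq_fintype_card, Fintype.card_units]
  rw [hord, hcard] at hdvd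
  have hle : Nat.card K - 1 ≤ 3 := Nat.le_of_dvd (by norm_num) hdvd
  have hpos : 2 ≤ Nat.card K := by
    rw [Nat.card_eq_fintype_card]
    exact Fintype.one_lt_card
  have : Nat.card K - 1 = 1 ∨ Nat.card K - 1 = 3 := by
    have := (Nat.dvd_prime Nat.prime_three).mp hdvd
    exact this
  rcases this with h | h
  · exact h2 (by omega)
  · exact h4 (by omega)

end Cfsg.Agent.Lib.Helper39.Sm
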