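import Cfsg.Agent.Lib.Helper43.OddOrthModel

/-!
# An invariant quadratic form for a symplectic matrix without eigenvalues `±1`

For `A` symplectic with `1 - A` invertible, `Q(v) = ω((1 - A)⁻¹ v, v)` is an `A`-invariant
quadratic form, in every characteristic; its polar form is nondegenerate when `A - A⁻¹` is
invertible.
-/

set_option autoImplicit false

namespace Cfsg.Agent.Lib.Helper43.SpTrick

open Matrix QuadraticMap Cfsg.Agent.Lib.Helper43.OddOrth

variable {F : Type*} [Field F] {l : Type*} [Fintype l] [DecidableEq l]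

/-- the quadratic form `v ↦ vᵀ M v` -/
noncomputable def qOfMatrix {ι : Type*} [Fintype ι] [DecidableEq ι] (M : Matrix ι ι F) :
    QuadraticForm F (ι → F) :=
  LinearMap.BilinMap.toQuadraticMap (Matrix.toBilin' M)

theorem qOfMatrix_apply {ι : Type*} [Fintype ι] [DecidableEq ι] (M : Matrix ι ι F) (v : ι → F) :
    qOfMatrix M v = v ⬝ᵥ (M *ᵥ v) := by
  unfold qOfMatrix
  rw [LinearMap.BilinMap.toQuadraticMap_apply, Matrix.toBilin'_apply']

theorem polar_qOfMatrix {ι : Type*} [Fintype ι] [DecidableEq ι] (M : Matrix ι ι F)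
    (u v : ι → F) : polar (⇑(qOfMatrix M)) u v = u ⬝ᵥ ((M + Mᵀ) *ᵥ v) := by
  unfold qOfMatrix
  rw [LinearMap.BilinMap.polar_toQuadraticMap, Matrix.toBilin'_apply', Matrix.toBilin'_apply',
    Matrix.add_mulVec, dotProduct_add]
  congr 1
  rw [Matrix.dotProduct_mulVec, Matrix.mulVec_transpose, dotProduct_comm]

theorem qOfMatrix_nondegenerate {ι : Type*} [Fintype ι] [DecidableEq ι] (M : Matrix ι ι F)
    (hM : (M + Mᵀ).det ≠ 0) : (polarBilin (qOfMatrix M)).Nondegenerate := by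
  have h1 : polarBilin (qOfMatrix M) = Matrix.toBilin' (M + Mᵀ) := by
    refine LinearMap.ext fun u => LinearMap.ext fun v => ?_
    rw [Matrix.toBilin'_apply']
    exact polar_qOfMatrix M u v
  rw [h1]
  exact Matrix.Nondegenerate.toBilin' (Matrix.nondegenerate_of_det_ne_zero hM)

theorem qOfMatrix_invariant {ι : Type*} [Fintype ι] [DecidableEq ι] (M A : Matrix ι ι F)
    (hA : Aᵀ * M * A = M) (v : ι → F) : qOfMatrix M (A *ᵥ v) = qOfMatrix M v := by
  rw [qOfMatrix_apply, qOfMatrix_apply, dot_form_gen, hA]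

section symp

variable (A A' C : Matrix (l ⊕ l) (l ⊕ l) F)

theorem comm_of_inv (hDC : (1 - A) * C = 1) : C * A = A * C := by
  have hCD : C * (1 - A) = 1 := mul_eq_one_comm.1 hDC
  have h1 : A * (1 - A) = (1 - A) * A := by
    rw [mul_sub, sub_mul, mul_one, one_mul]
  calc C * A = C * A * ((1 - A) * C) := by rw [hDC, mul_one]
    _ = C * (A * (1 - A)) * C := by simp only [mul_assoc]
    _ = (C * (1 - A)) * A * C := by rw [h1]; simp only [mul_assoc]
    _ = A * C := by rw [hCD, one_mul]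

theorem trickForm_invariant (hA : Aᵀ * J l F * A = J l F) (hDC : (1 - A) * C = 1) :
    Aᵀ * (Cᵀ * J l F) * A = Cᵀ * J l F := by
  have hc := comm_of_inv A C hDC
  calc Aᵀ * (Cᵀ * J l F) * A = (C * A)ᵀ * J l F * A := by
        rw [Matrix.transpose_mul]; simp only [mul_assoc]
    _ = Cᵀ * (Aᵀ * J l F * A) := by
        rw [hc, Matrix.transpose_mul]; simp only [mul_assoc]
    _ = Cᵀ * J l F := by rw [hA]

theorem trickForm_polar (hA : Aᵀ * J l F * A = J l F) (hAA' : A * A' = 1)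
    (hDC : (1 - A) * C = 1) :
    (1 - A)ᵀ * (Cᵀ * J l F + (Cᵀ * J l F)ᵀ) * (1 - A) = J l F * (A' - A) := by
  have hCD : C * (1 - A) = 1 := mul_eq_one_comm.1 hDC
  have h1 : (1 - A)ᵀ * (Cᵀ * J l F) * (1 - A) = J l F * (1 - A) := by
    calc (1 - A)ᵀ * (Cᵀ * J l F) * (1 - A) = (C * (1 - A))ᵀ * J l F * (1 - A) := by
          rw [Matrix.transpose_mul]; simp only [mul_assoc]
      _ = J l F * (1 - A) := by rw [hCD, Matrix.transpose_one, one_mul]
  have h2 : (1 - A)ᵀ * (Cᵀ * J l F)ᵀ * (1 - A) = -((1 - A)ᵀ * J l F) := by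
    rw [Matrix.transpose_mul, Matrix.transpose_transpose, J_transpose]
    calc (1 - A)ᵀ * (-J l F * C) * (1 - A) = -((1 - A)ᵀ * J l F * (C * (1 - A))) := by
          simp only [Matrix.neg_mul, Matrix.mul_neg, mul_assoc]
      _ = -((1 - A)ᵀ * J l F) := by rw [hCD, mul_one]
  have h3 := symp_tJ A A' hA hAA'
  rw [Matrix.mul_add, Matrix.add_mul, h1, h2, Matrix.transpose_sub, Matrix.transpose_one,
    Matrix.sub_mul, one_mul, h3, Matrix.mul_sub, Matrix.mul_sub, mul_one]
  abel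

theorem trickForm_det_ne_zero (hA : Aᵀ * J l F * A = J l F) (hAA' : A * A' = 1)
    (hDC : (1 - A) * C = 1) (hdet : (A - A').det ≠ 0) :
    (Cᵀ * J l F + (Cᵀ * J l F)ᵀ).det ≠ 0 := by
  intro h0
  have h1 := congrArg Matrix.det (trickForm_polar A A' C hA hAA' hDC)
  rw [Matrix.det_mul, Matrix.det_mul, h0, mul_zero, zero_mul, Matrix.det_mul] at h1
  have hJ : (J l F).det ≠ 0 := by
    intro hJ0
    have := J_det_mul_J_det l F
    rw [hJ0, zero_mul] at this
    exact zero_ne_one this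
  have h2 : (A' - A).det ≠ 0 := by
    have : A' - A = -(A - A') := by abel
    rw [this, Matrix.det_neg]
    exact mul_ne_zero (pow_ne_zero _ (neg_ne_zero.2 one_ne_zero)) hdet
  exact mul_ne_zero hJ h2 h1.symm

theorem no_fixed_of_inv (hDC : (1 - A) * C = 1) (v : l ⊕ l → F) (hv : A *ᵥ v = v) : v = 0 := by
  have hCD : C * (1 - A) = 1 := mul_eq_one_comm.1 hDC
  have h1 : (1 - A) *ᵥ v = 0 := by
    rw [Matrix.sub_mulVec, Matrix.one_mulVec, hv, sub_self]
  calc v = (C * (1 - A)) *ᵥ v := by rw [hCD, Matrix.one_mulVec]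
    _ = C *ᵥ ((1 - A) *ᵥ v) := by rw [Matrix.mulVec_mulVec]
    _ = 0 := by rw [h1, Matrix.mulVec_zero]

end symp

end Cfsg.Agent.Lib.Helper43.SpTrick
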