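import Cfsg.Agent.Lib.Helper43.SpUForm

/-!
# The Cayley transform of the nilpotent part, for the skew form
-/

set_option autoImplicit false

namespace Cfsg.Agent.Lib.Helper43.UCDag

open Matrix Module Cfsg.Agent.Lib.Helper43 Cfsg.Agent.Lib.Helper43.InvolRing
  Cfsg.Agent.Lib.Helper43.HermSqrt Cfsg.Agent.Lib.Helper99

variable {K : Type*} [Field K] {t : ℕ} (d : Fin t → ℕ)

/-- `1 + N` as a unit -/
noncomputable def cayP : (Matrix ((k : Fin t) × Fin (d k)) ((k : Fin t) × Fin (d k)) K)ˣ :=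
  (nil_isNilpotent (K := K) d).isUnit_one_add.unit

/-- `1 - N` as a unit -/
noncomputable def cayQ : (Matrix ((k : Fin t) × Fin (d k)) ((k : Fin t) × Fin (d k)) K)ˣ :=
  (nil_isNilpotent (K := K) d).isUnit_one_sub.unit

theorem cayP_val : ((cayP d : (Matrix ((k : Fin t) × Fin (d k)) ((k : Fin t) × Fin (d k)) K)ˣ) :
    Matrix ((k : Fin t) × Fin (d k)) ((k : Fin t) × Fin (d k)) K) = 1 + nil K d := rfl

theorem cayQ_val : ((cayQ d : (Matrix ((k : Fin t) × Fin (d k)) ((k : Fin t) × Fin (d k)) K)ˣ) :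
    Matrix ((k : Fin t) × Fin (d k)) ((k : Fin t) × Fin (d k)) K) = 1 - nil K d := rfl

/-- the Cayley transform `(1 + N) (1 - N)⁻¹` -/
noncomputable def cayS : (Matrix ((k : Fin t) × Fin (d k)) ((k : Fin t) × Fin (d k)) K)ˣ :=
  cayP d * (cayQ d)⁻¹

local notation "𝕄" => Matrix ((k : Fin t) × Fin (d k)) ((k : Fin t) × Fin (d k)) K

theorem cayS_val : ((cayS d : 𝕄ˣ) : 𝕄) = (1 + nil K d) * (((cayQ d)⁻¹ : 𝕄ˣ) : 𝕄) := rfl

variable {d}

theorem commute_cayQinv {X : 𝕄} (hX : Commute X (nil K d)) :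
    Commute X (((cayQ d)⁻¹ : 𝕄ˣ) : 𝕄) := by
  apply Commute.units_inv_right
  rw [cayQ_val]
  exact (Commute.one_right X).sub_right hX

theorem commute_cayS {X : 𝕄} (hX : Commute X (nil K d)) : Commute X ((cayS d : 𝕄ˣ) : 𝕄) := by
  rw [cayS_val]
  exact ((Commute.one_right X).add_right hX).mul_right (commute_cayQinv hX)

variable (d)

theorem cayS_mul_Q : ((cayS d : 𝕄ˣ) : 𝕄) * (1 - nil K d) = 1 + nil K d := by
  rw [cayS_val, mul_assoc, ← cayQ_val, Units.inv_mul, mul_one]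

theorem Q_mul_cayS : (1 - nil K d) * ((cayS d : 𝕄ˣ) : 𝕄) = 1 + nil K d := by
  rw [← cayS_mul_Q d]
  have h : Commute ((cayS d : 𝕄ˣ) : 𝕄) (nil K d) := (commute_cayS (Commute.refl (nil K d))).symm
  exact (((Commute.one_right _).sub_right h).eq).symm

theorem comm_cayS_iff (h2 : (2 : K) ≠ 0) (X : 𝕄) :
    X * ((cayS d : 𝕄ˣ) : 𝕄) = ((cayS d : 𝕄ˣ) : 𝕄) * X ↔ X * nil K d = nil K d * X := by
  constructor
  · intro hX
    set u : 𝕄 := ((cayS d : 𝕄ˣ) : 𝕄) with hu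
    set N := nil K d with hN
    have F1 : u - 1 = (u + 1) * N := by
      have := cayS_mul_Q (K := K) d
      rw [← hu, ← hN, mul_sub, mul_one] at this
      rw [add_mul, one_mul]
      have e : u = 1 + N + u * N := by rw [← this]; abel
      calc u - 1 = (1 + N + u * N) - 1 := by rw [← e]
        _ = u * N + N := by abel
    have F2 : u - 1 = N * (u + 1) := by
      have := Q_mul_cayS (K := K) d
      rw [← hu, ← hN, sub_mul, one_mul] at this
      rw [mul_add, mul_one]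
      have e : u = 1 + N + N * u := by rw [← this]; abel
      calc u - 1 = (1 + N + N * u) - 1 := by rw [← e]
        _ = N * u + N := by abel
    have hX1 : X * (u - 1) = (u - 1) * X := by rw [mul_sub, sub_mul, hX, mul_one, one_mul]
    have hX2 : X * (u + 1) = (u + 1) * X := by rw [mul_add, add_mul, hX, mul_one, one_mul]
    have h3 : (u + 1) * (X * N - N * X) = 0 := by
      rw [mul_sub, ← mul_assoc, ← hX2, mul_assoc, ← mul_assoc (u + 1) N X, ← F1, ← hX1, F1,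
        ← mul_assoc, sub_self]
    have hQ : (1 - N) * (u + 1) = (2 : K) • (1 : 𝕄) := by
      rw [mul_add, mul_one, hN, hu, Q_mul_cayS, two_smul]
      abel
    have h4 : (2 : K) • (X * N - N * X) = 0 := by
      have : (1 - N) * ((u + 1) * (X * N - N * X)) = 0 := by rw [h3, mul_zero]
      rw [← mul_assoc, hQ, Matrix.smul_mul, one_mul] at this
      exact this
    rw [smul_eq_zero] at h4
    rcases h4 with h4 | h4
    · exact absurd h4 h2
    · exact sub_eq_zero.1 h4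
  · intro hX
    exact (commute_cayS (show Commute X (nil K d) from hX)).eq

theorem cayS_sub_one : ((cayS d : 𝕄ˣ) : 𝕄) - 1 =
    nil K d * ((2 : K) • (((cayQ d)⁻¹ : 𝕄ˣ) : 𝕄)) := by
  have h1 : (1 : 𝕄) = (1 - nil K d) * (((cayQ d)⁻¹ : 𝕄ˣ) : 𝕄) := by
    rw [← cayQ_val, Units.mul_inv]
  rw [cayS_val]
  nth_rewrite 2 [h1]
  rw [← sub_mul, Matrix.mul_smul, ← Matrix.smul_mul]
  congr 1
  rw [two_smul]
  abel

theorem dker_cayS (h2 : (2 : K) ≠ 0) (j : ℕ) :
    dker (nilPart ((cayS d : 𝕄ˣ) : 𝕄)) j = dker (jtN K d) j := by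
  set W : 𝕄 := (2 : K) • (((cayQ d)⁻¹ : 𝕄ˣ) : 𝕄) with hW
  have hWu : IsUnit W := by
    refine ⟨⟨W, (2 : K)⁻¹ • (1 - nil K d), ?_, ?_⟩, rfl⟩
    · rw [hW, Matrix.smul_mul, Matrix.mul_smul, smul_smul, mul_inv_cancel₀ h2, one_smul,
        ← cayQ_val, Units.inv_mul]
    · rw [hW, Matrix.smul_mul, Matrix.mul_smul, smul_smul, inv_mul_cancel₀ h2, one_smul,
        ← cayQ_val, Units.mul_inv]
  have hcomm : Commute (nil K d) W :=
    (commute_cayQinv (Commute.refl (nil K d))).smul_right _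
  have hnil : nilPart ((cayS d : 𝕄ˣ) : 𝕄) = jtN K d * Matrix.toLin' W := by
    unfold nilPart
    rw [cayS_sub_one, Matrix.toLin'_mul, toLin'_nil]
    rfl
  have hcomm' : Commute (jtN K d) (Matrix.toLin' W) := by
    show jtN K d * Matrix.toLin' W = Matrix.toLin' W * jtN K d
    rw [← toLin'_nil, Module.End.mul_eq_comp, Module.End.mul_eq_comp, ← Matrix.toLin'_mul,
      ← Matrix.toLin'_mul, hcomm.eq]
  have hWu' : IsUnit (Matrix.toLin' W) := by
    have : Matrix.toLin' W = Matrix.toLinAlgEquiv' W := rfl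
    rw [this]
    exact hWu.map (Matrix.toLinAlgEquiv' (R := K) (n := (k : Fin t) × Fin (d k)))
  unfold dker
  rw [hnil, ker_mul_unit_pow _ _ hcomm' hWu']

theorem isNilpotent_nilPart_cayS : IsNilpotent (nilPart ((cayS d : 𝕄ˣ) : 𝕄)) := by
  have hcomm : Commute (nil K d) ((2 : K) • (((cayQ d)⁻¹ : 𝕄ˣ) : 𝕄)) :=
    (commute_cayQinv (Commute.refl (nil K d))).smul_right _
  obtain ⟨k, hk⟩ := nil_isNilpotent (K := K) d
  refine ⟨k, ?_⟩
  unfold nilPart
  rw [cayS_sub_one]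
  have : (Matrix.toLin' (nil K d * ((2 : K) • (((cayQ d)⁻¹ : 𝕄ˣ) : 𝕄)))) ^ k =
      Matrix.toLin' ((nil K d * ((2 : K) • (((cayQ d)⁻¹ : 𝕄ˣ) : 𝕄))) ^ k) := by
    have e : ∀ M : 𝕄, Matrix.toLin' M = Matrix.toLinAlgEquiv' M := fun _ => rfl
    rw [e, e, map_pow]
  rw [this, hcomm.mul_pow, hk, zero_mul, map_zero]

section adj

variable (γ : BlkFam K d)
  (Γi : Matrix ((k : Fin t) × Fin (d k)) ((k : Fin t) × Fin (d k)) K)
  (hΓ1 : sec d γ * Γi = 1) (hΓ2 : Γi * sec d γ = 1)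

include hΓ1 hΓ2 in
theorem adj_cayS : adj d γ Γi ((cayS d : 𝕄ˣ) : 𝕄) * ((cayS d : 𝕄ˣ) : 𝕄) = 1 := by
  set Qi : 𝕄 := (((cayQ d)⁻¹ : 𝕄ˣ) : 𝕄) with hQi
  have hP : adj d γ Γi (1 + nil K d) = 1 - nil K d := by
    rw [adj_add, adj_one d γ Γi hΓ2, adj_nil d γ Γi hΓ1 hΓ2, sub_eq_add_neg]
  have hQ : adj d γ Γi (1 - nil K d) = 1 + nil K d := by
    rw [adj_sub, adj_one d γ Γi hΓ2, adj_nil d γ Γi hΓ1 hΓ2, sub_neg_eq_add]
  have hQQi : (1 - nil K d) * Qi = 1 := by rw [hQi, ← cayQ_val, Units.mul_inv]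
  have h1 : adj d γ Γi Qi * (1 + nil K d) = 1 := by
    rw [← hQ, ← adj_mul d γ Γi hΓ1, hQQi, adj_one d γ Γi hΓ2]
  have hPQ : (1 - nil K d) * (1 + nil K d) = (1 + nil K d) * (1 - nil K d) := by
    noncomm_ring
  rw [cayS_val, adj_mul d γ Γi hΓ1, hP]
  calc adj d γ Γi Qi * (1 - nil K d) * ((1 + nil K d) * Qi)
      = adj d γ Γi Qi * ((1 - nil K d) * (1 + nil K d)) * Qi := by simp only [mul_assoc]
    _ = (adj d γ Γi Qi * (1 + nil K d)) * ((1 - nil K d) * Qi) := by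
        rw [hPQ]
        simp only [mul_assoc]
    _ = 1 := by rw [h1, hQQi, one_mul]

end adj

end Cfsg.Agent.Lib.Helper43.UCDag
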