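import Cfsg.Agent.Lib.Helper43.SpUModel
import Cfsg.Agent.Lib.Helper43.FormJordanMain

/-!
# The classes of a given unipotent type in the symplectic group (odd characteristic)
-/

set_option autoImplicit false

namespace Cfsg.Agent.Lib.Helper43.UCDag

open Matrix Module Cfsg.Agent.Lib.Helper43 Cfsg.Agent.Lib.Helper43.InvolRing
  Cfsg.Agent.Lib.Helper43.HermSqrt Cfsg.Agent.Lib.Helper99 Cfsg.Agent.Lib.Helper43.SpU

section gamma

variable {F : Type*} [Field F]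

theorem exists_skew_matrix (κ : Type*) [Fintype κ] [DecidableEq κ] (h : Even (Fintype.card κ)) :
    ∃ A : Matrix κ κ F, Aᵀ = -A ∧ A.det ≠ 0 := by
  obtain ⟨n, hn⟩ := h
  have hc : Fintype.card κ = Fintype.card (Fin n ⊕ Fin n) := by
    rw [Fintype.card_sum, Fintype.card_fin, hn]
  let e : κ ≃ Fin n ⊕ Fin n := Fintype.equivOfCardEq hc
  refine ⟨(Matrix.J (Fin n) F).submatrix e e, ?_, ?_⟩
  · rw [Matrix.transpose_submatrix, Matrix.J_transpose, Matrix.submatrix_neg]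
    rfl
  · rw [Matrix.det_submatrix_equiv_self]
    exact (Matrix.isUnit_det_J (Fin n) F).ne_zero

variable {t : ℕ} (d : Fin t → ℕ) (hd : ∀ k, 1 ≤ d k)

theorem exists_gamma
    (hpar : ∀ j : ℕ, Odd j → Even (Finset.univ.filter (fun k : Fin t => d k = j)).card) :
    ∃ γ : BlkFam F d, (∀ i, (γ i)ᵀ = ((-1 : F) ^ (i : ℕ)) • γ i) ∧ (∀ i, (γ i).det ≠ 0) ∧
      (∀ i : Fin (supD d + 1), Even (i : ℕ) → γ i = 1) := by
  classical
  have h : ∀ i : Fin (supD d + 1), ∃ A : Matrix {k : Fin t // d k = (i : ℕ)}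
      {k : Fin t // d k = (i : ℕ)} F, Aᵀ = ((-1 : F) ^ (i : ℕ)) • A ∧ A.det ≠ 0 ∧
      (Even (i : ℕ) → A = 1) := by
    intro i
    rcases Nat.even_or_odd (i : ℕ) with hi | hi
    · refine ⟨1, ?_, ?_, fun _ => rfl⟩
      · rw [hi.neg_one_pow, one_smul, Matrix.transpose_one]
      · rw [Matrix.det_one]; exact one_ne_zero
    · have hc : Even (Fintype.card {k : Fin t // d k = (i : ℕ)}) := by
        rw [Fintype.card_subtype]
        exact hpar _ hi
      obtain ⟨A, hA1, hA2⟩ := exists_skew_matrix (F := F) {k : Fin t // d k = (i : ℕ)} hc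
      refine ⟨A, ?_, hA2, fun he => absurd he (Nat.not_even_iff_odd.2 hi)⟩
      rw [hi.neg_one_pow, neg_one_smul, hA1]
  choose γ h1 h3 h4 using h
  exact ⟨γ, h1, h3, h4⟩

include hd in
theorem exists_gammaInv (γ : BlkFam F d) (hγdet : ∀ i, (γ i).det ≠ 0) :
    ∃ Γi : Matrix ((k : Fin t) × Fin (d k)) ((k : Fin t) × Fin (d k)) F,
      sec d γ * Γi = 1 ∧ Γi * sec d γ = 1 := by
  have hu : IsUnit (sec d γ) := by
    rw [isUnit_iff_top d hd _ (sec_comm d γ)]
    intro i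
    rw [top_sec]
    exact isUnit_iff_ne_zero.2 (hγdet i)
  obtain ⟨u, hu⟩ := hu
  refine ⟨((u⁻¹ : (Matrix ((k : Fin t) × Fin (d k)) ((k : Fin t) × Fin (d k)) F)ˣ) :
    Matrix ((k : Fin t) × Fin (d k)) ((k : Fin t) × Fin (d k)) F), ?_, ?_⟩
  · rw [← hu, Units.mul_inv]
  · rw [← hu, Units.inv_mul]

end gamma

section rect

variable {F : Type*} [Field F]

theorem dker_nilPart_rect {ι κ : Type} [Fintype ι] [DecidableEq ι] [Fintype κ] [DecidableEq κ]
    (S : Matrix κ ι F) (S' : Matrix ι κ F) (hSS' : S * S' = 1) (hS'S : S' * S = 1)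
    (M : Matrix ι ι F) (M' : Matrix κ κ F) (h : S * M = M' * S) (j : ℕ) :
    dker (nilPart M') j = dker (nilPart M) j := by
  let e : (ι → F) ≃ₗ[F] (κ → F) := LinearEquiv.ofLinear (Matrix.toLin' S) (Matrix.toLin' S')
    (by rw [← Matrix.toLin'_mul, hSS', Matrix.toLin'_one])
    (by rw [← Matrix.toLin'_mul, hS'S, Matrix.toLin'_one])
  apply dker_conj e (nilPart M) (nilPart M')
  intro w
  show nilPart M' (Matrix.toLin' S w) = Matrix.toLin' S (nilPart M w)
  rw [nilPart_apply, nilPart_apply, Matrix.toLin'_apply, Matrix.toLin'_apply, Matrix.mulVec_sub,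
    Matrix.mulVec_mulVec, Matrix.mulVec_mulVec, h]

end rect

section classes

variable {F : Type*} [Field F] [Fintype F] {t : ℕ} (d : Fin t → ℕ) (hd : ∀ k, 1 ≤ d k)

local notation "𝕄" => Matrix ((k : Fin t) × Fin (d k)) ((k : Fin t) × Fin (d k)) F

include hd in
set_option maxHeartbeats 1600000 in
/-- the number of classes of a given unipotent type in the symplectic group -/
theorem card_classes_of_type (h2 : (2 : F) ≠ 0) (m : ℕ) (hsum : ∑ k, d k = 2 * m)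
    (hpar : ∀ j : ℕ, Odd j → Even (Finset.univ.filter (fun k : Fin t => d k = j)).card) :
    Nat.card {C : ConjClasses ↥(Matrix.symplecticGroup (Fin m) F) //
      ∃ g : ↥(Matrix.symplecticGroup (Fin m) F), ConjClasses.mk g = C ∧
        ∀ k, dker (nilPart (g : Matrix (Fin m ⊕ Fin m) (Fin m ⊕ Fin m) F)) k =
          smin ((Finset.univ : Finset (Fin t)).val.map d) k} =
      2 ^ Nat.card (EvenIdx d) := by
  classical
  obtain ⟨γ, hγ, hγdet, hγeven⟩ := exists_gamma (F := F) d hpar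
  obtain ⟨Γi, hΓ1, hΓ2⟩ := exists_gammaInv d hd γ hγdet
  set B := formB d γ with hBdef
  set Bi := formBi d Γi with hBidef
  have hB : Bᵀ = -B := formB_transpose d γ hγ
  have hBB : B * Bi = 1 := formB_mul_formBi d γ Γi hΓ1
  have hBiB : Bi * B = 1 := formBi_mul_formB d γ Γi hΓ2
  have hdetB : B.det ≠ 0 := (Matrix.isUnit_det_of_right_inverse hBB).ne_zero
  have hJ : (Matrix.J (Fin m) F)ᵀ = -Matrix.J (Fin m) F := Matrix.J_transpose (Fin m) F
  have hdetJ : (Matrix.J (Fin m) F).det ≠ 0 := (Matrix.isUnit_det_J (Fin m) F).ne_zero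
  have hcard : Fintype.card ((k : Fin t) × Fin (d k)) = Fintype.card (Fin m ⊕ Fin m) := by
    rw [Fintype.card_sigma, Fintype.card_sum, Fintype.card_fin]
    simp only [Fintype.card_fin]
    rw [hsum]
    ring
  obtain ⟨T, T', hTT', hT'T, hTBT⟩ := exists_skew_congruence h2 hcard B (Matrix.J (Fin m) F) hB hJ
    hdetB hdetJ
  -- cancellation rules
  have c1 : ∀ {n : Type} [Fintype n] (X : Matrix (Fin m ⊕ Fin m) n F), T' * (T * X) = X := by
    intro n _ X
    rw [← Matrix.mul_assoc, hT'T, Matrix.one_mul]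
  have c2 : ∀ {n : Type} [Fintype n] (X : Matrix ((k : Fin t) × Fin (d k)) n F),
      T * (T' * X) = X := by
    intro n _ X
    rw [← Matrix.mul_assoc, hTT', Matrix.one_mul]
  have hT'JT' : T'ᵀ * Matrix.J (Fin m) F * T' = B := by
    rw [← hTBT]
    calc T'ᵀ * (Tᵀ * B * T) * T' = (T * T')ᵀ * B * (T * T') := by
          rw [Matrix.transpose_mul]
          simp only [Matrix.mul_assoc]
      _ = B := by rw [hTT', Matrix.transpose_one, Matrix.one_mul, Matrix.mul_one]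
  -- membership facts
  have hspval : ∀ A : ↥(Matrix.symplecticGroup (Fin m) F),
      (A : Matrix (Fin m ⊕ Fin m) (Fin m ⊕ Fin m) F) *
        ((A⁻¹ : ↥(Matrix.symplecticGroup (Fin m) F)) : Matrix (Fin m ⊕ Fin m) (Fin m ⊕ Fin m) F) = 1 :=
    fun A => by
      rw [← Submonoid.coe_mul, mul_inv_cancel, Submonoid.coe_one]
  have hspval' : ∀ A : ↥(Matrix.symplecticGroup (Fin m) F),
      ((A⁻¹ : ↥(Matrix.symplecticGroup (Fin m) F)) : Matrix (Fin m ⊕ Fin m) (Fin m ⊕ Fin m) F) *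
        (A : Matrix (Fin m ⊕ Fin m) (Fin m ⊕ Fin m) F) = 1 :=
    fun A => by
      rw [← Submonoid.coe_mul, inv_mul_cancel, Submonoid.coe_one]
  have hmemIso : ∀ A : ↥(Matrix.symplecticGroup (Fin m) F),
      adj d γ Γi (T * (A : Matrix (Fin m ⊕ Fin m) (Fin m ⊕ Fin m) F) * T') *
        (T * (A : Matrix (Fin m ⊕ Fin m) (Fin m ⊕ Fin m) F) * T') = 1 := by
    intro A
    have hA := SymplecticGroup.mem_iff'.1 A.2
    unfold adj
    rw [← hBdef, ← hBidef]
    calc Bi * (T * (A : Matrix (Fin m ⊕ Fin m) (Fin m ⊕ Fin m) F) * T')ᵀ * B *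
          (T * (A : Matrix (Fin m ⊕ Fin m) (Fin m ⊕ Fin m) F) * T')
        = Bi * (T'ᵀ * (((A : Matrix (Fin m ⊕ Fin m) (Fin m ⊕ Fin m) F)ᵀ * (Tᵀ * B * T) *
            (A : Matrix (Fin m ⊕ Fin m) (Fin m ⊕ Fin m) F))) * T') := by
          rw [Matrix.transpose_mul, Matrix.transpose_mul]
          simp only [Matrix.mul_assoc]
      _ = 1 := by rw [hTBT, hA, hT'JT', hBiB]
  have hgBg : ∀ g : isoSub (adjU d γ Γi hΓ1 hΓ2) (adjU_mul d γ Γi hΓ1 hΓ2),
      ((g : 𝕄ˣ) : 𝕄)ᵀ * B * ((g : 𝕄ˣ) : 𝕄) = B := by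
    intro g
    have h1 : adjU d γ Γi hΓ1 hΓ2 (g : 𝕄ˣ) * (g : 𝕄ˣ) = 1 := g.2
    have h3 := congrArg Units.val h1
    rw [Units.val_mul, adjU_val, Units.val_one] at h3
    unfold adj at h3
    rw [← hBdef, ← hBidef] at h3
    calc ((g : 𝕄ˣ) : 𝕄)ᵀ * B * ((g : 𝕄ˣ) : 𝕄)
        = B * (Bi * ((g : 𝕄ˣ) : 𝕄)ᵀ * B * ((g : 𝕄ˣ) : 𝕄)) := by
          rw [← Matrix.mul_assoc, ← Matrix.mul_assoc, ← Matrix.mul_assoc, hBB, Matrix.one_mul]
      _ = B := by rw [h3, Matrix.mul_one]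
  -- the isomorphism
  let ψ : ↥(Matrix.symplecticGroup (Fin m) F) ≃*
      isoSub (adjU d γ Γi hΓ1 hΓ2) (adjU_mul d γ Γi hΓ1 hΓ2) :=
    { toFun := fun A => ⟨⟨T * (A : Matrix (Fin m ⊕ Fin m) (Fin m ⊕ Fin m) F) * T',
          T * ((A⁻¹ : ↥(Matrix.symplecticGroup (Fin m) F)) :
            Matrix (Fin m ⊕ Fin m) (Fin m ⊕ Fin m) F) * T', by
          simp only [Matrix.mul_assoc, c1]
          rw [← Matrix.mul_assoc _ _ T', hspval, Matrix.one_mul, hTT'], by
          simp only [Matrix.mul_assoc, c1]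
          rw [← Matrix.mul_assoc _ _ T', hspval', Matrix.one_mul, hTT']⟩, by
          rw [mem_isoSub]
          apply Units.ext
          rw [Units.val_mul, adjU_val, Units.val_one]
          exact hmemIso A⟩
      invFun := fun g => ⟨T' * ((g : 𝕄ˣ) : 𝕄) * T, by
          rw [SymplecticGroup.mem_iff']
          calc (T' * ((g : 𝕄ˣ) : 𝕄) * T)ᵀ * Matrix.J (Fin m) F * (T' * ((g : 𝕄ˣ) : 𝕄) * T)
              = Tᵀ * (((g : 𝕄ˣ) : 𝕄)ᵀ * (T'ᵀ * Matrix.J (Fin m) F * T') * ((g : 𝕄ˣ) : 𝕄)) * T := by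
                rw [Matrix.transpose_mul, Matrix.transpose_mul]
                simp only [Matrix.mul_assoc]
            _ = Matrix.J (Fin m) F := by rw [hT'JT', hgBg g, hTBT]⟩
      left_inv := fun A => by
        apply Subtype.ext
        show T' * (T * (A : Matrix (Fin m ⊕ Fin m) (Fin m ⊕ Fin m) F) * T') * T = _
        simp only [Matrix.mul_assoc, c1]
        rw [hT'T, Matrix.mul_one]
      right_inv := fun g => by
        apply Subtype.ext
        apply Units.ext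
        show T * (T' * ((g : 𝕄ˣ) : 𝕄) * T) * T' = _
        simp only [Matrix.mul_assoc, c2]
        rw [hTT', Matrix.mul_one]
      map_mul' := fun A A' => by
        apply Subtype.ext
        apply Units.ext
        show T * ((A * A' : ↥(Matrix.symplecticGroup (Fin m) F)) :
          Matrix (Fin m ⊕ Fin m) (Fin m ⊕ Fin m) F) * T' =
          (T * (A : Matrix (Fin m ⊕ Fin m) (Fin m ⊕ Fin m) F) * T') *
            (T * (A' : Matrix (Fin m ⊕ Fin m) (Fin m ⊕ Fin m) F) * T')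
        rw [Submonoid.coe_mul]
        simp only [Matrix.mul_assoc, c1] }
  have hψval : ∀ A : ↥(Matrix.symplecticGroup (Fin m) F),
      (((ψ A : isoSub (adjU d γ Γi hΓ1 hΓ2) (adjU_mul d γ Γi hΓ1 hΓ2)) : 𝕄ˣ) : 𝕄) =
        T * (A : Matrix (Fin m ⊕ Fin m) (Fin m ⊕ Fin m) F) * T' := fun A => rfl
  -- the type of the Cayley element
  set μ := (Finset.univ : Finset (Fin t)).val.map d with hμ
  have hdku : ∀ k, dker (nilPart ((cayS d : 𝕄ˣ) : 𝕄)) k = smin μ k := by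
    intro k
    rw [dker_cayS d h2, dker_jtN_eq_smin]
  have hfin : finrank F (((k : Fin t) × Fin (d k)) → F) = μ.sum := by
    rw [Module.finrank_fintype_fun_eq_card, Fintype.card_sigma, hμ, sum_map_univ]
    simp only [Fintype.card_fin]
  have hdkψ : ∀ (A : ↥(Matrix.symplecticGroup (Fin m) F)) (k : ℕ),
      dker (nilPart (T * (A : Matrix (Fin m ⊕ Fin m) (Fin m ⊕ Fin m) F) * T')) k =
        dker (nilPart (A : Matrix (Fin m ⊕ Fin m) (Fin m ⊕ Fin m) F)) k := by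
    intro A k
    apply dker_nilPart_rect T T' hTT' hT'T
    simp only [Matrix.mul_assoc, hT'T, Matrix.mul_one]
  rw [card_classes_congr ψ
    (fun g : ↥(Matrix.symplecticGroup (Fin m) F) =>
      ∀ k, dker (nilPart (g : Matrix (Fin m ⊕ Fin m) (Fin m ⊕ Fin m) F)) k = smin μ k)
    (fun g : isoSub (adjU d γ Γi hΓ1 hΓ2) (adjU_mul d γ Γi hΓ1 hΓ2) =>
      ∃ x : 𝕄ˣ, (g : 𝕄ˣ) * x = x * cayS d)]
  · exact model_count d hd γ Γi hΓ1 hΓ2 hγdet h2 hγ hγeven
  · intro A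
    constructor
    · rintro ⟨x, hx⟩ k
      have hx' := congrArg Units.val hx
      rw [Units.val_mul, Units.val_mul, hψval] at hx'
      have hconj : IsConj ((cayS d : 𝕄ˣ) : 𝕄)
          (T * (A : Matrix (Fin m ⊕ Fin m) (Fin m ⊕ Fin m) F) * T') := ⟨x, hx'.symm⟩
      rw [← hdkψ A k, dker_eq_of_isConj _ _ hconj, hdku]
    · intro hdk
      have hdkM : ∀ k, dker (nilPart (T * (A : Matrix (Fin m ⊕ Fin m) (Fin m ⊕ Fin m) F) * T')) k =
          smin μ k := fun k => by rw [hdkψ, hdk]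
      have hnilM := isNilpotent_of_dker _ μ hdkM hfin
      have hconj := isConj_of_dker_eq _ _ hnilM (isNilpotent_nilPart_cayS (K := F) d)
        (fun k => by rw [hdkM, hdku])
      obtain ⟨c, hc⟩ := hconj
      have hc' : (c : 𝕄) * (T * (A : Matrix (Fin m ⊕ Fin m) (Fin m ⊕ Fin m) F) * T') =
          ((cayS d : 𝕄ˣ) : 𝕄) * (c : 𝕄) := hc
      refine ⟨c⁻¹, ?_⟩
      apply Units.ext
      rw [Units.val_mul, Units.val_mul, hψval]
      calc T * (A : Matrix (Fin m ⊕ Fin m) (Fin m ⊕ Fin m) F) * T' * ((c⁻¹ : 𝕄ˣ) : 𝕄)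
          = ((c⁻¹ : 𝕄ˣ) : 𝕄) * ((c : 𝕄) *
              (T * (A : Matrix (Fin m ⊕ Fin m) (Fin m ⊕ Fin m) F) * T')) * ((c⁻¹ : 𝕄ˣ) : 𝕄) := by
            rw [← mul_assoc ((c⁻¹ : 𝕄ˣ) : 𝕄), Units.inv_mul, one_mul]
        _ = ((c⁻¹ : 𝕄ˣ) : 𝕄) * ((cayS d : 𝕄ˣ) : 𝕄) := by
            rw [hc', mul_assoc, mul_assoc, Units.mul_inv, mul_one]

end classes

end Cfsg.Agent.Lib.Helper43.UCDag
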