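import Cfsg.Agent.Lib.Helper14.FiniteQuad2
import Cfsg.Agent.Lib.Helper40.Darboux

/-!
# Congruence of skew matrices, and of symmetric matrices over finite fields
-/

set_option autoImplicit false

namespace Cfsg.Agent.Lib.Helper43.SpU

open Matrix Module

section skew

variable {F : Type*} [Field F]

theorem isAlt_of_skew (h2 : (2 : F) ≠ 0) {ι : Type*} [Fintype ι] [DecidableEq ι]
    (A : Matrix ι ι F) (hA : Aᵀ = -A) : (Matrix.toBilin' A).IsAlt := by
  intro x
  rw [Matrix.toBilin'_apply']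
  have h1 : x ⬝ᵥ A *ᵥ x = -(x ⬝ᵥ A *ᵥ x) := by
    calc x ⬝ᵥ A *ᵥ x = (x ᵥ* A) ⬝ᵥ x := Matrix.dotProduct_mulVec x A x
      _ = (Aᵀ *ᵥ x) ⬝ᵥ x := by rw [Matrix.mulVec_transpose]
      _ = -(x ⬝ᵥ A *ᵥ x) := by
          rw [hA, Matrix.neg_mulVec, neg_dotProduct, dotProduct_comm]
  have h3 : (2 : F) * (x ⬝ᵥ A *ᵥ x) = 0 := by
    rw [two_mul]
    nth_rewrite 1 [h1]
    exact neg_add_cancel _
  rcases mul_eq_zero.1 h3 with h | h
  · exact absurd h h2
  · exact h

theorem even_card_of_skew (h2 : (2 : F) ≠ 0) {ι : Type*} [Fintype ι] [DecidableEq ι]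
    (A : Matrix ι ι F) (hA : Aᵀ = -A) (hdet : A.det ≠ 0) : Even (Fintype.card ι) := by
  by_contra hodd
  rw [Nat.not_even_iff_odd] at hodd
  have h1 : A.det = -A.det := by
    calc A.det = Aᵀ.det := (Matrix.det_transpose A).symm
      _ = -A.det := by rw [hA, Matrix.det_neg, hodd.neg_one_pow, neg_one_mul]
  have h3 : (2 : F) * A.det = 0 := by
    rw [two_mul]
    nth_rewrite 1 [h1]
    exact neg_add_cancel _
  rcases mul_eq_zero.1 h3 with h | h
  · exact h2 h
  · exact hdet h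

/-- non-degenerate skew matrices of the same size are congruent -/
theorem exists_skew_congruence (h2 : (2 : F) ≠ 0) {ι κ : Type*} [Fintype ι] [DecidableEq ι]
    [Fintype κ] [DecidableEq κ] (hcard : Fintype.card ι = Fintype.card κ)
    (A : Matrix ι ι F) (A' : Matrix κ κ F) (hA : Aᵀ = -A) (hA' : A'ᵀ = -A')
    (hdet : A.det ≠ 0) (hdet' : A'.det ≠ 0) :
    ∃ (P : Matrix ι κ F) (P' : Matrix κ ι F), P * P' = 1 ∧ P' * P = 1 ∧ Pᵀ * A * P = A' := by
  obtain ⟨N, hN⟩ := even_card_of_skew h2 A hA hdet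
  have hN' : Fintype.card ι = 2 * N := by omega
  have hfr : finrank F (ι → F) = 2 * N := by
    rw [Module.finrank_fintype_fun_eq_card, hN']
  have hfr' : finrank F (κ → F) = 2 * N := by
    rw [Module.finrank_fintype_fun_eq_card, ← hcard, hN']
  obtain ⟨b, hb⟩ := Cfsg.Agent.Lib.Helper40.Darboux.darboux_basis N (ι → F) (Matrix.toBilin' A)
    (isAlt_of_skew h2 A hA)
    (Matrix.Nondegenerate.toBilin' (Matrix.nondegenerate_of_det_ne_zero hdet)) hfr
  obtain ⟨b', hb'⟩ := Cfsg.Agent.Lib.Helper40.Darboux.darboux_basis N (κ → F) (Matrix.toBilin' A')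
    (isAlt_of_skew h2 A' hA')
    (Matrix.Nondegenerate.toBilin' (Matrix.nondegenerate_of_det_ne_zero hdet')) hfr'
  let g : (κ → F) ≃ₗ[F] (ι → F) := b'.equiv b (Equiv.refl _)
  have hg : ∀ i, g (b' i) = b i := fun i => by
    show b'.equiv b (Equiv.refl _) (b' i) = b i
    rw [Module.Basis.equiv_apply]
    rfl
  have hcomp : (Matrix.toBilin' A).comp (g : (κ → F) →ₗ[F] (ι → F)) (g : (κ → F) →ₗ[F] (ι → F)) =
      Matrix.toBilin' A' := by
    apply LinearMap.ext_basis b' b'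
    intro i j
    have h1 := congrFun (congrFun hb i) j
    have h2' := congrFun (congrFun hb' i) j
    rw [LinearMap.BilinForm.toMatrix_apply] at h1 h2'
    rw [h2']
    show Matrix.toBilin' A (g (b' i)) (g (b' j)) = _
    rw [hg, hg, h1]
  refine ⟨LinearMap.toMatrix' (g : (κ → F) →ₗ[F] (ι → F)),
    LinearMap.toMatrix' (g.symm : (ι → F) →ₗ[F] (κ → F)), ?_, ?_, ?_⟩
  · rw [← LinearMap.toMatrix'_comp]
    have : (g : (κ → F) →ₗ[F] (ι → F)) ∘ₗ (g.symm : (ι → F) →ₗ[F] (κ → F)) = LinearMap.id := by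
      ext x
      simp
    rw [this, LinearMap.toMatrix'_id]
  · rw [← LinearMap.toMatrix'_comp]
    have : (g.symm : (ι → F) →ₗ[F] (κ → F)) ∘ₗ (g : (κ → F) →ₗ[F] (ι → F)) = LinearMap.id := by
      ext x
      simp
    rw [this, LinearMap.toMatrix'_id]
  · have h := LinearMap.BilinForm.toMatrix'_comp (Matrix.toBilin' A)
      (g : (κ → F) →ₗ[F] (ι → F)) (g : (κ → F) →ₗ[F] (ι → F))
    rw [hcomp, LinearMap.BilinForm.toMatrix'_toBilin', LinearMap.BilinForm.toMatrix'_toBilin'] at h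
    exact h.symm

end skew

section symm

variable {F : Type*} [Field F] [Fintype F]

/-- symmetric matrices over a finite field of odd characteristic whose determinants differ by a
square are congruent -/
theorem exists_sym_congruence (h2 : (2 : F) ≠ 0) {ι : Type*} [Fintype ι] [DecidableEq ι]
    [Nonempty ι] (G₁ G₂ : Matrix ι ι F) (hs₁ : G₁ᵀ = G₁) (hs₂ : G₂ᵀ = G₂) (s : F) (hs : s ≠ 0)
    (hdet : G₁.det = s ^ 2 * G₂.det) (hne : G₂.det ≠ 0) :
    ∃ P P' : Matrix ι ι F, P * P' = 1 ∧ Pᵀ * G₂ * P = G₁ := by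
  have hne1 : G₁.det ≠ 0 := by
    rw [hdet]
    exact mul_ne_zero (pow_ne_zero 2 hs) hne
  have hS₁ : (Matrix.toBilin' G₁).IsSymm := isSymm_toBilin'_iff_isSymm.2 hs₁
  have hS₂ : (Matrix.toBilin' G₂).IsSymm := isSymm_toBilin'_iff_isSymm.2 hs₂
  have hN₁ : (Matrix.toBilin' G₁).Nondegenerate :=
    Matrix.Nondegenerate.toBilin' (Matrix.nondegenerate_of_det_ne_zero hne1)
  have hN₂ : (Matrix.toBilin' G₂).Nondegenerate :=
    Matrix.Nondegenerate.toBilin' (Matrix.nondegenerate_of_det_ne_zero hne)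
  obtain ⟨g, hg⟩ := Cfsg.Agent.Lib.Helper14.exists_isometry_of_disc' h2 rfl
    (Matrix.toBilin' G₁) hS₁ hN₁ (Matrix.toBilin' G₂) hS₂ hN₂ (Pi.basisFun F ι) (Pi.basisFun F ι)
    s hs (by
      rw [LinearMap.BilinForm.toMatrix_basisFun, LinearMap.BilinForm.toMatrix'_toBilin',
        LinearMap.BilinForm.toMatrix'_toBilin', hdet])
  have hcomp : (Matrix.toBilin' G₂).comp (g : (ι → F) →ₗ[F] (ι → F)) (g : (ι → F) →ₗ[F] (ι → F)) =
      Matrix.toBilin' G₁ := by
    apply LinearMap.ext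
    intro x
    apply LinearMap.ext
    intro y
    exact hg x y
  refine ⟨LinearMap.toMatrix' (g : (ι → F) →ₗ[F] (ι → F)),
    LinearMap.toMatrix' (g.symm : (ι → F) →ₗ[F] (ι → F)), ?_, ?_⟩
  · rw [← LinearMap.toMatrix'_comp]
    have : (g : (ι → F) →ₗ[F] (ι → F)) ∘ₗ (g.symm : (ι → F) →ₗ[F] (ι → F)) = LinearMap.id := by
      ext x
      simp
    rw [this, LinearMap.toMatrix'_id]
  · have h := LinearMap.BilinForm.toMatrix'_comp (Matrix.toBilin' G₂)
      (g : (ι → F) →ₗ[F] (ι → F)) (g : (ι → F) →ₗ[F] (ι → F))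
    rw [hcomp, LinearMap.BilinForm.toMatrix'_toBilin', LinearMap.BilinForm.toMatrix'_toBilin'] at h
    exact h.symm

/-- two non-zero elements in the same square class differ by a square -/
theorem exists_sq_mul_of_isSquare_iff [DecidableEq F] (h2 : (2 : F) ≠ 0) (a b : F) (ha : a ≠ 0)
    (hb : b ≠ 0) (h : IsSquare a ↔ IsSquare b) : ∃ s : F, s ≠ 0 ∧ a = s ^ 2 * b := by
  have hchar : ringChar F ≠ 2 := by
    intro hc
    apply h2
    have : ((2 : ℕ) : F) = 0 := by
      rw [← hc]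
      exact ringChar.Nat.cast_ringChar
    exact_mod_cast this
  have hsq : IsSquare (a / b) := by
    rw [← quadraticChar_one_iff_isSquare (div_ne_zero ha hb), div_eq_mul_inv, map_mul]
    by_cases hA : IsSquare a
    · have hB := h.1 hA
      have hBi : IsSquare b⁻¹ := by
        obtain ⟨r, hr⟩ := hB
        exact ⟨r⁻¹, by rw [hr, mul_inv]⟩
      rw [(quadraticChar_one_iff_isSquare ha).2 hA,
        (quadraticChar_one_iff_isSquare (inv_ne_zero hb)).2 hBi, mul_one]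
    · have hB : ¬ IsSquare b := fun hB => hA (h.2 hB)
      have hBi : ¬ IsSquare b⁻¹ := by
        rintro ⟨r, hr⟩
        apply hB
        refine ⟨r⁻¹, ?_⟩
        rw [← mul_inv, ← hr, inv_inv]
      rw [(quadraticChar_neg_one_iff_not_isSquare).2 hA,
        (quadraticChar_neg_one_iff_not_isSquare).2 hBi]
      norm_num
  obtain ⟨s, hs⟩ := hsq
  have hs0 : s ≠ 0 := by
    rintro rfl
    rw [mul_zero, div_eq_zero_iff] at hs
    rcases hs with hs | hs
    · exact ha hs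
    · exact hb hs
  refine ⟨s, hs0, ?_⟩
  rw [pow_two, ← hs, div_mul_cancel₀ a hb]

/-- congruence of symmetric matrices with the same discriminant class -/
theorem cong_of_symm [DecidableEq F] (h2 : (2 : F) ≠ 0) {ι : Type*} [Fintype ι] [DecidableEq ι]
    (G G' : Matrix ι ι F) (hs : Gᵀ = G) (hs' : G'ᵀ = G') (hdet : G.det ≠ 0) (hdet' : G'.det ≠ 0)
    (h : IsSquare G.det ↔ IsSquare G'.det) :
    ∃ w w' : Matrix ι ι F, w * w' = 1 ∧ wᵀ * G * w = G' := by
  by_cases hι : Nonempty ι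
  · obtain ⟨s, hs0, hss⟩ := exists_sq_mul_of_isSquare_iff h2 G'.det G.det hdet' hdet h.symm
    exact exists_sym_congruence h2 G' G hs' hs s hs0 hss hdet
  · rw [not_nonempty_iff] at hι
    refine ⟨1, 1, one_mul 1, ?_⟩
    ext i
    exact (hι.false i).elim

end symm

section skew'

variable {F : Type*} [Field F]

theorem cong_of_skew (h2 : (2 : F) ≠ 0) {ι : Type*} [Fintype ι] [DecidableEq ι]
    (G G' : Matrix ι ι F) (hs : Gᵀ = -G) (hs' : G'ᵀ = -G') (hdet : G.det ≠ 0) (hdet' : G'.det ≠ 0) :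
    ∃ w w' : Matrix ι ι F, w * w' = 1 ∧ wᵀ * G * w = G' := by
  obtain ⟨P, P', h1, -, h3⟩ := exists_skew_congruence h2 rfl G G' hs hs' hdet hdet'
  exact ⟨P, P', h1, h3⟩

end skew'

end Cfsg.Agent.Lib.Helper43.SpU
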