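import Cfsg.Agent.Lib.Helper43.SpUTop

/-!
# The skew form on the Jordan type model and its adjoint involution
-/

set_option autoImplicit false

namespace Cfsg.Agent.Lib.Helper43.UCDag

open Matrix Cfsg.Agent.Lib.Helper43 Cfsg.Agent.Lib.Helper43.InvolRing
  Cfsg.Agent.Lib.Helper43.HermSqrt

variable {K : Type*} [Field K] {t : ℕ} (d : Fin t → ℕ) (hd : ∀ k, 1 ≤ d k)

theorem cT_id' {n : Type*} (X : Matrix n n K) : cT (RingHom.id K) X = Xᵀ := by
  ext i j
  rfl

theorem dag_id_eq (X : Matrix ((k : Fin t) × Fin (d k)) ((k : Fin t) × Fin (d k)) K) :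
    dag d (RingHom.id K) X = H0 K d * Xᵀ * H0 K d := by
  rw [dag_eq, cT_id']

section form

variable (γ : BlkFam K d) (Γi : Matrix ((k : Fin t) × Fin (d k)) ((k : Fin t) × Fin (d k)) K)

/-- the Gram matrix of the form -/
def formB : Matrix ((k : Fin t) × Fin (d k)) ((k : Fin t) × Fin (d k)) K :=
  H0 K d * sgnD K d * sec d γ

/-- its inverse -/
def formBi : Matrix ((k : Fin t) × Fin (d k)) ((k : Fin t) × Fin (d k)) K :=
  Γi * sgnD K d * H0 K d

/-- the adjoint with respect to the form -/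
def adj (X : Matrix ((k : Fin t) × Fin (d k)) ((k : Fin t) × Fin (d k)) K) :
    Matrix ((k : Fin t) × Fin (d k)) ((k : Fin t) × Fin (d k)) K :=
  formBi d Γi * Xᵀ * formB d γ

variable (hΓ1 : sec d γ * Γi = 1) (hΓ2 : Γi * sec d γ = 1)

include hΓ1 in
theorem formB_mul_formBi : formB d γ * formBi d Γi = 1 := by
  unfold formB formBi
  calc H0 K d * sgnD K d * sec d γ * (Γi * sgnD K d * H0 K d)
      = H0 K d * sgnD K d * (sec d γ * Γi) * sgnD K d * H0 K d := by simp only [mul_assoc]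
    _ = H0 K d * (sgnD K d * sgnD K d) * H0 K d := by rw [hΓ1, mul_one]; simp only [mul_assoc]
    _ = 1 := by rw [sgnD_mul_sgnD, mul_one, H0_mul_H0]

include hΓ2 in
theorem formBi_mul_formB : formBi d Γi * formB d γ = 1 := by
  unfold formB formBi
  calc Γi * sgnD K d * H0 K d * (H0 K d * sgnD K d * sec d γ)
      = Γi * sgnD K d * (H0 K d * H0 K d) * sgnD K d * sec d γ := by simp only [mul_assoc]
    _ = Γi * (sgnD K d * sgnD K d) * sec d γ := by rw [H0_mul_H0, mul_one]; simp only [mul_assoc]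
    _ = 1 := by rw [sgnD_mul_sgnD, mul_one, hΓ2]

variable (hγ : ∀ i, (γ i)ᵀ = ((-1 : K) ^ (i : ℕ)) • γ i)

include hγ in
theorem dag_sec_gamma : dag d (RingHom.id K) (sec d γ) =
    sec d (fun i => ((-1 : K) ^ (i : ℕ)) • γ i) := by
  rw [← sec_cTFam]
  congr 1
  funext i
  show cT (RingHom.id K) (γ i) = _
  rw [cT_id', hγ]

include hγ in
theorem formB_transpose : (formB d γ)ᵀ = -formB d γ := by
  have h1 : (sec d γ)ᵀ = H0 K d * sec d (fun i => ((-1 : K) ^ (i : ℕ)) • γ i) * H0 K d := by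
    rw [← dag_sec_gamma d γ hγ, dag_id_eq]
    calc (sec d γ)ᵀ = (H0 K d * H0 K d) * (sec d γ)ᵀ * (H0 K d * H0 K d) := by
          rw [H0_mul_H0, one_mul, mul_one]
      _ = _ := by simp only [mul_assoc]
  have h2 : sec d (fun i => ((-1 : K) ^ (i : ℕ)) • γ i) * (H0 K d * sgnD K d * H0 K d) =
      -(sgnD K d * sec d γ) := by
    rw [H0_sgnD_H0]
    ext a c
    rw [Matrix.mul_diagonal, Matrix.neg_apply, sgnD_mul_apply, sec_sign]
    by_cases h : d a.1 = d c.1 ∧ (a.2 : ℕ) = (c.2 : ℕ)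
    · obtain ⟨h3, h4⟩ := h
      rw [rev_apply]
      simp only
      rw [Fin.val_rev]
      have ha := a.2.2
      have e0 : d c.1 - ((c.2 : ℕ) + 1) = d a.1 - ((a.2 : ℕ) + 1) := by omega
      rw [e0]
      have e1 : ((-1 : K) ^ (d a.1)) * (-1) ^ (d a.1 - ((a.2 : ℕ) + 1)) * (-1) ^ (a.2 : ℕ) = -1 := by
        rw [← pow_add, ← pow_add]
        have : d a.1 + (d a.1 - ((a.2 : ℕ) + 1)) + (a.2 : ℕ) = 2 * (d a.1 - 1) + 1 := by omega
        rw [this]
        exact Odd.neg_one_pow ⟨_, rfl⟩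
      have e2 : ((-1 : K) ^ (a.2 : ℕ)) * (-1) ^ (a.2 : ℕ) = 1 := by
        rw [← mul_pow]
        simp
      calc (-1 : K) ^ d a.1 * sec d γ a c * (-1) ^ (d a.1 - ((a.2 : ℕ) + 1))
          = ((-1 : K) ^ (d a.1) * (-1) ^ (d a.1 - ((a.2 : ℕ) + 1))) * sec d γ a c *
              (((-1 : K) ^ (a.2 : ℕ)) * (-1) ^ (a.2 : ℕ)) := by rw [e2]; ring
        _ = (((-1 : K) ^ (d a.1)) * (-1) ^ (d a.1 - ((a.2 : ℕ) + 1)) * (-1) ^ (a.2 : ℕ)) *
              ((-1) ^ (a.2 : ℕ) * sec d γ a c) := by ring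
        _ = -((-1) ^ (a.2 : ℕ) * sec d γ a c) := by rw [e1]; ring
    · rw [sec_eq_zero d γ a c h]
      ring
  unfold formB
  rw [Matrix.transpose_mul, Matrix.transpose_mul, sgnD_transpose, H0_transpose, h1]
  calc H0 K d * sec d (fun i => ((-1 : K) ^ (i : ℕ)) • γ i) * H0 K d * (sgnD K d * H0 K d)
      = H0 K d * (sec d (fun i => ((-1 : K) ^ (i : ℕ)) • γ i) *
          (H0 K d * sgnD K d * H0 K d)) := by simp only [mul_assoc]
    _ = -(H0 K d * sgnD K d * sec d γ) := by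
        rw [h2, Matrix.mul_neg]
        simp only [mul_assoc]

theorem adj_eq (X : Matrix ((k : Fin t) × Fin (d k)) ((k : Fin t) × Fin (d k)) K) :
    adj d γ Γi X = Γi * (sgnD K d * dag d (RingHom.id K) X * sgnD K d) * sec d γ := by
  unfold adj formB formBi
  rw [dag_id_eq]
  simp only [mul_assoc]

include hΓ1 in
theorem adj_mul (X Y : Matrix ((k : Fin t) × Fin (d k)) ((k : Fin t) × Fin (d k)) K) :
    adj d γ Γi (X * Y) = adj d γ Γi Y * adj d γ Γi X := by
  unfold adj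
  rw [Matrix.transpose_mul]
  calc formBi d Γi * (Yᵀ * Xᵀ) * formB d γ
      = formBi d Γi * Yᵀ * 1 * Xᵀ * formB d γ := by rw [mul_one]; simp only [mul_assoc]
    _ = formBi d Γi * Yᵀ * formB d γ * (formBi d Γi * Xᵀ * formB d γ) := by
        rw [← formB_mul_formBi d γ Γi hΓ1]
        simp only [mul_assoc]

include hΓ2 in
theorem adj_one : adj d γ Γi 1 = 1 := by
  unfold adj
  rw [Matrix.transpose_one, mul_one, formBi_mul_formB d γ Γi hΓ2]

theorem adj_add (X Y : Matrix ((k : Fin t) × Fin (d k)) ((k : Fin t) × Fin (d k)) K) :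
    adj d γ Γi (X + Y) = adj d γ Γi X + adj d γ Γi Y := by
  unfold adj
  rw [Matrix.transpose_add, mul_add, add_mul]

theorem adj_neg (X : Matrix ((k : Fin t) × Fin (d k)) ((k : Fin t) × Fin (d k)) K) :
    adj d γ Γi (-X) = -adj d γ Γi X := by
  unfold adj
  rw [Matrix.transpose_neg, mul_neg, neg_mul]

theorem adj_sub (X Y : Matrix ((k : Fin t) × Fin (d k)) ((k : Fin t) × Fin (d k)) K) :
    adj d γ Γi (X - Y) = adj d γ Γi X - adj d γ Γi Y := by
  rw [sub_eq_add_neg, adj_add, adj_neg, ← sub_eq_add_neg]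

theorem adj_smul (c : K) (X : Matrix ((k : Fin t) × Fin (d k)) ((k : Fin t) × Fin (d k)) K) :
    adj d γ Γi (c • X) = c • adj d γ Γi X := by
  unfold adj
  rw [Matrix.transpose_smul, Matrix.mul_smul, Matrix.smul_mul]

include hΓ1 hΓ2 hγ in
theorem adj_adj (X : Matrix ((k : Fin t) × Fin (d k)) ((k : Fin t) × Fin (d k)) K) :
    adj d γ Γi (adj d γ Γi X) = X := by
  have hB := formB_transpose d γ hγ
  have h1 : formBi d Γi * (formB d γ)ᵀ = -1 := by
    rw [hB, mul_neg, formBi_mul_formB d γ Γi hΓ2]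
  have h2 : (formBi d Γi)ᵀ * formB d γ = -1 := by
    have := congrArg Matrix.transpose (formB_mul_formBi d γ Γi hΓ1)
    rw [Matrix.transpose_mul, Matrix.transpose_one, hB, mul_neg] at this
    rw [← this, neg_neg]
  unfold adj
  rw [Matrix.transpose_mul, Matrix.transpose_mul, Matrix.transpose_transpose]
  calc formBi d Γi * ((formB d γ)ᵀ * (X * (formBi d Γi)ᵀ)) * formB d γ
      = (formBi d Γi * (formB d γ)ᵀ) * X * ((formBi d Γi)ᵀ * formB d γ) := by
        simp only [mul_assoc]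
    _ = X := by rw [h1, h2]; simp

include hΓ1 hΓ2 in
theorem gammaInv_comm : Γi * nil K d = nil K d * Γi := by
  calc Γi * nil K d = Γi * nil K d * (sec d γ * Γi) := by rw [hΓ1, mul_one]
    _ = Γi * (nil K d * sec d γ) * Γi := by simp only [mul_assoc]
    _ = Γi * (sec d γ * nil K d) * Γi := by rw [sec_comm]
    _ = (Γi * sec d γ) * nil K d * Γi := by simp only [mul_assoc]
    _ = nil K d * Γi := by rw [hΓ2, one_mul]

include hΓ1 hΓ2 in
theorem adj_nil : adj d γ Γi (nil K d) = -nil K d := by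
  rw [adj_eq, dag_nil, sgnD_nil_sgnD, mul_neg, neg_mul, gammaInv_comm d γ Γi hΓ1 hΓ2, mul_assoc,
    hΓ2, mul_one]

include hΓ1 hΓ2 in
theorem comm_adj (X : Matrix ((k : Fin t) × Fin (d k)) ((k : Fin t) × Fin (d k)) K)
    (hX : X * nil K d = nil K d * X) : adj d γ Γi X * nil K d = nil K d * adj d γ Γi X := by
  have h := congrArg (adj d γ Γi) hX
  rw [adj_mul d γ Γi hΓ1, adj_mul d γ Γi hΓ1, adj_nil d γ Γi hΓ1 hΓ2, neg_mul, mul_neg, neg_inj] at h
  exact h.symm

include hΓ1 hΓ2 in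
/-- the top blocks of the adjoint -/
theorem top_adj (X : Matrix ((k : Fin t) × Fin (d k)) ((k : Fin t) × Fin (d k)) K)
    (hX : X * nil K d = nil K d * X) (i : Fin (supD d + 1)) :
    γ i * top d hd (adj d γ Γi X) i = (top d hd X i)ᵀ * γ i := by
  have hZ : (sgnD K d * dag d (RingHom.id K) X * sgnD K d) * nil K d =
      nil K d * (sgnD K d * dag d (RingHom.id K) X * sgnD K d) :=
    comm_sgnD d _ (comm_dag d (RingHom.id K) X hX)
  have h1 : sec d γ * adj d γ Γi X =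
      (sgnD K d * dag d (RingHom.id K) X * sgnD K d) * sec d γ := by
    rw [adj_eq]
    calc sec d γ * (Γi * (sgnD K d * dag d (RingHom.id K) X * sgnD K d) * sec d γ)
        = (sec d γ * Γi) * (sgnD K d * dag d (RingHom.id K) X * sgnD K d) * sec d γ := by
          simp only [mul_assoc]
      _ = _ := by rw [hΓ1, one_mul]
  have h2 := congrArg (top d hd) h1
  rw [top_mul d hd _ _ (sec_comm d γ) (comm_adj d γ Γi hΓ1 hΓ2 X hX),
    top_mul d hd _ _ hZ (sec_comm d γ), top_sec, top_sgnD,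
    top_dag d hd X hX (RingHom.id K)] at h2
  have h3 := congrFun h2 i
  rw [Pi.mul_apply, Pi.mul_apply] at h3
  rw [h3]
  show cT (RingHom.id K) (top d hd X i) * γ i = _
  rw [cT_id']

end form

end Cfsg.Agent.Lib.Helper43.UCDag
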