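import Cfsg.Agent.Lib.Helper43.SpURad
import Cfsg.Agent.Lib.Helper43.SpUCong

/-!
# The discriminant invariants of the symmetric elements of the commutant
-/

set_option autoImplicit false

namespace Cfsg.Agent.Lib.Helper43.UCDag

open Matrix Module Cfsg.Agent.Lib.Helper43 Cfsg.Agent.Lib.Helper43.InvolRing
  Cfsg.Agent.Lib.Helper43.HermSqrt Cfsg.Agent.Lib.Helper99 Cfsg.Agent.Lib.Helper43.SpU

variable {F : Type*} [Field F] {t : ℕ} (d : Fin t → ℕ) (hd : ∀ k, 1 ≤ d k)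

local notation "𝕄" => Matrix ((k : Fin t) × Fin (d k)) ((k : Fin t) × Fin (d k)) F

theorem comm_mul (X Y : 𝕄) (hX : X * nil F d = nil F d * X) (hY : Y * nil F d = nil F d * Y) :
    (X * Y) * nil F d = nil F d * (X * Y) := by
  rw [mul_assoc, hY, ← mul_assoc, hX, mul_assoc]

theorem isSquare_mul_mul_iff (c a : F) (hc : c ≠ 0) : IsSquare (c * a * c) ↔ IsSquare a := by
  constructor
  · rintro ⟨r, hr⟩
    refine ⟨r / c, ?_⟩
    have : r / c * (r / c) = (r * r) / (c * c) := by ring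
    rw [this, ← hr]
    field_simp
  · rintro ⟨r, hr⟩
    exact ⟨c * r, by rw [hr]; ring⟩

theorem det_top_ne_zero (X : 𝕄ˣ) (hX : (X : 𝕄) * nil F d = nil F d * (X : 𝕄))
    (i : Fin (supD d + 1)) : (top d hd (X : 𝕄) i).det ≠ 0 :=
  ((isUnit_iff_top d hd _ hX).1 X.isUnit i).ne_zero

section model

variable (γ : BlkFam F d)
  (Γi : Matrix ((k : Fin t) × Fin (d k)) ((k : Fin t) × Fin (d k)) F)
  (hΓ1 : sec d γ * Γi = 1) (hΓ2 : Γi * sec d γ = 1)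
  (hγdet : ∀ i, (γ i).det ≠ 0)

include hΓ1 hΓ2 hγdet in
theorem det_top_adj (X : 𝕄) (hX : X * nil F d = nil F d * X) (i : Fin (supD d + 1)) :
    (top d hd (adj d γ Γi X) i).det = (top d hd X i).det := by
  have h := congrArg Matrix.det (top_adj d hd γ Γi hΓ1 hΓ2 X hX i)
  rw [det_mul, det_mul, det_transpose, mul_comm (γ i).det] at h
  exact mul_right_cancel₀ (hγdet i) h

include hγdet in
/-- the invariants are invariant -/
theorem inv_I1 (s z : 𝕄ˣ) (hs : (s : 𝕄) * nil F d = nil F d * (s : 𝕄))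
    (hz : (z : 𝕄) * nil F d = nil F d * (z : 𝕄)) (i : Fin (supD d + 1)) :
    IsSquare (top d hd ((adjU d γ Γi hΓ1 hΓ2 z * s * z : 𝕄ˣ) : 𝕄) i).det ↔
      IsSquare (top d hd (s : 𝕄) i).det := by
  have hadjz := comm_adj d γ Γi hΓ1 hΓ2 (z : 𝕄) hz
  have e : top d hd ((adjU d γ Γi hΓ1 hΓ2 z * s * z : 𝕄ˣ) : 𝕄) =
      top d hd (adj d γ Γi (z : 𝕄)) * top d hd (s : 𝕄) * top d hd (z : 𝕄) := by
    rw [Units.val_mul, Units.val_mul, adjU_val,
      top_mul d hd _ _ (comm_mul d _ _ hadjz hs) hz, top_mul d hd _ _ hadjz hs]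
  rw [e, Pi.mul_apply, Pi.mul_apply, det_mul, det_mul,
    det_top_adj d hd γ Γi hΓ1 hΓ2 hγdet _ hz]
  exact isSquare_mul_mul_iff _ _ (det_top_ne_zero d hd z hz i)

variable [Fintype F] (h2 : (2 : F) ≠ 0)
  (hγ : ∀ i, (γ i)ᵀ = ((-1 : F) ^ (i : ℕ)) • γ i)
  (hγeven : ∀ i : Fin (supD d + 1), Even (i : ℕ) → γ i = 1)

include h2 hγ hγdet hγeven in
/-- the invariants are complete -/
theorem inv_I2 (s s' : 𝕄ˣ) (hsZ : (s : 𝕄) * nil F d = nil F d * (s : 𝕄))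
    (hss : adjU d γ Γi hΓ1 hΓ2 s = s)
    (hsZ' : (s' : 𝕄) * nil F d = nil F d * (s' : 𝕄))
    (hss' : adjU d γ Γi hΓ1 hΓ2 s' = s')
    (hinv : ∀ i : Fin (supD d + 1), Even (i : ℕ) → Nonempty {k : Fin t // d k = (i : ℕ)} →
      (IsSquare (top d hd (s : 𝕄) i).det ↔ IsSquare (top d hd (s' : 𝕄) i).det)) :
    ∃ z : 𝕄ˣ, (z : 𝕄) * nil F d = nil F d * (z : 𝕄) ∧
      adjU d γ Γi hΓ1 hΓ2 z * s * z = s' := by
  classical
  -- Step 1: blockwise congruence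
  have hblk : ∀ i : Fin (supD d + 1), ∃ w w' : Matrix {k : Fin t // d k = (i : ℕ)}
      {k : Fin t // d k = (i : ℕ)} F, w * w' = 1 ∧
      wᵀ * (γ i * top d hd (s : 𝕄) i) * w = γ i * top d hd (s' : 𝕄) i := by
    intro i
    have hG : ∀ x : 𝕄ˣ, (x : 𝕄) * nil F d = nil F d * (x : 𝕄) → adjU d γ Γi hΓ1 hΓ2 x = x →
        (γ i * top d hd (x : 𝕄) i)ᵀ = ((-1 : F) ^ (i : ℕ)) • (γ i * top d hd (x : 𝕄) i) := by
      intro x hxZ hxs
      have h1 := top_adj d hd γ Γi hΓ1 hΓ2 (x : 𝕄) hxZ i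
      have h3 : adj d γ Γi (x : 𝕄) = (x : 𝕄) := congrArg Units.val hxs
      rw [h3] at h1
      rw [Matrix.transpose_mul, hγ i, Matrix.mul_smul, ← h1]
    have hdetG : ∀ x : 𝕄ˣ, (x : 𝕄) * nil F d = nil F d * (x : 𝕄) →
        (γ i * top d hd (x : 𝕄) i).det ≠ 0 := by
      intro x hxZ
      rw [det_mul]
      exact mul_ne_zero (hγdet i) (det_top_ne_zero d hd x hxZ i)
    rcases Nat.even_or_odd (i : ℕ) with hi | hi
    · have e1 : (-1 : F) ^ (i : ℕ) = 1 := hi.neg_one_pow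
      apply cong_of_symm h2 _ _ (by rw [hG s hsZ hss, e1, one_smul])
        (by rw [hG s' hsZ' hss', e1, one_smul]) (hdetG s hsZ) (hdetG s' hsZ')
      rw [hγeven i hi, one_mul, one_mul]
      by_cases hne : Nonempty {k : Fin t // d k = (i : ℕ)}
      · exact hinv i hi hne
      · rw [not_nonempty_iff] at hne
        rw [Matrix.det_isEmpty, Matrix.det_isEmpty]
    · have e1 : (-1 : F) ^ (i : ℕ) = -1 := hi.neg_one_pow
      exact cong_of_skew h2 _ _ (by rw [hG s hsZ hss, e1, neg_one_smul])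
        (by rw [hG s' hsZ' hss', e1, neg_one_smul]) (hdetG s hsZ) (hdetG s' hsZ')
  choose w w' hw1 hw2 using hblk
  -- Step 2: the block-scalar element
  have hz₀Z : sec d w * nil F d = nil F d * sec d w := sec_comm d w
  have hz₀u : IsUnit (sec d w) := by
    rw [isUnit_iff_top d hd _ hz₀Z]
    intro i
    rw [top_sec]
    exact Matrix.isUnit_det_of_right_inverse (hw1 i)
  obtain ⟨z₀, hz₀⟩ := hz₀u
  have hz₀Z' : (z₀ : 𝕄) * nil F d = nil F d * (z₀ : 𝕄) := by rw [hz₀]; exact hz₀Z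
  have htopz₀ : top d hd (z₀ : 𝕄) = w := by rw [hz₀, top_sec]
  set s₁ : 𝕄ˣ := adjU d γ Γi hΓ1 hΓ2 z₀ * s * z₀ with hs₁
  have hadjz₀ := comm_adj d γ Γi hΓ1 hΓ2 (z₀ : 𝕄) hz₀Z'
  have hs₁val : (s₁ : 𝕄) = adj d γ Γi (z₀ : 𝕄) * (s : 𝕄) * (z₀ : 𝕄) := by
    rw [hs₁, Units.val_mul, Units.val_mul, adjU_val]
  have hs₁Z : (s₁ : 𝕄) * nil F d = nil F d * (s₁ : 𝕄) := by
    rw [hs₁val]
    exact comm_mul d _ _ (comm_mul d _ _ hadjz₀ hsZ) hz₀Z'
  have hs₁s : adjU d γ Γi hΓ1 hΓ2 s₁ = s₁ := by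
    rw [hs₁, adjU_mul, adjU_mul, adjU_adjU d γ Γi hΓ1 hΓ2 hγ, hss, mul_assoc]
  have htop : top d hd (s₁ : 𝕄) = top d hd (s' : 𝕄) := by
    funext i
    have e1 : top d hd (s₁ : 𝕄) i =
        top d hd (adj d γ Γi (z₀ : 𝕄)) i * top d hd (s : 𝕄) i * w i := by
      rw [hs₁val, top_mul d hd _ _ (comm_mul d _ _ hadjz₀ hsZ) hz₀Z',
        top_mul d hd _ _ hadjz₀ hsZ, htopz₀]
      rfl
    have e2 := top_adj d hd γ Γi hΓ1 hΓ2 (z₀ : 𝕄) hz₀Z' i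
    rw [htopz₀] at e2
    have e3 : γ i * top d hd (s₁ : 𝕄) i = γ i * top d hd (s' : 𝕄) i := by
      rw [e1, ← mul_assoc, ← mul_assoc, e2, ← hw2 i]
      simp only [mul_assoc]
    have hu : IsUnit (γ i) := (Matrix.isUnit_iff_isUnit_det _).2 (isUnit_iff_ne_zero.2 (hγdet i))
    exact hu.mul_right_inj.1 e3
  -- Step 3: the square root
  set w₂ : 𝕄ˣ := s₁⁻¹ * s' with hw₂
  have hw₂Z : (w₂ : 𝕄) * nil F d = nil F d * (w₂ : 𝕄) := by
    rw [hw₂, Units.val_mul]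
    exact comm_mul d _ _
      (Commute.units_inv_left (show Commute (s₁ : 𝕄) (nil F d) from hs₁Z)).eq hsZ'
  have hw₂top : top d hd (w₂ : 𝕄) = 1 := by
    have h1 : (s₁ : 𝕄) * (w₂ : 𝕄) = (s' : 𝕄) := by
      rw [← Units.val_mul, hw₂, mul_inv_cancel_left]
    have h3 := congrArg (top d hd) h1
    rw [top_mul d hd _ _ hs₁Z hw₂Z, ← htop] at h3
    funext i
    have h4 := congrFun h3 i
    rw [Pi.mul_apply] at h4
    have hu : IsUnit (top d hd (s₁ : 𝕄) i) :=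
      (Matrix.isUnit_iff_isUnit_det _).2 (isUnit_iff_ne_zero.2 (det_top_ne_zero d hd s₁ hs₁Z i))
    apply hu.mul_right_inj.1
    rw [h4]
    exact (mul_one _).symm
  have hmem : w₂ ∈ radGroup d hd := (mem_radGroup d hd w₂).2 ⟨hw₂Z, hw₂top⟩
  have hpow := pow_card_radGroup d hd w₂ hmem
  have hodd := odd_card_radGroup d hd h2
  set n := Nat.card (radGroup (F := F) d hd) with hn
  have hsq := sqrt_trick (adjU d γ Γi hΓ1 hΓ2) (adjU_mul d γ Γi hΓ1 hΓ2) s₁ s' hs₁s hss' n hodd hpow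
  refine ⟨z₀ * w₂ ^ ((n + 1) / 2), ?_, ?_⟩
  · rw [Units.val_mul, Units.val_pow_eq_pow_val]
    exact comm_mul d _ _ hz₀Z'
      ((show Commute (w₂ : 𝕄) (nil F d) from hw₂Z).pow_left _).eq
  · rw [adjU_mul]
    calc adjU d γ Γi hΓ1 hΓ2 (w₂ ^ ((n + 1) / 2)) * adjU d γ Γi hΓ1 hΓ2 z₀ * s *
          (z₀ * w₂ ^ ((n + 1) / 2))
        = adjU d γ Γi hΓ1 hΓ2 (w₂ ^ ((n + 1) / 2)) * (adjU d γ Γi hΓ1 hΓ2 z₀ * s * z₀) *
          w₂ ^ ((n + 1) / 2) := by simp only [mul_assoc]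
      _ = s' := hsq

end model

end Cfsg.Agent.Lib.Helper43.UCDag
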