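import Cfsg.Agent.Lib.Helper43.SpUInv

/-!
# Counting the classes of the isometry group of the model inside a unipotent class
-/

set_option autoImplicit false

namespace Cfsg.Agent.Lib.Helper43.UCDag

open Matrix Module Cfsg.Agent.Lib.Helper43 Cfsg.Agent.Lib.Helper43.InvolRing
  Cfsg.Agent.Lib.Helper43.HermSqrt Cfsg.Agent.Lib.Helper99 Cfsg.Agent.Lib.Helper43.SpU

variable {F : Type*} [Field F] {t : ℕ} (d : Fin t → ℕ) (hd : ∀ k, 1 ≤ d k)

local notation "𝕄" => Matrix ((k : Fin t) × Fin (d k)) ((k : Fin t) × Fin (d k)) F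

/-- the even block sizes that occur -/
abbrev EvenIdx : Type := {i : Fin (supD d + 1) // Even (i : ℕ) ∧ Nonempty {k : Fin t // d k = (i : ℕ)}}

section model

variable (γ : BlkFam F d)
  (Γi : Matrix ((k : Fin t) × Fin (d k)) ((k : Fin t) × Fin (d k)) F)
  (hΓ1 : sec d γ * Γi = 1) (hΓ2 : Γi * sec d γ = 1)
  (hγdet : ∀ i, (γ i).det ≠ 0)
  (h2 : (2 : F) ≠ 0)
  (hγ : ∀ i, (γ i)ᵀ = ((-1 : F) ^ (i : ℕ)) • γ i)
  (hγeven : ∀ i : Fin (supD d + 1), Even (i : ℕ) → γ i = 1)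

include hΓ1 h2 hγ in
/-- every symmetric unit is a norm -/
theorem inv_hDB (s : 𝕄ˣ) (hss : adjU d γ Γi hΓ1 hΓ2 s = s) :
    ∃ x : 𝕄ˣ, adjU d γ Γi hΓ1 hΓ2 x * x = s := by
  have hB := formB_transpose d γ hγ
  have hBB := formB_mul_formBi d γ Γi hΓ1
  have hBiB := formBi_mul_formB d γ Γi hΓ2
  have h1 : adj d γ Γi (s : 𝕄) = (s : 𝕄) := congrArg Units.val hss
  have h3 : (s : 𝕄)ᵀ * formB d γ = formB d γ * (s : 𝕄) := by
    have : formB d γ * adj d γ Γi (s : 𝕄) = formB d γ * (s : 𝕄) := by rw [h1]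
    unfold adj at this
    rw [← mul_assoc, ← mul_assoc, hBB, one_mul] at this
    exact this
  have hskew : (formB d γ * (s : 𝕄))ᵀ = -(formB d γ * (s : 𝕄)) := by
    rw [Matrix.transpose_mul, hB, mul_neg, h3]
  have hdetB : (formB d γ).det ≠ 0 := (Matrix.isUnit_det_of_right_inverse hBB).ne_zero
  have hdets : ((s : 𝕄)).det ≠ 0 := ((Matrix.isUnit_iff_isUnit_det _).1 s.isUnit).ne_zero
  have hdetBs : (formB d γ * (s : 𝕄)).det ≠ 0 := by
    rw [det_mul]
    exact mul_ne_zero hdetB hdets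
  obtain ⟨P, P', hPP', hP⟩ := cong_of_skew h2 (formB d γ) (formB d γ * (s : 𝕄)) hB hskew hdetB hdetBs
  refine ⟨⟨P, P', hPP', mul_eq_one_comm.1 hPP'⟩, ?_⟩
  apply Units.ext
  rw [Units.val_mul, adjU_val]
  show adj d γ Γi P * P = (s : 𝕄)
  unfold adj
  calc formBi d Γi * Pᵀ * formB d γ * P = formBi d Γi * (Pᵀ * formB d γ * P) := by
        simp only [mul_assoc]
    _ = (s : 𝕄) := by rw [hP, ← mul_assoc, hBiB, one_mul]

variable [Fintype F]

include hΓ1 hΓ2 hγdet h2 hγ hγeven in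
/-- every sign vector occurs -/
theorem inv_I3 (τ : EvenIdx d → Prop) :
    ∃ s : 𝕄ˣ, (s : 𝕄) * nil F d = nil F d * (s : 𝕄) ∧ adjU d γ Γi hΓ1 hΓ2 s = s ∧
      ∀ i : EvenIdx d, IsSquare (top d hd (s : 𝕄) i.1).det ↔ τ i := by
  classical
  obtain ⟨ν, hν⟩ := FiniteField.exists_nonsquare (ringChar_ne_two h2)
  have hν0 : ν ≠ 0 := by
    rintro rfl
    exact hν ⟨0, by ring⟩
  let y : BlkFam F d := fun i =>
    if h : Even (i : ℕ) ∧ Nonempty {k : Fin t // d k = (i : ℕ)} then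
      (if τ ⟨i, h⟩ then 1 else
        Matrix.diagonal (Function.update (fun _ => (1 : F)) (Classical.choice h.2) ν))
    else 1
  have hdetdiag : ∀ (i : Fin (supD d + 1)) (k₀ : {k : Fin t // d k = (i : ℕ)}),
      (Matrix.diagonal (Function.update (fun _ => (1 : F)) k₀ ν)).det = ν := by
    intro i k₀
    rw [Matrix.det_diagonal, Finset.prod_update_of_mem (Finset.mem_univ _), Finset.prod_const_one,
      mul_one]
  have hya : ∀ i, (y i)ᵀ = y i := by
    intro i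
    simp only [y]
    split_ifs
    · exact Matrix.transpose_one
    · exact Matrix.diagonal_transpose _
    · exact Matrix.transpose_one
  have hyb : ∀ i : Fin (supD d + 1), Odd (i : ℕ) → y i = 1 := by
    intro i hi
    simp only [y]
    rw [dif_neg]
    rintro ⟨he, -⟩
    exact (Nat.not_even_iff_odd.2 hi) he
  have hyc : ∀ i, (y i).det ≠ 0 := by
    intro i
    simp only [y]
    split_ifs
    · rw [Matrix.det_one]; exact one_ne_zero
    · rw [hdetdiag]; exact hν0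
    · rw [Matrix.det_one]; exact one_ne_zero
  have hyd : ∀ i : EvenIdx d, IsSquare (y i.1).det ↔ τ i := by
    intro i
    simp only [y]
    rw [dif_pos i.2]
    by_cases hτ : τ ⟨i.1, i.2⟩
    · rw [if_pos hτ, Matrix.det_one]
      exact ⟨fun _ => hτ, fun _ => ⟨1, by ring⟩⟩
    · rw [if_neg hτ, hdetdiag]
      exact ⟨fun h => absurd h hν, fun h => absurd h hτ⟩
  -- the symmetrised block-scalar element
  set s₀ : 𝕄 := sec d y with hs₀
  have hs₀Z : s₀ * nil F d = nil F d * s₀ := sec_comm d y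
  have hadjZ := comm_adj d γ Γi hΓ1 hΓ2 s₀ hs₀Z
  have htopadj : top d hd (adj d γ Γi s₀) = y := by
    funext i
    have e := top_adj d hd γ Γi hΓ1 hΓ2 s₀ hs₀Z i
    rw [hs₀, top_sec, hya i] at e
    have e' : γ i * top d hd (adj d γ Γi (sec d y)) i = γ i * y i := by
      rw [e]
      rcases Nat.even_or_odd (i : ℕ) with hi | hi
      · rw [hγeven i hi, mul_one, one_mul]
      · rw [hyb i hi, mul_one, one_mul]
    have hu : IsUnit (γ i) := (Matrix.isUnit_iff_isUnit_det _).2 (isUnit_iff_ne_zero.2 (hγdet i))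
    exact hu.mul_right_inj.1 e'
  set sm : 𝕄 := (2 : F)⁻¹ • (s₀ + adj d γ Γi s₀) with hsm
  have hsmZ : sm * nil F d = nil F d * sm := by
    rw [hsm, Matrix.smul_mul, Matrix.mul_smul, add_mul, mul_add, hs₀Z, hadjZ]
  have hsmadj : adj d γ Γi sm = sm := by
    rw [hsm, adj_smul, adj_add, adj_adj d γ Γi hΓ1 hΓ2 hγ, add_comm]
  have hsmtop : top d hd sm = y := by
    rw [hsm, top_smul, top_add, htopadj, hs₀, top_sec, ← two_smul F y, smul_smul,
      inv_mul_cancel₀ h2, one_smul]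
  have hsmu : IsUnit sm := by
    rw [isUnit_iff_top d hd _ hsmZ]
    intro i
    rw [hsmtop]
    exact isUnit_iff_ne_zero.2 (hyc i)
  obtain ⟨s, hs⟩ := hsmu
  refine ⟨s, ?_, ?_, ?_⟩
  · rw [hs]; exact hsmZ
  · apply Units.ext
    rw [adjU_val, hs]
    exact hsmadj
  · intro i
    rw [hs, hsmtop]
    exact hyd i

include hd hγdet h2 hγ hγeven in
/-- the number of classes of the isometry group of the model in the class of the Cayley element -/
theorem model_count :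
    Nat.card {C : ConjClasses (isoSub (adjU d γ Γi hΓ1 hΓ2) (adjU_mul d γ Γi hΓ1 hΓ2)) //
      ∃ g : isoSub (adjU d γ Γi hΓ1 hΓ2) (adjU_mul d γ Γi hΓ1 hΓ2),
        ConjClasses.mk g = C ∧ ∃ x : 𝕄ˣ, (g : 𝕄ˣ) * x = x * cayS d} =
      2 ^ Nat.card (EvenIdx d) := by
  classical
  rw [card_classes_of_model (adjU d γ Γi hΓ1 hΓ2) (adjU_mul d γ Γi hΓ1 hΓ2)
    (adjU_adjU d γ Γi hΓ1 hΓ2 hγ) (cayS d) (adjU_cayS d γ Γi hΓ1 hΓ2)
    (T := EvenIdx d → Prop)
    (fun s i => IsSquare (top d hd (s : 𝕄) i.1).det)]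
  · rw [Nat.card_fun, Nat.card_eq_fintype_card (α := Prop), Fintype.card_prop]
  · intro s _ hss
    exact inv_hDB d γ Γi hΓ1 hΓ2 h2 hγ s hss
  · intro s z hsu _ hzu
    funext i
    apply propext
    exact inv_I1 d hd γ Γi hΓ1 hΓ2 hγdet s z (comm_of_units_comm d h2 s hsu)
      (comm_of_units_comm d h2 z hzu) i.1
  · intro s s' hsu hss hsu' hss' hinv
    obtain ⟨z, hzZ, hz⟩ := inv_I2 d hd γ Γi hΓ1 hΓ2 hγdet h2 hγ hγeven s s'
      (comm_of_units_comm d h2 s hsu) hss (comm_of_units_comm d h2 s' hsu') hss'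
      (fun i hi hne => by
        have := congrFun hinv ⟨i, hi, hne⟩
        simp only at this
        rw [this])
    exact ⟨z, units_comm_of_comm d h2 z hzZ, hz⟩
  · intro τ
    obtain ⟨s, hsZ, hss, hsτ⟩ := inv_I3 d hd γ Γi hΓ1 hΓ2 hγdet h2 hγ hγeven τ
    refine ⟨s, units_comm_of_comm d h2 s hsZ, hss, ?_⟩
    funext i
    exact propext (hsτ i)

end model

end Cfsg.Agent.Lib.Helper43.UCDag
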