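import Cfsg.Agent.Lib.Helper43.SpUClasses

/-!
# The classes of elements of order `p` in the symplectic group, `p` odd
-/

set_option autoImplicit false
open Classical

namespace Cfsg.Agent.Lib.Helper43.SpUOrderP

open Matrix Module Cfsg.Agent.Lib.Helper43 Cfsg.Agent.Lib.Helper99 Cfsg.Agent.Lib.Helper43.UCDag

section general

variable {F : Type*} [Field F] {ι : Type} [Fintype ι] [DecidableEq ι]

theorem pow_char_eq_one_iff' {p : ℕ} [Fact p.Prime] [CharP F p] (A : Matrix ι ι F) :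
    A ^ p = 1 ↔ (A - 1) ^ p = 0 := by
  by_cases hι : Nonempty ι
  · rw [sub_pow_char_of_commute p (Commute.one_right A), one_pow, sub_eq_zero]
  · rw [not_nonempty_iff] at hι
    exact ⟨fun _ => Subsingleton.elim _ _, fun _ => Subsingleton.elim _ _⟩

theorem pow_eq_zero_iff_type' (A : Matrix ι ι F) (μ : Multiset ℕ)
    (hsum : μ.sum = Fintype.card ι) (hdk : ∀ k, dker (nilPart A) k = smin μ k) (k : ℕ) :
    (A - 1) ^ k = 0 ↔ ∀ b ∈ μ, b ≤ k := by
  rw [← smin_eq_sum_iff, ← hdk, hsum]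
  have h := pow_eq_zero_iff_dker (nilPart A) k
  rw [Module.finrank_fintype_fun_eq_card] at h
  rw [← h]
  unfold nilPart
  rw [← Matrix.toLin'_pow]
  constructor
  · intro h0; rw [h0, map_zero]
  · intro h0; exact Matrix.toLin'.injective (by rw [h0, map_zero])

theorem eq_one_iff_type' (A : Matrix ι ι F) (μ : Multiset ℕ) (h1 : ∀ b ∈ μ, 1 ≤ b)
    (hsum : μ.sum = Fintype.card ι) (hdk : ∀ k, dker (nilPart A) k = smin μ k) :
    A = 1 ↔ μ = Multiset.replicate (Fintype.card ι) 1 := by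
  rw [← sub_eq_zero, ← pow_one (A - 1), pow_eq_zero_iff_type' A μ hsum hdk 1]
  constructor
  · intro h
    have hall : ∀ b ∈ μ, b = 1 := fun b hb => le_antisymm (h b hb) (h1 b hb)
    have h3 : Multiset.card μ = Fintype.card ι := by
      rw [← smin_one μ h1, (smin_eq_sum_iff μ 1).2 h, hsum]
    exact Multiset.eq_replicate.2 ⟨h3, hall⟩
  · intro h b hb
    rw [h] at hb
    rw [Multiset.eq_of_mem_replicate hb]

end general

section multiset

theorem exists_fin_fun (μ : Multiset ℕ) :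
    ∃ (t : ℕ) (d : Fin t → ℕ), (Finset.univ : Finset (Fin t)).val.map d = μ := by
  refine ⟨μ.toList.length, fun k => μ.toList.get k, ?_⟩
  rw [Fin.univ_val_map, List.ofFn_get, Multiset.coe_toList]

theorem card_evenIdx {t : ℕ} (d : Fin t → ℕ) :
    Nat.card (EvenIdx d) =
      ((((Finset.univ : Finset (Fin t)).val.map d).toFinset).filter (fun j : ℕ => Even j)).card := by
  rw [← Fintype.card_coe, ← Nat.card_eq_fintype_card]
  apply Nat.card_congr
  refine
    { toFun := fun i => ⟨(i.1 : ℕ), ?_⟩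
      invFun := fun j => ⟨⟨j.1, ?_⟩, ?_⟩
      left_inv := fun i => by
        apply Subtype.ext
        apply Fin.ext
        rfl
      right_inv := fun j => by
        apply Subtype.ext
        rfl }
  · rw [Finset.mem_filter, Multiset.mem_toFinset, Multiset.mem_map]
    obtain ⟨k, hk⟩ := i.2.2
    exact ⟨⟨k, Finset.mem_univ_val _, hk⟩, i.2.1⟩
  · have hj := j.2
    rw [Finset.mem_filter, Multiset.mem_toFinset, Multiset.mem_map] at hj
    obtain ⟨⟨k, -, hk⟩, -⟩ := hj
    rw [← hk]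
    exact lt_supD d k
  · have hj := j.2
    rw [Finset.mem_filter, Multiset.mem_toFinset, Multiset.mem_map] at hj
    obtain ⟨⟨k, -, hk⟩, he⟩ := hj
    exact ⟨he, ⟨⟨k, hk⟩⟩⟩

end multiset

section main

variable {F : Type*} [Field F] [Fintype F] {p : ℕ} [Fact p.Prime] [CharP F p]

theorem two_ne_zero_of_char (hp : p ≠ 2) : (2 : F) ≠ 0 := by
  intro h0
  have h1 : p ∣ 2 := by
    apply (CharP.cast_eq_zero_iff F p 2).1
    exact_mod_cast h0
  have hp' : p.Prime := Fact.out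
  rcases (Nat.dvd_prime Nat.prime_two).1 h1 with h | h
  · exact hp'.one_lt.ne' h
  · exact hp h

/-- the classes of a given type (as a multiset) -/
theorem card_classes_of_multiset (hp : p ≠ 2) (m : ℕ) (μ : Multiset ℕ) (h1 : ∀ b ∈ μ, 1 ≤ b)
    (hsum : μ.sum = 2 * m) (hpar : ∀ j : ℕ, Odd j → Even (μ.count j)) :
    Nat.card {C : ConjClasses ↥(Matrix.symplecticGroup (Fin m) F) //
      ∃ g : ↥(Matrix.symplecticGroup (Fin m) F), ConjClasses.mk g = C ∧
        ∀ k, dker (nilPart (g : Matrix (Fin m ⊕ Fin m) (Fin m ⊕ Fin m) F)) k = smin μ k} =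
      2 ^ ((μ.toFinset.filter (fun j : ℕ => Even j)).card) := by
  obtain ⟨t, d, hd⟩ := exists_fin_fun μ
  subst hd
  have hd1 : ∀ k, 1 ≤ d k := fun k =>
    h1 (d k) (Multiset.mem_map.2 ⟨k, Finset.mem_univ_val _, rfl⟩)
  have hsum' : ∑ k, d k = 2 * m := by rw [← sum_map_univ, hsum]
  have hpar' : ∀ j : ℕ, Odd j → Even (Finset.univ.filter (fun k : Fin t => d k = j)).card := by
    intro j hj
    rw [← count_map_univ]
    exact hpar j hj
  rw [card_classes_of_type d hd1 (two_ne_zero_of_char hp) m hsum' hpar', card_evenIdx]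

/-- the Jordan type of a unipotent symplectic element -/
theorem exists_type (m : ℕ) (g : ↥(Matrix.symplecticGroup (Fin m) F))
    (hg : ((g : Matrix (Fin m ⊕ Fin m) (Fin m ⊕ Fin m) F) - 1) ^ p = 0) :
    ∃ μ : Multiset ℕ, (∀ b ∈ μ, 1 ≤ b) ∧ μ.sum = 2 * m ∧ (∀ j : ℕ, Odd j → Even (μ.count j)) ∧
      ∀ k, dker (nilPart (g : Matrix (Fin m ⊕ Fin m) (Fin m ⊕ Fin m) F)) k = smin μ k := by
  have hnil : IsNilpotent (nilPart (g : Matrix (Fin m ⊕ Fin m) (Fin m ⊕ Fin m) F)) := by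
    refine ⟨p, ?_⟩
    unfold nilPart
    rw [← Matrix.toLin'_pow, hg, map_zero]
  obtain ⟨μ, hμ1, hμdk⟩ := exists_jt _ hnil
  have hμsum : μ.sum = 2 * m := by
    rw [sum_eq_finrank_of_dker _ hnil μ hμdk, Module.finrank_fintype_fun_eq_card,
      Fintype.card_sum, Fintype.card_fin]
    ring
  refine ⟨μ, hμ1, hμsum, ?_, hμdk⟩
  rintro j ⟨i, rfl⟩
  obtain ⟨c, hc⟩ := even_jmult_symplectic (stdSp F m)
    (Matrix.toLin' (g : Matrix (Fin m ⊕ Fin m) (Fin m ⊕ Fin m) F)) stdSp_nondegenerate stdSp_isAlt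
    (stdSp_preserved g.2) i
  rw [toLin'_sub_one, hμdk, hμdk, hμdk] at hc
  have := count_of_smin μ (2 * i + 1) c (by omega) hc
  exact ⟨c, by rw [this]; ring⟩

theorem orderOf_eq_prime_iff_sp (m : ℕ) (g : ↥(Matrix.symplecticGroup (Fin m) F)) :
    orderOf g = p ↔ (g : Matrix (Fin m ⊕ Fin m) (Fin m ⊕ Fin m) F) ≠ 1 ∧
      ((g : Matrix (Fin m ⊕ Fin m) (Fin m ⊕ Fin m) F) - 1) ^ p = 0 := by
  rw [orderOf_eq_prime_iff, ← pow_char_eq_one_iff']
  constructor
  · rintro ⟨h1, h2⟩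
    refine ⟨fun h => h2 (Subtype.ext h), ?_⟩
    have := congrArg Subtype.val h1
    rw [SubmonoidClass.coe_pow] at this
    exact this
  · rintro ⟨h1, h2⟩
    refine ⟨Subtype.ext ?_, fun h => h1 (by rw [h]; rfl)⟩
    rw [SubmonoidClass.coe_pow]
    exact h2

/-- the all-ones partition -/
def onesPartition (n : ℕ) : Nat.Partition n :=
  ⟨Multiset.replicate n 1,
    fun {i} hi => by rw [Multiset.eq_of_mem_replicate hi]; exact Nat.one_pos, by simp⟩

/-- the classes of elements of order `p` are the classes of the admissible types -/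
theorem card_order_p_classes_eq (hp : p ≠ 2) (m : ℕ) :
    Nat.card {C : ConjClasses ↥(Matrix.symplecticGroup (Fin m) F) //
      ∃ g : ↥(Matrix.symplecticGroup (Fin m) F), ConjClasses.mk g = C ∧ orderOf g = p} =
    ∑ μ : {μ : Nat.Partition (2 * m) // ((∀ a ∈ μ.parts, a ≤ p) ∧
        ∀ j : ℕ, Odd j → Even (μ.parts.count j)) ∧ μ ≠ onesPartition (2 * m)},
      2 ^ ((μ.1.parts.toFinset.filter (fun j : ℕ => Even j)).card) := by
  have hcardι : Fintype.card (Fin m ⊕ Fin m) = 2 * m := by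
    rw [Fintype.card_sum, Fintype.card_fin]; ring
  have hper : ∀ μ : {μ : Nat.Partition (2 * m) // ((∀ a ∈ μ.parts, a ≤ p) ∧
        ∀ j : ℕ, Odd j → Even (μ.parts.count j)) ∧ μ ≠ onesPartition (2 * m)},
      Nat.card {C : ConjClasses ↥(Matrix.symplecticGroup (Fin m) F) //
        ∃ g : ↥(Matrix.symplecticGroup (Fin m) F), ConjClasses.mk g = C ∧
          ∀ k, dker (nilPart (g : Matrix (Fin m ⊕ Fin m) (Fin m ⊕ Fin m) F)) k =
            smin μ.1.parts k} =
        2 ^ ((μ.1.parts.toFinset.filter (fun j : ℕ => Even j)).card) := fun μ =>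
    card_classes_of_multiset hp m μ.1.parts (fun b hb => μ.1.parts_pos hb) μ.1.parts_sum μ.2.1.2
  rw [← Finset.sum_congr rfl (fun μ _ => hper μ), ← Nat.card_sigma]
  symm
  refine Nat.card_eq_of_bijective (fun x => ⟨x.2.1, ?_⟩) ⟨?_, ?_⟩
  · obtain ⟨g, hg, hdk⟩ := x.2.2
    refine ⟨g, hg, ?_⟩
    rw [orderOf_eq_prime_iff_sp]
    refine ⟨fun h => x.1.2.2 ?_, ?_⟩
    · apply Nat.Partition.ext
      have := (eq_one_iff_type' (g : Matrix (Fin m ⊕ Fin m) (Fin m ⊕ Fin m) F) x.1.1.parts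
        (fun b hb => x.1.1.parts_pos hb) (by rw [x.1.1.parts_sum, hcardι]) hdk).1 h
      rw [this, hcardι]
      rfl
    · exact (pow_eq_zero_iff_type' (g : Matrix (Fin m ⊕ Fin m) (Fin m ⊕ Fin m) F) x.1.1.parts
        (by rw [x.1.1.parts_sum, hcardι]) hdk p).2 x.1.2.1.1
  · -- injective
    rintro ⟨μ, C, g, hg, hdk⟩ ⟨μ', C', g', hg', hdk'⟩ h
    have hCC : C = C' := congrArg Subtype.val h
    have hconj : IsConj g g' := by
      rw [← ConjClasses.mk_eq_mk_iff_isConj, hg, hg', hCC]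
    have hconjM : IsConj (g : Matrix (Fin m ⊕ Fin m) (Fin m ⊕ Fin m) F)
        (g' : Matrix (Fin m ⊕ Fin m) (Fin m ⊕ Fin m) F) := by
      obtain ⟨c, hc⟩ := isConj_iff.1 hconj
      have hcc : (c : Matrix (Fin m ⊕ Fin m) (Fin m ⊕ Fin m) F) *
          ((c⁻¹ : ↥(Matrix.symplecticGroup (Fin m) F)) :
            Matrix (Fin m ⊕ Fin m) (Fin m ⊕ Fin m) F) = 1 := by
        rw [← Submonoid.coe_mul, mul_inv_cancel, Submonoid.coe_one]
      have hcc' : ((c⁻¹ : ↥(Matrix.symplecticGroup (Fin m) F)) :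
            Matrix (Fin m ⊕ Fin m) (Fin m ⊕ Fin m) F) *
          (c : Matrix (Fin m ⊕ Fin m) (Fin m ⊕ Fin m) F) = 1 := by
        rw [← Submonoid.coe_mul, inv_mul_cancel, Submonoid.coe_one]
      refine ⟨⟨c, _, hcc, hcc'⟩, ?_⟩
      show (c : Matrix (Fin m ⊕ Fin m) (Fin m ⊕ Fin m) F) * g = g' * c
      rw [← hc]
      simp only [Submonoid.coe_mul, mul_assoc, hcc', mul_one]
    have hμ : μ = μ' := by
      apply Subtype.ext
      apply Nat.Partition.ext
      apply eq_of_smin_eq (fun b hb => μ.1.parts_pos hb) (fun b hb => μ'.1.parts_pos hb)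
      intro k
      rw [← hdk, ← hdk', dker_eq_of_isConj _ _ hconjM]
    subst hμ
    subst hCC
    rfl
  · -- surjective
    rintro ⟨C, g, rfl, hg⟩
    rw [orderOf_eq_prime_iff_sp] at hg
    obtain ⟨hg1, hgp⟩ := hg
    obtain ⟨ν, hν1, hνsum, hνpar, hνdk⟩ := exists_type m g hgp
    let μ : Nat.Partition (2 * m) := ⟨ν, fun {i} hi => hν1 i hi, hνsum⟩
    have hμ : ((∀ a ∈ μ.parts, a ≤ p) ∧ ∀ j : ℕ, Odd j → Even (μ.parts.count j)) ∧
        μ ≠ onesPartition (2 * m) := by
      refine ⟨⟨(pow_eq_zero_iff_type' _ ν (by rw [hνsum, hcardι]) hνdk p).1 hgp, hνpar⟩,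
        fun h => hg1 ?_⟩
      apply (eq_one_iff_type' _ ν hν1 (by rw [hνsum, hcardι]) hνdk).2
      have := congrArg Nat.Partition.parts h
      rw [hcardι]
      exact this
    exact ⟨⟨⟨μ, hμ⟩, ⟨ConjClasses.mk g, g, rfl, hνdk⟩⟩, rfl⟩

/-- the number of classes of elements of order `p` of `Sp_2m(q)`, `p` odd -/
theorem main (hp : p ≠ 2) (m : ℕ) :
    Nat.card {C : ConjClasses ↥(Matrix.symplecticGroup (Fin m) F) // ∃ g : Matrix.symplecticGroup (Fin m) F, ConjClasses.mk g = C ∧ orderOf g = p} = (∑ μ ∈ Finset.univ.filter (fun μ : Nat.Partition (2 * m) => (∀ a ∈ μ.parts, a ≤ p) ∧ ∀ j : ℕ, Odd j → Even (μ.parts.count j)), 2 ^ ((μ.parts.toFinset.filter (fun j : ℕ => Even j)).card)) - 1 := by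
  rw [card_order_p_classes_eq hp m]
  have hp1 : 1 ≤ p := (Fact.out : p.Prime).one_lt.le
  set S := Finset.univ.filter (fun μ : Nat.Partition (2 * m) => (∀ a ∈ μ.parts, a ≤ p) ∧
    ∀ j : ℕ, Odd j → Even (μ.parts.count j)) with hS
  have hmem : onesPartition (2 * m) ∈ S := by
    rw [hS, Finset.mem_filter]
    refine ⟨Finset.mem_univ _, fun a ha => ?_, fun j hj => ?_⟩
    · have : a = 1 := Multiset.eq_of_mem_replicate ha
      omega
    · show Even ((Multiset.replicate (2 * m) 1).count j)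
      rw [Multiset.count_replicate]
      split_ifs
      · exact ⟨m, by ring⟩
      · exact ⟨0, rfl⟩
  have hones : 2 ^ (((onesPartition (2 * m)).parts.toFinset.filter (fun j : ℕ => Even j)).card) = 1 := by
    have : (onesPartition (2 * m)).parts.toFinset.filter (fun j : ℕ => Even j) = ∅ := by
      rw [Finset.filter_eq_empty_iff]
      intro j hj
      rw [Multiset.mem_toFinset] at hj
      have : j = 1 := Multiset.eq_of_mem_replicate hj
      rw [this]
      decide
    rw [this, Finset.card_empty, pow_zero]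
  have hsub : ∑ μ : {μ : Nat.Partition (2 * m) // ((∀ a ∈ μ.parts, a ≤ p) ∧
        ∀ j : ℕ, Odd j → Even (μ.parts.count j)) ∧ μ ≠ onesPartition (2 * m)},
      2 ^ ((μ.1.parts.toFinset.filter (fun j : ℕ => Even j)).card) =
      ∑ μ ∈ S.erase (onesPartition (2 * m)),
        2 ^ ((μ.parts.toFinset.filter (fun j : ℕ => Even j)).card) := by
    rw [Finset.sum_subtype (S.erase (onesPartition (2 * m)))
      (p := fun μ : Nat.Partition (2 * m) => ((∀ a ∈ μ.parts, a ≤ p) ∧
        ∀ j : ℕ, Odd j → Even (μ.parts.count j)) ∧ μ ≠ onesPartition (2 * m))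
      (fun μ => by
        rw [Finset.mem_erase, hS, Finset.mem_filter]
        simp only [Finset.mem_univ, true_and]
        tauto)]
  rw [hsub, ← Finset.add_sum_erase S _ hmem, hones]
  omega

end main

end Cfsg.Agent.Lib.Helper43.SpUOrderP
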