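import Mathlib

/-!
# Conjugacy classes in the isometry subgroup of a group with an anti-involution

For a group `𝔾` with an involutive anti-automorphism `star`, the subgroup `H = {g | star g * g = 1}`
and an element `u ∈ H`: the `H`-classes of elements of `H` that are `𝔾`-conjugate to `u` correspond
to the orbits of the centraliser of `u` on its `star`-symmetric elements `s` under
`s ↦ star z * s * z`.
-/

set_option autoImplicit false

namespace Cfsg.Agent.Lib.Helper43.SpU

section ci

/-- counting classes by a complete invariant -/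
theorem card_classes_of_invariant {G : Type*} [Group G] (P : G → Prop) {T : Type*}
    (f : {g : G // P g} → T)
    (hf : ∀ g g' : {g : G // P g}, IsConj g.1 g'.1 ↔ f g = f g') (hsurj : Function.Surjective f) :
    Nat.card {C : ConjClasses G // ∃ g : G, ConjClasses.mk g = C ∧ P g} = Nat.card T := by
  classical
  let Ξ : {C : ConjClasses G // ∃ g : G, ConjClasses.mk g = C ∧ P g} → T := fun C =>
    f ⟨Classical.choose C.2, (Classical.choose_spec C.2).2⟩
  apply Nat.card_eq_of_bijective Ξ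
  constructor
  · intro C C' h
    have h1 := (hf _ _).2 h
    apply Subtype.ext
    rw [← (Classical.choose_spec C.2).1, ← (Classical.choose_spec C'.2).1]
    exact ConjClasses.mk_eq_mk_iff_isConj.2 h1
  · intro τ
    obtain ⟨g, hg⟩ := hsurj τ
    refine ⟨⟨ConjClasses.mk g.1, g.1, rfl, g.2⟩, ?_⟩
    show f ⟨Classical.choose _, _⟩ = τ
    rw [← hg]
    apply (hf _ _).1
    have hspec := Classical.choose_spec
      (show ∃ g' : G, ConjClasses.mk g' = ConjClasses.mk g.1 ∧ P g' from ⟨g.1, rfl, g.2⟩)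
    exact ConjClasses.mk_eq_mk_iff_isConj.1 hspec.1

/-- transporting a count of classes along an isomorphism -/
theorem card_classes_congr {H₁ H₂ : Type*} [Group H₁] [Group H₂] (ψ : H₁ ≃* H₂)
    (P₁ : H₁ → Prop) (P₂ : H₂ → Prop) (h : ∀ g, P₂ (ψ g) ↔ P₁ g) :
    Nat.card {C : ConjClasses H₁ // ∃ g : H₁, ConjClasses.mk g = C ∧ P₁ g} =
      Nat.card {C : ConjClasses H₂ // ∃ g : H₂, ConjClasses.mk g = C ∧ P₂ g} := by
  apply Nat.card_eq_of_bijective
    (fun C : {C : ConjClasses H₁ // ∃ g : H₁, ConjClasses.mk g = C ∧ P₁ g} =>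
      (⟨ConjClasses.map ψ.toMonoidHom C.1, by
        obtain ⟨g, hg, hP⟩ := C.2
        exact ⟨ψ g, by rw [← hg]; rfl, (h g).2 hP⟩⟩ :
        {C : ConjClasses H₂ // ∃ g : H₂, ConjClasses.mk g = C ∧ P₂ g}))
  constructor
  · rintro ⟨C, g, rfl, hg⟩ ⟨C', g', rfl, hg'⟩ hCC
    have h1 : ConjClasses.mk (ψ g) = ConjClasses.mk (ψ g') := congrArg Subtype.val hCC
    rw [ConjClasses.mk_eq_mk_iff_isConj] at h1
    apply Subtype.ext
    show ConjClasses.mk g = ConjClasses.mk g'
    rw [ConjClasses.mk_eq_mk_iff_isConj]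
    have h3 := ψ.symm.toMonoidHom.map_isConj h1
    simpa using h3
  · rintro ⟨C, g, rfl, hg⟩
    refine ⟨⟨ConjClasses.mk (ψ.symm g), ψ.symm g, rfl, ?_⟩, ?_⟩
    · rw [← h, MulEquiv.apply_symm_apply]
      exact hg
    · apply Subtype.ext
      show ConjClasses.mk (ψ (ψ.symm g)) = ConjClasses.mk g
      rw [MulEquiv.apply_symm_apply]

end ci

section star
variable {𝔾 : Type*} [Group 𝔾] (star : 𝔾 → 𝔾) (hmul : ∀ x y, star (x * y) = star y * star x)
  (hinv : ∀ x, star (star x) = x)

include hmul in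
theorem star_one : star 1 = 1 := by
  have h := hmul 1 1
  rw [mul_one] at h
  exact (mul_eq_left.1 h.symm)

include hmul in
theorem star_inv (x : 𝔾) : star x⁻¹ = (star x)⁻¹ := by
  apply eq_inv_of_mul_eq_one_left
  rw [← hmul, mul_inv_cancel, star_one star hmul]

/-- the isometry subgroup -/
def isoSub : Subgroup 𝔾 where
  carrier := {g | star g * g = 1}
  one_mem' := by
    show star 1 * 1 = 1
    rw [mul_one, star_one star hmul]
  mul_mem' := by
    intro a b ha hb
    show star (a * b) * (a * b) = 1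
    have ha' : star a * a = 1 := ha
    have hb' : star b * b = 1 := hb
    rw [hmul]
    calc star b * star a * (a * b) = star b * (star a * a) * b := by group
      _ = 1 := by rw [ha', mul_one, hb']
  inv_mem' := by
    intro a ha
    show star a⁻¹ * a⁻¹ = 1
    have ha' : star a * a = 1 := ha
    rw [star_inv star hmul, ← mul_inv_rev, inv_eq_one]
    have : star a = a⁻¹ := eq_inv_of_mul_eq_one_left ha'
    rw [this, mul_inv_cancel]

theorem mem_isoSub (g : 𝔾) : g ∈ isoSub star hmul ↔ star g * g = 1 := Iff.rfl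

include hmul hinv in
theorem conj_iff (u : 𝔾) (g g' : isoSub star hmul) (x x' : 𝔾)
    (hx : (g : 𝔾) * x = x * u) (hx' : (g' : 𝔾) * x' = x' * u) :
    IsConj g g' ↔ ∃ z : 𝔾, z * u = u * z ∧ star z * (star x * x) * z = star x' * x' := by
  constructor
  · intro hc
    rw [isConj_iff] at hc
    obtain ⟨h, hh⟩ := hc
    have hh' : (h : 𝔾) * (g : 𝔾) * (h : 𝔾)⁻¹ = (g' : 𝔾) := by
      have := congrArg (fun y : isoSub star hmul => (y : 𝔾)) hh
      simpa using this
    have hhm : star (h : 𝔾) * (h : 𝔾) = 1 := h.2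
    refine ⟨((h : 𝔾) * x)⁻¹ * x', ?_, ?_⟩
    · have e1 : (g' : 𝔾) * ((h : 𝔾) * x) = (h : 𝔾) * x * u := by
        rw [← hh']
        calc (h : 𝔾) * (g : 𝔾) * (h : 𝔾)⁻¹ * ((h : 𝔾) * x) = (h : 𝔾) * ((g : 𝔾) * x) := by group
          _ = (h : 𝔾) * x * u := by rw [hx, mul_assoc]
      have e2 : u = ((h : 𝔾) * x)⁻¹ * (g' : 𝔾) * ((h : 𝔾) * x) := by
        rw [mul_assoc, e1]; group
      have e3 : u = x'⁻¹ * (g' : 𝔾) * x' := by
        rw [mul_assoc, hx']; group
      calc ((h : 𝔾) * x)⁻¹ * x' * u = ((h : 𝔾) * x)⁻¹ * (x' * u) := by group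
        _ = ((h : 𝔾) * x)⁻¹ * ((g' : 𝔾) * x') := by rw [hx']
        _ = (((h : 𝔾) * x)⁻¹ * (g' : 𝔾) * ((h : 𝔾) * x)) * (((h : 𝔾) * x)⁻¹ * x') := by group
        _ = u * (((h : 𝔾) * x)⁻¹ * x') := by rw [← e2]
    · rw [hmul, star_inv star hmul, hmul]
      calc star x' * (star x * star (h : 𝔾))⁻¹ * (star x * x) * (((h : 𝔾) * x)⁻¹ * x')
          = star x' * ((star (h : 𝔾))⁻¹ * ((star x)⁻¹ * star x) * (x * x⁻¹) * (h : 𝔾)⁻¹) * x' := by
            group
        _ = star x' * ((star (h : 𝔾))⁻¹ * (h : 𝔾)⁻¹) * x' := by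
            rw [inv_mul_cancel, mul_inv_cancel, mul_one, mul_one]
        _ = star x' * x' := by
            rw [← mul_inv_rev, ]
            have : (h : 𝔾) * star (h : 𝔾) = 1 := by
              have h1 : star (h : 𝔾) = (h : 𝔾)⁻¹ := eq_inv_of_mul_eq_one_left hhm
              rw [h1, mul_inv_cancel]
            rw [this, inv_one, mul_one]
  · rintro ⟨z, hz, hs⟩
    -- `x₁ = x z`, `h = x' x₁⁻¹`
    have hs' : star (x * z) * (x * z) = star x' * x' := by
      rw [hmul, ← hs]; group
    have hmem : x' * (x * z)⁻¹ ∈ isoSub star hmul := by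
      rw [mem_isoSub, hmul, star_inv star hmul]
      calc (star (x * z))⁻¹ * star x' * (x' * (x * z)⁻¹)
          = (star (x * z))⁻¹ * (star x' * x') * (x * z)⁻¹ := by group
        _ = 1 := by rw [← hs']; group
    rw [isConj_iff]
    refine ⟨⟨x' * (x * z)⁻¹, hmem⟩, ?_⟩
    apply Subtype.ext
    show x' * (x * z)⁻¹ * (g : 𝔾) * (x' * (x * z)⁻¹)⁻¹ = (g' : 𝔾)
    have e1 : (g : 𝔾) = x * u * x⁻¹ := by rw [← hx]; group
    have e2 : (g' : 𝔾) = x' * u * x'⁻¹ := by rw [← hx']; group
    have e3 : z * u * z⁻¹ = u := by rw [hz]; group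
    rw [e1, e2]
    calc x' * (x * z)⁻¹ * (x * u * x⁻¹) * (x' * (x * z)⁻¹)⁻¹
        = x' * (z⁻¹ * u * z) * x'⁻¹ := by group
      _ = x' * u * x'⁻¹ := by
          have : z⁻¹ * u * z = u := by
            calc z⁻¹ * u * z = z⁻¹ * (u * z) := by group
              _ = z⁻¹ * (z * u) := by rw [hz]
              _ = u := by group
          rw [this]

include hmul hinv in
/-- the number of classes of the isometry subgroup inside the `𝔾`-class of `u` -/
theorem card_classes_of_model (u : 𝔾) (hu : star u * u = 1) {T : Type*} (inv : 𝔾 → T)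
    (hDB : ∀ s : 𝔾, s * u = u * s → star s = s → ∃ x, star x * x = s)
    (I1 : ∀ s z : 𝔾, s * u = u * s → star s = s → z * u = u * z →
      inv (star z * s * z) = inv s)
    (I2 : ∀ s s' : 𝔾, s * u = u * s → star s = s → s' * u = u * s' → star s' = s' →
      inv s = inv s' → ∃ z, z * u = u * z ∧ star z * s * z = s')
    (I3 : ∀ τ : T, ∃ s, s * u = u * s ∧ star s = s ∧ inv s = τ) :
    Nat.card {C : ConjClasses (isoSub star hmul) // ∃ g : isoSub star hmul,
      ConjClasses.mk g = C ∧ ∃ x : 𝔾, (g : 𝔾) * x = x * u} = Nat.card T := by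
  classical
  have hustar : star u = u⁻¹ := eq_inv_of_mul_eq_one_left hu
  -- `star x * x` is symmetric and commutes with `u`
  have hsym : ∀ x : 𝔾, star (star x * x) = star x * x := by
    intro x
    rw [hmul, hinv]
  have hcomm : ∀ (g : isoSub star hmul) (x : 𝔾), (g : 𝔾) * x = x * u →
      (star x * x) * u = u * (star x * x) := by
    intro g x hx
    have hg : star (g : 𝔾) * (g : 𝔾) = 1 := g.2
    have hgstar : star (g : 𝔾) = (g : 𝔾)⁻¹ := eq_inv_of_mul_eq_one_left hg
    have h1 : star x * star (g : 𝔾) = star u * star x := by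
      rw [← hmul, hx, hmul]
    rw [hgstar, hustar] at h1
    have h2 : star x = u⁻¹ * star x * (g : 𝔾) := by
      rw [← h1]; group
    calc star x * x * u = star x * (x * u) := by group
      _ = star x * ((g : 𝔾) * x) := by rw [hx]
      _ = (star x * (g : 𝔾)) * x := by group
      _ = (u * (u⁻¹ * star x * (g : 𝔾))) * x := by group
      _ = u * (star x * x) := by rw [← h2]; group
  let f : {g : isoSub star hmul // ∃ x : 𝔾, (g : 𝔾) * x = x * u} → T := fun g =>
    inv (star (Classical.choose g.2) * Classical.choose g.2)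
  apply card_classes_of_invariant (fun g : isoSub star hmul => ∃ x : 𝔾, (g : 𝔾) * x = x * u) f
  · intro g g'
    have hx := Classical.choose_spec g.2
    have hx' := Classical.choose_spec g'.2
    rw [conj_iff star hmul hinv u g.1 g'.1 _ _ hx hx']
    constructor
    · rintro ⟨z, hz, hs⟩
      show inv _ = inv _
      rw [← hs]
      exact (I1 _ z (hcomm g.1 _ hx) (hsym _) hz).symm
    · intro h
      exact I2 _ _ (hcomm g.1 _ hx) (hsym _) (hcomm g'.1 _ hx') (hsym _) h
  · intro τ
    obtain ⟨s, hsu, hss, hsτ⟩ := I3 τ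
    obtain ⟨x, hxs⟩ := hDB s hsu hss
    have hmem : x * u * x⁻¹ ∈ isoSub star hmul := by
      rw [mem_isoSub, hmul, hmul, star_inv star hmul, hustar]
      calc (star x)⁻¹ * (u⁻¹ * star x) * (x * u * x⁻¹)
          = (star x)⁻¹ * (u⁻¹ * (star x * x) * u) * x⁻¹ := by group
        _ = (star x)⁻¹ * (star x * x) * x⁻¹ := by
            rw [hxs]
            have : u⁻¹ * s * u = s := by
              calc u⁻¹ * s * u = u⁻¹ * (s * u) := by group
                _ = u⁻¹ * (u * s) := by rw [hsu]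
                _ = s := by group
            rw [this]
        _ = 1 := by group
    have hgx : (⟨x * u * x⁻¹, hmem⟩ : isoSub star hmul).1 * x = x * u := by
      show x * u * x⁻¹ * x = x * u
      group
    refine ⟨⟨⟨x * u * x⁻¹, hmem⟩, x, hgx⟩, ?_⟩
    show inv (star (Classical.choose _) * Classical.choose _) = τ
    have hspec := Classical.choose_spec
      (show ∃ x' : 𝔾, (⟨x * u * x⁻¹, hmem⟩ : isoSub star hmul).1 * x' = x' * u from ⟨x, hgx⟩)
    obtain ⟨z, hz, hs⟩ := (conj_iff star hmul hinv u ⟨x * u * x⁻¹, hmem⟩ ⟨x * u * x⁻¹, hmem⟩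
      x _ hgx hspec).1 (IsConj.refl _)
    rw [← hs, hxs, I1 s z hsu hss hz, hsτ]

include hmul in
/-- the square root trick: symmetric elements whose quotient has odd order are congruent -/
theorem sqrt_trick (s s' : 𝔾) (hs : star s = s) (hs' : star s' = s') (n : ℕ) (hn : Odd n)
    (hw : (s⁻¹ * s') ^ n = 1) :
    star ((s⁻¹ * s') ^ ((n + 1) / 2)) * s * (s⁻¹ * s') ^ ((n + 1) / 2) = s' := by
  set w := s⁻¹ * s' with hwdef
  have hsw : star w = s' * s⁻¹ := by
    rw [hwdef, hmul, star_inv star hmul, hs, hs']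
  have hpow : ∀ k : ℕ, star (w ^ k) = s * w ^ k * s⁻¹ := by
    intro k
    induction k with
    | zero => rw [pow_zero, star_one star hmul, mul_one, mul_inv_cancel]
    | succ k ih =>
      calc star (w ^ (k + 1)) = star (w * w ^ k) := by rw [pow_succ']
        _ = star (w ^ k) * star w := hmul _ _
        _ = s * w ^ k * s⁻¹ * (s' * s⁻¹) := by rw [ih, hsw]
        _ = s * (w ^ k * (s⁻¹ * s')) * s⁻¹ := by simp only [mul_assoc]
        _ = s * w ^ (k + 1) * s⁻¹ := by rw [← hwdef, ← pow_succ]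
  obtain ⟨k, hk⟩ := hn
  have h1 : (n + 1) / 2 = k + 1 := by omega
  rw [h1, hpow]
  calc s * w ^ (k + 1) * s⁻¹ * s * w ^ (k + 1) = s * (w ^ (k + 1) * w ^ (k + 1)) := by group
    _ = s * (w ^ n * w) := by
        rw [← pow_add, ← pow_succ]
        congr 2
        omega
    _ = s' := by rw [hw, one_mul, hwdef]; group

end star

end Cfsg.Agent.Lib.Helper43.SpU
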