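import Cfsg.Agent.Lib.Helper43.SpUCay
import Cfsg.Agent.Lib.Helper43.StarGroup

/-!
# The unipotent radical of the commutant and the star structure on the unit group
-/

set_option autoImplicit false

namespace Cfsg.Agent.Lib.Helper43.UCDag

open Matrix Module Cfsg.Agent.Lib.Helper43 Cfsg.Agent.Lib.Helper43.InvolRing
  Cfsg.Agent.Lib.Helper43.HermSqrt Cfsg.Agent.Lib.Helper99

variable {F : Type*} [Field F] {t : ℕ} (d : Fin t → ℕ) (hd : ∀ k, 1 ≤ d k)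

local notation "𝕄" => Matrix ((k : Fin t) × Fin (d k)) ((k : Fin t) × Fin (d k)) F

/-- the elements of the commutant with trivial top blocks -/
def radGroup : Subgroup (Matrix ((k : Fin t) × Fin (d k)) ((k : Fin t) × Fin (d k)) F)ˣ where
  carrier := {w | (w : 𝕄) * nil F d = nil F d * (w : 𝕄) ∧ top d hd (w : 𝕄) = 1}
  one_mem' := by
    refine ⟨?_, ?_⟩
    · rw [Units.val_one, one_mul, mul_one]
    · rw [Units.val_one, top_one]
  mul_mem' := by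
    intro a b ha hb
    refine ⟨?_, ?_⟩
    · rw [Units.val_mul, mul_assoc, hb.1, ← mul_assoc, ha.1, mul_assoc]
    · rw [Units.val_mul, top_mul d hd _ _ ha.1 hb.1, ha.2, hb.2, one_mul]
  inv_mem' := by
    intro a ha
    have hc : ((a⁻¹ : 𝕄ˣ) : 𝕄) * nil F d = nil F d * ((a⁻¹ : 𝕄ˣ) : 𝕄) :=
      (Commute.units_inv_left (show Commute (a : 𝕄) (nil F d) from ha.1)).eq
    refine ⟨hc, ?_⟩
    have h1 : top d hd (((a⁻¹ : 𝕄ˣ) : 𝕄) * (a : 𝕄)) = 1 := by
      rw [Units.inv_mul, top_one]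
    rw [top_mul d hd _ _ hc ha.1, ha.2, mul_one] at h1
    exact h1

theorem mem_radGroup (w : 𝕄ˣ) : w ∈ radGroup d hd ↔
    (w : 𝕄) * nil F d = nil F d * (w : 𝕄) ∧ top d hd (w : 𝕄) = 1 := Iff.rfl

theorem isUnit_one_add_rad (ρ : 𝕄) (hρ : ρ ∈ radSub d hd) : IsUnit (1 + ρ) := by
  rw [mem_radSub] at hρ
  have hc : (1 + ρ) * nil F d = nil F d * (1 + ρ) := by
    rw [add_mul, mul_add, hρ.1, one_mul, mul_one]
  rw [isUnit_iff_top d hd _ hc]
  intro i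
  rw [top_add, top_one, hρ.2, add_zero]
  simp

/-- the radical group is in bijection with the radical -/
noncomputable def radEquiv : radGroup (F := F) d hd ≃ radSub (K := F) d hd where
  toFun w := ⟨(w.1 : 𝕄) - 1, by
    rw [mem_radSub]
    refine ⟨?_, ?_⟩
    · rw [sub_mul, mul_sub, w.2.1, one_mul, mul_one]
    · rw [top_sub, w.2.2, top_one, sub_self]⟩
  invFun ρ := ⟨(isUnit_one_add_rad d hd ρ.1 ρ.2).unit, by
    have hρ := (mem_radSub d hd ρ.1).1 ρ.2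
    rw [mem_radGroup, IsUnit.unit_spec]
    refine ⟨?_, ?_⟩
    · rw [add_mul, mul_add, hρ.1, one_mul, mul_one]
    · rw [top_add, top_one, hρ.2, add_zero]⟩
  left_inv w := by
    apply Subtype.ext
    apply Units.ext
    show 1 + ((w.1 : 𝕄) - 1) = (w.1 : 𝕄)
    abel
  right_inv ρ := by
    apply Subtype.ext
    show (1 + ρ.1) - 1 = ρ.1
    abel

theorem ringChar_ne_two (h2 : (2 : F) ≠ 0) : ringChar F ≠ 2 := by
  intro hc
  apply h2
  have : ((2 : ℕ) : F) = 0 := by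
    rw [← hc]
    exact ringChar.Nat.cast_ringChar
  exact_mod_cast this

theorem odd_card_radGroup [Fintype F] (h2 : (2 : F) ≠ 0) : Odd (Nat.card (radGroup (F := F) d hd)) := by
  classical
  rw [Nat.card_congr (radEquiv d hd)]
  haveI : Fintype (radSub (K := F) d hd) := Fintype.ofFinite _
  rw [Nat.card_eq_fintype_card, Module.card_eq_pow_finrank (K := F)]
  apply Odd.pow
  rw [Nat.odd_iff]
  exact FiniteField.odd_card_of_char_ne_two (ringChar_ne_two h2)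

theorem pow_card_radGroup [Fintype F] (w : 𝕄ˣ) (hw : w ∈ radGroup d hd) :
    w ^ Nat.card (radGroup (F := F) d hd) = 1 := by
  have h := pow_card_eq_one' (G := radGroup (F := F) d hd) (x := ⟨w, hw⟩)
  have h3 : ((⟨w, hw⟩ : radGroup (F := F) d hd) : 𝕄ˣ) ^ Nat.card (radGroup (F := F) d hd) = 1 := by
    rw [← Subgroup.coe_pow, h, Subgroup.coe_one]
  exact h3

/-! ### the star structure -/

section star

variable (γ : BlkFam F d)
  (Γi : Matrix ((k : Fin t) × Fin (d k)) ((k : Fin t) × Fin (d k)) F)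
  (hΓ1 : sec d γ * Γi = 1) (hΓ2 : Γi * sec d γ = 1)

/-- the adjoint on the unit group -/
def adjU (g : (Matrix ((k : Fin t) × Fin (d k)) ((k : Fin t) × Fin (d k)) F)ˣ) :
    (Matrix ((k : Fin t) × Fin (d k)) ((k : Fin t) × Fin (d k)) F)ˣ :=
  ⟨adj d γ Γi (g : 𝕄), adj d γ Γi ((g⁻¹ : 𝕄ˣ) : 𝕄), by
    rw [← adj_mul d γ Γi hΓ1, Units.inv_mul, adj_one d γ Γi hΓ2], by
    rw [← adj_mul d γ Γi hΓ1, Units.mul_inv, adj_one d γ Γi hΓ2]⟩

theorem adjU_val (g : 𝕄ˣ) : ((adjU d γ Γi hΓ1 hΓ2 g : 𝕄ˣ) : 𝕄) = adj d γ Γi (g : 𝕄) := rfl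

theorem adjU_mul (x y : 𝕄ˣ) :
    adjU d γ Γi hΓ1 hΓ2 (x * y) = adjU d γ Γi hΓ1 hΓ2 y * adjU d γ Γi hΓ1 hΓ2 x := by
  apply Units.ext
  rw [Units.val_mul, adjU_val, adjU_val, adjU_val, Units.val_mul, adj_mul d γ Γi hΓ1]

theorem adjU_adjU (hγ : ∀ i, (γ i)ᵀ = ((-1 : F) ^ (i : ℕ)) • γ i) (x : 𝕄ˣ) :
    adjU d γ Γi hΓ1 hΓ2 (adjU d γ Γi hΓ1 hΓ2 x) = x := by
  apply Units.ext
  rw [adjU_val, adjU_val, adj_adj d γ Γi hΓ1 hΓ2 hγ]

theorem adjU_cayS : adjU d γ Γi hΓ1 hΓ2 (cayS d) * cayS d = 1 := by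
  apply Units.ext
  rw [Units.val_mul, adjU_val, adj_cayS d γ Γi hΓ1 hΓ2, Units.val_one]

theorem comm_of_units_comm (h2 : (2 : F) ≠ 0) (s : 𝕄ˣ) (h : s * cayS d = cayS d * s) :
    (s : 𝕄) * nil F d = nil F d * (s : 𝕄) := by
  have h1 := congrArg Units.val h
  rw [Units.val_mul, Units.val_mul] at h1
  exact (comm_cayS_iff d h2 _).1 h1

theorem units_comm_of_comm (h2 : (2 : F) ≠ 0) (s : 𝕄ˣ) (h : (s : 𝕄) * nil F d = nil F d * (s : 𝕄)) :
    s * cayS d = cayS d * s := by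
  apply Units.ext
  rw [Units.val_mul, Units.val_mul]
  exact (comm_cayS_iff d h2 _).2 h

end star

end Cfsg.Agent.Lib.Helper43.UCDag
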