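import Cfsg.Agent.Lib.Helper43.UCDag

/-!
# A unitary representative of the Jordan type: the Cayley transform
-/

set_option autoImplicit false

namespace Cfsg.Agent.Lib.Helper43.UCDag

open Matrix Module Cfsg.Agent.Lib.Helper43 Cfsg.Agent.Lib.Helper43.InvolRing
  Cfsg.Agent.Lib.Helper43.HermSqrt Cfsg.Agent.Lib.Helper99

section general

variable {F : Type*} [Field F] {V : Type*} [AddCommGroup V] [Module F V]

theorem ker_mul_unit_pow (f w : Module.End F V) (hc : Commute f w) (hw : IsUnit w) (j : ℕ) :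
    LinearMap.ker ((f * w) ^ j) = LinearMap.ker (f ^ j) := by
  rw [hc.mul_pow, (hc.pow_pow j j).eq]
  ext x
  rw [LinearMap.mem_ker, LinearMap.mem_ker, Module.End.mul_apply]
  have hinj : Function.Injective (w ^ j) := ((Module.End.isUnit_iff _).1 (hw.pow j)).1
  constructor
  · intro h
    apply hinj
    rw [h, map_zero]
  · intro h
    rw [h, map_zero]

end general

variable {K : Type*} [Field K] {t : ℕ} (d : Fin t → ℕ)

theorem nil_isNilpotent : IsNilpotent (nil K d) := by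
  obtain ⟨k, hk⟩ := jtN_isNilpotent (F := K) d
  refine ⟨k, ?_⟩
  apply (Matrix.toLinAlgEquiv' (R := K) (n := (k : Fin t) × Fin (d k))).injective
  rw [map_pow, map_zero]
  exact hk

section cayley

variable (σ : K →+* K) (c₀ : K)

/-- numerator of the Cayley transform -/
def cayA : Matrix ((k : Fin t) × Fin (d k)) ((k : Fin t) × Fin (d k)) K := 1 + c₀ • nil K d

/-- denominator of the Cayley transform -/
def cayB : Matrix ((k : Fin t) × Fin (d k)) ((k : Fin t) × Fin (d k)) K := 1 + σ c₀ • nil K d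

theorem isUnit_cayB : IsUnit (cayB d σ c₀) :=
  IsNilpotent.isUnit_one_add ((nil_isNilpotent d).smul (σ c₀))

/-- the denominator as a unit -/
noncomputable def cayU : (Matrix ((k : Fin t) × Fin (d k)) ((k : Fin t) × Fin (d k)) K)ˣ :=
  (isUnit_cayB d σ c₀).unit

theorem cayU_val : ((cayU d σ c₀ : (Matrix ((k : Fin t) × Fin (d k)) ((k : Fin t) × Fin (d k)) K)ˣ) :
    Matrix ((k : Fin t) × Fin (d k)) ((k : Fin t) × Fin (d k)) K) = cayB d σ c₀ := rfl

/-- the Cayley transform of the nilpotent part -/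
noncomputable def cay : Matrix ((k : Fin t) × Fin (d k)) ((k : Fin t) × Fin (d k)) K :=
  cayA d c₀ * ((cayU d σ c₀)⁻¹ :
    (Matrix ((k : Fin t) × Fin (d k)) ((k : Fin t) × Fin (d k)) K)ˣ)

variable {d}

theorem commute_cayA {X : Matrix ((k : Fin t) × Fin (d k)) ((k : Fin t) × Fin (d k)) K}
    (hX : Commute X (nil K d)) : Commute X (cayA d c₀) :=
  (Commute.one_right X).add_right (hX.smul_right c₀)

theorem commute_cayB {X : Matrix ((k : Fin t) × Fin (d k)) ((k : Fin t) × Fin (d k)) K}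
    (hX : Commute X (nil K d)) : Commute X (cayB d σ c₀) :=
  (Commute.one_right X).add_right (hX.smul_right (σ c₀))

theorem commute_cayUinv {X : Matrix ((k : Fin t) × Fin (d k)) ((k : Fin t) × Fin (d k)) K}
    (hX : Commute X (nil K d)) :
    Commute X (((cayU d σ c₀)⁻¹ : (Matrix ((k : Fin t) × Fin (d k)) ((k : Fin t) × Fin (d k)) K)ˣ) :
      Matrix ((k : Fin t) × Fin (d k)) ((k : Fin t) × Fin (d k)) K) :=
  Commute.units_inv_right (commute_cayB σ c₀ hX)

theorem commute_cay {X : Matrix ((k : Fin t) × Fin (d k)) ((k : Fin t) × Fin (d k)) K}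
    (hX : Commute X (nil K d)) : Commute X (cay d σ c₀) :=
  (commute_cayA c₀ hX).mul_right (commute_cayUinv σ c₀ hX)

variable (d)

theorem cay_mul_cayB : cay d σ c₀ * cayB d σ c₀ = cayA d c₀ := by
  unfold cay
  rw [mul_assoc, ← cayU_val, Units.inv_mul, mul_one]

theorem cayB_mul_cay : cayB d σ c₀ * cay d σ c₀ = cayA d c₀ := by
  rw [← cay_mul_cayB d σ c₀]
  exact (commute_cay σ c₀ (commute_cayB σ c₀ (Commute.refl (nil K d))).symm).eq

theorem dag_cayA : dag d σ (cayA d c₀) = cayB d σ c₀ := by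
  unfold cayA cayB
  rw [(semiAnti_dag d σ).add, (semiAnti_dag d σ).one, (semiAnti_dag d σ).smul, dag_nil]

theorem dag_cayB (hσ : ∀ a, σ (σ a) = a) : dag d σ (cayB d σ c₀) = cayA d c₀ := by
  unfold cayA cayB
  rw [(semiAnti_dag d σ).add, (semiAnti_dag d σ).one, (semiAnti_dag d σ).smul, dag_nil, hσ]

theorem dag_cay_mul (hσ : ∀ a, σ (σ a) = a) : dag d σ (cay d σ c₀) * cay d σ c₀ = 1 := by
  have hAB : cayA d c₀ * cayB d σ c₀ = cayB d σ c₀ * cayA d c₀ :=
    (commute_cayB σ c₀ (commute_cayA c₀ (Commute.refl (nil K d))).symm).eq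
  have h1 : dag d σ (((cayU d σ c₀)⁻¹ :
      (Matrix ((k : Fin t) × Fin (d k)) ((k : Fin t) × Fin (d k)) K)ˣ) :
      Matrix ((k : Fin t) × Fin (d k)) ((k : Fin t) × Fin (d k)) K) * cayA d c₀ = 1 := by
    rw [← dag_cayB d σ c₀ hσ, ← (semiAnti_dag d σ).mul, ← cayU_val, Units.mul_inv,
      (semiAnti_dag d σ).one]
  unfold cay
  rw [(semiAnti_dag d σ).mul, dag_cayA]
  calc dag d σ (((cayU d σ c₀)⁻¹ :
      (Matrix ((k : Fin t) × Fin (d k)) ((k : Fin t) × Fin (d k)) K)ˣ) :
      Matrix ((k : Fin t) × Fin (d k)) ((k : Fin t) × Fin (d k)) K) * cayB d σ c₀ *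
      (cayA d c₀ * ((cayU d σ c₀)⁻¹ :
        (Matrix ((k : Fin t) × Fin (d k)) ((k : Fin t) × Fin (d k)) K)ˣ))
      = dag d σ (((cayU d σ c₀)⁻¹ :
      (Matrix ((k : Fin t) × Fin (d k)) ((k : Fin t) × Fin (d k)) K)ˣ) :
      Matrix ((k : Fin t) × Fin (d k)) ((k : Fin t) × Fin (d k)) K) * (cayB d σ c₀ * cayA d c₀) *
        ((cayU d σ c₀)⁻¹ :
        (Matrix ((k : Fin t) × Fin (d k)) ((k : Fin t) × Fin (d k)) K)ˣ) := by
        simp only [mul_assoc]
    _ = 1 := by
        rw [← hAB, ← mul_assoc, h1, one_mul, ← cayU_val, Units.mul_inv]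

theorem comm_cay_iff (hc₀ : c₀ - σ c₀ ≠ 0)
    (X : Matrix ((k : Fin t) × Fin (d k)) ((k : Fin t) × Fin (d k)) K) :
    X * cay d σ c₀ = cay d σ c₀ * X ↔ X * nil K d = nil K d * X := by
  constructor
  · intro hX
    -- `E = c₀ - σ c₀ u₀`
    set u := cay d σ c₀ with hu
    set N := nil K d with hN
    have huN : u * N = N * u := ((commute_cay σ c₀ (Commute.refl (nil K d))).eq).symm
    have h1 : u + σ c₀ • (u * N) = 1 + c₀ • N := by
      have := cay_mul_cayB d σ c₀
      unfold cayB cayA at this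
      rw [mul_add, mul_one, Matrix.mul_smul] at this
      exact this
    have h2 : cayB d σ c₀ * (c₀ • (1 : Matrix _ _ K) - σ c₀ • u) = (c₀ - σ c₀) • (1 : Matrix _ _ K) := by
      rw [mul_sub, Matrix.mul_smul, Matrix.mul_smul, mul_one, cayB_mul_cay]
      unfold cayA cayB
      rw [smul_add, smul_add, smul_smul, smul_smul, sub_smul, mul_comm (σ c₀) c₀]
      abel
    -- the commutator
    have h3 : (c₀ • (1 : Matrix _ _ K) - σ c₀ • u) * (X * N - N * X) = 0 := by
      have e1 : X * (u + σ c₀ • (u * N)) = X * (1 + c₀ • N) := by rw [h1]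
      have e2 : (u + σ c₀ • (u * N)) * X = (1 + c₀ • N) * X := by rw [h1]
      rw [mul_add, mul_add, Matrix.mul_smul, Matrix.mul_smul, mul_one] at e1
      rw [add_mul, add_mul, Matrix.smul_mul, Matrix.smul_mul, one_mul] at e2
      have e3 : X * (u * N) = u * (X * N) := by rw [← mul_assoc, hX, mul_assoc]
      have e4 : u * N * X = u * (N * X) := mul_assoc _ _ _
      rw [e3] at e1
      rw [e4] at e2
      have e5 : σ c₀ • (u * (X * N)) - σ c₀ • (u * (N * X)) = c₀ • (X * N) - c₀ • (N * X) := by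
        have e6 : σ c₀ • (u * (X * N)) = X + c₀ • (X * N) - X * u := eq_sub_of_add_eq' e1
        have e7 : σ c₀ • (u * (N * X)) = X + c₀ • (N * X) - u * X := eq_sub_of_add_eq' e2
        rw [e6, e7, hX]
        abel
      rw [sub_mul, Matrix.smul_mul, Matrix.smul_mul, one_mul, mul_sub, smul_sub, smul_sub, ← e5]
      abel
    have h4 : (c₀ - σ c₀) • (X * N - N * X) = 0 := by
      have : cayB d σ c₀ * ((c₀ • (1 : Matrix _ _ K) - σ c₀ • u) * (X * N - N * X)) = 0 := by
        rw [h3, mul_zero]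
      rw [← mul_assoc, h2, Matrix.smul_mul, one_mul] at this
      exact this
    rw [smul_eq_zero] at h4
    rcases h4 with h4 | h4
    · exact absurd h4 hc₀
    · exact sub_eq_zero.1 h4
  · intro hX
    exact (commute_cay σ c₀ (show Commute X (nil K d) from hX)).eq

theorem cay_sub_one :
    cay d σ c₀ - 1 = nil K d * ((c₀ - σ c₀) • (((cayU d σ c₀)⁻¹ :
      (Matrix ((k : Fin t) × Fin (d k)) ((k : Fin t) × Fin (d k)) K)ˣ) :
      Matrix ((k : Fin t) × Fin (d k)) ((k : Fin t) × Fin (d k)) K)) := by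
  have h1 : (1 : Matrix ((k : Fin t) × Fin (d k)) ((k : Fin t) × Fin (d k)) K) =
      cayB d σ c₀ * (((cayU d σ c₀)⁻¹ :
      (Matrix ((k : Fin t) × Fin (d k)) ((k : Fin t) × Fin (d k)) K)ˣ) :
      Matrix ((k : Fin t) × Fin (d k)) ((k : Fin t) × Fin (d k)) K) := by
    rw [← cayU_val, Units.mul_inv]
  unfold cay
  nth_rewrite 1 [h1]
  rw [← sub_mul]
  unfold cayA cayB
  rw [add_sub_add_left_eq_sub, ← sub_smul, Matrix.smul_mul, Matrix.mul_smul]

theorem isConj_cay (hc₀ : c₀ - σ c₀ ≠ 0) :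
    IsConj (cay d σ c₀) (Cfsg.jordanTypeMatrix d K) := by
  set W : Matrix ((k : Fin t) × Fin (d k)) ((k : Fin t) × Fin (d k)) K :=
    (c₀ - σ c₀) • (((cayU d σ c₀)⁻¹ :
      (Matrix ((k : Fin t) × Fin (d k)) ((k : Fin t) × Fin (d k)) K)ˣ) :
      Matrix ((k : Fin t) × Fin (d k)) ((k : Fin t) × Fin (d k)) K) with hW
  have hWu : IsUnit W := by
    refine ⟨⟨W, (c₀ - σ c₀)⁻¹ • cayB d σ c₀, ?_, ?_⟩, rfl⟩
    · rw [hW, Matrix.smul_mul, Matrix.mul_smul, smul_smul, mul_inv_cancel₀ hc₀, one_smul,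
        ← cayU_val, Units.inv_mul]
    · rw [hW, Matrix.smul_mul, Matrix.mul_smul, smul_smul, inv_mul_cancel₀ hc₀, one_smul,
        ← cayU_val, Units.mul_inv]
  have hcomm : Commute (nil K d) W :=
    (commute_cayUinv σ c₀ (Commute.refl (nil K d))).smul_right _
  have hnil : nilPart (cay d σ c₀) = jtN K d * Matrix.toLin' W := by
    unfold nilPart
    rw [cay_sub_one, Matrix.toLin'_mul, toLin'_nil]
    rfl
  have hcomm' : Commute (jtN K d) (Matrix.toLin' W) := by
    show jtN K d * Matrix.toLin' W = Matrix.toLin' W * jtN K d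
    rw [← toLin'_nil, Module.End.mul_eq_comp, Module.End.mul_eq_comp, ← Matrix.toLin'_mul,
      ← Matrix.toLin'_mul, hcomm.eq]
  have hWu' : IsUnit (Matrix.toLin' W) := by
    have : Matrix.toLin' W = Matrix.toLinAlgEquiv' W := rfl
    rw [this]
    exact hWu.map (Matrix.toLinAlgEquiv' (R := K) (n := (k : Fin t) × Fin (d k)))
  apply isConj_of_dker_eq
  · rw [hnil]
    exact hcomm'.isNilpotent_mul_right (jtN_isNilpotent d)
  · rw [nilPart_jt]
    exact jtN_isNilpotent d
  · intro j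
    unfold dker
    rw [nilPart_jt, hnil, ker_mul_unit_pow _ _ hcomm' hWu']

end cayley

end Cfsg.Agent.Lib.Helper43.UCDag
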