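import Cfsg.Agent.Lib.Helper43.UCCount
import Cfsg.Agent.Lib.Helper43.UCCayley

/-!
# The top blocks are multiplicative on the commutant of the Jordan type matrix
-/

set_option autoImplicit false

namespace Cfsg.Agent.Lib.Helper43.UCDag

open Matrix Cfsg.Agent.Lib.Helper43 Cfsg.Agent.Lib.Helper43.InvolRing
  Cfsg.Agent.Lib.Helper43.HermSqrt

variable {K : Type*} [Field K] {t : ℕ} (d : Fin t → ℕ) (hd : ∀ k, 1 ≤ d k)

section entries

variable (X : Matrix ((k : Fin t) × Fin (d k)) ((k : Fin t) × Fin (d k)) K)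
  (hX : X * nil K d = nil K d * X)

include hX

/-- the first row of a block vanishes away from the first columns -/
theorem comm_row_zero (m : Fin t) (c : (k : Fin t) × Fin (d k)) (hc : 1 ≤ (c.2 : ℕ)) :
    X ⟨m, ⟨0, hd m⟩⟩ c = 0 := by
  obtain ⟨k, j⟩ := c
  simp only at hc
  have hj := j.2
  have h1 := congrFun (congrFun hX ⟨m, ⟨0, hd m⟩⟩) ⟨k, ⟨(j : ℕ) - 1, by omega⟩⟩
  rw [mul_nil_apply, nil_mul_apply] at h1
  simp only at h1
  rw [dif_pos (by omega), dif_neg (by omega)] at h1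
  rw [← h1]
  congr 2
  apply Fin.ext
  simp only
  omega

/-- the first column of a block vanishes at the first rows of longer blocks -/
theorem comm_col_zero (k l : Fin t) (h : d l < d k) :
    X ⟨k, ⟨0, hd k⟩⟩ ⟨l, ⟨0, hd l⟩⟩ = 0 := by
  have h1 := (mem_ker_jtN_pow d (d l) _).1
    (centFam d hd (Matrix.toLin' X) (toLin'_comm_nil d X hX) l).2 ⟨k, ⟨0, hd k⟩⟩
    (by simp only; omega)
  rw [centFam_apply d hd X hX] at h1
  exact h1

end entries

/-- `top` is multiplicative on the commutant -/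
theorem top_mul (X Y : Matrix ((k : Fin t) × Fin (d k)) ((k : Fin t) × Fin (d k)) K)
    (hX : X * nil K d = nil K d * X) (hY : Y * nil K d = nil K d * Y) :
    top d hd (X * Y) = top d hd X * top d hd Y := by
  classical
  funext i
  ext m l
  show (X * Y) ⟨m.1, ⟨0, hd m.1⟩⟩ ⟨l.1, ⟨0, hd l.1⟩⟩ = (top d hd X i * top d hd Y i) m l
  rw [Matrix.mul_apply, Matrix.mul_apply, Fintype.sum_sigma]
  have hinner : ∀ k : Fin t, ∑ j : Fin (d k), X ⟨m.1, ⟨0, hd m.1⟩⟩ ⟨k, j⟩ * Y ⟨k, j⟩ ⟨l.1, ⟨0, hd l.1⟩⟩ =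
      X ⟨m.1, ⟨0, hd m.1⟩⟩ ⟨k, ⟨0, hd k⟩⟩ * Y ⟨k, ⟨0, hd k⟩⟩ ⟨l.1, ⟨0, hd l.1⟩⟩ := by
    intro k
    rw [Finset.sum_eq_single (⟨0, hd k⟩ : Fin (d k))]
    · intro j _ hj
      rw [comm_row_zero d hd X hX m.1 ⟨k, j⟩ (by
        simp only
        by_contra hcon
        apply hj
        apply Fin.ext
        simp only
        omega), zero_mul]
    · intro h
      exact absurd (Finset.mem_univ _) h
  rw [Finset.sum_congr rfl (fun k _ => hinner k)]
  have hR : ∑ j, top d hd X i m j * top d hd Y i j l =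
      ∑ j : {k : Fin t // d k = (i : ℕ)}, (fun k : Fin t => X ⟨m.1, ⟨0, hd m.1⟩⟩ ⟨k, ⟨0, hd k⟩⟩ *
        Y ⟨k, ⟨0, hd k⟩⟩ ⟨l.1, ⟨0, hd l.1⟩⟩) j.1 := rfl
  rw [hR, ← Finset.sum_subtype (Finset.univ.filter (fun k : Fin t => d k = (i : ℕ)))
    (fun k => by simp) (fun k => X ⟨m.1, ⟨0, hd m.1⟩⟩ ⟨k, ⟨0, hd k⟩⟩ * Y ⟨k, ⟨0, hd k⟩⟩ ⟨l.1, ⟨0, hd l.1⟩⟩)]
  symm
  apply Finset.sum_subset (Finset.subset_univ _)
  intro k _ hk
  rw [Finset.mem_filter] at hk
  have hk' : d k ≠ (i : ℕ) := fun h => hk ⟨Finset.mem_univ _, h⟩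
  rcases Nat.lt_or_gt_of_ne hk' with h | h
  · rw [comm_col_zero d hd X hX m.1 k (by rw [m.2]; exact h), zero_mul]
  · rw [comm_col_zero d hd Y hY k l.1 (by rw [l.2]; exact h), mul_zero]

theorem top_one : top d hd (1 : Matrix ((k : Fin t) × Fin (d k)) ((k : Fin t) × Fin (d k)) K) = 1 := by
  funext i
  ext m l
  show (1 : Matrix ((k : Fin t) × Fin (d k)) ((k : Fin t) × Fin (d k)) K)
    ⟨m.1, ⟨0, hd m.1⟩⟩ ⟨l.1, ⟨0, hd l.1⟩⟩ = (1 : Matrix _ _ K) m l
  rw [Matrix.one_apply, Matrix.one_apply]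
  by_cases h : m = l
  · subst h
    rw [if_pos rfl, if_pos rfl]
  · rw [if_neg h, if_neg]
    intro h'
    apply h
    apply Subtype.ext
    exact congrArg Sigma.fst h'

theorem top_neg (X : Matrix ((k : Fin t) × Fin (d k)) ((k : Fin t) × Fin (d k)) K) :
    top d hd (-X) = -top d hd X := by
  funext i
  ext m l
  rfl

/-! ### the sign matrix -/

/-- the alternating signs along each block -/
def sgnD (K : Type*) [Field K] {t : ℕ} (d : Fin t → ℕ) :
    Matrix ((k : Fin t) × Fin (d k)) ((k : Fin t) × Fin (d k)) K :=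
  Matrix.diagonal fun a => (-1) ^ (a.2 : ℕ)

theorem sgnD_mul_sgnD : sgnD K d * sgnD K d = 1 := by
  unfold sgnD
  rw [Matrix.diagonal_mul_diagonal]
  have : (fun a : (k : Fin t) × Fin (d k) => ((-1 : K) ^ (a.2 : ℕ)) * (-1) ^ (a.2 : ℕ)) =
      fun _ => 1 := by
    funext a
    rw [← mul_pow]
    simp
  rw [this, Matrix.diagonal_one]

theorem sgnD_transpose : (sgnD K d)ᵀ = sgnD K d := Matrix.diagonal_transpose _

theorem sgnD_mul_apply (Y : Matrix ((k : Fin t) × Fin (d k)) ((k : Fin t) × Fin (d k)) K)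
    (a c : (k : Fin t) × Fin (d k)) : (sgnD K d * Y) a c = (-1) ^ (a.2 : ℕ) * Y a c := by
  unfold sgnD
  rw [Matrix.diagonal_mul]

theorem mul_sgnD_apply (Y : Matrix ((k : Fin t) × Fin (d k)) ((k : Fin t) × Fin (d k)) K)
    (a c : (k : Fin t) × Fin (d k)) : (Y * sgnD K d) a c = Y a c * (-1) ^ (c.2 : ℕ) := by
  unfold sgnD
  rw [Matrix.mul_diagonal]

theorem sgnD_mul_nil : sgnD K d * nil K d = -(nil K d * sgnD K d) := by
  ext a c
  rw [sgnD_mul_apply, Matrix.neg_apply, mul_sgnD_apply, nil_apply]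
  by_cases h : a.1 = c.1 ∧ (a.2 : ℕ) = (c.2 : ℕ) + 1
  · rw [if_pos h, h.2, pow_succ]
    ring
  · rw [if_neg h]
    ring

theorem nil_mul_sgnD : nil K d * sgnD K d = -(sgnD K d * nil K d) := by
  rw [sgnD_mul_nil, neg_neg]

theorem sgnD_nil_sgnD : sgnD K d * nil K d * sgnD K d = -nil K d := by
  rw [sgnD_mul_nil, Matrix.neg_mul, mul_assoc, sgnD_mul_sgnD, mul_one]

/-- conjugation by the sign matrix preserves the commutant -/
theorem comm_sgnD (Y : Matrix ((k : Fin t) × Fin (d k)) ((k : Fin t) × Fin (d k)) K)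
    (hY : Y * nil K d = nil K d * Y) :
    (sgnD K d * Y * sgnD K d) * nil K d = nil K d * (sgnD K d * Y * sgnD K d) := by
  calc sgnD K d * Y * sgnD K d * nil K d = sgnD K d * Y * (sgnD K d * nil K d) := by
        simp only [mul_assoc]
    _ = -(sgnD K d * (Y * nil K d) * sgnD K d) := by
        rw [sgnD_mul_nil, Matrix.mul_neg]
        simp only [mul_assoc]
    _ = -(sgnD K d * nil K d * Y * sgnD K d) := by
        rw [hY]
        simp only [mul_assoc]
    _ = nil K d * (sgnD K d * Y * sgnD K d) := by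
        rw [sgnD_mul_nil]
        simp only [Matrix.neg_mul, neg_neg, mul_assoc]

theorem top_sgnD (Y : Matrix ((k : Fin t) × Fin (d k)) ((k : Fin t) × Fin (d k)) K) :
    top d hd (sgnD K d * Y * sgnD K d) = top d hd Y := by
  funext i
  ext m l
  show (sgnD K d * Y * sgnD K d) ⟨m.1, ⟨0, hd m.1⟩⟩ ⟨l.1, ⟨0, hd l.1⟩⟩ =
    Y ⟨m.1, ⟨0, hd m.1⟩⟩ ⟨l.1, ⟨0, hd l.1⟩⟩
  rw [mul_sgnD_apply, sgnD_mul_apply]
  simp

/-- the sign matrix commutes with block-scalar matrices -/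
theorem sgnD_mul_sec (y : BlkFam K d) : sgnD K d * sec d y = sec d y * sgnD K d := by
  ext a c
  rw [sgnD_mul_apply, mul_sgnD_apply]
  by_cases h : d a.1 = d c.1 ∧ (a.2 : ℕ) = (c.2 : ℕ)
  · rw [h.2, mul_comm]
  · have : sec d y a c = 0 := by
      simp only [sec, Matrix.of_apply]
      rw [dif_neg h]
    rw [this, mul_zero, zero_mul]

theorem sec_eq_zero (y : BlkFam K d) (a c : (k : Fin t) × Fin (d k))
    (h : ¬ (d a.1 = d c.1 ∧ (a.2 : ℕ) = (c.2 : ℕ))) : sec d y a c = 0 := by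
  simp only [sec, Matrix.of_apply]
  rw [dif_neg h]

theorem sec_sign (y : BlkFam K d) (a c : (k : Fin t) × Fin (d k)) :
    sec d (fun i => ((-1 : K) ^ (i : ℕ)) • y i) a c = (-1) ^ (d a.1) * sec d y a c := by
  simp only [sec, Matrix.of_apply]
  by_cases h : d a.1 = d c.1 ∧ (a.2 : ℕ) = (c.2 : ℕ)
  · rw [dif_pos h, dif_pos h, Matrix.smul_apply, smul_eq_mul]
  · rw [dif_neg h, dif_neg h, mul_zero]

theorem H0_transpose : (H0 K d)ᵀ = H0 K d := by
  have := cT_H0 (K := K) d (RingHom.id K)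
  ext a c
  have h := congrFun (congrFun this a) c
  rw [cT_apply] at h
  rw [Matrix.transpose_apply]
  exact h

theorem H0_sgnD_H0 : H0 K d * sgnD K d * H0 K d =
    Matrix.diagonal fun a : (k : Fin t) × Fin (d k) => (-1 : K) ^ ((rev d a).2 : ℕ) := by
  rw [H0_mul, mul_H0]
  ext a c
  simp only [Matrix.submatrix_apply, id, sgnD, Matrix.diagonal_apply]
  by_cases h : a = c
  · subst h
    rw [if_pos rfl, if_pos rfl]
  · rw [if_neg h, if_neg]
    intro h'
    exact h ((rev d).injective h')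

end Cfsg.Agent.Lib.Helper43.UCDag
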