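import Cfsg.Agent.Lib.Helper92.Sz8.Defs
import Cfsg.Agent.Lib.Helper6.SzCount

/-!
# Sz8 hive (S2112, helper92), leaf TRF: transfer of `Sz(8)` to an arbitrary field with 8 elements

`card_GK`, `card_GF`, `exists_mulEquiv_GK` (exact statements of `tools/helper92/Sz8Skel.lean.txt`).
-/

set_option autoImplicit false

namespace Cfsg.Agent.Lib.Helper92.Sz8

open Cfsg Cfsg.Agent.Lib.Helper6.Sz

universe u v

theorem trf_card_eq {F : Type u} [Field F] [Fintype F] (hF : Fintype.card F = 8) :
    Fintype.card F = 2 ^ (2 * 1 + 1) := by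
  rw [hF]; norm_num

theorem card_GF {F : Type u} [Field F] [Fintype F] [CharP F 2] (hF : Fintype.card F = 8) :
    Nat.card ↥(G (sig F 1)) = 29120 := by
  have hF' := trf_card_eq hF
  rw [card_G (sig F 1) (sig_sig (m := 1) hF') (sig_nt (m := 1) le_rfl hF'),
    Nat.card_eq_fintype_card, hF]
  norm_num

theorem card_GK : Nat.card GK = 29120 :=
  card_GF (F := K8) K8.card

theorem trf_hom_compat {F : Type u} [Field F] [Fintype F] [CharP F 2] (ψ : K8 →+* F) (x : K8) :
    sig F 1 (ψ x) = ψ (sK x) := by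
  rw [sK, sig_apply, sig_apply, map_pow]

theorem exists_mulEquiv_GK {F : Type u} [Field F] [Fintype F] [CharP F 2]
    (hF : Fintype.card F = 8) : Nonempty (GK ≃* ↥(G (sig F 1))) := by
  have hF' := trf_card_eq hF
  have hKF : Fintype.card K8 = Fintype.card F := by rw [K8.card, hF]
  let ψ : K8 ≃+* F := FiniteField.ringEquivOfCardEq hKF
  let φ : GK →* ↥(G (sig F 1)) :=
    Phi sK (sig F 1) (ψ : K8 →+* F) (trf_hom_compat (ψ : K8 →+* F)) hsK
      (sig_sig (m := 1) hF') hntK
  have hinj : Function.Injective φ :=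
    Phi_injective sK (sig F 1) (ψ : K8 →+* F) (trf_hom_compat (ψ : K8 →+* F)) hsK
      (sig_sig (m := 1) hF') hntK
  have : Finite GK := Nat.finite_of_card_ne_zero (by rw [card_GK]; norm_num)
  have : Finite ↥(G (sig F 1)) := Nat.finite_of_card_ne_zero (by rw [card_GF hF]; norm_num)
  have hbij : Function.Bijective φ := by
    rw [Nat.bijective_iff_injective_and_card]
    exact ⟨hinj, by rw [card_GK, card_GF hF]⟩
  exact ⟨MulEquiv.ofBijective φ hbij⟩

end Cfsg.Agent.Lib.Helper92.Sz8
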