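import Mathlib
import Cfsg.Agent.Lib.Helper66.TpDefs

/-! # Tp hive (helper66, S4017), leaf TP-I1 `caseI_basic`:
in case (I) centralizers of involutions are commutative and `Q` is a TI subgroup. -/

set_option autoImplicit false

namespace Cfsg.Agent.Lib.Helper66.Tp

section ctx

variable {p : ℕ} {G : Type*} [Group G] [Finite G]

/-- `Q` is commutative (exponent `2`) -/
theorem tpi1_Q_comm (s : Setup p G) {a b : G} (ha : a ∈ (s.Q : Subgroup G))
    (hb : b ∈ (s.Q : Subgroup G)) : a * b = b * a := by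
  have h1 := s.hexp a ha
  have h2 := s.hexp b hb
  have h3 := s.hexp (b * a) (mul_mem hb ha)
  calc a * b = a * b * ((b * a) * (b * a)) := by rw [h3, mul_one]
    _ = a * (b * b) * a * (b * a) := by group
    _ = b * a := by rw [h2, mul_one, h1, one_mul]

/-- `|Q| = p + 1` -/
theorem tpi1_card_Q (s : Setup p G) : Nat.card (s.Q : Subgroup G) = p + 1 := by
  rw [Sylow.card_eq_multiplicity, s.ctx.two_part]

/-- a `p`-subgroup is commutative (abelian Sylow `p`-subgroups) -/
theorem tpi1_pgroup_comm (s : Setup p G) {H : Subgroup G} (hH : IsPGroup p H) {a b : G}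
    (ha : a ∈ H) (hb : b ∈ H) : a * b = b * a := by
  have : Fact p.Prime := ⟨s.ctx.hp⟩
  obtain ⟨R, hR⟩ := hH.exists_le_sylow
  have := s.ctx.abel R
  exact setLike_mul_comm (s := (R : Subgroup G)) (hR ha) (hR hb)

/-- an element of a `p`-subgroup (`p` odd) with trivial square is trivial -/
theorem tpi1_eq_one_of_sq (s : Setup p G) {H : Subgroup G} (hH : IsPGroup p H) {y : G}
    (hy : y ∈ H) (hyy : y * y = 1) : y = 1 := by
  obtain ⟨k, hk⟩ := hH ⟨y, hy⟩
  have hk' : y ^ p ^ k = 1 := by simpa using congrArg Subtype.val hk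
  have h2 : y ^ 2 = 1 := by rw [pow_two]; exact hyy
  have hcop : Nat.Coprime (p ^ k) 2 := by
    apply Nat.Coprime.pow_left
    rw [Nat.coprime_primes s.ctx.hp Nat.prime_two]; exact s.ctx.hp2
  have h3 := pow_gcd_eq_one.mpr ⟨hk', h2⟩
  rw [hcop.gcd_eq_one, pow_one] at h3
  exact h3

/-- `C(u) = Y_u Q` elementwise -/
theorem tpi1_decomp (s : Setup p G) {u : G} (hu : u ∈ (s.Q : Subgroup G))
    (hcu : Nat.card (Subgroup.centralizer ({u} : Set G)) = Nat.card (Yof p u) * (p + 1))
    (hY : IsPGroup p (Yof p u)) {c : G} (hc : c ∈ Subgroup.centralizer ({u} : Set G)) :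
    ∃ y ∈ Yof p u, ∃ v ∈ (s.Q : Subgroup G), c = y * v := by
  classical
  have : Fact p.Prime := ⟨s.ctx.hp⟩
  have hQle : (s.Q : Subgroup G) ≤ Subgroup.centralizer ({u} : Set G) := by
    intro v hv
    rw [Subgroup.mem_centralizer_singleton_iff]
    exact tpi1_Q_comm s hv hu
  have hdisj : Disjoint (Yof p u) (s.Q : Subgroup G) :=
    IsPGroup.disjoint_of_ne p 2 s.ctx.hp2 _ _ hY s.Q.isPGroup'
  let f : (Yof p u) × (s.Q : Subgroup G) → Subgroup.centralizer ({u} : Set G) :=
    fun yv => ⟨yv.1 * yv.2, mul_mem (Yof_le_centralizer p u yv.1.2) (hQle yv.2.2)⟩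
  have hinj : Function.Injective f := by
    rintro ⟨y, v⟩ ⟨y', v'⟩ h
    have h' : (y : G) * v = y' * v' := congrArg Subtype.val h
    have h2 : (y' : G)⁻¹ * y = v' * (v : G)⁻¹ := by
      calc (y' : G)⁻¹ * y = (y' : G)⁻¹ * (y * v) * (v : G)⁻¹ := by group
        _ = (y' : G)⁻¹ * (y' * v') * (v : G)⁻¹ := by rw [h']
        _ = v' * (v : G)⁻¹ := by group
    have h3 : (y' : G)⁻¹ * y ∈ Yof p u ⊓ (s.Q : Subgroup G) :=
      Subgroup.mem_inf.mpr
        ⟨mul_mem (inv_mem y'.2) y.2, by rw [h2]; exact mul_mem v'.2 (inv_mem v.2)⟩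
    rw [hdisj.eq_bot, Subgroup.mem_bot] at h3
    have h4 : (y : G) = y' := (inv_mul_eq_one.mp h3).symm
    have h5 : (v : G) = v' := by
      rw [h4] at h'
      exact mul_left_cancel h'
    exact Prod.ext (Subtype.ext h4) (Subtype.ext h5)
  have hcard : Nat.card ((Yof p u) × (s.Q : Subgroup G)) =
      Nat.card (Subgroup.centralizer ({u} : Set G)) := by
    rw [Nat.card_prod, tpi1_card_Q, hcu]
  have hbij : Function.Bijective f := (Nat.bijective_iff_injective_and_card f).mpr ⟨hinj, hcard⟩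
  obtain ⟨⟨y, v⟩, hyv⟩ := hbij.2 ⟨c, hc⟩
  exact ⟨y, y.2, v, v.2, (congrArg Subtype.val hyv).symm⟩

/-- `C(u)` is commutative for `u ∈ Q \ {1}` in case (I) -/
theorem tpi1_cent_comm (s : Setup p G) (hI : CaseI s) {u : G} (hu : u ∈ (s.Q : Subgroup G))
    (hu1 : u ≠ 1)
    (hcu : Nat.card (Subgroup.centralizer ({u} : Set G)) = Nat.card (Yof p u) * (p + 1))
    (hY : IsPGroup p (Yof p u)) {a b : G} (ha : a ∈ Subgroup.centralizer ({u} : Set G))
    (hb : b ∈ Subgroup.centralizer ({u} : Set G)) : a * b = b * a := by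
  obtain ⟨y, hy, v, hv, rfl⟩ := tpi1_decomp s hu hcu hY ha
  obtain ⟨y', hy', v', hv', rfl⟩ := tpi1_decomp s hu hcu hY hb
  have e1 : v * y' = y' * v := hI u hu hu1 v hv y' hy'
  have e2 : v' * y = y * v' := hI u hu hu1 v' hv' y hy
  have e3 := tpi1_pgroup_comm s hY hy hy'
  have e4 := tpi1_Q_comm s hv hv'
  calc y * v * (y' * v') = y * (v * y') * v' := by group
    _ = y * (y' * v) * v' := by rw [e1]
    _ = (y * y') * (v * v') := by group
    _ = (y' * y) * (v' * v) := by rw [e3, e4]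
    _ = y' * (y * v') * v := by group
    _ = y' * (v' * y) * v := by rw [e2]
    _ = y' * v' * (y * v) := by group

/-- every involution is conjugate into `Q` -/
theorem tpi1_conj_into_Q (s : Setup p G) {t : G} (ht : orderOf t = 2) :
    ∃ g : G, g * t * g⁻¹ ∈ (s.Q : Subgroup G) := by
  have h2 : IsPGroup 2 (Subgroup.zpowers t) := by
    apply IsPGroup.of_card (n := 1)
    rw [Nat.card_zpowers, ht, pow_one]
  obtain ⟨P, hP⟩ := h2.exists_le_sylow
  obtain ⟨g, hg⟩ := MulAction.exists_smul_eq G P s.Q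
  refine ⟨g, ?_⟩
  rw [← hg, Sylow.coe_subgroup_smul]
  have ht' : t ∈ (P : Subgroup G) := hP (Subgroup.mem_zpowers t)
  exact Subgroup.smul_mem_pointwise_smul t (MulAut.conj g) (P : Subgroup G) ht'

variable (s : Setup p G)
include s

/-- TP-I1 -/
theorem caseI_basic (hI : CaseI s)
    (hcu : ∀ u ∈ (s.Q : Subgroup G), u ≠ 1 →
      Nat.card (Subgroup.centralizer ({u} : Set G)) = Nat.card (Yof p u) * (p + 1))
    (hYp : ∀ u ∈ (s.Q : Subgroup G), u ≠ 1 → IsPGroup p (Yof p u)) :
    (∀ t : G, orderOf t = 2 → ∀ a ∈ Subgroup.centralizer ({t} : Set G),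
        ∀ b ∈ Subgroup.centralizer ({t} : Set G), a * b = b * a) ∧
    (∀ g v : G, v ∈ (s.Q : Subgroup G) → v ≠ 1 → g * v * g⁻¹ ∈ (s.Q : Subgroup G) →
        g ∈ Subgroup.normalizer ((s.Q : Subgroup G) : Set G)) := by
  constructor
  · intro t ht a ha b hb
    obtain ⟨g, hg⟩ := tpi1_conj_into_Q s ht
    have hu1 : g * t * g⁻¹ ≠ 1 := by
      intro h
      have h1 : t = 1 := by
        calc t = g⁻¹ * (g * t * g⁻¹) * g := by group
          _ = 1 := by rw [h]; group
      rw [h1, orderOf_one] at ht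
      omega
    rw [Subgroup.mem_centralizer_singleton_iff] at ha hb
    have ha' : g * a * g⁻¹ ∈ Subgroup.centralizer ({g * t * g⁻¹} : Set G) := by
      rw [Subgroup.mem_centralizer_singleton_iff]
      calc g * a * g⁻¹ * (g * t * g⁻¹) = g * (a * t) * g⁻¹ := by group
        _ = g * (t * a) * g⁻¹ := by rw [ha]
        _ = g * t * g⁻¹ * (g * a * g⁻¹) := by group
    have hb' : g * b * g⁻¹ ∈ Subgroup.centralizer ({g * t * g⁻¹} : Set G) := by
      rw [Subgroup.mem_centralizer_singleton_iff]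
      calc g * b * g⁻¹ * (g * t * g⁻¹) = g * (b * t) * g⁻¹ := by group
        _ = g * (t * b) * g⁻¹ := by rw [hb]
        _ = g * t * g⁻¹ * (g * b * g⁻¹) := by group
    have h := tpi1_cent_comm s hI hg hu1 (hcu _ hg hu1) (hYp _ hg hu1) ha' hb'
    calc a * b = g⁻¹ * ((g * a * g⁻¹) * (g * b * g⁻¹)) * g := by group
      _ = g⁻¹ * ((g * b * g⁻¹) * (g * a * g⁻¹)) * g := by rw [h]
      _ = b * a := by group
  · intro g v hv hv1 hw
    apply Subgroup.mem_normalizer_fintype
    intro n hn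
    have hn' : n ∈ (s.Q : Subgroup G) := hn
    have hw1 : g * v * g⁻¹ ≠ 1 := by
      intro h
      apply hv1
      calc v = g⁻¹ * (g * v * g⁻¹) * g := by group
        _ = 1 := by rw [h]; group
    have hnc : g * n * g⁻¹ ∈ Subgroup.centralizer ({g * v * g⁻¹} : Set G) := by
      rw [Subgroup.mem_centralizer_singleton_iff]
      have := tpi1_Q_comm s hn' hv
      calc g * n * g⁻¹ * (g * v * g⁻¹) = g * (n * v) * g⁻¹ := by group
        _ = g * (v * n) * g⁻¹ := by rw [this]
        _ = g * v * g⁻¹ * (g * n * g⁻¹) := by group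
    obtain ⟨y, hy, v', hv', hdec⟩ := tpi1_decomp s hw (hcu _ hw hw1) (hYp _ hw hw1) hnc
    have hsq : (g * n * g⁻¹) * (g * n * g⁻¹) = 1 := by
      have := s.hexp n hn'
      calc (g * n * g⁻¹) * (g * n * g⁻¹) = g * (n * n) * g⁻¹ := by group
        _ = 1 := by rw [this]; group
    have e1 : v' * y = y * v' := hI _ hw hw1 v' hv' y hy
    have hyy : y * y = 1 := by
      have := s.hexp v' hv'
      rw [hdec] at hsq
      calc y * y = y * y * (v' * v') := by rw [this, mul_one]
        _ = y * (y * v') * v' := by group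
        _ = y * (v' * y) * v' := by rw [e1]
        _ = y * v' * (y * v') := by group
        _ = 1 := hsq
    have hy1 : y = 1 := tpi1_eq_one_of_sq s (hYp _ hw hw1) hy hyy
    show g * n * g⁻¹ ∈ (s.Q : Subgroup G)
    rw [hdec, hy1, one_mul]
    exact hv'

end ctx

end Cfsg.Agent.Lib.Helper66.Tp
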