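import Mathlib
import Cfsg.Agent.Lib.Helper66.TpDefs
import Cfsg.Agent.Lib.Helper43.TpI1

/-! # Tp hive (helper66, S4017), leaf TP-D5 `dich5`:
`C_R(v) = 1` for all `v ∈ Q \ {1,u}` forces case (II). -/

set_option autoImplicit false

namespace Cfsg.Agent.Lib.Helper66.Tp

section ctx

variable {p : ℕ} {G : Type*} [Group G] [Finite G]

omit [Finite G] in
/-- a subgroup with more elements than a finite set has an element outside it -/
theorem tpd5_exists_not_mem [DecidableEq G] (H : Subgroup G) (S : Finset G)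
    (h : S.card < Nat.card H) : ∃ w ∈ H, w ∉ S := by
  by_contra hcon
  push Not at hcon
  have hsub : ((H : Subgroup G) : Set G) ⊆ (S : Set G) := fun w hw => hcon w hw
  have h1 : Nat.card H = ((H : Subgroup G) : Set G).ncard := rfl
  have h2 := Set.ncard_le_ncard hsub (Finset.finite_toSet S)
  rw [Set.ncard_coe_finset] at h2
  omega

variable (s : Setup p G)
include s

/-- TP-D5 -/
theorem dich5 {u : G} (hu : u ∈ (s.Q : Subgroup G)) (hu1 : u ≠ 1) (hne : Yof p u ≠ ⊥)
    (hcu : Nat.card (Subgroup.centralizer ({u} : Set G)) = Nat.card (Yof p u) * (p + 1))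
    (R : Sylow p G) (hYR : Yof p u ≤ (R : Subgroup G))
    (hQR : (s.Q : Subgroup G) ≤ Subgroup.normalizer ((R : Subgroup G) : Set G))
    (hcard : Nat.card (Subgroup.normalizer ((R : Subgroup G) : Set G)) =
      Nat.card (R : Subgroup G) * (p + 1))
    (h3 : ∀ z ∈ (R : Subgroup G), z ≠ 1 → 2 ∣ Nat.card (Subgroup.centralizer ({z} : Set G)) →
      Subgroup.centralizer ({z} : Set G) ≤ Subgroup.normalizer ((R : Subgroup G) : Set G))
    (h4 : ∀ v ∈ (s.Q : Subgroup G), v ≠ 1 → v ≠ u → ∀ z ∈ (R : Subgroup G), v * z = z * v → z = 1) :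
    CaseII s u := by
  classical
  have hp := s.ctx.hp
  have : Fact p.Prime := ⟨hp⟩
  have hRcomm : ∀ a ∈ (R : Subgroup G), ∀ b ∈ (R : Subgroup G), a * b = b * a := by
    intro a ha b hb
    have := s.ctx.abel R
    exact setLike_mul_comm (s := (R : Subgroup G)) ha hb
  have hnorm : ∀ v ∈ (s.Q : Subgroup G), ∀ z ∈ (R : Subgroup G),
      v * z * v⁻¹ ∈ (R : Subgroup G) := by
    intro v hv z hz
    exact ((Subgroup.mem_set_normalizer_iff.mp (hQR hv)) z).mp hz
  have hvinv : ∀ v ∈ (s.Q : Subgroup G), v⁻¹ = v :=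
    fun v hv => inv_eq_of_mul_eq_one_right (s.hexp v hv)
  -- every `v ∈ Q \ {1,u}` inverts `R`
  have hinvR : ∀ v ∈ (s.Q : Subgroup G), v ≠ 1 → v ≠ u → ∀ z ∈ (R : Subgroup G),
      v * z * v⁻¹ = z⁻¹ := by
    intro v hv hv1 hvu z hz
    have hvz := hnorm v hv z hz
    rw [hvinv v hv] at hvz ⊢
    have e : (v * z * v) * z = z * (v * z * v) := hRcomm _ hvz _ hz
    have hvv := s.hexp v hv
    have hcv : v * (z * (v * z * v)) = (z * (v * z * v)) * v := by
      calc v * (z * (v * z * v)) = (v * z * v) * z * v := by group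
        _ = z * (v * z * v) * v := by rw [e]
    have hc1 := h4 v hv hv1 hvu _ (mul_mem hz hvz) hcv
    exact eq_inv_of_mul_eq_one_right hc1
  have hcardQ := tpi1_card_Q s
  have hp3 : 3 ≤ p := by
    have h2 := hp.two_le
    have h2' := s.ctx.hp2
    omega
  obtain ⟨v, hv, hvS⟩ := tpd5_exists_not_mem (s.Q : Subgroup G) {1, u}
    (by rw [hcardQ]; exact lt_of_le_of_lt Finset.card_le_two (by omega))
  have hv1 : v ≠ 1 := fun h => hvS (by rw [h]; simp)
  have hvu : v ≠ u := fun h => hvS (by rw [h]; simp)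
  have huv : u * v ∈ (s.Q : Subgroup G) := mul_mem hu hv
  have huv1 : u * v ≠ 1 := by
    intro h
    apply hvu
    have h' := eq_inv_of_mul_eq_one_right h
    rw [h', hvinv u hu]
  have huvu : u * v ≠ u := by
    intro h
    apply hv1
    exact mul_left_cancel (a := u) (by rw [h, mul_one])
  -- `u` centralizes `R`
  have hRC : ∀ z ∈ (R : Subgroup G), u * z = z * u := by
    intro z hz
    have h1 := hinvR v hv hv1 hvu z hz
    have h2 := hinvR (u * v) huv huv1 huvu z hz
    have e1 : u * z⁻¹ * u⁻¹ = z⁻¹ := by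
      calc u * z⁻¹ * u⁻¹ = u * (v * z * v⁻¹) * u⁻¹ := by rw [h1]
        _ = u * v * z * (u * v)⁻¹ := by group
        _ = z⁻¹ := h2
    have e2 : u * z * u⁻¹ = z := by
      calc u * z * u⁻¹ = (u * z⁻¹ * u⁻¹)⁻¹ := by group
        _ = (z⁻¹)⁻¹ := by rw [e1]
        _ = z := inv_inv z
    calc u * z = (u * z * u⁻¹) * u := by group
      _ = z * u := by rw [e2]
  have hRpow : ∀ z ∈ (R : Subgroup G), ∃ k : ℕ, orderOf z = p ^ k := by
    intro z hz
    obtain ⟨k, hk⟩ := (IsPGroup.iff_orderOf.mp R.isPGroup') ⟨z, hz⟩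
    exact ⟨k, by rw [← hk, Subgroup.orderOf_mk]⟩
  have hRY : (R : Subgroup G) = Yof p u := by
    apply le_antisymm _ hYR
    intro z hz
    apply mem_Yof
    · rw [Subgroup.mem_centralizer_singleton_iff]; exact (hRC z hz).symm
    · exact hRpow z hz
  have hp3' : p = 3 := by
    by_contra hne3
    have hp5 : 5 ≤ p := by
      have h2 := hp.two_le
      have h4' : p ≠ 4 := by
        intro h
        rw [h] at hp
        norm_num at hp
      have h2' := s.ctx.hp2
      omega
    obtain ⟨w, hw, hwS⟩ := tpd5_exists_not_mem (s.Q : Subgroup G) {1, u, v, u * v}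
      (by rw [hcardQ]; exact lt_of_le_of_lt Finset.card_le_four (by omega))
    have hw1 : w ≠ 1 := fun h => hwS (by rw [h]; simp)
    have hwu : w ≠ u := fun h => hwS (by rw [h]; simp)
    have hwv : w ≠ v := fun h => hwS (by rw [h]; simp)
    have hwuv : w ≠ u * v := fun h => hwS (by rw [h]; simp)
    have hvw : v * w ∈ (s.Q : Subgroup G) := mul_mem hv hw
    have hvw1 : v * w ≠ 1 := by
      intro h
      apply hwv
      have h' := eq_inv_of_mul_eq_one_right h
      rw [h', hvinv v hv]
    have hvwu : v * w ≠ u := by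
      intro h
      apply hwuv
      calc w = v⁻¹ * (v * w) := by group
        _ = v * u := by rw [h, hvinv v hv]
        _ = u * v := tpi1_Q_comm s hv hu
    have hR1 : ∀ z ∈ (R : Subgroup G), z = 1 := by
      intro z hz
      apply h4 (v * w) hvw hvw1 hvwu z hz
      have h1 := hinvR w hw hw1 hwu z hz
      have h2 := hinvR v hv hv1 hvu z⁻¹ (inv_mem hz)
      rw [inv_inv] at h2
      calc v * w * z = v * (w * z * w⁻¹) * w := by group
        _ = v * z⁻¹ * w := by rw [h1]
        _ = (v * z⁻¹ * v⁻¹) * (v * w) := by group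
        _ = z * (v * w) := by rw [h2]
    apply hne
    rw [← hRY]
    exact (Subgroup.eq_bot_iff_forall _).mpr hR1
  have hcent : ∀ z ∈ Yof p u, z ≠ 1 →
      Subgroup.centralizer ({z} : Set G) ≤ Subgroup.centralizer ({u} : Set G) := by
    intro z hz hz1
    have hzR : z ∈ (R : Subgroup G) := hYR hz
    have hu2 : orderOf u = 2 := orderOf_eq_prime (by rw [pow_two]; exact s.hexp u hu) hu1
    have huCz : u ∈ Subgroup.centralizer ({z} : Set G) := by
      rw [Subgroup.mem_centralizer_singleton_iff]; exact hRC z hzR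
    have h2C : 2 ∣ Nat.card (Subgroup.centralizer ({z} : Set G)) := by
      rw [← hu2]; exact Subgroup.orderOf_dvd_natCard _ huCz
    have h5 := h3 z hzR hz1 h2C
    have hCN : Subgroup.centralizer ({u} : Set G) ≤
        Subgroup.normalizer ((R : Subgroup G) : Set G) := by
      intro c hc
      apply Subgroup.mem_normalizer_fintype
      intro n hn
      have hn' : n ∈ (R : Subgroup G) := hn
      show c * n * c⁻¹ ∈ (R : Subgroup G)
      rw [hRY]
      apply mem_Yof
      · refine mul_mem (mul_mem hc ?_) (inv_mem hc)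
        rw [Subgroup.mem_centralizer_singleton_iff]; exact (hRC n hn').symm
      · obtain ⟨k, hk⟩ := hRpow n hn'
        refine ⟨k, ?_⟩
        rw [← hk]
        exact orderOf_injective (MulAut.conj c).toMonoidHom (MulAut.conj c).injective n
    have hEq : Subgroup.centralizer ({u} : Set G) =
        Subgroup.normalizer ((R : Subgroup G) : Set G) :=
      Subgroup.eq_of_le_of_card_ge hCN (by rw [hcard, hcu, ← hRY])
    rw [hEq]
    exact h5
  exact
    { p3 := hp3'
      ne_bot := hne
      sylow := ⟨R, hRY⟩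
      inv := fun v hv hv1 hvu y hy => hinvR v hv hv1 hvu y (hYR hy)
      cent := hcent }

end ctx

end Cfsg.Agent.Lib.Helper66.Tp
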