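import Mathlib
import Cfsg.Agent.Lib.Helper66.TpDefs
import Cfsg.Agent.Lib.Helper43.TpI1

/-! # Tp hive (helper66, S4017), leaf TP-I2 `noncomm_invol`:
the product of two non-commuting involutions is a `p`-element with a centralizer of odd order. -/

set_option autoImplicit false

namespace Cfsg.Agent.Lib.Helper66.Tp

section ctx

variable {p : ℕ} {G : Type*} [Group G] [Finite G]

/-- core of TP-I2 with `y = a * b` abstracted -/
theorem tpi2_core (s : Setup p G)
    (hcomm : ∀ t : G, orderOf t = 2 → ∀ a ∈ Subgroup.centralizer ({t} : Set G),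
        ∀ b ∈ Subgroup.centralizer ({t} : Set G), a * b = b * a)
    {a b y : G} (hy : y = a * b) (ha : orderOf a = 2) (hb : orderOf b = 2) (hab : a * b ≠ b * a) :
    (∃ j : ℕ, orderOf y = p ^ j) ∧
      ¬ 2 ∣ Nat.card (Subgroup.centralizer ({y} : Set G)) := by
  classical
  have hp := s.ctx.hp
  have ha2 : a * a = 1 := by rw [← pow_two, ← ha]; exact pow_orderOf_eq_one a
  have hb2 : b * b = 1 := by rw [← pow_two, ← hb]; exact pow_orderOf_eq_one b
  have hai : a⁻¹ = a := inv_eq_of_mul_eq_one_right ha2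
  have hbi : b⁻¹ = b := inv_eq_of_mul_eq_one_right hb2
  have hyi : y⁻¹ = b * a := by rw [hy, mul_inv_rev, hai, hbi]
  have hay : a * y * a⁻¹ = y⁻¹ := by
    rw [hyi, hai, hy]
    calc a * (a * b) * a = (a * a) * b * a := by group
      _ = b * a := by rw [ha2, one_mul]
  have hby : b * y * b⁻¹ = y⁻¹ := by
    rw [hyi, hbi, hy]
    calc b * (a * b) * b = b * a * (b * b) := by group
      _ = b * a := by rw [hb2, mul_one]
  have hy1 : y ≠ 1 := by
    intro h
    apply hab
    have h' : a * b = 1 := by rw [← hy]; exact h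
    have : a = b := by rw [← hbi]; exact eq_inv_of_mul_eq_one_left h'
    rw [this]
  -- `K = N(⟨y⟩)`
  have hconjK : ∀ g : G, g * y * g⁻¹ = y⁻¹ →
      g ∈ Subgroup.normalizer ((Subgroup.zpowers y : Subgroup G) : Set G) := by
    intro g hg
    apply Subgroup.mem_normalizer_fintype
    intro n hn
    obtain ⟨i, rfl⟩ := Subgroup.mem_zpowers_iff.mp hn
    have h1 : g * y ^ i * g⁻¹ = (y⁻¹) ^ i := by rw [← hg, conj_zpow]
    rw [h1]
    exact Subgroup.zpow_mem _ (inv_mem (Subgroup.mem_zpowers y)) i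
  have haK := hconjK a hay
  have hbK := hconjK b hby
  have hKtop : Subgroup.normalizer ((Subgroup.zpowers y : Subgroup G) : Set G) ≠ ⊤ := by
    intro h
    have hn : (Subgroup.zpowers y).Normal := Subgroup.normalizer_eq_top_iff.mp h
    have := s.ctx.simple
    rcases hn.eq_bot_or_eq_top with h0 | h1
    · apply hy1
      rw [Subgroup.zpowers_eq_bot] at h0
      exact h0
    · apply hab
      have ha' : a ∈ Subgroup.zpowers y := by rw [h1]; trivial
      have hb' : b ∈ Subgroup.zpowers y := by rw [h1]; trivial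
      obtain ⟨i, hi⟩ := Subgroup.mem_zpowers_iff.mp ha'
      obtain ⟨j, hj⟩ := Subgroup.mem_zpowers_iff.mp hb'
      have := (Commute.refl y).zpow_zpow i j
      rw [hi, hj] at this
      exact this.eq
  have hK2 : 2 ∣ Nat.card (Subgroup.normalizer ((Subgroup.zpowers y : Subgroup G) : Set G)) := by
    rw [← ha]; exact Subgroup.orderOf_dvd_natCard _ haK
  have hstar := s.ctx.star _ hKtop hK2
  have hyK : y ∈ Subgroup.normalizer ((Subgroup.zpowers y : Subgroup G) : Set G) :=
    Subgroup.le_normalizer (Subgroup.mem_zpowers y)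
  have hmK := Subgroup.orderOf_dvd_natCard _ hyK
  have hmpos : orderOf y ≠ 0 := (orderOf_pos y).ne'
  have hodd : ¬ 2 ∣ orderOf y := by
    intro h2
    have hz2 : orderOf (y ^ (orderOf y / 2)) = 2 := orderOf_pow_orderOf_div hmpos h2
    have hzz : y ^ (orderOf y / 2) * y ^ (orderOf y / 2) = 1 := by
      have h := pow_orderOf_eq_one (y ^ (orderOf y / 2))
      rw [hz2, pow_two] at h
      exact h
    have hzi : (y ^ (orderOf y / 2))⁻¹ = y ^ (orderOf y / 2) := inv_eq_of_mul_eq_one_right hzz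
    have hcz : ∀ g : G, g * y * g⁻¹ = y⁻¹ →
        g ∈ Subgroup.centralizer ({y ^ (orderOf y / 2)} : Set G) := by
      intro g hg
      rw [Subgroup.mem_centralizer_singleton_iff]
      have h1 : g * y ^ (orderOf y / 2) * g⁻¹ = y ^ (orderOf y / 2) := by
        rw [← conj_pow, hg, inv_pow, hzi]
      calc g * y ^ (orderOf y / 2) = (g * y ^ (orderOf y / 2) * g⁻¹) * g := by group
        _ = y ^ (orderOf y / 2) * g := by rw [h1]
    exact hab (hcomm _ hz2 a (hcz a hay) b (hcz b hby))
  have hpow : ∃ j, orderOf y = p ^ j := by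
    refine ⟨_, Nat.eq_prime_pow_of_unique_prime_dvd hmpos ?_⟩
    intro d hd hdm
    rcases hstar d hd (hdm.trans hmK) with h | h
    · exfalso; rw [h] at hdm; exact hodd hdm
    · exact h
  refine ⟨hpow, ?_⟩
  intro h2C
  have : Fact (Nat.Prime 2) := ⟨Nat.prime_two⟩
  obtain ⟨z', hz'⟩ := exists_prime_orderOf_dvd_card' 2 h2C
  obtain ⟨z, hzdef⟩ : ∃ z : G, z = (z' : G) := ⟨_, rfl⟩
  have hz2 : orderOf z = 2 := by rw [hzdef, Subgroup.orderOf_coe]; exact hz'
  have hzC : z ∈ Subgroup.centralizer ({y} : Set G) := by rw [hzdef]; exact z'.2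
  obtain ⟨g, hg⟩ := tpi1_conj_into_Q s hz2
  -- a Sylow `2`-subgroup inside `C(y)`
  have hQz : Subgroup.map (MulAut.conj g⁻¹).toMonoidHom (s.Q : Subgroup G) ≤
      Subgroup.centralizer ({y} : Set G) := by
    rintro n ⟨n₀, hn₀, rfl⟩
    have hφ : (MulAut.conj g⁻¹).toMonoidHom n₀ = g⁻¹ * n₀ * g := by
      simp
    rw [hφ]
    have h1 : n₀ * (g * z * g⁻¹) = (g * z * g⁻¹) * n₀ := tpi1_Q_comm s hn₀ hg
    have h2 : (g⁻¹ * n₀ * g) ∈ Subgroup.centralizer ({z} : Set G) := by
      rw [Subgroup.mem_centralizer_singleton_iff]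
      calc g⁻¹ * n₀ * g * z = g⁻¹ * (n₀ * (g * z * g⁻¹)) * g := by group
        _ = g⁻¹ * ((g * z * g⁻¹) * n₀) * g := by rw [h1]
        _ = z * (g⁻¹ * n₀ * g) := by group
    have h3 : y ∈ Subgroup.centralizer ({z} : Set G) := by
      rw [Subgroup.mem_centralizer_singleton_iff]
      exact (Subgroup.mem_centralizer_singleton_iff.mp hzC).symm
    rw [Subgroup.mem_centralizer_singleton_iff]
    exact hcomm z hz2 _ h2 _ h3
  have hcardQz : Nat.card (Subgroup.map (MulAut.conj g⁻¹).toMonoidHom (s.Q : Subgroup G)) =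
      p + 1 := by
    rw [Subgroup.card_map_of_injective (MulAut.conj g⁻¹).injective, tpi1_card_Q]
  have hdvdC : 2 ^ (Nat.card G).factorization 2 ∣
      Nat.card (Subgroup.centralizer ({y} : Set G)) := by
    rw [s.ctx.two_part, ← hcardQz]
    exact Subgroup.card_dvd_of_le hQz
  have hCK : Subgroup.centralizer ({y} : Set G) ≤
      Subgroup.normalizer ((Subgroup.zpowers y : Subgroup G) : Set G) := by
    intro c hc
    apply Subgroup.mem_normalizer_fintype
    intro n hn
    obtain ⟨i, rfl⟩ := Subgroup.mem_zpowers_iff.mp hn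
    have hcy : c * y = y * c := Subgroup.mem_centralizer_singleton_iff.mp hc
    have h1 : c * y ^ i * c⁻¹ = y ^ i := by
      have h := (Commute.zpow_right (show Commute c y from hcy) i)
      rw [h.eq]; group
    rw [h1]
    exact Subgroup.zpow_mem _ (Subgroup.mem_zpowers y) i
  have hnorm : ((Subgroup.centralizer ({y} : Set G)).subgroupOf
      (Subgroup.normalizer ((Subgroup.zpowers y : Subgroup G) : Set G))).Normal := by
    rw [Subgroup.normal_subgroupOf_iff_le_normalizer hCK, Subgroup.le_normalizer_iff]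
    intro k hk n hn
    have hn' : n * y = y * n := Subgroup.mem_centralizer_singleton_iff.mp hn
    have hk' : k⁻¹ * y * (k⁻¹)⁻¹ ∈ Subgroup.zpowers y :=
      ((Subgroup.mem_set_normalizer_iff.mp (inv_mem hk)) y).mp (Subgroup.mem_zpowers y)
    obtain ⟨i, hi⟩ := Subgroup.mem_zpowers_iff.mp hk'
    rw [inv_inv] at hi
    have hcomm' : n * y ^ i = y ^ i * n :=
      (Commute.zpow_right (show Commute n y from hn') i).eq
    rw [Subgroup.mem_centralizer_singleton_iff]
    calc k * n * k⁻¹ * y = k * (n * (k⁻¹ * y * k)) * k⁻¹ := by group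
      _ = k * (n * y ^ i) * k⁻¹ := by rw [hi]
      _ = k * (y ^ i * n) * k⁻¹ := by rw [hcomm']
      _ = k * ((k⁻¹ * y * k) * n) * k⁻¹ := by rw [hi]
      _ = y * (k * n * k⁻¹) := by group
  have hidx : Nat.card (Subgroup.centralizer ({y} : Set G)) *
      ((Subgroup.centralizer ({y} : Set G)).subgroupOf
        (Subgroup.normalizer ((Subgroup.zpowers y : Subgroup G) : Set G))).index =
      Nat.card (Subgroup.normalizer ((Subgroup.zpowers y : Subgroup G) : Set G)) := by
    rw [← Nat.card_congr (Subgroup.subgroupOfEquivOfLe hCK).toEquiv]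
    exact Subgroup.card_mul_index _
  have hKG := Subgroup.card_subgroup_dvd_card
    (Subgroup.normalizer ((Subgroup.zpowers y : Subgroup G) : Set G))
  have hidx_odd : ¬ 2 ∣ ((Subgroup.centralizer ({y} : Set G)).subgroupOf
        (Subgroup.normalizer ((Subgroup.zpowers y : Subgroup G) : Set G))).index := by
    intro h
    have h1 : 2 ^ ((Nat.card G).factorization 2 + 1) ∣ Nat.card G := by
      rw [pow_succ]
      refine (Nat.mul_dvd_mul hdvdC h).trans ?_
      rw [hidx]
      exact hKG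
    exact Nat.pow_succ_factorization_not_dvd Nat.card_pos.ne' Nat.prime_two h1
  have hbC : b ∈ Subgroup.centralizer ({y} : Set G) := by
    have h1 := Subgroup.pow_index_mem ((Subgroup.centralizer ({y} : Set G)).subgroupOf
        (Subgroup.normalizer ((Subgroup.zpowers y : Subgroup G) : Set G))) ⟨b, hbK⟩
    obtain ⟨k, hk⟩ := Nat.odd_iff.mpr (Nat.two_dvd_ne_zero.mp hidx_odd)
    have hbb : (⟨b, hbK⟩ : Subgroup.normalizer ((Subgroup.zpowers y : Subgroup G) : Set G)) ^ 2
        = 1 := Subtype.ext (by simp [pow_two, hb2])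
    rw [hk, pow_succ, pow_mul, hbb, one_pow, one_mul] at h1
    exact Subgroup.mem_subgroupOf.mp h1
  have hby' : b * y = y * b := Subgroup.mem_centralizer_singleton_iff.mp hbC
  have hinv : y⁻¹ = y := by
    rw [← hby]
    calc b * y * b⁻¹ = y * b * b⁻¹ := by rw [hby']
      _ = y := by group
  have hyy : y * y = 1 := by
    calc y * y = y⁻¹ * y := by rw [hinv]
      _ = 1 := inv_mul_cancel y
  have h3 := pow_gcd_eq_one.mpr ⟨pow_orderOf_eq_one y, (by rw [pow_two]; exact hyy : y ^ 2 = 1)⟩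
  have hcop : Nat.Coprime (orderOf y) 2 :=
    Nat.Coprime.symm ((Nat.Prime.coprime_iff_not_dvd Nat.prime_two).mpr hodd)
  rw [hcop.gcd_eq_one, pow_one] at h3
  exact hy1 h3

variable (s : Setup p G)
include s

/-- TP-I2 -/
theorem noncomm_invol (hcomm : ∀ t : G, orderOf t = 2 → ∀ a ∈ Subgroup.centralizer ({t} : Set G),
        ∀ b ∈ Subgroup.centralizer ({t} : Set G), a * b = b * a)
    {a b : G} (ha : orderOf a = 2) (hb : orderOf b = 2) (hab : a * b ≠ b * a) :
    (∃ j : ℕ, orderOf (a * b) = p ^ j) ∧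
      ¬ 2 ∣ Nat.card (Subgroup.centralizer ({a * b} : Set G)) :=
  tpi2_core s hcomm rfl ha hb hab

end ctx

end Cfsg.Agent.Lib.Helper66.Tp
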