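import Cfsg.Agent.Lib.Helper43.OrthGenClasses

/-!
# Two quadratic forms with a common fixed-point-free isometry of odd order are isometric
-/

set_option autoImplicit false

namespace Cfsg.Agent.Lib.Helper43.OrthGen

open Matrix QuadraticMap Cfsg.Agent.Lib.Helper43.OddOrth Cfsg.Agent.Lib.Helper43.InvolRing

variable {F : Type*} [Field F] {ι : Type*} [Fintype ι] [DecidableEq ι]

theorem quad_sub_image (Q : QuadraticForm F (ι → F)) (a : Matrix ι ι F)
    (ha : ∀ v, Q (a *ᵥ v) = Q v) (y : ι → F) :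
    Q (y - a *ᵥ y) = polar Q y y - polar Q y (a *ᵥ y) := by
  have h1 : Q (y - a *ᵥ y) = Q y + Q (a *ᵥ y) - polar Q y (a *ᵥ y) := by
    rw [sub_eq_add_neg, QuadraticMap.map_add Q y (-(a *ᵥ y)), QuadraticMap.map_neg,
      polar_neg_right]
    ring
  rw [h1, ha, polar_self]
  ring

theorem exists_isometry_of_common [Fintype F] (Q Q' : QuadraticForm F (ι → F))
    (hQ : (polarBilin Q).Nondegenerate) (hQ' : (polarBilin Q').Nondegenerate)
    (a a' C : Matrix ι ι F) (haa' : a * a' = 1) (hC : (1 - a) * C = 1)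
    (hQa : ∀ v, Q (a *ᵥ v) = Q v) (hQ'a : ∀ v, Q' (a *ᵥ v) = Q' v)
    (k : ℕ) (hN : ((2 * k + 1 : ℕ) : F) ≠ 0) (haN : a ^ (2 * k + 1) = 1) :
    ∃ x x' : Matrix ι ι F, x * x' = 1 ∧ ∀ v, Q (x *ᵥ v) = Q' v := by
  have hGu := gramK_isUnit_det Q hQ
  have hG'u := gramK_isUnit_det Q' hQ'
  obtain ⟨x, x', hxx', hxa, hform⟩ := Cfsg.Agent.Lib.Helper43.OrthConj.core (gramK Q) (gramK Q)⁻¹
    (gramK Q') (gramK Q')⁻¹ a a' (Matrix.mul_nonsing_inv _ hGu) (gramK_transpose Q)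
    (gramK_transpose Q') (Matrix.mul_nonsing_inv _ hG'u) haa'
    (gramK_of_preserving Q a hQa) (gramK_of_preserving Q' a hQ'a) k hN haN
  have hC' : C * (1 - a) = 1 := mul_eq_one_comm.1 hC
  have havg : avg F (2 * k + 1) a = 0 := by
    have h1 := mul_avg (F := F) (2 * k + 1) a haN
    have h2 : (1 - a) * avg F (2 * k + 1) a = 0 := by
      rw [Matrix.sub_mul, one_mul, h1, sub_self]
    calc avg F (2 * k + 1) a = (C * (1 - a)) * avg F (2 * k + 1) a := by rw [hC', one_mul]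
      _ = C * ((1 - a) * avg F (2 * k + 1) a) := mul_assoc _ _ _
      _ = 0 := by rw [h2, mul_zero]
  rw [havg, sub_zero, mul_one, mul_one] at hform
  have hpol : ∀ u v, polar Q (x *ᵥ u) (x *ᵥ v) = polar Q' u v := by
    intro u v
    rw [polar_eq_dotK, polar_eq_dotK, dot_form_gen, hform]
  refine ⟨x, x', hxx', fun w => ?_⟩
  obtain ⟨z, hw⟩ : ∃ z : ι → F, w = z - a *ᵥ z := by
    refine ⟨C *ᵥ w, ?_⟩
    have : (1 - a) *ᵥ (C *ᵥ w) = w := by
      rw [Matrix.mulVec_mulVec, hC, Matrix.one_mulVec]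
    rw [Matrix.sub_mulVec, Matrix.one_mulVec] at this
    exact this.symm
  have hxz : x *ᵥ w = x *ᵥ z - a *ᵥ (x *ᵥ z) := by
    rw [hw, Matrix.mulVec_sub, Matrix.mulVec_mulVec, Matrix.mulVec_mulVec, hxa]
  rw [hxz, quad_sub_image Q a hQa, hw, quad_sub_image Q' a hQ'a, hpol]
  congr 1
  rw [Matrix.mulVec_mulVec, ← hxa, ← Matrix.mulVec_mulVec, hpol]

/-- the zero counts of two quadratic forms with a common fixed-point-free isometry agree -/
theorem card_zeros_eq_of_common [Fintype F] (Q Q' : QuadraticForm F (ι → F))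
    (hQ : (polarBilin Q).Nondegenerate) (hQ' : (polarBilin Q').Nondegenerate)
    (a a' C : Matrix ι ι F) (haa' : a * a' = 1) (hC : (1 - a) * C = 1)
    (hQa : ∀ v, Q (a *ᵥ v) = Q v) (hQ'a : ∀ v, Q' (a *ᵥ v) = Q' v)
    (k : ℕ) (hN : ((2 * k + 1 : ℕ) : F) ≠ 0) (haN : a ^ (2 * k + 1) = 1) :
    Nat.card {v : ι → F // Q v = 0} = Nat.card {v : ι → F // Q' v = 0} := by
  obtain ⟨x, x', hxx', hx⟩ := exists_isometry_of_common Q Q' hQ hQ' a a' C haa' hC hQa hQ'a k hN haN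
  have hx'x : x' * x = 1 := mul_eq_one_comm.1 hxx'
  symm
  apply Nat.card_congr
  refine ⟨fun v => ⟨x *ᵥ v.1, by rw [hx]; exact v.2⟩, fun v => ⟨x' *ᵥ v.1, ?_⟩, ?_, ?_⟩
  · rw [← hx, Matrix.mulVec_mulVec, hxx', Matrix.one_mulVec]
    exact v.2
  · intro v
    apply Subtype.ext
    simp only
    rw [Matrix.mulVec_mulVec, hx'x, Matrix.one_mulVec]
  · intro v
    apply Subtype.ext
    simp only
    rw [Matrix.mulVec_mulVec, hxx', Matrix.one_mulVec]

end Cfsg.Agent.Lib.Helper43.OrthGen
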