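import Cfsg.Agent.Lib.Helper60.U3ConjDefs

/-!
# U3-CONJ sub-hive (helper60), leaf CJ-H90: additive Hilbert 90 for `F_{q^2} / F_q`
-/

set_option autoImplicit false

namespace Cfsg.Agent.Lib.Helper23.U3

open Matrix Cfsg.Agent.Lib.Helper99 Cfsg.Agent.Lib.Helper13 Cfsg.Agent.Lib.Helper90.Psu

variable {F : Type*} [Field F] [Fintype F] {q : ℕ}

local notation "hh" => Cfsg.hermForm 3 F q

/-- CJ-H90: every element of trace zero is of the form `α - α ^ q`. -/
theorem exists_sub_frob (hF : Fintype.card F = q ^ 2) (z : F) (hz : z + z ^ q = 0) :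
    ∃ α : F, α - α ^ q = z := by
  obtain ⟨τ, hτ0, hτ⟩ := Helper99.exists_trace_zero hF
  have hτq : τ ^ q = -τ := eq_neg_of_add_eq_zero_right hτ
  have hzq : z ^ q = -z := eq_neg_of_add_eq_zero_right hz
  have hr : (z / τ) ^ q = z / τ := by
    rw [div_pow, hτq, hzq, neg_div_neg_eq]
  obtain ⟨c, hc⟩ := Helper99.exists_trace_eq' hF (z / τ) hr
  refine ⟨c * τ, ?_⟩
  rw [mul_pow, hτq]
  have h1 : (c + c ^ q) * τ = z := by rw [hc]; field_simp
  linear_combination h1

end Cfsg.Agent.Lib.Helper23.U3
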