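import Cfsg.Agent.Lib.Helper43.InvolAdjoin

/-!
# Abstract counting for unitary centralisers

* `card_eq_mul_of_fibres`: a map all of whose fibres have `c` elements.
* `orbit_count`: in a finite `K`-algebra `R` with a `σ`-semilinear anti-involution `T`, inside the
  commutant `C` of a `T`-stable set: `|C^×| = |Hermitian units of C| * |unitary elements of C|`.
* `card_sq_of_semilinear_invol`: a subspace stable under a semilinear involution has the square of the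
  number of fixed points as its order.
-/

set_option autoImplicit false

namespace Cfsg.Agent.Lib.Helper43.UCAbs

open Cfsg.Agent.Lib.Helper43.InvolRing

theorem card_eq_mul_of_fibres {A B : Type*} [Finite A] [Finite B] (f : A → B) (c : ℕ)
    (h : ∀ b, Nat.card {a // f a = b} = c) : Nat.card A = Nat.card B * c := by
  classical
  have : Fintype B := Fintype.ofFinite B
  rw [Nat.card_congr (Equiv.sigmaFiberEquiv f).symm, Nat.card_sigma]
  simp only [h, Finset.sum_const, Finset.card_univ, smul_eq_mul, Nat.card_eq_fintype_card]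

section orbit

variable {K : Type*} [Field K] {R : Type*} [Ring R] [Algebra K R] [Finite R]
variable {σ : K →+* K} {T : R → R}

theorem SemiAnti.comm_mem (hT : SemiAnti σ T) (hTT : ∀ x, T (T x) = x) (S : Set R)
    (hS : ∀ s ∈ S, T s ∈ S) (x : R) (hx : ∀ s ∈ S, x * s = s * x) :
    ∀ s ∈ S, T x * s = s * T x := by
  intro s hs
  have h1 := hx (T s) (hS s hs)
  have h2 := congrArg T h1
  rw [hT.mul, hT.mul, hTT] at h2
  exact h2.symm

theorem SemiAnti.isUnit (hT : SemiAnti σ T) (x : R) (hx : IsUnit x) : IsUnit (T x) := by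
  obtain ⟨u, rfl⟩ := hx
  refine ⟨⟨T u, T (u⁻¹ : Rˣ), ?_, ?_⟩, rfl⟩
  · rw [← hT.mul, Units.inv_mul, hT.one]
  · rw [← hT.mul, Units.mul_inv, hT.one]

theorem orbit_count (hT : SemiAnti σ T) (hTT : ∀ x, T (T x) = x) (hσ : ∀ a, σ (σ a) = a)
    (c₀ : K) (hc₀ : c₀ - σ c₀ ≠ 0) (S : Set R) (hS : ∀ s ∈ S, T s ∈ S) :
    Nat.card {x : R // (∀ s ∈ S, x * s = s * x) ∧ IsUnit x} =
      Nat.card {h : R // (∀ s ∈ S, h * s = s * h) ∧ IsUnit h ∧ T h = h} *
        Nat.card {g : R // (∀ s ∈ S, g * s = s * g) ∧ T g * g = 1} := by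
  classical
  let f : {x : R // (∀ s ∈ S, x * s = s * x) ∧ IsUnit x} →
      {h : R // (∀ s ∈ S, h * s = s * h) ∧ IsUnit h ∧ T h = h} := fun x =>
    ⟨x.1 * T x.1, by
      have h1 := SemiAnti.comm_mem hT hTT S hS x.1 x.2.1
      refine ⟨?_, ?_, ?_⟩
      · intro s hs
        rw [mul_assoc, h1 s hs, ← mul_assoc, x.2.1 s hs, mul_assoc]
      · exact x.2.2.mul (SemiAnti.isUnit hT x.1 x.2.2)
      · rw [hT.mul, hTT]⟩
  apply card_eq_mul_of_fibres f
  intro h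
  obtain ⟨h, hhS, hhu, hhT⟩ := h
  -- a preimage
  have hs : T h ∈ Algebra.adjoin K {h} := by
    rw [hhT]
    exact Algebra.subset_adjoin (Set.mem_singleton h)
  obtain ⟨x₀, hx₀, hx₀h⟩ := (exists_both hT hσ c₀ hc₀ h hs (hTT h)).1 h
    (Algebra.subset_adjoin (Set.mem_singleton h)) hhu hhT
  have hTx₀ : T x₀ ∈ Algebra.adjoin K {h} := hT.mem_adjoin h hs x₀ hx₀
  have hcomm : x₀ * T x₀ = T x₀ * x₀ := adjoin_comm h x₀ (T x₀) hx₀ hTx₀
  have hx₀S : ∀ s ∈ S, x₀ * s = s * x₀ := by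
    intro s hs
    exact (commute_adjoin h s (hhS s hs).symm x₀ hx₀).symm
  have hx₀u : IsUnit x₀ := by
    obtain ⟨hu, rfl⟩ := hhu
    rw [isUnit_iff_exists_and_exists]
    refine ⟨⟨T x₀ * (hu⁻¹ : Rˣ), ?_⟩, ⟨(hu⁻¹ : Rˣ) * T x₀, ?_⟩⟩
    · rw [← mul_assoc, hx₀h, Units.mul_inv]
    · rw [mul_assoc, ← hcomm, hx₀h, Units.inv_mul]
  obtain ⟨u, rfl⟩ := hx₀u
  have huinvS : ∀ s ∈ S, ((u⁻¹ : Rˣ) : R) * s = s * ((u⁻¹ : Rˣ) : R) := by
    intro s hs
    have := hx₀S s hs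
    calc ((u⁻¹ : Rˣ) : R) * s = ((u⁻¹ : Rˣ) : R) * s * ((u : R) * ((u⁻¹ : Rˣ) : R)) := by
          rw [Units.mul_inv, mul_one]
      _ = ((u⁻¹ : Rˣ) : R) * (s * (u : R)) * ((u⁻¹ : Rˣ) : R) := by
          simp only [mul_assoc]
      _ = ((u⁻¹ : Rˣ) : R) * ((u : R) * s) * ((u⁻¹ : Rˣ) : R) := by
          rw [this]
      _ = s * ((u⁻¹ : Rˣ) : R) := by
          rw [← mul_assoc, Units.inv_mul, one_mul]
  have hTu : T (u : R) * T ((u⁻¹ : Rˣ) : R) = 1 := by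
    rw [← hT.mul, Units.inv_mul, hT.one]
  have hTu' : T ((u⁻¹ : Rˣ) : R) * T (u : R) = 1 := by
    rw [← hT.mul, Units.mul_inv, hT.one]
  refine Nat.card_congr
    { toFun := fun x => ⟨((u⁻¹ : Rˣ) : R) * x.1.1, ?_, ?_⟩
      invFun := fun g => ⟨⟨(u : R) * g.1, ?_, ?_⟩, ?_⟩
      left_inv := ?_
      right_inv := ?_ }
  · intro s hs
    rw [mul_assoc, x.1.2.1 s hs, ← mul_assoc, huinvS s hs, mul_assoc]
  · have hx : x.1.1 * T x.1.1 = (u : R) * T (u : R) := by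
      have := congrArg Subtype.val x.2
      exact this.trans hx₀h.symm
    apply mul_eq_one_comm.1
    rw [hT.mul]
    calc ((u⁻¹ : Rˣ) : R) * x.1.1 * (T x.1.1 * T ((u⁻¹ : Rˣ) : R))
        = ((u⁻¹ : Rˣ) : R) * (x.1.1 * T x.1.1) * T ((u⁻¹ : Rˣ) : R) := by
          simp only [mul_assoc]
      _ = 1 := by
          rw [hx, ← mul_assoc, Units.inv_mul, one_mul, hTu]
  · intro s hs
    rw [mul_assoc, g.2.1 s hs, ← mul_assoc, hx₀S s hs, mul_assoc]
  · apply u.isUnit.mul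
    rw [isUnit_iff_exists_and_exists]
    exact ⟨⟨T g.1, mul_eq_one_comm.1 g.2.2⟩, ⟨T g.1, g.2.2⟩⟩
  · apply Subtype.ext
    show (u : R) * g.1 * T ((u : R) * g.1) = h
    rw [hT.mul, ← hx₀h]
    calc (u : R) * g.1 * (T g.1 * T (u : R)) = (u : R) * (g.1 * T g.1) * T (u : R) := by
          simp only [mul_assoc]
      _ = (u : R) * T (u : R) := by
          rw [mul_eq_one_comm.1 g.2.2, mul_one]
  · intro x
    apply Subtype.ext
    apply Subtype.ext
    show (u : R) * (((u⁻¹ : Rˣ) : R) * x.1.1) = x.1.1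
    rw [← mul_assoc, Units.mul_inv, one_mul]
  · intro g
    apply Subtype.ext
    show ((u⁻¹ : Rˣ) : R) * ((u : R) * g.1) = g.1
    rw [← mul_assoc, Units.inv_mul, one_mul]

end orbit

section half

variable {K : Type*} [Field K] {R : Type*} [AddCommGroup R] [Module K R] [Finite R]

theorem card_sq_of_semilinear_invol (σ : K →+* K) (T : R → R)
    (hadd : ∀ x y, T (x + y) = T x + T y) (hsmul : ∀ (a : K) (x : R), T (a • x) = σ a • T x)
    (hTT : ∀ x, T (T x) = x) (hσ : ∀ a, σ (σ a) = a) (c₀ : K) (hc₀ : c₀ - σ c₀ ≠ 0)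
    (W : Submodule K R) (hW : ∀ x ∈ W, T x ∈ W) :
    Nat.card W = Nat.card {x : R // x ∈ W ∧ T x = x} ^ 2 := by
  have hT0 : T 0 = 0 := by
    have := hadd 0 0
    rw [add_zero] at this
    exact left_eq_add.1 this
  have hneg : ∀ x, T (-x) = -T x := by
    intro x
    have := hadd x (-x)
    rw [add_neg_cancel, hT0] at this
    exact (neg_eq_of_add_eq_zero_right this.symm).symm
  have hsub : ∀ x y, T (x - y) = T x - T y := by
    intro x y
    rw [sub_eq_add_neg, hadd, hneg, ← sub_eq_add_neg]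
  set δ : K := c₀ - σ c₀ with hδ
  have hσδ : σ δ = -δ := by
    rw [hδ, map_sub, hσ]
    ring
  have hσδi : σ δ⁻¹ = -δ⁻¹ := by
    rw [map_inv₀, hσδ, inv_neg]
  rw [sq, ← Nat.card_prod]
  symm
  refine Nat.card_congr
    { toFun := fun p => ⟨p.1.1 + c₀ • p.2.1, W.add_mem p.1.2.1 (W.smul_mem _ p.2.2.1)⟩
      invFun := fun v => (⟨v.1 - c₀ • (δ⁻¹ • (v.1 - T v.1)), ?_, ?_⟩, ⟨δ⁻¹ • (v.1 - T v.1), ?_, ?_⟩)
      left_inv := ?_
      right_inv := ?_ }
  · exact W.sub_mem v.2 (W.smul_mem _ (W.smul_mem _ (W.sub_mem v.2 (hW _ v.2))))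
  · rw [hsub, hsmul, hsmul, hsub, hTT, hσδi]
    have h1 : (v.1 - T v.1) = δ • (δ⁻¹ • (v.1 - T v.1)) := by
      rw [smul_smul, mul_inv_cancel₀ hc₀, one_smul]
    set b := δ⁻¹ • (v.1 - T v.1) with hb
    have h2 : -δ⁻¹ • (T v.1 - v.1) = b := by
      rw [hb, neg_smul, ← smul_neg, neg_sub]
    rw [h2]
    have h3 : v.1 - T v.1 = δ • b := h1
    have h4 : T v.1 = v.1 - δ • b := by
      rw [← h3]; abel
    rw [h4, hδ, sub_smul]
    abel
  · exact W.smul_mem _ (W.sub_mem v.2 (hW _ v.2))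
  · rw [hsmul, hsub, hTT, hσδi, neg_smul, ← smul_neg, neg_sub]
  · intro p
    obtain ⟨⟨a, haW, haT⟩, ⟨b, hbW, hbT⟩⟩ := p
    have h1 : (a + c₀ • b) - T (a + c₀ • b) = δ • b := by
      rw [hadd, hsmul, haT, hbT, hδ, sub_smul]
      abel
    apply Prod.ext
    · apply Subtype.ext
      show (a + c₀ • b) - c₀ • (δ⁻¹ • ((a + c₀ • b) - T (a + c₀ • b))) = a
      rw [h1, inv_smul_smul₀ hc₀]
      abel
    · apply Subtype.ext
      show δ⁻¹ • ((a + c₀ • b) - T (a + c₀ • b)) = b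
      rw [h1, inv_smul_smul₀ hc₀]
  · intro v
    apply Subtype.ext
    show v.1 - c₀ • (δ⁻¹ • (v.1 - T v.1)) + c₀ • (δ⁻¹ • (v.1 - T v.1)) = v.1
    abel

end half

end Cfsg.Agent.Lib.Helper43.UCAbs
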