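import Cfsg.Agent.Lib.Helper43.UCTop
import Cfsg.Agent.Lib.Helper43.UCAbs
import Cfsg.Agent.S2581

/-!
# Counting the unitary elements of the commutant of the Jordan type matrix
-/

set_option autoImplicit false

namespace Cfsg.Agent.Lib.Helper43.UCDag

open Matrix Cfsg.Agent.Lib.Helper43 Cfsg.Agent.Lib.Helper43.InvolRing
  Cfsg.Agent.Lib.Helper43.HermSqrt Cfsg.Agent.Lib.Helper43.UCAbs

variable {K : Type*} [Field K] {t : ℕ} (d : Fin t → ℕ) (hd : ∀ k, 1 ≤ d k)

theorem dag_sub (σ : K →+* K) (X Y : Matrix ((k : Fin t) × Fin (d k)) ((k : Fin t) × Fin (d k)) K) :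
    dag d σ (X - Y) = dag d σ X - dag d σ Y := by
  ext a b
  simp [dag_apply]

theorem comm_dag (σ : K →+* K) (X : Matrix ((k : Fin t) × Fin (d k)) ((k : Fin t) × Fin (d k)) K)
    (hX : X * nil K d = nil K d * X) : dag d σ X * nil K d = nil K d * dag d σ X := by
  have h := congrArg (dag d σ) hX
  rw [(semiAnti_dag d σ).mul, (semiAnti_dag d σ).mul, dag_nil] at h
  exact h.symm

/-- splitting the commutant along `top` -/
def splitEquiv (PX : Matrix ((k : Fin t) × Fin (d k)) ((k : Fin t) × Fin (d k)) K → Prop)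
    (PY : BlkFam K d → Prop)
    (PR : Matrix ((k : Fin t) × Fin (d k)) ((k : Fin t) × Fin (d k)) K → Prop)
    (h : ∀ X : Matrix ((k : Fin t) × Fin (d k)) ((k : Fin t) × Fin (d k)) K,
      X * nil K d = nil K d * X → (PX X ↔ PY (top d hd X) ∧ PR (X - sec d (top d hd X)))) :
    {X : Matrix ((k : Fin t) × Fin (d k)) ((k : Fin t) × Fin (d k)) K //
        X * nil K d = nil K d * X ∧ PX X} ≃
      {y : BlkFam K d // PY y} ×
        {R : Matrix ((k : Fin t) × Fin (d k)) ((k : Fin t) × Fin (d k)) K //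
          R * nil K d = nil K d * R ∧ top d hd R = 0 ∧ PR R} where
  toFun X := (⟨top d hd X.1, ((h X.1 X.2.1).1 X.2.2).1⟩,
    ⟨X.1 - sec d (top d hd X.1), by
      rw [sub_mul, mul_sub, X.2.1, sec_comm], by
      rw [top_sub, top_sec, sub_self], ((h X.1 X.2.1).1 X.2.2).2⟩)
  invFun p := ⟨sec d p.1.1 + p.2.1, by
      rw [add_mul, mul_add, p.2.2.1, sec_comm], by
      have hc : (sec d p.1.1 + p.2.1) * nil K d = nil K d * (sec d p.1.1 + p.2.1) := by
        rw [add_mul, mul_add, p.2.2.1, sec_comm]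
      have ht : top d hd (sec d p.1.1 + p.2.1) = p.1.1 := by
        rw [top_add, top_sec, p.2.2.2.1, add_zero]
      rw [h _ hc, ht, add_sub_cancel_left]
      exact ⟨p.1.2, p.2.2.2.2⟩⟩
  left_inv X := by
    apply Subtype.ext
    show sec d (top d hd X.1) + (X.1 - sec d (top d hd X.1)) = X.1
    abel
  right_inv p := by
    have ht : top d hd (sec d p.1.1 + p.2.1) = p.1.1 := by
      rw [top_add, top_sec, p.2.2.2.1, add_zero]
    apply Prod.ext
    · apply Subtype.ext
      exact ht
    · apply Subtype.ext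
      show sec d p.1.1 + p.2.1 - sec d (top d hd (sec d p.1.1 + p.2.1)) = p.2.1
      rw [ht, add_sub_cancel_left]

/-- the radical part of the commutant, as a subspace -/
def radSub : Submodule K (Matrix ((k : Fin t) × Fin (d k)) ((k : Fin t) × Fin (d k)) K) where
  carrier := {R | R * nil K d = nil K d * R ∧ top d hd R = 0}
  add_mem' := by
    intro a b ha hb
    refine ⟨?_, ?_⟩
    · rw [add_mul, mul_add, ha.1, hb.1]
    · rw [top_add, ha.2, hb.2, add_zero]
  zero_mem' := by
    refine ⟨by rw [zero_mul, mul_zero], top_zero d hd⟩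
  smul_mem' := by
    intro c a ha
    refine ⟨?_, ?_⟩
    · rw [Matrix.smul_mul, Matrix.mul_smul, ha.1]
    · rw [top_smul, ha.2, smul_zero]

theorem mem_radSub (R : Matrix ((k : Fin t) × Fin (d k)) ((k : Fin t) × Fin (d k)) K) :
    R ∈ radSub d hd ↔ R * nil K d = nil K d * R ∧ top d hd R = 0 := Iff.rfl

section count

variable [Fintype K] (σ : K →+* K) (hσ : ∀ a, σ (σ a) = a) (c₀ : K) (hc₀ : c₀ - σ c₀ ≠ 0)

include hσ hc₀

/-- `|Z^×| = |Herm units of Z| * |U(Z)|` -/
theorem card_units_comm :
    Nat.card {X : Matrix ((k : Fin t) × Fin (d k)) ((k : Fin t) × Fin (d k)) K //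
        X * nil K d = nil K d * X ∧ IsUnit X} =
      Nat.card {h : Matrix ((k : Fin t) × Fin (d k)) ((k : Fin t) × Fin (d k)) K //
        h * nil K d = nil K d * h ∧ (IsUnit h ∧ dag d σ h = h)} *
      Nat.card {g : Matrix ((k : Fin t) × Fin (d k)) ((k : Fin t) × Fin (d k)) K //
        g * nil K d = nil K d * g ∧ dag d σ g * g = 1} := by
  have h := orbit_count (semiAnti_dag (K := K) d σ) (dag_dag d σ hσ) hσ c₀ hc₀ {nil K d} (by
    intro s hs
    rw [Set.mem_singleton_iff] at hs ⊢
    rw [hs, dag_nil])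
  simp only [Set.mem_singleton_iff, forall_eq] at h
  exact h

/-- the same for one block size -/
theorem card_units_blk (ι : Type*) [Fintype ι] [DecidableEq ι] :
    Nat.card {X : Matrix ι ι K // IsUnit X.det} =
      Nat.card {h : Matrix ι ι K // IsUnit h.det ∧ cT σ h = h} *
      Nat.card {g : Matrix ι ι K // cT σ g * g = 1} := by
  have h := orbit_count (semiAnti_cT (n := ι) σ) (cT_cT σ hσ) hσ c₀ hc₀ (∅ : Set (Matrix ι ι K)) (by
    intro s hs
    exact absurd hs (Set.notMem_empty s))
  simp only [Set.mem_empty_iff_false, false_imp_iff, forall_const, true_and,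
    Matrix.isUnit_iff_isUnit_det] at h
  exact h

omit hσ hc₀ in
theorem card_units_split :
    Nat.card {X : Matrix ((k : Fin t) × Fin (d k)) ((k : Fin t) × Fin (d k)) K //
        X * nil K d = nil K d * X ∧ IsUnit X} =
      Nat.card {y : BlkFam K d // ∀ i, IsUnit (y i).det} * Nat.card (radSub (K := K) d hd) := by
  rw [Nat.card_congr (splitEquiv d hd (fun X => IsUnit X) (fun y => ∀ i, IsUnit (y i).det)
    (fun _ => True) (fun X hX => by
      rw [isUnit_iff_top d hd X hX]
      simp)), Nat.card_prod]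
  congr 1
  apply Nat.card_congr
  apply Equiv.subtypeEquivRight
  intro R
  rw [mem_radSub]
  simp

omit hc₀ in
theorem card_herm_split :
    Nat.card {h : Matrix ((k : Fin t) × Fin (d k)) ((k : Fin t) × Fin (d k)) K //
        h * nil K d = nil K d * h ∧ (IsUnit h ∧ dag d σ h = h)} =
      Nat.card {y : BlkFam K d // (∀ i, IsUnit (y i).det) ∧ cTFam d σ y = y} *
      Nat.card {R : Matrix ((k : Fin t) × Fin (d k)) ((k : Fin t) × Fin (d k)) K //
        R ∈ radSub d hd ∧ dag d σ R = R} := by
  rw [Nat.card_congr (splitEquiv d hd (fun X => IsUnit X ∧ dag d σ X = X)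
    (fun y => (∀ i, IsUnit (y i).det) ∧ cTFam d σ y = y)
    (fun R => dag d σ R = R) (fun X hX => by
      rw [isUnit_iff_top d hd X hX]
      constructor
      · rintro ⟨h1, h2⟩
        have h3 : cTFam d σ (top d hd X) = top d hd X := by
          rw [← top_dag d hd X hX σ, h2]
        refine ⟨⟨h1, h3⟩, ?_⟩
        rw [dag_sub, ← sec_cTFam, h3, h2]
      · rintro ⟨⟨h1, h3⟩, h4⟩
        refine ⟨h1, ?_⟩
        have h5 : X = (X - sec d (top d hd X)) + sec d (top d hd X) := by abel
        rw [h5, (semiAnti_dag d σ).add, h4, ← sec_cTFam, h3])), Nat.card_prod]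
  congr 1
  apply Nat.card_congr
  apply Equiv.subtypeEquivRight
  intro R
  rw [mem_radSub]
  tauto

theorem card_radSub :
    Nat.card (radSub (K := K) d hd) =
      Nat.card {R : Matrix ((k : Fin t) × Fin (d k)) ((k : Fin t) × Fin (d k)) K //
        R ∈ radSub d hd ∧ dag d σ R = R} ^ 2 := by
  apply card_sq_of_semilinear_invol σ (dag d σ) (semiAnti_dag d σ).add (semiAnti_dag d σ).smul
    (dag_dag d σ hσ) hσ c₀ hc₀
  intro x hx
  rw [mem_radSub] at hx ⊢
  refine ⟨comm_dag d σ x hx.1, ?_⟩
  rw [top_dag d hd x hx.1 σ, hx.2]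
  funext i
  ext m l
  simp [cTFam, cT_apply]

omit hσ hc₀ in
theorem card_blkFam_units :
    Nat.card {y : BlkFam K d // ∀ i, IsUnit (y i).det} =
      ∏ i : Fin (supD d + 1),
        Nat.card {x : Matrix {k : Fin t // d k = (i : ℕ)} {k : Fin t // d k = (i : ℕ)} K //
          IsUnit x.det} := by
  rw [Nat.card_congr (Equiv.subtypePiEquivPi (β := fun i : Fin (supD d + 1) =>
      Matrix {k : Fin t // d k = (i : ℕ)} {k : Fin t // d k = (i : ℕ)} K)
      (p := fun i A => IsUnit A.det)), Nat.card_pi]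

omit hσ hc₀ in
theorem card_blkFam_herm :
    Nat.card {y : BlkFam K d // (∀ i, IsUnit (y i).det) ∧ cTFam d σ y = y} =
      ∏ i : Fin (supD d + 1),
        Nat.card {x : Matrix {k : Fin t // d k = (i : ℕ)} {k : Fin t // d k = (i : ℕ)} K //
          IsUnit x.det ∧ cT σ x = x} := by
  have e1 : {y : BlkFam K d // (∀ i, IsUnit (y i).det) ∧ cTFam d σ y = y} ≃
      {y : BlkFam K d // ∀ i, (IsUnit (y i).det ∧ cT σ (y i) = y i)} :=
    Equiv.subtypeEquivRight (fun y => by
      rw [forall_and]
      constructor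
      · rintro ⟨h1, h2⟩
        exact ⟨h1, fun i => congrFun h2 i⟩
      · rintro ⟨h1, h2⟩
        exact ⟨h1, funext h2⟩)
  rw [Nat.card_congr e1, Nat.card_congr (Equiv.subtypePiEquivPi (β := fun i : Fin (supD d + 1) =>
      Matrix {k : Fin t // d k = (i : ℕ)} {k : Fin t // d k = (i : ℕ)} K)
      (p := fun i A => IsUnit A.det ∧ cT σ A = A)), Nat.card_pi]

end count

section final

variable [Fintype K]

theorem comm_nil_iff (X : Matrix ((k : Fin t) × Fin (d k)) ((k : Fin t) × Fin (d k)) K) :
    X * nil K d = nil K d * X ↔ X * Cfsg.jordanTypeMatrix d K = Cfsg.jordanTypeMatrix d K * X := by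
  unfold nil
  rw [mul_sub, sub_mul, mul_one, one_mul, sub_left_inj]

/-- the exponent of `q` in the order of the centraliser -/
def gammaExp : ℕ :=
  2 * (∑ i ∈ Finset.range (Finset.univ.sup d + 1), ∑ j ∈ Finset.range (Finset.univ.sup d + 1),
    if i < j then i * (Finset.univ.filter (fun k : Fin t => d k = i)).card *
      (Finset.univ.filter (fun k : Fin t => d k = j)).card else 0) +
  ∑ i ∈ Finset.range (Finset.univ.sup d + 1),
    (i - 1) * (Finset.univ.filter (fun k : Fin t => d k = i)).card ^ 2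

include hd in
/-- the order of the units of the commutant -/
theorem card_units_formula :
    Nat.card {X : Matrix ((k : Fin t) × Fin (d k)) ((k : Fin t) × Fin (d k)) K //
        X * nil K d = nil K d * X ∧ IsUnit X} =
      Fintype.card K ^ gammaExp d *
        ∏ i : Fin (supD d + 1),
          Nat.card {x : Matrix {k : Fin t // d k = (i : ℕ)} {k : Fin t // d k = (i : ℕ)} K //
            IsUnit x.det} := by
  have e1 : {X : Matrix ((k : Fin t) × Fin (d k)) ((k : Fin t) × Fin (d k)) K //
        X * nil K d = nil K d * X ∧ IsUnit X} ≃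
      {g : GL ((k : Fin t) × Fin (d k)) K //
        (g : Matrix ((k : Fin t) × Fin (d k)) ((k : Fin t) × Fin (d k)) K) * Cfsg.jordanTypeMatrix d K =
          Cfsg.jordanTypeMatrix d K *
            (g : Matrix ((k : Fin t) × Fin (d k)) ((k : Fin t) × Fin (d k)) K)} :=
    { toFun := fun X => ⟨X.2.2.unit, by
        rw [IsUnit.unit_spec]
        exact (comm_nil_iff d X.1).1 X.2.1⟩
      invFun := fun g => ⟨g.1.1, (comm_nil_iff d g.1.1).2 g.2, g.1.isUnit⟩
      left_inv := fun X => by
        apply Subtype.ext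
        simp
      right_inv := fun g => by
        apply Subtype.ext
        apply Units.ext
        simp }
  rw [Nat.card_congr e1, Cfsg.Agent.S2581.result (F := K) (q := Fintype.card K) rfl d hd]
  unfold gammaExp
  congr 1
  have hcard : ∀ i : ℕ, Fintype.card {k : Fin t // d k = i} =
      (Finset.univ.filter (fun k : Fin t => d k = i)).card := by
    intro i
    rw [Fintype.card_subtype]
  unfold supD
  rw [Fin.prod_univ_eq_prod_range (fun i =>
    Nat.card {x : Matrix {k : Fin t // d k = i} {k : Fin t // d k = i} K // IsUnit x.det})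
    (Finset.univ.sup d + 1)]
  apply Finset.prod_congr rfl
  intro i _
  rw [card_isUnit_det, Nat.card_eq_fintype_card, hcard i]

include hd in
/-- the order of the unitary part of the commutant -/
theorem card_unitary_comm (σ : K →+* K) (hσ : ∀ a, σ (σ a) = a) (c₀ : K) (hc₀ : c₀ - σ c₀ ≠ 0)
    {q : ℕ} (hK : Fintype.card K = q ^ 2) :
    Nat.card {g : Matrix ((k : Fin t) × Fin (d k)) ((k : Fin t) × Fin (d k)) K //
        g * nil K d = nil K d * g ∧ dag d σ g * g = 1} =
      q ^ gammaExp d *
        ∏ i : Fin (supD d + 1),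
          Nat.card {g : Matrix {k : Fin t // d k = (i : ℕ)} {k : Fin t // d k = (i : ℕ)} K //
            cT σ g * g = 1} := by
  classical
  have h1 := card_units_comm d σ hσ c₀ hc₀
  have h2 := card_units_split (K := K) d hd
  rw [card_blkFam_units] at h2
  have h3 := card_herm_split d hd σ hσ
  rw [card_blkFam_herm] at h3
  have h4 := card_radSub d hd σ hσ c₀ hc₀
  have h5 : ∀ i : Fin (supD d + 1), _ := fun i =>
    card_units_blk σ hσ c₀ hc₀ {k : Fin t // d k = (i : ℕ)}
  have h6 := card_units_formula (K := K) d hd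
  set a := Nat.card {X : Matrix ((k : Fin t) × Fin (d k)) ((k : Fin t) × Fin (d k)) K //
        X * nil K d = nil K d * X ∧ IsUnit X} with ha
  set b := Nat.card {h : Matrix ((k : Fin t) × Fin (d k)) ((k : Fin t) × Fin (d k)) K //
        h * nil K d = nil K d * h ∧ (IsUnit h ∧ dag d σ h = h)} with hb
  set c := Nat.card {g : Matrix ((k : Fin t) × Fin (d k)) ((k : Fin t) × Fin (d k)) K //
        g * nil K d = nil K d * g ∧ dag d σ g * g = 1} with hc
  set r := Nat.card (radSub (K := K) d hd) with hr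
  set s := Nat.card {R : Matrix ((k : Fin t) × Fin (d k)) ((k : Fin t) × Fin (d k)) K //
        R ∈ radSub d hd ∧ dag d σ R = R} with hs
  set gl : Fin (supD d + 1) → ℕ := fun i =>
    Nat.card {x : Matrix {k : Fin t // d k = (i : ℕ)} {k : Fin t // d k = (i : ℕ)} K //
      IsUnit x.det} with hgl
  set hu : Fin (supD d + 1) → ℕ := fun i =>
    Nat.card {x : Matrix {k : Fin t // d k = (i : ℕ)} {k : Fin t // d k = (i : ℕ)} K //
      IsUnit x.det ∧ cT σ x = x} with hhu
  set un : Fin (supD d + 1) → ℕ := fun i =>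
    Nat.card {g : Matrix {k : Fin t // d k = (i : ℕ)} {k : Fin t // d k = (i : ℕ)} K //
      cT σ g * g = 1} with hun
  have h2' : a = (∏ i, gl i) * r := h2
  have h3' : b = (∏ i, hu i) * s := h3
  have h5' : ∀ i, gl i = hu i * un i := h5
  have h6' : a = Fintype.card K ^ gammaExp d * ∏ i, gl i := h6
  have hglpos : 0 < ∏ i, gl i := by
    apply Finset.prod_pos
    intro i _
    have : Nonempty {x : Matrix {k : Fin t // d k = (i : ℕ)} {k : Fin t // d k = (i : ℕ)} K //
      IsUnit x.det} := ⟨⟨1, by simp⟩⟩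
    exact Nat.card_pos
  have hbpos : 0 < b := by
    have : Nonempty {h : Matrix ((k : Fin t) × Fin (d k)) ((k : Fin t) × Fin (d k)) K //
        h * nil K d = nil K d * h ∧ (IsUnit h ∧ dag d σ h = h)} :=
      ⟨⟨1, by rw [one_mul, mul_one], isUnit_one, (semiAnti_dag d σ).one⟩⟩
    exact Nat.card_pos
  have hr' : r = Fintype.card K ^ gammaExp d := by
    have : (∏ i, gl i) * r = (∏ i, gl i) * Fintype.card K ^ gammaExp d := by
      rw [← h2', h6', mul_comm]
    exact Nat.eq_of_mul_eq_mul_left hglpos this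
  have hs' : s = q ^ gammaExp d := by
    have : s ^ 2 = (q ^ gammaExp d) ^ 2 := by
      rw [← h4, hr', hK, ← pow_mul, ← pow_mul, mul_comm]
    exact Nat.pow_left_injective (by norm_num : (2 : ℕ) ≠ 0) this
  have hprod : (∏ i, gl i) = (∏ i, hu i) * ∏ i, un i := by
    rw [← Finset.prod_mul_distrib]
    exact Finset.prod_congr rfl (fun i _ => h5' i)
  have hfin : b * c = b * ((∏ i, un i) * s) := by
    rw [← h1, h2', h3', hprod, h4]
    ring
  have := Nat.eq_of_mul_eq_mul_left hbpos hfin
  rw [this, hs', mul_comm]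

end final

end Cfsg.Agent.Lib.Helper43.UCDag
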