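import Cfsg.Agent.Lib.Helper43.JTCentCount
import Cfsg.Agent.Lib.Helper43.HermSqrt

/-!
# The anti-involution on the commutant of the Jordan type matrix

On `Matrix I I K`, `I = Σ k, Fin (d k)`, the map `dag X = H₀ X⋆ H₀` (`H₀` the block anti-identity)
fixes the nilpotent part `nil d` of `jordanTypeMatrix d K`.  We record the entries, the top blocks
`top`, an explicit section `sec`, and their compatibility with `dag`.
-/

set_option autoImplicit false

namespace Cfsg.Agent.Lib.Helper43.UCDag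

open Matrix Cfsg.Agent.Lib.Helper43 Cfsg.Agent.Lib.Helper43.InvolRing
  Cfsg.Agent.Lib.Helper43.HermSqrt

variable {K : Type*} [Field K] {t : ℕ} (d : Fin t → ℕ)

/-- the nilpotent part of the Jordan type matrix -/
def nil (K : Type*) [Field K] {t : ℕ} (d : Fin t → ℕ) :
    Matrix ((k : Fin t) × Fin (d k)) ((k : Fin t) × Fin (d k)) K :=
  Cfsg.jordanTypeMatrix d K - 1

theorem toLin'_nil : Matrix.toLin' (nil K d) = jtN K d := rfl

theorem nil_mul_apply (X : Matrix ((k : Fin t) × Fin (d k)) ((k : Fin t) × Fin (d k)) K)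
    (a c : (k : Fin t) × Fin (d k)) :
    (nil K d * X) a c =
      if h : 0 < (a.2 : ℕ) then X ⟨a.1, ⟨(a.2 : ℕ) - 1, by have := a.2.2; omega⟩⟩ c else 0 := by
  obtain ⟨k, i⟩ := a
  have h1 : (nil K d * X) ⟨k, i⟩ c = (jtN K d (fun b => X b c)) ⟨k, i⟩ := by
    rw [← toLin'_nil, Matrix.toLin'_apply]
    rfl
  rw [h1, jtN_apply]

theorem nil_mulVec_single (c : (k : Fin t) × Fin (d k)) :
    nil K d *ᵥ (Pi.single c 1) =
      if h : (c.2 : ℕ) + 1 < d c.1 then Pi.single ⟨c.1, ⟨(c.2 : ℕ) + 1, h⟩⟩ 1 else 0 := by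
  obtain ⟨k, r⟩ := c
  have h1 := jtN_pow_single (F := K) d k r 1 1
  rw [pow_one, ← toLin'_nil, Matrix.toLin'_apply] at h1
  exact h1

theorem mul_nil_apply (X : Matrix ((k : Fin t) × Fin (d k)) ((k : Fin t) × Fin (d k)) K)
    (a c : (k : Fin t) × Fin (d k)) :
    (X * nil K d) a c =
      if h : (c.2 : ℕ) + 1 < d c.1 then X a ⟨c.1, ⟨(c.2 : ℕ) + 1, h⟩⟩ else 0 := by
  have h1 : (X * nil K d) a c = ((X * nil K d) *ᵥ Pi.single c 1) a := by
    rw [Matrix.mulVec_single_one]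
    rfl
  rw [h1, ← Matrix.mulVec_mulVec, nil_mulVec_single]
  by_cases h : (c.2 : ℕ) + 1 < d c.1
  · rw [dif_pos h, dif_pos h, Matrix.mulVec_single_one]
    rfl
  · rw [dif_neg h, dif_neg h, Matrix.mulVec_zero]
    rfl

theorem nil_apply (a c : (k : Fin t) × Fin (d k)) :
    nil K d a c = if a.1 = c.1 ∧ (a.2 : ℕ) = (c.2 : ℕ) + 1 then 1 else 0 := by
  have h1 : nil K d a c = (nil K d * (1 : Matrix ((k : Fin t) × Fin (d k)) ((k : Fin t) × Fin (d k)) K)) a c := by rw [mul_one]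
  rw [h1, nil_mul_apply]
  obtain ⟨k, i⟩ := a
  obtain ⟨l, s⟩ := c
  by_cases h : 0 < (i : ℕ)
  · rw [dif_pos h, Matrix.one_apply]
    simp only
    by_cases h2 : k = l ∧ (i : ℕ) = (s : ℕ) + 1
    · rw [if_pos h2, if_pos]
      exact (sigma_fin_eq_iff d s _).2 ⟨h2.1, by simp only; omega⟩
    · rw [if_neg h2, if_neg]
      intro h3
      have := (sigma_fin_eq_iff d s _).1 h3
      simp only at this
      exact h2 ⟨this.1, by omega⟩
  · rw [dif_neg h, if_neg]
    rintro ⟨_, h3⟩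
    simp only at h3
    omega

/-- reversal inside each block -/
def rev : ((k : Fin t) × Fin (d k)) ≃ ((k : Fin t) × Fin (d k)) :=
  Equiv.sigmaCongrRight fun _ => Fin.revPerm

theorem rev_apply (a : (k : Fin t) × Fin (d k)) : rev d a = ⟨a.1, Fin.rev a.2⟩ := rfl

theorem rev_rev (a : (k : Fin t) × Fin (d k)) : rev d (rev d a) = a := by
  obtain ⟨k, i⟩ := a
  rw [rev_apply, rev_apply]
  simp

theorem rev_eq_iff (a b : (k : Fin t) × Fin (d k)) : rev d a = b ↔ a = rev d b := by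
  constructor
  · intro h
    rw [← h, rev_rev]
  · intro h
    rw [h, rev_rev]

/-- the anti-involution -/
def dag (σ : K →+* K) (X : Matrix ((k : Fin t) × Fin (d k)) ((k : Fin t) × Fin (d k)) K) :
    Matrix ((k : Fin t) × Fin (d k)) ((k : Fin t) × Fin (d k)) K :=
  Matrix.of fun a b => σ (X (rev d b) (rev d a))

theorem dag_apply (σ : K →+* K) (X : Matrix ((k : Fin t) × Fin (d k)) ((k : Fin t) × Fin (d k)) K)
    (a b : (k : Fin t) × Fin (d k)) : dag d σ X a b = σ (X (rev d b) (rev d a)) := rfl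

theorem dag_eq_submatrix (σ : K →+* K)
    (X : Matrix ((k : Fin t) × Fin (d k)) ((k : Fin t) × Fin (d k)) K) :
    dag d σ X = (cT σ X).submatrix (rev d) (rev d) := rfl

theorem semiAnti_dag (σ : K →+* K) : SemiAnti σ (dag (K := K) d σ) where
  one := by
    rw [dag_eq_submatrix, cT_one, Matrix.submatrix_one_equiv]
  add := fun X Y => by
    ext a b
    simp [dag_apply]
  mul := fun X Y => by
    rw [dag_eq_submatrix, dag_eq_submatrix, dag_eq_submatrix, cT_mul, Matrix.submatrix_mul_equiv]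
  smul := fun a X => by
    ext i j
    simp [dag_apply]

theorem dag_dag (σ : K →+* K) (hσ : ∀ a, σ (σ a) = a)
    (X : Matrix ((k : Fin t) × Fin (d k)) ((k : Fin t) × Fin (d k)) K) : dag d σ (dag d σ X) = X := by
  ext a b
  rw [dag_apply, dag_apply, rev_rev, rev_rev, hσ]

theorem dag_nil (σ : K →+* K) : dag d σ (nil K d) = nil K d := by
  ext a c
  rw [dag_apply, nil_apply, nil_apply]
  have key : ((rev d c).1 = (rev d a).1 ∧ ((rev d c).2 : ℕ) = ((rev d a).2 : ℕ) + 1) ↔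
      (a.1 = c.1 ∧ (a.2 : ℕ) = (c.2 : ℕ) + 1) := by
    obtain ⟨k, i⟩ := a
    obtain ⟨l, s⟩ := c
    show (l = k ∧ ((Fin.rev s : Fin (d l)) : ℕ) = ((Fin.rev i : Fin (d k)) : ℕ) + 1) ↔
      (k = l ∧ (i : ℕ) = (s : ℕ) + 1)
    rw [Fin.val_rev, Fin.val_rev]
    constructor
    · rintro ⟨rfl, h⟩
      exact ⟨rfl, by have := i.2; have := s.2; omega⟩
    · rintro ⟨rfl, h⟩
      exact ⟨rfl, by have := i.2; have := s.2; omega⟩
  by_cases h : a.1 = c.1 ∧ (a.2 : ℕ) = (c.2 : ℕ) + 1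
  · rw [if_pos h, if_pos (key.2 h), map_one]
  · rw [if_neg h, if_neg (fun h' => h (key.1 h')), map_zero]

/-- the block anti-identity -/
def H0 (K : Type*) [Field K] {t : ℕ} (d : Fin t → ℕ) :
    Matrix ((k : Fin t) × Fin (d k)) ((k : Fin t) × Fin (d k)) K :=
  Matrix.of fun a b => if rev d a = b then 1 else 0

theorem H0_mul (Y : Matrix ((k : Fin t) × Fin (d k)) ((k : Fin t) × Fin (d k)) K) :
    H0 K d * Y = Y.submatrix (rev d) id := by
  ext a c
  rw [Matrix.mul_apply, Matrix.submatrix_apply, Finset.sum_eq_single (rev d a)]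
  · simp [H0]
  · intro b _ hb
    simp only [H0, Matrix.of_apply]
    rw [if_neg (fun h => hb h.symm), zero_mul]
  · intro h
    exact absurd (Finset.mem_univ _) h

theorem mul_H0 (Y : Matrix ((k : Fin t) × Fin (d k)) ((k : Fin t) × Fin (d k)) K) :
    Y * H0 K d = Y.submatrix id (rev d) := by
  ext a c
  rw [Matrix.mul_apply, Matrix.submatrix_apply, Finset.sum_eq_single (rev d c)]
  · simp [H0, rev_rev]
  · intro b _ hb
    simp only [H0, Matrix.of_apply]
    rw [if_neg, mul_zero]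
    intro h
    exact hb ((rev_eq_iff d b c).1 h)
  · intro h
    exact absurd (Finset.mem_univ _) h

theorem H0_mul_H0 : H0 K d * H0 K d = 1 := by
  rw [H0_mul]
  ext a c
  rw [Matrix.submatrix_apply, Matrix.one_apply]
  simp only [H0, Matrix.of_apply, id]
  rw [rev_rev]

theorem cT_H0 (σ : K →+* K) : cT σ (H0 K d) = H0 K d := by
  ext a c
  rw [cT_apply]
  simp only [H0, Matrix.of_apply]
  by_cases h : rev d a = c
  · rw [if_pos h, if_pos ((rev_eq_iff d a c).1 h).symm, map_one]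
  · rw [if_neg h, if_neg, map_zero]
    intro h'
    exact h ((rev_eq_iff d a c).2 h'.symm)

theorem dag_eq (σ : K →+* K) (X : Matrix ((k : Fin t) × Fin (d k)) ((k : Fin t) × Fin (d k)) K) :
    dag d σ X = H0 K d * cT σ X * H0 K d := by
  rw [H0_mul, mul_H0]
  rfl

end Cfsg.Agent.Lib.Helper43.UCDag
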