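import Cfsg.Agent.Lib.Helper43.UCDag

/-!
# Top blocks of the commutant of the Jordan type matrix, and the anti-involution
-/

set_option autoImplicit false

namespace Cfsg.Agent.Lib.Helper43.UCDag

open Matrix Cfsg.Agent.Lib.Helper43 Cfsg.Agent.Lib.Helper43.InvolRing
  Cfsg.Agent.Lib.Helper43.HermSqrt

variable {K : Type*} [Field K] {t : ℕ} (d : Fin t → ℕ) (hd : ∀ k, 1 ≤ d k)

/-- the families of square matrices, one for each block size -/
abbrev BlkFam (K : Type*) [Field K] {t : ℕ} (d : Fin t → ℕ) : Type _ :=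
  (i : Fin (supD d + 1)) → Matrix {k : Fin t // d k = (i : ℕ)} {k : Fin t // d k = (i : ℕ)} K

/-- the top blocks of a matrix -/
def top (X : Matrix ((k : Fin t) × Fin (d k)) ((k : Fin t) × Fin (d k)) K) : BlkFam K d :=
  fun _ => Matrix.of fun m l => X ⟨m.1, ⟨0, hd m.1⟩⟩ ⟨l.1, ⟨0, hd l.1⟩⟩

/-- the block-scalar matrix attached to a family -/
def sec (y : BlkFam K d) : Matrix ((k : Fin t) × Fin (d k)) ((k : Fin t) × Fin (d k)) K :=
  Matrix.of fun a b =>
    if h : d a.1 = d b.1 ∧ (a.2 : ℕ) = (b.2 : ℕ) then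
      y ⟨d a.1, lt_supD d a.1⟩ ⟨a.1, rfl⟩ ⟨b.1, h.1.symm⟩ else 0

theorem top_add (X X' : Matrix ((k : Fin t) × Fin (d k)) ((k : Fin t) × Fin (d k)) K) :
    top d hd (X + X') = top d hd X + top d hd X' := by
  funext i
  ext m l
  rfl

theorem top_sub (X X' : Matrix ((k : Fin t) × Fin (d k)) ((k : Fin t) × Fin (d k)) K) :
    top d hd (X - X') = top d hd X - top d hd X' := by
  funext i
  ext m l
  rfl

theorem top_smul (c : K) (X : Matrix ((k : Fin t) × Fin (d k)) ((k : Fin t) × Fin (d k)) K) :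
    top d hd (c • X) = c • top d hd X := by
  funext i
  ext m l
  rfl

theorem top_zero : top d hd (0 : Matrix ((k : Fin t) × Fin (d k)) ((k : Fin t) × Fin (d k)) K) = 0 := by
  funext i
  ext m l
  rfl

theorem top_sec (y : BlkFam K d) : top d hd (sec d y) = y := by
  funext i
  ext m l
  obtain ⟨i, hi⟩ := i
  obtain ⟨m, hm⟩ := m
  obtain ⟨l, hl⟩ := l
  simp only at hm hl
  subst hm
  show (if h : d m = d l ∧ (0 : ℕ) = 0 then y ⟨d m, lt_supD d m⟩ ⟨m, rfl⟩ ⟨l, h.1.symm⟩ else 0) = _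
  rw [dif_pos ⟨hl.symm, rfl⟩]

theorem sec_comm (y : BlkFam K d) : sec d y * nil K d = nil K d * sec d y := by
  ext a c
  rw [mul_nil_apply, nil_mul_apply]
  obtain ⟨k, i⟩ := a
  obtain ⟨l, s⟩ := c
  have hi := i.2
  have hs := s.2
  simp only
  by_cases h1 : (s : ℕ) + 1 < d l
  · rw [dif_pos h1]
    by_cases h2 : 0 < (i : ℕ)
    · rw [dif_pos h2]
      simp only [sec, Matrix.of_apply]
      by_cases h3 : d k = d l ∧ (i : ℕ) = (s : ℕ) + 1
      · rw [dif_pos h3, dif_pos ⟨h3.1, by omega⟩]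
      · rw [dif_neg h3, dif_neg]
        rintro ⟨h4, h5⟩
        exact h3 ⟨h4, by omega⟩
    · rw [dif_neg h2]
      simp only [sec, Matrix.of_apply]
      rw [dif_neg]
      rintro ⟨_, h5⟩
      omega
  · rw [dif_neg h1]
    by_cases h2 : 0 < (i : ℕ)
    · rw [dif_pos h2]
      simp only [sec, Matrix.of_apply]
      rw [dif_neg]
      rintro ⟨h4, h5⟩
      omega
    · rw [dif_neg h2]

/-- conjugate transpose of a family -/
def cTFam (σ : K →+* K) (y : BlkFam K d) : BlkFam K d := fun i => cT σ (y i)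

theorem sec_cTFam (σ : K →+* K) (y : BlkFam K d) : sec d (cTFam d σ y) = dag d σ (sec d y) := by
  ext a c
  rw [dag_apply]
  obtain ⟨k, i⟩ := a
  obtain ⟨l, s⟩ := c
  have hi := i.2
  have hs := s.2
  simp only [sec, Matrix.of_apply, rev_apply]
  by_cases h : d k = d l ∧ (i : ℕ) = (s : ℕ)
  · rw [dif_pos h, dif_pos ⟨h.1.symm, by rw [Fin.val_rev, Fin.val_rev]; omega⟩]
    obtain ⟨h1, h2⟩ := h
    simp only [cTFam, cT_apply]
    congr 1
    have key : ∀ (j j' : ℕ) (hj : j < supD d + 1) (hj' : j' < supD d + 1) (e : j = j')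
        (m : Fin t) (hm : d m = j) (hm' : d m = j') (n : Fin t) (hn : d n = j) (hn' : d n = j'),
        y ⟨j, hj⟩ ⟨m, hm⟩ ⟨n, hn⟩ = y ⟨j', hj'⟩ ⟨m, hm'⟩ ⟨n, hn'⟩ := by
      intro j j' hj hj' e
      subst e
      intros
      rfl
    exact key _ _ _ _ h1 _ _ _ _ _ _
  · rw [dif_neg h, dif_neg, map_zero]
    rintro ⟨h4, h5⟩
    rw [Fin.val_rev, Fin.val_rev] at h5
    exact h ⟨h4.symm, by omega⟩

section comm

variable (X : Matrix ((k : Fin t) × Fin (d k)) ((k : Fin t) × Fin (d k)) K)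
  (hX : X * nil K d = nil K d * X)

include hX

theorem toLin'_comm_nil : Matrix.toLin' X ∘ₗ jtN K d = jtN K d ∘ₗ Matrix.toLin' X := by
  rw [← toLin'_nil, ← Matrix.toLin'_mul, ← Matrix.toLin'_mul, hX]

theorem centFam_apply (l : Fin t) (b : (k : Fin t) × Fin (d k)) :
    (centFam d hd (Matrix.toLin' X) (toLin'_comm_nil d X hX) l).1 b = X b ⟨l, ⟨0, hd l⟩⟩ := by
  show (Matrix.toLin' X (topVec K d hd l)) b = _
  unfold topVec
  rw [Matrix.toLin'_apply, Matrix.mulVec_single_one]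
  rfl

theorem last_eq_first (m l : Fin t) (h : d l = d m) :
    X ⟨m, lastIdx d hd m⟩ ⟨l, lastIdx d hd l⟩ = X ⟨m, ⟨0, hd m⟩⟩ ⟨l, ⟨0, hd l⟩⟩ := by
  have h1 := botMat_famEnd d hd (centFam d hd (Matrix.toLin' X) (toLin'_comm_nil d X hX)) m l
  rw [famEnd_centFam, dif_pos h.le, centFam_apply d hd X hX] at h1
  have h2 : botMat d hd (Matrix.toLin' X) m l = X ⟨m, lastIdx d hd m⟩ ⟨l, lastIdx d hd l⟩ := by
    unfold botMat
    rw [Matrix.of_apply, Matrix.toLin'_apply, Matrix.mulVec_single_one]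
    rfl
  rw [← h2, h1]
  congr 2
  apply Fin.ext
  simp only
  omega

theorem top_dag (σ : K →+* K) : top d hd (dag d σ X) = cTFam d σ (top d hd X) := by
  funext i
  ext m l
  show dag d σ X ⟨m.1, ⟨0, hd m.1⟩⟩ ⟨l.1, ⟨0, hd l.1⟩⟩ = σ (X ⟨l.1, ⟨0, hd l.1⟩⟩ ⟨m.1, ⟨0, hd m.1⟩⟩)
  rw [dag_apply, rev_apply, rev_apply]
  have hr : ∀ k : Fin t, Fin.rev (⟨0, hd k⟩ : Fin (d k)) = lastIdx d hd k := by
    intro k
    apply Fin.ext
    rw [Fin.val_rev]
    simp only [lastIdx]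
  simp only [hr]
  rw [last_eq_first d hd X hX l.1 m.1 (by rw [m.2, l.2])]

theorem isUnit_iff_top : IsUnit X ↔ ∀ i, IsUnit (top d hd X i).det := by
  have h1 := isUnit_famEnd_iff d hd (centFam d hd (Matrix.toLin' X) (toLin'_comm_nil d X hX))
  rw [famEnd_centFam] at h1
  have h2 : IsUnit (Matrix.toLin' X) ↔ IsUnit X := by
    have : Matrix.toLin' X = Matrix.toLinAlgEquiv' X := rfl
    rw [this]
    exact isUnit_map_iff (Matrix.toLinAlgEquiv' (R := K) (n := (k : Fin t) × Fin (d k))) X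
  rw [← h2, h1]
  have h3 : ∀ i : ℕ, famBlk d hd i (centFam d hd (Matrix.toLin' X) (toLin'_comm_nil d X hX)) =
      pairBlk d i (topMap d hd (centFam d hd (Matrix.toLin' X) (toLin'_comm_nil d X hX))) :=
    fun i => rfl
  simp only [h3]
  rw [forall_pairBlk_iff]
  have h4 : ∀ i : Fin (supD d + 1),
      pairsEquiv d (topMap d hd (centFam d hd (Matrix.toLin' X) (toLin'_comm_nil d X hX))) i =
        top d hd X i := by
    intro i
    ext m l
    show (centFam d hd (Matrix.toLin' X) (toLin'_comm_nil d X hX) l.1).1 ⟨m.1, ⟨0, hd m.1⟩⟩ = _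
    rw [centFam_apply d hd X hX]
    rfl
  simp only [h4]

end comm

end Cfsg.Agent.Lib.Helper43.UCDag
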