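import Cfsg.Agent.Lib.Helper43.UCCount
import Cfsg.Agent.Lib.Helper43.UCCayley
import Cfsg.Agent.Lib.Helper43.GUConj

/-!
# Transfer: the centraliser in `GU_n(q)` of a unipotent element of given Jordan type
-/

set_option autoImplicit false

namespace Cfsg.Agent.Lib.Helper43.UCDag

open Matrix Cfsg.Agent.Lib.Helper43 Cfsg.Agent.Lib.Helper43.InvolRing
  Cfsg.Agent.Lib.Helper43.HermSqrt

section reindex

variable {K : Type*} [Field K] {ι : Type*} [Fintype ι] [DecidableEq ι] {n : ℕ}

theorem reindexAlgEquiv_eq (e : ι ≃ Fin n) (X : Matrix ι ι K) :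
    Matrix.reindexAlgEquiv K K e X = Matrix.reindex e e X := rfl

theorem cT_reindex (σ : K →+* K) (e : ι ≃ Fin n) (X : Matrix ι ι K) :
    cT σ (Matrix.reindexAlgEquiv K K e X) = Matrix.reindexAlgEquiv K K e (cT σ X) := by
  ext i j
  rfl

theorem cT_reindex_symm (σ : K →+* K) (e : ι ≃ Fin n) (X : Matrix (Fin n) (Fin n) K) :
    cT σ ((Matrix.reindexAlgEquiv K K e).symm X) = (Matrix.reindexAlgEquiv K K e).symm (cT σ X) := by
  ext i j
  rfl

variable [Fintype K]

/-- the unitary matrices over an index type of size `n` are in bijection with `GU_n(q)` -/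
noncomputable def unitaryEquivGU {q : ℕ} (hq : q ≠ 0) (σ : K →+* K) (hσq : ∀ a, σ a = a ^ q)
    (e : ι ≃ Fin n) :
    {g : Matrix ι ι K // cT σ g * g = 1} ≃ ↥(Cfsg.GU n K q) where
  toFun g := ⟨⟨Matrix.reindexAlgEquiv K K e g.1, Matrix.reindexAlgEquiv K K e (cT σ g.1), by
      rw [← map_mul, mul_eq_one_comm.1 g.2, map_one], by
      rw [← map_mul, g.2, map_one]⟩, by
      rw [mem_GU_iff_cT hq σ hσq]
      show cT σ (Matrix.reindexAlgEquiv K K e g.1) * Matrix.reindexAlgEquiv K K e g.1 = 1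
      rw [cT_reindex, ← map_mul, g.2, map_one]⟩
  invFun x := ⟨(Matrix.reindexAlgEquiv K K e).symm ((x.1 : GL (Fin n) K) : Matrix (Fin n) (Fin n) K), by
      have := (mem_GU_iff_cT hq σ hσq x.1).1 x.2
      rw [cT_reindex_symm, ← map_mul, this, map_one]⟩
  left_inv g := by
    apply Subtype.ext
    exact (Matrix.reindexAlgEquiv K K e).symm_apply_apply g.1
  right_inv x := by
    apply Subtype.ext
    apply Units.ext
    exact (Matrix.reindexAlgEquiv K K e).apply_symm_apply _

theorem unitaryEquivGU_symm_val {q : ℕ} (hq : q ≠ 0) (σ : K →+* K) (hσq : ∀ a, σ a = a ^ q)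
    (e : ι ≃ Fin n) (x : ↥(Cfsg.GU n K q)) :
    ((unitaryEquivGU hq σ hσq e).symm x).1 =
      (Matrix.reindexAlgEquiv K K e).symm ((x.1 : GL (Fin n) K) : Matrix (Fin n) (Fin n) K) := rfl

theorem unitaryEquivGU_val {q : ℕ} (hq : q ≠ 0) (σ : K →+* K) (hσq : ∀ a, σ a = a ^ q)
    (e : ι ≃ Fin n) (g : {g : Matrix ι ι K // cT σ g * g = 1}) :
    (((unitaryEquivGU hq σ hσq e g).1 : GL (Fin n) K) : Matrix (Fin n) (Fin n) K) =
      Matrix.reindexAlgEquiv K K e g.1 := rfl

/-- the centraliser of `u` in `GU_n(q)` as a set of matrices -/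
noncomputable def centralizerEquiv {q : ℕ} (hq : q ≠ 0) (σ : K →+* K) (hσq : ∀ a, σ a = a ^ q)
    (e : ι ≃ Fin n) (u : ↥(Cfsg.GU n K q)) :
    ↥(Subgroup.centralizer ({u} : Set ↥(Cfsg.GU n K q))) ≃
      {g : Matrix ι ι K // cT σ g * g = 1 ∧
        g * (Matrix.reindexAlgEquiv K K e).symm ((u.1 : GL (Fin n) K) : Matrix (Fin n) (Fin n) K) =
          (Matrix.reindexAlgEquiv K K e).symm ((u.1 : GL (Fin n) K) : Matrix (Fin n) (Fin n) K) * g} where
  toFun x := ⟨((unitaryEquivGU hq σ hσq e).symm x.1).1, ((unitaryEquivGU hq σ hσq e).symm x.1).2, by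
      have h := Subgroup.mem_centralizer_singleton_iff.1 x.2
      have h2 : ((x.1.1 : GL (Fin n) K) : Matrix (Fin n) (Fin n) K) * ((u.1 : GL (Fin n) K) :
          Matrix (Fin n) (Fin n) K) = ((u.1 : GL (Fin n) K) : Matrix (Fin n) (Fin n) K) *
          ((x.1.1 : GL (Fin n) K) : Matrix (Fin n) (Fin n) K) := by
        have := congrArg (fun z : ↥(Cfsg.GU n K q) => ((z.1 : GL (Fin n) K) :
          Matrix (Fin n) (Fin n) K)) h
        exact this
      rw [unitaryEquivGU_symm_val, ← map_mul, ← map_mul, h2]⟩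
  invFun g := ⟨unitaryEquivGU hq σ hσq e ⟨g.1, g.2.1⟩, by
      rw [Subgroup.mem_centralizer_singleton_iff]
      apply Subtype.ext
      apply Units.ext
      show Matrix.reindexAlgEquiv K K e g.1 * ((u.1 : GL (Fin n) K) : Matrix (Fin n) (Fin n) K) =
        ((u.1 : GL (Fin n) K) : Matrix (Fin n) (Fin n) K) * Matrix.reindexAlgEquiv K K e g.1
      have := congrArg (Matrix.reindexAlgEquiv K K e) g.2.2
      rw [map_mul, map_mul, AlgEquiv.apply_symm_apply] at this
      exact this⟩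
  left_inv x := by
    apply Subtype.ext
    have : (⟨((unitaryEquivGU hq σ hσq e).symm x.1).1, ((unitaryEquivGU hq σ hσq e).symm x.1).2⟩ :
        {g : Matrix ι ι K // cT σ g * g = 1}) = (unitaryEquivGU hq σ hσq e).symm x.1 := rfl
    show unitaryEquivGU hq σ hσq e ⟨((unitaryEquivGU hq σ hσq e).symm x.1).1, _⟩ = x.1
    rw [this, Equiv.apply_symm_apply]
  right_inv g := by
    apply Subtype.ext
    show ((unitaryEquivGU hq σ hσq e).symm (unitaryEquivGU hq σ hσq e ⟨g.1, g.2.1⟩)).1 = g.1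
    rw [Equiv.symm_apply_apply]

end reindex

section main

variable {K : Type*} [Field K] [Fintype K] {t : ℕ} (d : Fin t → ℕ)

theorem cT_conj_form {ι : Type*} [Fintype ι] [DecidableEq ι] (σ : K →+* K) (C C' H : Matrix ι ι K)
    (hCC' : C * C' = 1) (hC : cT σ C * C = H) : cT σ C' * H * C' = 1 := by
  rw [← hC]
  calc cT σ C' * (cT σ C * C) * C' = (cT σ C' * cT σ C) * (C * C') := by simp only [mul_assoc]
    _ = 1 := by rw [← cT_mul, hCC', cT_one, one_mul]

theorem dag_mul_eq_one_iff (σ : K →+* K)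
    (y : Matrix ((k : Fin t) × Fin (d k)) ((k : Fin t) × Fin (d k)) K) :
    dag d σ y * y = 1 ↔ cT σ y * H0 K d * y = H0 K d := by
  rw [dag_eq]
  constructor
  · intro h
    calc cT σ y * H0 K d * y = (H0 K d * H0 K d) * (cT σ y * H0 K d * y) := by
          rw [H0_mul_H0, one_mul]
      _ = H0 K d * (H0 K d * cT σ y * H0 K d * y) := by simp only [mul_assoc]
      _ = H0 K d := by rw [h, mul_one]
  · intro h
    calc H0 K d * cT σ y * H0 K d * y = H0 K d * (cT σ y * H0 K d * y) := by simp only [mul_assoc]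
      _ = 1 := by rw [h, H0_mul_H0]

/-- conjugation identifies the unitary commutant of `U'` with the `dag`-unitary commutant of `nil` -/
noncomputable def conjEquiv (σ : K →+* K) (c₀ : K) (hc₀ : c₀ - σ c₀ ≠ 0)
    (U' C C' : Matrix ((k : Fin t) × Fin (d k)) ((k : Fin t) × Fin (d k)) K)
    (hCC' : C * C' = 1) (hC : cT σ C * C = H0 K d) (hU : U' * C = C * cay d σ c₀) :
    {g : Matrix ((k : Fin t) × Fin (d k)) ((k : Fin t) × Fin (d k)) K //
        cT σ g * g = 1 ∧ g * U' = U' * g} ≃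
      {y : Matrix ((k : Fin t) × Fin (d k)) ((k : Fin t) × Fin (d k)) K //
        y * nil K d = nil K d * y ∧ dag d σ y * y = 1} where
  toFun g := ⟨C' * g.1 * C, by
      have hC'C : C' * C = 1 := mul_eq_one_comm.1 hCC'
      have hU' : C' * U' = cay d σ c₀ * C' := by
        calc C' * U' = C' * U' * (C * C') := by rw [hCC', mul_one]
          _ = C' * (U' * C) * C' := by simp only [mul_assoc]
          _ = (C' * C) * cay d σ c₀ * C' := by rw [hU]; simp only [mul_assoc]
          _ = cay d σ c₀ * C' := by rw [hC'C, one_mul]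
      rw [← comm_cay_iff d σ c₀ hc₀]
      calc C' * g.1 * C * cay d σ c₀ = C' * g.1 * (C * cay d σ c₀) := by simp only [mul_assoc]
        _ = C' * (g.1 * U') * C := by rw [← hU]; simp only [mul_assoc]
        _ = (C' * U') * g.1 * C := by rw [g.2.2]; simp only [mul_assoc]
        _ = cay d σ c₀ * (C' * g.1 * C) := by rw [hU']; simp only [mul_assoc], by
      rw [dag_mul_eq_one_iff]
      have hk := cT_conj_form σ C C' (H0 K d) hCC' hC
      rw [cT_mul, cT_mul]
      calc cT σ C * (cT σ g.1 * cT σ C') * H0 K d * (C' * g.1 * C)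
          = cT σ C * cT σ g.1 * (cT σ C' * H0 K d * C') * g.1 * C := by simp only [mul_assoc]
        _ = cT σ C * (cT σ g.1 * g.1) * C := by rw [hk, mul_one]; simp only [mul_assoc]
        _ = H0 K d := by rw [g.2.1, mul_one, hC]⟩
  invFun y := ⟨C * y.1 * C', by
      have hC'C : C' * C = 1 := mul_eq_one_comm.1 hCC'
      have hk := cT_conj_form σ C C' (H0 K d) hCC' hC
      have hy := (dag_mul_eq_one_iff d σ y.1).1 y.2.2
      rw [cT_mul, cT_mul]
      calc cT σ C' * (cT σ y.1 * cT σ C) * (C * y.1 * C')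
          = cT σ C' * (cT σ y.1 * (cT σ C * C) * y.1) * C' := by simp only [mul_assoc]
        _ = 1 := by rw [hC, hy, hk], by
      have hC'C : C' * C = 1 := mul_eq_one_comm.1 hCC'
      have hU' : C' * U' = cay d σ c₀ * C' := by
        calc C' * U' = C' * U' * (C * C') := by rw [hCC', mul_one]
          _ = C' * (U' * C) * C' := by simp only [mul_assoc]
          _ = (C' * C) * cay d σ c₀ * C' := by rw [hU]; simp only [mul_assoc]
          _ = cay d σ c₀ * C' := by rw [hC'C, one_mul]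
      have hy := (comm_cay_iff d σ c₀ hc₀ y.1).2 y.2.1
      calc C * y.1 * C' * U' = C * y.1 * (C' * U') := by simp only [mul_assoc]
        _ = C * (y.1 * cay d σ c₀) * C' := by rw [hU']; simp only [mul_assoc]
        _ = (C * cay d σ c₀) * y.1 * C' := by rw [hy]; simp only [mul_assoc]
        _ = U' * (C * y.1 * C') := by rw [← hU]; simp only [mul_assoc]⟩
  left_inv g := by
    have hC'C : C' * C = 1 := mul_eq_one_comm.1 hCC'
    apply Subtype.ext
    show C * (C' * g.1 * C) * C' = g.1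
    calc C * (C' * g.1 * C) * C' = (C * C') * g.1 * (C * C') := by simp only [mul_assoc]
      _ = g.1 := by rw [hCC', one_mul, mul_one]
  right_inv y := by
    have hC'C : C' * C = 1 := mul_eq_one_comm.1 hCC'
    apply Subtype.ext
    show C' * (C * y.1 * C') * C = y.1
    calc C' * (C * y.1 * C') * C = (C' * C) * y.1 * (C' * C) := by simp only [mul_assoc]
      _ = y.1 := by rw [hC'C, one_mul, mul_one]

/-- the order of the centraliser in `GU_n(q)` of an element of Jordan type `d` -/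
theorem card_centralizer_GU (hd : ∀ k, 1 ≤ d k) {q n : ℕ} (hK : Fintype.card K = q ^ 2)
    (e : ((k : Fin t) × Fin (d k)) ≃ Fin n) (u : ↥(Cfsg.GU n K q))
    (hu : IsConj (Matrix.reindex e e (Cfsg.jordanTypeMatrix d K))
      ((u : GL (Fin n) K) : Matrix (Fin n) (Fin n) K)) :
    Nat.card ↥(Subgroup.centralizer ({u} : Set ↥(Cfsg.GU n K q))) =
      q ^ gammaExp d * ∏ i : Fin (supD d + 1),
        Nat.card ↥(Cfsg.GU (Fintype.card {k : Fin t // d k = (i : ℕ)}) K q) := by
  classical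
  obtain ⟨σ, hσq, hσ, c₀, hc₀⟩ := exists_sigma hK
  have hq : q ≠ 0 := by
    have := Cfsg.Agent.Lib.Helper13.two_le_q hK
    omega
  set R := Matrix.reindexAlgEquiv K K e with hR
  set U' := R.symm ((u.1 : GL (Fin n) K) : Matrix (Fin n) (Fin n) K) with hU'
  have hU'u : cT σ U' * U' = 1 := by
    have := (mem_GU_iff_cT hq σ hσq u.1).1 u.2
    rw [hU', cT_reindex_symm, ← map_mul, this, map_one]
  -- the square root of the form
  have hHu : IsUnit (H0 K d) := ⟨⟨H0 K d, H0 K d, H0_mul_H0 d, H0_mul_H0 d⟩, rfl⟩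
  obtain ⟨P, hP1, hP2, -⟩ := herm_sqrt σ hσ c₀ hc₀ (H0 K d) (cT_H0 d σ) hHu
  obtain ⟨P', hP'⟩ : ∃ P' : Matrix ((k : Fin t) × Fin (d k)) ((k : Fin t) × Fin (d k)) K,
      P' = cT σ P * H0 K d := ⟨_, rfl⟩
  have hPP' : P * P' = 1 := by
    rw [hP', ← mul_assoc, hP1, H0_mul_H0]
  have hP'P : P' * P = 1 := mul_eq_one_comm.1 hPP'
  -- the unitary representative
  set w := P * cay d σ c₀ * P' with hw
  have hwu : cT σ w * w = 1 := by
    have hk := cT_conj_form σ P P' (H0 K d) hPP' hP2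
    have hc := (dag_mul_eq_one_iff d σ (cay d σ c₀)).1 (dag_cay_mul d σ c₀ hσ)
    rw [hw, cT_mul, cT_mul]
    calc cT σ P' * (cT σ (cay d σ c₀) * cT σ P) * (P * cay d σ c₀ * P')
        = cT σ P' * (cT σ (cay d σ c₀) * (cT σ P * P) * cay d σ c₀) * P' := by
          simp only [mul_assoc]
      _ = 1 := by rw [hP2, hc, hk]
  -- conjugacy in `GL`
  have hc1 : IsConj w (cay d σ c₀) := by
    refine ⟨⟨P', P, hP'P, hPP'⟩, ?_⟩
    show P' * w = cay d σ c₀ * P'
    rw [hw]
    calc P' * (P * cay d σ c₀ * P') = (P' * P) * cay d σ c₀ * P' := by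
          simp only [mul_assoc]
      _ = cay d σ c₀ * P' := by rw [hP'P, one_mul]
  have hc2 : IsConj (cay d σ c₀) (Cfsg.jordanTypeMatrix d K) := isConj_cay d σ c₀ hc₀
  have hc3 : IsConj (Cfsg.jordanTypeMatrix d K) U' := by
    have := MonoidHom.map_isConj (MonoidHomClass.toMonoidHom R.symm) hu
    have h1 : (MonoidHomClass.toMonoidHom R.symm)
        (Matrix.reindex e e (Cfsg.jordanTypeMatrix d K)) = Cfsg.jordanTypeMatrix d K := by
      show R.symm (R (Cfsg.jordanTypeMatrix d K)) = _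
      exact R.symm_apply_apply _
    rw [h1] at this
    exact this
  obtain ⟨c, hc⟩ := (hc1.trans hc2).trans hc3
  have hc' : (c : Matrix ((k : Fin t) × Fin (d k)) ((k : Fin t) × Fin (d k)) K) * w = U' * c := hc
  obtain ⟨Q, Q', hQQ', hQu, hQ⟩ := gu_conj_matrix σ hσ c₀ hc₀ w U' c
    ((c⁻¹ : (Matrix ((k : Fin t) × Fin (d k)) ((k : Fin t) × Fin (d k)) K)ˣ) :
      Matrix ((k : Fin t) × Fin (d k)) ((k : Fin t) × Fin (d k)) K) (Units.mul_inv c) hwu hU'u hc'
  -- the conjugating matrix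
  have hCC' : (Q * P) * (P' * Q') = 1 := by
    calc (Q * P) * (P' * Q') = Q * (P * P') * Q' := by simp only [mul_assoc]
      _ = 1 := by rw [hPP', mul_one, hQQ']
  have hC : cT σ (Q * P) * (Q * P) = H0 K d := by
    rw [cT_mul]
    calc cT σ P * cT σ Q * (Q * P) = cT σ P * (cT σ Q * Q) * P := by simp only [mul_assoc]
      _ = H0 K d := by rw [hQu, mul_one, hP2]
  have hU : U' * (Q * P) = (Q * P) * cay d σ c₀ := by
    calc U' * (Q * P) = (U' * Q) * P := by simp only [mul_assoc]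
      _ = Q * w * P := by rw [← hQ]
      _ = Q * P * cay d σ c₀ * (P' * P) := by rw [hw]; simp only [mul_assoc]
      _ = (Q * P) * cay d σ c₀ := by rw [hP'P, mul_one]
  rw [Nat.card_congr ((centralizerEquiv hq σ hσq e u).trans
    (conjEquiv d σ c₀ hc₀ U' (Q * P) (P' * Q') hCC' hC hU)),
    card_unitary_comm d hd σ hσ c₀ hc₀ hK]
  congr 1
  apply Finset.prod_congr rfl
  intro i _
  exact Nat.card_congr (unitaryEquivGU hq σ hσq (Fintype.equivFin _))

end main

end Cfsg.Agent.Lib.Helper43.UCDag
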